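import Cfsg.Statements.S1141
import Cfsg.Agent.UnitaryThree.Suzuki
import Cfsg.Agent.Classical.Unitary.Center
import Mathlib.GroupTheory.Sylow

set_option autoImplicit false
open Cfsg

namespace Cfsg.Agent.S1141

/-- Let `q = 2^n ≥ 4` and `|F| = q²`. A Sylow 2-subgroup `S` of `PSU₃(q)` has order `q³`, its centre has order `q`, and `S` is a Suzuki 2-group. -/
theorem result {F : Type*} [Field F] [Fintype F] {n : ℕ} (hn : 2 ≤ n)
    (hF : Fintype.card F = (2 ^ n) ^ 2) (S : Sylow 2 (Cfsg.PSU 3 F (2 ^ n))) :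
    Nat.card S = (2 ^ n) ^ 3 ∧ Nat.card (Subgroup.center ↥(S : Subgroup (Cfsg.PSU 3 F (2 ^ n)))) = 2 ^ n ∧
      Cfsg.IsSuzukiTwoGroup ↥(S : Subgroup (Cfsg.PSU 3 F (2 ^ n))) := by
  haveI : Fact (Nat.Prime 2) := ⟨Nat.prime_two⟩
  have d : CfsgLib.UnitaryThree.Data F (2 ^ n) :=
    CfsgLib.UnitaryThree.Data.ofCard (n := n) (by omega)
      (by rw [hF, ← pow_mul, mul_comm, pow_mul]; norm_num)
  obtain ⟨Q, hQ⟩ := CfsgLib.UnitaryThree.exists_sylow_eq_uni n (by omega) d
  let π := QuotientGroup.mk' (Subgroup.center ↥(Cfsg.SU 3 F (2 ^ n)))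
  let Q' : Sylow 2 (Cfsg.PSU 3 F (2 ^ n)) := Q.mapSurjective (f := π) (QuotientGroup.mk'_surjective _)
  have hinj : Function.Injective (π.comp (CfsgLib.UnitaryThree.uni d).subtype) := by
    rw [← MonoidHom.ker_eq_bot_iff, Subgroup.eq_bot_iff_forall]
    intro x hx
    have hx' : (x : ↥(Cfsg.SU 3 F (2 ^ n))) ∈ Subgroup.center ↥(Cfsg.SU 3 F (2 ^ n)) :=
      (QuotientGroup.eq_one_iff _).mp hx
    have h1 : orderOf (x : ↥(Cfsg.SU 3 F (2 ^ n))) ∣ (2 ^ n) ^ 3 := by
      rw [← CfsgLib.UnitaryThree.card_uni d, Subgroup.orderOf_coe]; exact orderOf_dvd_natCard x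
    have h2 : orderOf (x : ↥(Cfsg.SU 3 F (2 ^ n))) ∣ 2 ^ n + 1 :=
      ((Subgroup.orderOf_dvd_natCard _ hx').trans
        (by rw [CfsgLib.Unitary.card_center_SU d.card (by omega)]; exact Nat.gcd_dvd_right _ _))
    have hco : Nat.Coprime ((2 ^ n) ^ 3) (2 ^ n + 1) :=
      (Nat.coprime_self_add_right.mpr (Nat.coprime_one_right _)).pow_left 3
    exact Subtype.ext (orderOf_eq_one_iff.mp (Nat.eq_one_of_dvd_coprimes hco h1 h2))
  let e : ↥(CfsgLib.UnitaryThree.uni d) ≃* ↥(S : Subgroup (Cfsg.PSU 3 F (2 ^ n))) :=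
    ((MonoidHom.ofInjective hinj).trans (MulEquiv.subgroupCongr (by
      rw [MonoidHom.range_comp, Subgroup.range_subtype, Sylow.coe_mapSurjective, hQ]))).trans
      (Sylow.equiv Q' S)
  refine ⟨by rw [← Nat.card_congr e.toEquiv, CfsgLib.UnitaryThree.card_uni], ?_, ?_⟩
  · rw [← Nat.card_congr (Subgroup.centerCongr e).toEquiv, CfsgLib.UnitaryThree.card_center_uni]
  · obtain ⟨-, hp, ⟨x, y, hxy⟩, ⟨a, b, hab, ha1, ha, hb1, hb⟩, K, hK, htr⟩ :=
      CfsgLib.UnitaryThree.isSuzukiTwoGroup_uni hn d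
    refine ⟨inferInstance, hp.of_equiv e, ⟨e x, e y, fun h => hxy (e.injective (by simpa using h))⟩,
      ⟨e a, e b, e.injective.ne hab, by simpa using ha1, by rw [← map_mul, ha, map_one],
        by simpa using hb1, by rw [← map_mul, hb, map_one]⟩,
      K.map (MulAut.congr e).toMonoidHom, ?_, ?_⟩
    · exact isCyclic_of_surjective ((MulAut.congr e).toMonoidHom.subgroupMap K)
        (MonoidHom.subgroupMap_surjective _ _)
    · intro u v hu1 hu hv1 hv
      obtain ⟨u, rfl⟩ := e.surjective u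
      obtain ⟨v, rfl⟩ := e.surjective v
      obtain ⟨k, hk, huniq⟩ := htr u v (by simpa using hu1) (by simpa [← map_mul] using hu)
        (by simpa using hv1) (by simpa [← map_mul] using hv)
      refine ⟨⟨MulAut.congr e k, k, k.2, rfl⟩, ?_, ?_⟩
      · change (MulAut.congr e (k : MulAut _)) (e u) = e v
        simp [MulAut.congr, hk]
      · rintro ⟨_, k', hk', rfl⟩ h
        have h' : k' u = v := e.injective (by simpa [MulAut.congr] using h)
        have := huniq ⟨k', hk'⟩ h'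
        subst this
        rfl

end Cfsg.Agent.S1141
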