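import Cfsg.Statements.S4709
import Cfsg.Agent.Blocks.AbelianFrobenius.Main

set_option autoImplicit false
open Cfsg

namespace Cfsg.Agent.S4709

open CfsgLib CfsgLib.Blocks.AbelianFrobenius


/-- Let p be a prime, M a maximal ideal of the algebraic integers containing p, and G a finite group with a nontrivial abelian Sylow p-subgroup P; put N = N_G(P), C = C_G(P). Suppose N/C is cyclic of order m with 1 < m < #P − 1 (C has index m in N and N is generated by C and one element), and C_G(y) ∩ N = C for every non-identity y ∈ P. Put r = (#P − 1)/m. Then there is s ≤ m such that the principal p-block is the disjoint union of a set X of s characters containing the principal character and a set Y of r characters, with integers a_χ ≠ 0 (χ ∈ X), d and a sign δ = ±1, such that: every χ ∈ X takes the value a_χ at every element whose p-part is a non-identity element of P; there is a map ζ from the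 non-principal linear characters ψ of P onto Y, constant on N-conjugacy classes, with ζ_ψ(z) = d + δ·Σ ψ'(y) for every z whose p-part y is a non-identity element of P, the sum running over the N-conjugates ψ' of ψ; (d − δ)^2 + (r − 1) d^2 + Σ_{χ ∈ X} a_χ^2 = m + 1; all members of Y agree on p-regular elements; and (r d − δ) η(g) + Σ_{χ ∈ X} a_χ χ(g) = 0 for every η ∈ Y and every p-regular g. -/
theorem result {G : Type*} [Group G] [Finite G] (p : ℕ) [Fact p.Prime] (M : Ideal Cfsg.AlgInt) (hM : Cfsg.IsPModular p M) (P : Sylow p G) (hab : IsMulCommutative P) (hP1 : Nat.card P ≠ 1) (m : ℕ) (hm1 : 1 < m) (hm2 : m + 1 < Nat.card P) (hCN : (Subgroup.centralizer ((P : Subgroup G) : Set G)).relIndex (Subgroup.normalizer ((P : Subgroup G) : Set G)) = m) (hcyc : ∃ g : G, g ∈ Subgroup.normalizer ((P : Subgroup G) : Set G) ∧ Subgroup.centralizer ((P : Subgroup G) : Set G) ⊔ Subgroup.zpowers g = Subgroup.normalizer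 ((P : Subgroup G) : Set G)) (hfrob : ∀ y : G, y ∈ (P : Subgroup G) → y ≠ 1 → Subgroup.centralizer ({y} : Set G) ⊓ Subgroup.normalizer ((P : Subgroup G) : Set G) = Subgroup.centralizer ((P : Subgroup G) : Set G)) : ∃ (s : ℕ) (X Y : Set (Cfsg.IrrCharacter G)), s ≤ m ∧ Cfsg.principalBlock M G = X ∪ Y ∧ Disjoint X Y ∧ Nat.card X = s ∧ Nat.card Y = (Nat.card P - 1) / m ∧ (∃ χ₁ ∈ X, (χ₁ : G → ℂ) = fun _ => 1) ∧ ∃ (a : Cfsg.IrrCharacter G → ℤ) (d δ : ℤ) (ζ : (↥(P : Subgroup G) →* ℂˣ) → Cfsg.IrrCharacter G), (δ = 1 ∨ δ = -1) ∧ (∀ χ ∈ X, a χ ≠ 0 ∧ ∀ z y : G, Cfsg.IsPPart p z y → y ∈ (P : Subgroup G) → y ≠ 1 → (χ : G → ℂ) z = (a χ : ℂ)) ∧ (∀ ψ : ↥(P : Subgroup G) →* ℂˣ, ψ ≠ 1 → ζ ψ ∈ Y) ∧ (∀ η ∈ Y, ∃ ψ : ↥(P : Subgroup G) →* ℂˣ, ψ ≠ 1 ∧ ζ ψ = η) ∧ (∀ ψ ψ' : ↥(P : Subgroup G) →* ℂˣ, ψ ≠ 1 → (∃ n : G, n ∈ Subgroup.normalizer ((P : Subgroup G) : Set G) ∧ ∀ w w' : ↥(P : Subgroup G), (w' : G) = n * w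 * n⁻¹ → ψ' w' = ψ w) → ζ ψ' = ζ ψ) ∧ (∀ ψ : ↥(P : Subgroup G) →* ℂˣ, ψ ≠ 1 → ∀ (z : G) (y : ↥(P : Subgroup G)), Cfsg.IsPPart p z (y : G) → (y : G) ≠ 1 → (ζ ψ : G → ℂ) z = (d : ℂ) + (δ : ℂ) * ∑ᶠ ψ' ∈ {ψ' : ↥(P : Subgroup G) →* ℂˣ | ∃ n : G, n ∈ Subgroup.normalizer ((P : Subgroup G) : Set G) ∧ ∀ w w' : ↥(P : Subgroup G), (w' : G) = n * w * n⁻¹ → ψ' w' = ψ w}, ((ψ' y : ℂˣ) : ℂ)) ∧ ((d - δ) ^ 2 + ((Nat.card P - 1) / m - 1 : ℤ) * d ^ 2 + ∑ᶠ χ ∈ X, a χ ^ 2 = (m : ℤ) + 1) ∧ (∀ η ∈ Y, ∀ η' ∈ Y, ∀ g : G, ¬ p ∣ orderOf g → (η : G → ℂ) g = (η' : G → ℂ) g) ∧ (∀ η ∈ Y, ∀ g : G, ¬ p ∣ orderOf g → ((((Nat.card P - 1) / m : ℕ) : ℂ) * d - δ) * (η : G → ℂ) g + ∑ᶠ χ ∈ X, (a χ : ℂ) * (χ : G → ℂ) g = 0) := by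
  classical
  haveI := Fintype.ofFinite G
  haveI : IsMulCommutative ↥(P : Subgroup G) := hab
  haveI : Finite (MulAut ↥(P : Subgroup G)) := Finite.of_injective _ DFunLike.coe_injective
  have hcardA : Nat.card (autP P) = m := (card_autP P).trans hCN
  have hF : Frob P := hfrob
  have hfpf : FPF (autP P) := fpf_autP hF
  obtain ⟨d, δ, d₀, ζ, hδ, hinj, hζB, hdζ, hone, hX, hY, hagree, hcnt, hnorm, hrel⟩ :=
    exists_family hM hF (by rw [hcardA]; exact hm2)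
  have hm0 : 0 < m := by omega
  have hr : Nat.card (Orb (autP P)) = (Nat.card P - 1) / m := by
    have e : Nat.card P - 1 = Nat.card (Orb (autP P)) * m := by rw [← hcnt, hcardA]; rfl
    rw [e, Nat.mul_div_cancel _ hm0]
  have hr2 : 2 ≤ Nat.card (Orb (autP P)) := by
    by_contra h
    have : Nat.card (Orb (autP P)) * Nat.card (autP P) ≤ 1 * Nat.card (autP P) := Nat.mul_le_mul_right _ (by omega)
    have hq : Nat.card P = Nat.card ↥(P : Subgroup G) := rfl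
    omega
  set X := Cfsg.principalBlock M G \ Set.range ζ with hXdef
  have hs : Nat.card X ≤ m := by
    have hfin : X.Finite := Set.toFinite _
    rw [finsum_mem_eq_finite_toFinset_sum _ hfin, hcardA] at hnorm
    have h1 : (hfin.toFinset.card : ℤ) ≤ ∑ χ ∈ hfin.toFinset, d χ ^ 2 := by
      rw [Finset.card_eq_sum_ones, Nat.cast_sum]
      refine Finset.sum_le_sum fun χ hχ => ?_
      have := (hX χ ((Set.Finite.mem_toFinset _).1 hχ).1 ((Set.Finite.mem_toFinset _).1 hχ).2).1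
      have := abs_pos.2 this
      push_cast
      nlinarith [sq_abs (d χ)]
    have h2 : (1 : ℤ) ≤ (d₀ - δ) ^ 2 + ((Nat.card (Orb (autP P)) : ℤ) - 1) * d₀ ^ 2 := by
      have h2' : (2 : ℤ) ≤ Nat.card (Orb (autP P)) := by exact_mod_cast hr2
      rcases eq_or_ne d₀ 0 with h | h
      · rcases hδ with e | e <;> simp [h, e]
      · have := abs_pos.2 h
        nlinarith [sq_abs d₀, sq_nonneg (d₀ - δ)]
    rw [Nat.card_eq_card_finite_toFinset hfin]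
    omega
  let ζ' : (↥(P : Subgroup G) →* ℂˣ) → Cfsg.IrrCharacter G := fun ψ =>
    if h : ψ ≠ 1 then ζ (Quotient.mk (orbSetoid (autP P)) ⟨ψ, h⟩) else CfsgLib.Chars.oneChar G
  have hconj : ∀ (ψ ψ' : ↥(P : Subgroup G) →* ℂˣ) (n : G) (hn : n ∈ Subgroup.normalizer ((P : Subgroup G) : Set G)),
      (∀ w w' : ↥(P : Subgroup G), (w' : G) = n * w * n⁻¹ → ψ' w' = ψ w) ↔
        twist ((P : Subgroup G).normalizerMonoidHom ⟨n, hn⟩) ψ' = ψ := by
    intro ψ ψ' n hn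
    constructor
    · intro h
      exact MonoidHom.ext fun w => h w _ rfl
    · intro h w w' he
      rw [← h, twist_apply]
      congr 1
      exact Subtype.ext he
  have hset : ∀ ψ : ↥(P : Subgroup G) →* ℂˣ,
      {ψ' : ↥(P : Subgroup G) →* ℂˣ | ∃ n : G, n ∈ Subgroup.normalizer ((P : Subgroup G) : Set G) ∧
        ∀ w w' : ↥(P : Subgroup G), (w' : G) = n * w * n⁻¹ → ψ' w' = ψ w} =
      Set.range fun a : (autP P) => twist (a : MulAut ↥(P : Subgroup G)) ψ := by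
    intro ψ
    ext ψ'
    simp only [Set.mem_setOf_eq, Set.mem_range]
    constructor
    · rintro ⟨n, hn, h⟩
      rw [hconj ψ ψ' n hn] at h
      refine ⟨(⟨_, ⟨⟨n, hn⟩, rfl⟩⟩ : (autP P))⁻¹, ?_⟩
      rw [← h, Subgroup.coe_inv, twist_twist, mul_inv_cancel, twist_one]
    · rintro ⟨⟨a, n, rfl⟩, rfl⟩
      refine ⟨((n⁻¹ : _) : G), (n⁻¹).2, (hconj _ _ ((n⁻¹ : _) : G) (n⁻¹).2).2 ?_⟩
      rw [show (⟨((n⁻¹ : _) : G), (n⁻¹).2⟩ : Subgroup.normalizer ((P : Subgroup G) : Set G)) = n⁻¹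
        from rfl, map_inv, twist_twist, mul_inv_cancel, twist_one]
  refine ⟨Nat.card X, X, Set.range ζ, hs, ?_, Set.disjoint_sdiff_left, rfl, ?_, ?_, d, d₀, δ, ζ', hδ,
    ?_, ?_, ?_, ?_, ?_, ?_, ?_, ?_⟩
  · rw [hXdef, Set.diff_union_of_subset (by rintro _ ⟨i, rfl⟩; exact hζB i)]
  · rw [Nat.card_range_of_injective hinj, hr]
  · haveI := CfsgLib.Blocks.isMaximal_of_isPModular hM
    exact ⟨CfsgLib.Chars.oneChar G, ⟨CfsgLib.Blocks.oneChar_mem_principalBlock, hone⟩,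
      CfsgLib.Chars.oneChar_coe⟩
  · intro χ hχ
    obtain ⟨h0, hv⟩ := hX χ hχ.1 hχ.2
    refine ⟨h0, fun z y hzy hyP hy1 => ?_⟩
    rw [apply_section hM hF hχ.1 (y := ⟨y, hyP⟩) hzy hy1]
    exact hv ⟨y, hyP⟩ hy1
  · intro ψ hψ
    simp only [ζ', dif_pos hψ]
    exact ⟨_, rfl⟩
  · rintro η ⟨i, rfl⟩
    refine ⟨Orb.rep (autP P) i, Orb.rep_ne_one (autP P) i, ?_⟩
    simp only [ζ', dif_pos (Orb.rep_ne_one (autP P) i)]
    congr 1
    exact Quotient.out_eq i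
  · rintro ψ ψ' hψ ⟨n, hn, h⟩
    rw [hconj ψ ψ' n hn] at h
    have hψ' : ψ' ≠ 1 := fun e => hψ (by rw [← h, e, twist_trivial])
    simp only [ζ', dif_pos hψ, dif_pos hψ']
    congr 1
    exact Quotient.sound ⟨_, ⟨⟨n, hn⟩, rfl⟩, h⟩
  · intro ψ hψ z y hzy hy1
    simp only [ζ', dif_pos hψ]
    set i := Quotient.mk (orbSetoid (autP P)) ⟨ψ, hψ⟩ with hi
    rw [apply_section hM hF (hζB i) hzy hy1, hY i y hy1, hset,
      finsum_mem_range (fun a b h => Subtype.ext (twist_injOn hfpf hψ a.2 b.2 h))]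
    congr 2
    obtain ⟨a₀, ha₀, h⟩ := Quotient.mk_out (s := orbSetoid (autP P)) (⟨ψ, hψ⟩ : {ψ : ↥(P : Subgroup G) →* ℂˣ // ψ ≠ 1})
    refine (finsum_eq_of_bijective (fun a : (autP P) => (⟨a₀, ha₀⟩ : (autP P)) * a)
      (Group.mulLeft_bijective _) fun a => ?_).symm
    show ((twist (a : MulAut ↥(P : Subgroup G)) ψ y : ℂˣ) : ℂ) = _
    have h' : twist a₀ (Orb.rep (autP P) i) = ψ := h
    rw [← h']
    rfl
  · have hq : 1 ≤ Nat.card P := Nat.card_pos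
    rw [hcardA, hr] at hnorm
    push_cast [Nat.cast_sub hq] at hnorm
    exact hnorm
  · rintro η ⟨i, rfl⟩ η' ⟨j, rfl⟩ g hg
    exact hagree i j g hg
  · rintro η ⟨i, rfl⟩ g hg
    rw [← hr]
    exact hrel i g hg

end Cfsg.Agent.S4709
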