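import Cfsg.Statements.S0949
import Cfsg.Agent.Eq.Def_Blocks
import Cfsg.Agent.S4709
import Cfsg.Agent.Blocks.Orth.Blocks
import Cfsg.Agent.HomocyclicBlock.Main

set_option autoImplicit false
open Cfsg

namespace Cfsg.Agent.S0949

universe u

theorem aux : ∀ (k : ℕ) {G : Type u} [Group G] [Finite G], Nat.card G = k →
    ∀ (P : Sylow 2 G) (m : ℕ), 2 ≤ m →
    ((P : Subgroup G) ≃* Multiplicative (ZMod (2 ^ m) × ZMod (2 ^ m))) →
    (∀ N : Subgroup G, N.Normal → Odd (Nat.card N) → N = ⊥) → (P : Subgroup G).Normal := by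
  intro k
  induction k using Nat.strong_induction_on with
  | _ k ih =>
    intro G _ _ hk P m hm e hO
    haveI : Fact (Nat.Prime 2) := ⟨Nat.prime_two⟩
    rcases (CfsgLib.TwoGroups.Homocyclic.normalizer_data P m (by omega) e).1 with h1 | h3
    · rw [CfsgLib.HomocyclicBlock.sylow_eq_top_of_le hO (Subgroup.relIndex_eq_one.1 h1)]
      infer_instance
    obtain ⟨M, hM⟩ := CfsgLib.Blocks.exists_isPModular 2 Nat.prime_two
    obtain ⟨g, hg, -, -, hgen⟩ := CfsgLib.HomocyclicBlock.exists_generator h3
    have hcard := CfsgLib.HomocyclicBlock.card_sylow e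
    have h16 : 16 ≤ Nat.card (P : Subgroup G) := by
      rw [hcard]
      exact le_trans (by norm_num) (Nat.mul_le_mul (Nat.pow_le_pow_right two_pos hm)
        (Nat.pow_le_pow_right two_pos hm))
    have hcyc : Subgroup.centralizer ((P : Subgroup G) : Set G) ⊔ Subgroup.zpowers g =
        Subgroup.normalizer ((P : Subgroup G) : Set G) := by
      refine le_antisymm (sup_le (Subgroup.centralizer_le_normalizer _)
        (Subgroup.zpowers_le.2 hg)) fun n hn => ?_
      have hgi := Subgroup.mem_sup_right (S := Subgroup.centralizer ((P : Subgroup G) : Set G))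
        (Subgroup.mem_zpowers g)
      rcases hgen n hn with h | h | h
      · exact Subgroup.mem_sup_left h
      · simpa using Subgroup.mul_mem _ hgi (Subgroup.mem_sup_left (T := Subgroup.zpowers g) h)
      · simpa using Subgroup.mul_mem _ (inv_mem hgi) (Subgroup.mem_sup_left (T := Subgroup.zpowers g) h)
    obtain ⟨s, X, Y, hs, hB, hd, hXc, hYc, hX1, a, d, δ, ζ, hδ, ha, -, hsurj, -, hval, hsum, hreg, hrel⟩ :=
      Cfsg.Agent.S4709.result 2 M hM P
        ⟨⟨fun a b => Subtype.ext (CfsgLib.HomocyclicBlock.comm_of_equiv e a.2 b.2)⟩⟩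
        (by omega) 3 (by norm_num) (by omega) h3 ⟨g, hg, hcyc⟩
        (CfsgLib.HomocyclicBlock.frobenius (by omega) e h3)
    obtain ⟨K, hK, hPK, hKtop⟩ := CfsgLib.HomocyclicBlock.exists_normal_proper hM P hm e h3
      ⟨s, X, Y, hs, hB, hd, hXc, hYc, hX1, a, d, δ, ζ, hδ, ha, hsurj, hval, hsum, hreg, hrel⟩
    haveI := hK
    have hlt : Nat.card K < k := by
      rw [← hk]
      refine lt_of_le_of_ne (Subgroup.card_le_card_group K) fun h => hKtop ?_
      exact Subgroup.eq_top_of_card_eq K h
    have hn := ih _ hlt rfl (P.subtype hPK) m hm ((Subgroup.subgroupOfEquivOfLe hPK).trans e)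
      (CfsgLib.HomocyclicBlock.odd_normal_subgroup hO K)
    haveI := (P.subtype hPK).characteristic_of_normal hn
    have hnG : (((P.subtype hPK : Sylow 2 K) : Subgroup K).map K.subtype).Normal :=
      ConjAct.normal_of_characteristic_of_normal
    rwa [Sylow.coe_subtype, Subgroup.subgroupOf_map_subtype, inf_eq_left.2 hPK] at hnG

/-- Let the finite group G have a Sylow 2-subgroup P isomorphic to Z/2^m × Z/2^m with m ≥ 2, and suppose G has no nontrivial normal subgroup of odd order. Then P is normal in G, C_G(P) = P, and the index of P is 1 or 3. -/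
theorem result {G : Type*} [Group G] [Finite G] (P : Sylow 2 G) (m : ℕ) (hm : 2 ≤ m) (e : (P : Subgroup G) ≃* Multiplicative (ZMod (2 ^ m) × ZMod (2 ^ m))) (hO : ∀ N : Subgroup G, N.Normal → Odd (Nat.card N) → N = ⊥) : (P : Subgroup G).Normal ∧ Subgroup.centralizer (P : Set G) = (P : Subgroup G) ∧ ((P : Subgroup G).index = 1 ∨ (P : Subgroup G).index = 3) := by
  have hn := aux _ rfl P m hm e hO
  have hC := CfsgLib.HomocyclicBlock.centralizer_eq_of_normal e hO hn
  refine ⟨hn, hC, ?_⟩
  have h := (CfsgLib.TwoGroups.Homocyclic.normalizer_data P m (by omega) e).1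
  rw [hC, show Subgroup.normalizer (P : Set G) = ⊤ from
      Subgroup.normalizer_eq_top_iff.mpr hn, Subgroup.relIndex_top_right] at h
  exact h

end Cfsg.Agent.S0949
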