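import Cfsg.Statements.S2119
import Mathlib

set_option autoImplicit false
open Cfsg Equiv Equiv.Perm

namespace Cfsg.Agent.S2119

variable {α : Type*} [Fintype α] [DecidableEq α]

theorem rot {x : Perm α} (hx : x.IsThreeCycle) (a : α) : x (x (x a)) = a := by
  have : (x ^ 3) a = a := by rw [← hx.orderOf, pow_orderOf_eq_one]; rfl
  simpa [pow_succ] using this

theorem cases3 {x : Perm α} (hx : x.IsThreeCycle) {a z : α} (ha : x a ≠ a) :
    x z = z ∨ z = a ∨ z = x a ∨ z = x (x a) := by
  by_cases hz : x z = z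
  · exact Or.inl hz
  · refine Or.inr ?_
    have h := (hx.support_eq_iff_mem_support (a := a)).2 (mem_support.2 ha)
    have : z ∈ x.support := mem_support.2 hz
    rw [h] at this
    simpa using this

theorem fix_of_ne {x : Perm α} (hx : x.IsThreeCycle) {a z : α} (ha : x a ≠ a)
    (h1 : z ≠ a) (h2 : z ≠ x a) (h3 : z ≠ x (x a)) : x z = z :=
  (cases3 hx ha).resolve_right (by simp [h1, h2, h3])

theorem moved1 {x : Perm α} {a : α} (ha : x a ≠ a) : x (x a) ≠ x a := fun h => ha (x.injective h)

theorem third_ne {x : Perm α} (hx : x.IsThreeCycle) {a : α} (ha : x a ≠ a) : x (x a) ≠ a := by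
  intro h
  have := rot hx a
  rw [h] at this
  exact ha this

theorem eq_of_two {x y : Perm α} (hx : x.IsThreeCycle) (hy : y.IsThreeCycle) {a : α}
    (ha : x a ≠ a) (h1 : y a = x a) (h2 : y (x a) = x (x a)) : y = x := by
  have hya : y a ≠ a := by rw [h1]; exact ha
  have h3 : y (x (x a)) = x (x (x a)) := by
    rw [← h2, ← h1, rot hy, h1, h2, rot hx]
  ext z
  rcases cases3 hx ha (z := z) with h | h | h | h
  · rcases cases3 hy hya (z := z) with h' | h' | h' | h'
    · rw [h, h']
    · subst h'; exact absurd h ha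
    · rw [h1] at h'; subst h'; exact absurd h (moved1 ha)
    · rw [h1, h2] at h'; subst h'; exact absurd h (moved1 (moved1 ha))
  all_goals subst h
  · exact h1
  · exact h2
  · exact h3

/-- Two three-cycles whose product has order two share an oriented edge. -/
theorem common_edge {x y : Perm α} (hx : x.IsThreeCycle) (hy : y.IsThreeCycle)
    (h2 : (x * y) * (x * y) = 1) (h1 : x * y ≠ 1) : ∃ a, x a ≠ a ∧ y a = x a := by
  by_contra hno
  simp only [not_exists, not_and] at hno
  by_cases hdis : Perm.Disjoint x y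
  · have hc : x * y = y * x := hdis.commute
    have h3 : (x * y) ^ 3 = 1 := by
      rw [(hdis.commute).mul_pow, ← hx.orderOf, pow_orderOf_eq_one, hx.orderOf, ← hy.orderOf,
        pow_orderOf_eq_one, one_mul]
    rw [pow_succ, pow_two, h2, one_mul] at h3
    exact h1 h3
  obtain ⟨a, hxa, hya⟩ : ∃ a, x a ≠ a ∧ y a ≠ a := by
    by_contra h
    apply hdis
    intro z
    by_contra hz
    exact h ⟨z, by tauto, by tauto⟩
  have happ : ∀ z, x (y (x (y z))) = z := fun z => congrArg (fun f : Perm α => f z) h2
  have hyxd : y (x (y a)) = x (x a) := x.injective (by rw [happ a, rot hx])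
  have hd1 : y a ≠ x a := hno a hxa
  by_cases hd2 : y a = x (x a)
  · have hye : y (y (y a)) = a := rot hy a
    by_cases hb : y (y a) = x a
    · apply h1
      ext z
      show x (y z) = z
      rcases cases3 hy hya (z := z) with h | h | h | h
      · rcases cases3 hx hxa (z := z) with h' | h' | h' | h'
        · rw [h, h']
        all_goals subst h'
        · exact absurd h hya
        · rw [← hb] at h; exact absurd h (moved1 (moved1 hya))
        · rw [← hd2] at h; exact absurd h (moved1 hya)
      all_goals subst h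
      · rw [hd2, rot hx]
      · rw [hb, hd2]
      · rw [hye, hb]
    · have h := happ (y (y a))
      rw [hye] at h
      have hyb : y (x a) = x a :=
        fix_of_ne hy hya hxa hd1.symm (Ne.symm hb)
      rw [hyb] at h
      exact third_ne hy hya (by
        have : x (x a) = y a := hd2.symm
        rw [this] at h
        exact absurd (y.injective (h.trans rfl)).symm hya)
  · have hfix : x (y a) = y a := fix_of_ne hx hxa hya hd1 hd2
    rw [hfix] at hyxd
    have h3 : y (x (x a)) = a := by rw [← hyxd, rot hy]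
    exact hno (x (x a)) (moved1 (moved1 hxa)) (by rw [h3, rot hx])

theorem common_edge_three {x y z : Perm α} (hx : x.IsThreeCycle) (hy : y.IsThreeCycle)
    (hz : z.IsThreeCycle) (hxy : y ≠ x) {a : α} (hxa : x a ≠ a) (hya : y a = x a)
    {u : α} (hu : x u ≠ u) (hzu : z u = x u) {v : α} (hv : y v ≠ v) (hzv : z v = y v) :
    z a = x a := by
  have hya' : y a ≠ a := by rw [hya]; exact hxa
  have hne : y (x a) ≠ x (x a) := fun h => hxy (eq_of_two hx hy hxa hya h)
  have hcard : ∀ p : α, z p ≠ p → ∀ q : α, z q ≠ q → q = p ∨ q = z p ∨ q = z (z p) :=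
    fun p hp q hq => (cases3 hz hp).resolve_left hq
  rcases (cases3 hx hxa).resolve_left hu with rfl | rfl | rfl
  · exact hzu
  all_goals rcases (cases3 hy hya').resolve_left hv with rfl | rfl | rfl
  · rw [hzv, hya]
  · rw [hya] at hzv; exact absurd (hzv.symm.trans hzu) hne
  · rw [hya] at hzv
    have hr : y (y (x a)) = a := by rw [← hya, rot hy]
    rw [hr] at hzv
    have hb : z (x a) ≠ x a := by rw [hzu]; exact moved1 hxa
    have hd : z (y (x a)) ≠ y (x a) := by
      rw [hzv]; intro h; exact third_ne hy hya' (by rw [hya]; exact h.symm)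
    rcases hcard _ hb _ hd with h | h | h
    · exact absurd h (by rw [← hya]; exact moved1 hya')
    · rw [hzu] at h; exact absurd h hne
    · have h' := congrArg z h
      rw [hzv, rot hz] at h'
      exact absurd h'.symm hxa
  · rw [hzv, hya]
  · rw [hya] at hzv
    have hr : x (x (x a)) = a := rot hx a
    rw [hr] at hzu
    have hc : z (x (x a)) ≠ x (x a) := by
      rw [hzu]; exact (third_ne hx hxa).symm
    have hb : z (x a) ≠ x a := by rw [hzv, ← hya]; exact moved1 hya'
    rcases hcard _ hb _ hc with h | h | h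
    · exact absurd h (moved1 hxa)
    · rw [hzv] at h; exact absurd h.symm hne
    · have h' := congrArg z h
      rw [hzu, rot hz] at h'
      exact absurd h'.symm hxa
  · rw [hya] at hzv
    rw [rot hx] at hzu
    have hr : y (y (x a)) = a := by rw [← hya, rot hy]
    rw [hr] at hzv
    exact absurd (z.injective (hzu.trans hzv.symm)).symm hne

theorem card_type (k : ℕ) (hk : 1 ≤ k) (h : 3 * k ≤ Fintype.card α) :
    (Finset.univ.filter fun g : Perm α => g.cycleType = Multiset.replicate k 3).card *
      ((Fintype.card α - 3 * k).factorial * 3 ^ k * k.factorial) =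
      (Fintype.card α).factorial := by
  have hh := Equiv.Perm.card_of_cycleType_mul_eq (α := α) (Multiset.replicate k 3)
  rw [if_pos ⟨by simpa [mul_comm] using h,
    fun a ha => by rw [Multiset.eq_of_mem_replicate ha]; omega⟩] at hh
  rw [Multiset.sum_replicate, Multiset.prod_replicate, Multiset.toFinset_replicate,
    if_neg (by omega), Finset.prod_singleton, Multiset.count_replicate_self,
    smul_eq_mul, mul_comm k 3] at hh
  exact hh

theorem pow_fact_lt : ∀ k, 3 ≤ k → 2 * 3 ^ (k - 1) * k.factorial < (3 * k - 3).factorial := by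
  intro k hk
  induction k, hk using Nat.le_induction with
  | base => decide
  | succ k hk ih =>
    have e : k + 1 - 1 = (k - 1) + 1 := by omega
    have e' : 3 * (k + 1) - 3 = (3 * k - 3) + 1 + 1 + 1 := by omega
    rw [e, e', pow_succ, Nat.factorial_succ, Nat.factorial_succ, Nat.factorial_succ,
      Nat.factorial_succ]
    generalize hA : 3 ^ (k - 1) = A at ih
    generalize hB : k.factorial = B at ih
    generalize hC : (3 * k - 3).factorial = C at ih
    have h1 : 3 * (k + 1) ≤ (3 * k - 3 + 1 + 1 + 1) * (3 * k - 3 + 1 + 1) := by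
      have ha : 3 ≤ (3 * k - 3 + 1 + 1) := by omega
      have hb : k + 1 ≤ 3 * k - 3 + 1 + 1 + 1 := by omega
      calc 3 * (k + 1) = (k + 1) * 3 := by ring
        _ ≤ _ := Nat.mul_le_mul hb ha
    have h2 : (2 * A * B) < C * (3 * k - 3 + 1) := lt_of_lt_of_le ih (Nat.le_mul_of_pos_right _ (by omega))
    calc 2 * (A * 3) * ((k + 1) * B) = (3 * (k + 1)) * (2 * A * B) := by ring
      _ < ((3 * k - 3 + 1 + 1 + 1) * (3 * k - 3 + 1 + 1)) * (C * (3 * k - 3 + 1)) :=
          Nat.mul_lt_mul_of_le_of_lt h1 h2 (by positivity)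
      _ = _ := by ring

/-- An automorphism of the alternating group preserves the three-cycles. -/
theorem aut_three (h6 : Fintype.card α ≠ 6) (φ : MulAut (alternatingGroup α))
    {c : alternatingGroup α} (hc : (c : Perm α).IsThreeCycle) :
    (φ c : Perm α).IsThreeCycle := by
  classical
  have hord : orderOf (φ c : Perm α) = 3 := by
    rw [Subgroup.orderOf_coe, MulEquiv.orderOf_eq, ← Subgroup.orderOf_coe, hc.orderOf]
  obtain ⟨m, hm⟩ := cycleType_prime_order (σ := (φ c : Perm α)) (by rw [hord]; norm_num)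
  rw [hord] at hm
  rcases Nat.eq_zero_or_pos m with rfl | hm0
  · simpa [IsThreeCycle] using hm
  exfalso
  have hle : 3 * (m + 1) ≤ Fintype.card α := by
    have := sum_cycleType_le (φ c : Perm α)
    rw [hm, Multiset.sum_replicate, smul_eq_mul] at this
    omega
  obtain ⟨a, b, hab⟩ : ∃ a b : α, a ≠ b := Fintype.exists_pair_of_one_lt_card (by omega)
  let T : ℕ → Finset (Perm α) := fun k =>
    Finset.univ.filter fun g : Perm α => g.cycleType = Multiset.replicate k 3
  let S : Finset (alternatingGroup α) :=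
    Finset.univ.filter fun g : alternatingGroup α => (g : Perm α).IsThreeCycle
  let A : Finset (Perm α) := S.image fun g => (φ g : Perm α)
  let τ : Perm α := swap a b
  have hS : S.card ≤ (T 1).card := by
    refine Finset.card_le_card_of_injOn (fun g => (g : Perm α)) (fun g hg => ?_) ?_
    · have hg' := (Finset.mem_filter.1 hg).2
      exact Finset.mem_coe.2 (Finset.mem_filter.2 ⟨Finset.mem_univ _, by simpa [IsThreeCycle] using hg'⟩)
    · exact Subtype.val_injective.injOn
  have hT : T (m + 1) ⊆ A ∪ A.image (fun g => τ * g * τ⁻¹) := by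
    intro y hy
    simp only [T, Finset.mem_filter, Finset.mem_univ, true_and] at hy
    obtain ⟨g, hg⟩ := isConj_iff.1 (isConj_of_cycleType_eq (hm.trans hy.symm))
    have key : ∀ g : alternatingGroup α, (g : Perm α) * (φ c) * (g : Perm α)⁻¹ ∈ A := by
      intro g
      refine Finset.mem_image.2 ⟨φ.symm g * c * (φ.symm g)⁻¹, ?_, ?_⟩
      · simp only [S, Finset.mem_filter, Finset.mem_univ, true_and]
        show Perm.cycleType _ = _
        simp only [Subgroup.coe_mul, Subgroup.coe_inv, cycleType_conj]
        exact hc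
      · simp
    rcases Int.units_eq_one_or (sign g) with h | h
    · exact Finset.mem_union_left _ (hg ▸ key ⟨g, h⟩)
    · refine Finset.mem_union_right _ (Finset.mem_image.2
        ⟨_, key ⟨τ * g, by simp [τ, h, sign_swap hab]⟩, ?_⟩)
      rw [← hg]
      simp [τ, mul_assoc]
  have hbound : (T (m + 1)).card ≤ 2 * (T 1).card := by
    refine (Finset.card_le_card hT).trans ((Finset.card_union_le _ _).trans ?_)
    have h1 : A.card ≤ S.card := Finset.card_image_le
    have h2 : (A.image (fun g => τ * g * τ⁻¹)).card ≤ A.card := Finset.card_image_le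
    omega
  have e1 := card_type (α := α) 1 le_rfl (by omega)
  have ek := card_type (α := α) (m + 1) (by omega) hle
  change (T 1).card * _ = _ at e1
  change (T (m + 1)).card * _ = _ at ek
  have key : (Fintype.card α - 3).factorial ≤
      2 * 3 ^ m * (m + 1).factorial * (Fintype.card α - 3 * (m + 1)).factorial := by
    have hpos : 0 < (T 1).card * 3 := by
      rcases Nat.eq_zero_or_pos (T 1).card with h | h
      · rw [h, zero_mul] at e1; exact absurd e1.symm (Nat.factorial_ne_zero _)
      · omega
    refine Nat.le_of_mul_le_mul_left ?_ hpos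
    calc (T 1).card * 3 * (Fintype.card α - 3).factorial = (Fintype.card α).factorial := by
          rw [← e1]; simp only [mul_one, pow_one, Nat.factorial_one]; ring
      _ = (T (m + 1)).card * _ := ek.symm
      _ ≤ 2 * (T 1).card * _ := Nat.mul_le_mul_right _ hbound
      _ = _ := by rw [pow_succ]; ring
  obtain ⟨r, hr⟩ : ∃ r, Fintype.card α = 3 * (m + 1) + r := ⟨_, (Nat.add_sub_of_le hle).symm⟩
  rw [hr, Nat.add_sub_cancel_left] at key
  rw [hr] at h6
  have hmono : (3 * m).factorial * r.factorial ≤ (3 * m + r).factorial :=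
    Nat.le_of_dvd (Nat.factorial_pos _) (Nat.factorial_mul_factorial_dvd_factorial_add _ _)
  rw [show 3 * (m + 1) + r - 3 = 3 * m + r by omega] at key
  rcases Nat.lt_or_ge m 2 with hm2 | hm2
  · obtain rfl : m = 1 := by omega
    have hr1 : 1 ≤ r := by omega
    rw [show 3 * 1 + r = r + 1 + 1 + 1 by omega, Nat.factorial_succ, Nat.factorial_succ,
      Nat.factorial_succ] at key
    have h3 : 24 * r.factorial ≤ (r + 1 + 1 + 1) * ((r + 1 + 1) * ((r + 1) * r.factorial)) := by
      calc 24 * r.factorial = 4 * (3 * (2 * r.factorial)) := by ring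
        _ ≤ _ := by gcongr <;> omega
    have h4 : 2 * 3 ^ 1 * (1 + 1).factorial * r.factorial = 12 * r.factorial := by
      norm_num [Nat.factorial]
    have := Nat.factorial_pos r
    linarith
  · have h5 := pow_fact_lt (m + 1) (by omega)
    rw [show 3 * (m + 1) - 3 = 3 * m by omega, show m + 1 - 1 = m by omega] at h5
    have h7 := Nat.mul_lt_mul_of_pos_right h5 (Nat.factorial_pos r)
    omega

theorem cycle3_apply {p q r : α} (hpq : p ≠ q) (hpr : p ≠ r) (hqr : q ≠ r) :
    (swap p q * swap q r : Perm α) p = q ∧ (swap p q * swap q r : Perm α) q = r ∧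
    (swap p q * swap q r : Perm α) r = p := by
  simp [swap_apply_of_ne_of_ne, hpq, hpr, hqr, hpr.symm, hqr.symm, hpq.symm]

theorem cycle3_isThreeCycle {p q r : α} (hpq : p ≠ q) (hpr : p ≠ r) (hqr : q ≠ r) :
    (swap p q * swap q r : Perm α).IsThreeCycle := by
  rw [swap_comm p q]
  exact isThreeCycle_swap_mul_swap_same hpq.symm hqr hpr

theorem eq_cycle3 {x : Perm α} (hx : x.IsThreeCycle) {p q r : α} (hp : x p = q) (hq : x q = r)
    (hpq : p ≠ q) : x = swap p q * swap q r := by
  have h := (hx.eq_swap_mul_swap_iff_mem_support (a := p)).2 (mem_support.2 (by rw [hp]; exact hpq.symm))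
  rwa [hp, hq] at h

theorem closure_star {p q : α} (hpq : p ≠ q) (h4 : 4 ≤ Fintype.card α)
    (H : Subgroup (Perm α)) (hH : ∀ i, i ≠ p → i ≠ q → swap p q * swap q i ∈ H)
    {x : Perm α} (hx : x.IsThreeCycle) : x ∈ H := by
  have key : ∀ x : Perm α, x.IsThreeCycle → x p ≠ p → x ∈ H := by
    intro x hx hp
    obtain ⟨b, hb⟩ : ∃ b, b = x p := ⟨_, rfl⟩
    obtain ⟨c, hc⟩ : ∃ c, c = x b := ⟨_, rfl⟩
    have hbp : b ≠ p := hb ▸ hp
    have hcb : c ≠ b := by rw [hc, hb]; exact moved1 hp
    have hcp : c ≠ p := by rw [hc, hb]; exact third_ne hx hp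
    by_cases hbq : b = q
    · rw [eq_cycle3 hx hb.symm hc.symm hbp.symm, hbq]
      exact hH c hcp (hbq ▸ hcb)
    by_cases hcq : c = q
    · have e : x⁻¹ = swap p q * swap q b := by
        refine eq_cycle3 hx.inv ?_ ?_ hpq
        · rw [inv_eq_iff_eq, ← hcq, hc, hb, rot hx]
        · rw [inv_eq_iff_eq, ← hcq, hc]
      rw [← inv_mem_iff, e]
      exact hH b hbp hbq
    obtain ⟨b1, b2, b3⟩ := cycle3_apply hpq hbp.symm (Ne.symm hbq)
    obtain ⟨c1, c2, c3⟩ := cycle3_apply hpq hcp.symm (Ne.symm hcq)
    have e : x * (swap p q * swap q b) = swap p q * swap q c := by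
      ext z
      rw [Perm.mul_apply]
      by_cases hz1 : z = p
      · subst hz1
        rw [b1, c1]
        exact fix_of_ne hx hp hpq.symm (hb ▸ Ne.symm hbq) (by rw [← hb, ← hc]; exact Ne.symm hcq)
      by_cases hz2 : z = q
      · subst hz2
        rw [b2, c2, ← hc]
      by_cases hz3 : z = b
      · subst hz3
        rw [b3, ← hb]
        simp [swap_apply_of_ne_of_ne, hbp, hbq, Ne.symm hcb]
      simp only [Perm.mul_apply, swap_apply_of_ne_of_ne hz2 hz3, swap_apply_of_ne_of_ne hz1 hz2]
      by_cases hz4 : z = c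
      · subst hz4
        rw [hc, hb, rot hx]
        simp
      rw [swap_apply_of_ne_of_ne hz2 hz4, swap_apply_of_ne_of_ne hz1 hz2]
      exact fix_of_ne hx hp hz1 (hb ▸ hz3) (by rw [← hb, ← hc]; exact hz4)
    rw [eq_mul_inv_of_mul_eq e]
    exact mul_mem (hH c hcp hcq) (inv_mem (hH b hbp hbq))
  obtain ⟨a, ha⟩ : ∃ a, x a ≠ a := by
    by_contra h
    exact hx.ne_one (Equiv.ext fun z => by by_contra hz; exact h ⟨z, hz⟩)
  by_cases hap : a = p
  · exact key x hx (hap ▸ ha)
  obtain ⟨g, hg, hga⟩ : ∃ g ∈ H, (g : Perm α) a = p := by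
    by_cases haq : a = q
    · obtain ⟨l, hl⟩ : ∃ l, l ∈ (Finset.univ \ {p, q} : Finset α) := by
        apply Finset.card_pos.1
        rw [Finset.card_sdiff, Finset.inter_univ, Finset.card_pair hpq, Finset.card_univ]
        omega
      simp at hl
      refine ⟨_, inv_mem (hH l hl.1 hl.2), ?_⟩
      rw [inv_eq_iff_eq, haq, (cycle3_apply hpq (Ne.symm hl.1) (Ne.symm hl.2)).1]
    · exact ⟨_, hH a hap haq, (cycle3_apply hpq (Ne.symm hap) (Ne.symm haq)).2.2⟩
  have h := key (g * x * g⁻¹) (by unfold IsThreeCycle; rw [cycleType_conj]; exact hx) (by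
    have e : g⁻¹ p = a := by rw [inv_eq_iff_eq, hga]
    rw [Perm.mul_apply, Perm.mul_apply, e]
    intro h; exact ha (g.injective (h.trans hga.symm)))
  have := mul_mem (mul_mem (inv_mem hg) h) hg
  simpa [mul_assoc] using this

theorem injective_conjNormal (h4 : 4 ≤ Fintype.card α) :
    Function.Injective (MulAut.conjNormal : Perm α →* MulAut (alternatingGroup α)) := by
  rw [injective_iff_map_eq_one]
  intro σ hσ
  ext a
  by_contra ha
  obtain ⟨b, c, hb, hc, hbc⟩ : ∃ b c, (b ≠ a ∧ b ≠ σ a) ∧ (c ≠ a ∧ c ≠ σ a) ∧ b ≠ c := by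
    have : 1 < (Finset.univ \ {a, σ a} : Finset α).card := by
      rw [Finset.card_sdiff, Finset.inter_univ, Finset.card_univ]
      have := Finset.card_le_two (a := a) (b := σ a)
      omega
    obtain ⟨b, hb, c, hc, hbc⟩ := Finset.one_lt_card.1 this
    simp at hb hc
    exact ⟨b, c, hb, hc, hbc⟩
  have h3 := cycle3_isThreeCycle hb.1.symm hc.1.symm hbc
  have h := congrArg (fun f : MulAut (alternatingGroup α) =>
    (f ⟨_, h3.mem_alternatingGroup⟩ : Perm α) (σ a)) hσ
  simp [MulAut.conjNormal_apply, swap_apply_of_ne_of_ne, hb.1, hc.1, hbc, Ne.symm hb.2,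
    Ne.symm hc.2, Ne.symm hb.1, Ne.symm hc.1] at h
  simp at ha
  simp [swap_apply_of_ne_of_ne, ha, Ne.symm hb.2, Ne.symm hc.2] at h
  exact hb.1 h

theorem surjective_conjNormal (h4 : 4 ≤ Fintype.card α) (h6 : Fintype.card α ≠ 6) :
    Function.Surjective (MulAut.conjNormal : Perm α →* MulAut (alternatingGroup α)) := by
  intro φ
  obtain ⟨p, q, hpq⟩ : ∃ p q : α, p ≠ q := Fintype.exists_pair_of_one_lt_card (by omega)
  let C : {i : α // i ≠ p ∧ i ≠ q} → alternatingGroup α := fun i =>
    ⟨swap p q * swap q i.1,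
      (cycle3_isThreeCycle hpq i.2.1.symm i.2.2.symm).mem_alternatingGroup⟩
  have hC : ∀ i, (C i : Perm α).IsThreeCycle := fun i =>
    cycle3_isThreeCycle hpq i.2.1.symm i.2.2.symm
  have hC1 : ∀ i, (C i : Perm α) p = q := fun i => (cycle3_apply hpq i.2.1.symm i.2.2.symm).1
  have hC2 : ∀ i, (C i : Perm α) q = i.1 := fun i => (cycle3_apply hpq i.2.1.symm i.2.2.symm).2.1
  let X : {i : α // i ≠ p ∧ i ≠ q} → Perm α := fun i => φ (C i)
  have hX : ∀ i, (X i).IsThreeCycle := fun i => aut_three h6 φ (hC i)
  have hne : ∀ i j, i ≠ j → X j ≠ X i := by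
    intro i j hij h
    have h' : C j = C i := φ.injective (Subtype.ext h)
    have := congrArg (fun g : alternatingGroup α => (g : Perm α) q) h'
    simp only [hC2] at this
    exact hij (Subtype.ext this.symm)
  have hpair : ∀ i j, i ≠ j → ∃ a, X i a ≠ a ∧ X j a = X i a := by
    intro i j hij
    have e : ∀ i j : {i : α // i ≠ p ∧ i ≠ q}, i ≠ j → (C i * C j) * (C i * C j) = 1 ∧ C i * C j ≠ 1 := by
      intro i j hij
      have hij' : (i.1 : α) ≠ j.1 := fun h => hij (Subtype.ext h)
      obtain ⟨i1, i2, i3⟩ := cycle3_apply hpq i.2.1.symm i.2.2.symm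
      obtain ⟨j1, j2, j3⟩ := cycle3_apply hpq j.2.1.symm j.2.2.symm
      have fi : ∀ z, z ≠ p → z ≠ q → z ≠ i.1 → (C i : Perm α) z = z := fun z a b c => by
        simp [C, swap_apply_of_ne_of_ne, a, b, c]
      have fj : ∀ z, z ≠ p → z ≠ q → z ≠ j.1 → (C j : Perm α) z = z := fun z a b c => by
        simp [C, swap_apply_of_ne_of_ne, a, b, c]
      have i1' : (C i : Perm α) p = q := i1
      have i2' : (C i : Perm α) q = i.1 := i2
      have i3' : (C i : Perm α) i.1 = p := i3
      have j1' : (C j : Perm α) p = q := j1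
      have j2' : (C j : Perm α) q = j.1 := j2
      have j3' : (C j : Perm α) j.1 = p := j3
      have fij := fi j.1 j.2.1 j.2.2 (Ne.symm hij')
      have fji := fj i.1 i.2.1 i.2.2 hij'
      refine ⟨?_, ?_⟩
      · ext z
        simp only [Subgroup.coe_mul, OneMemClass.coe_one, Perm.mul_apply, Perm.one_apply]
        by_cases hz1 : z = p
        · subst hz1; rw [j1', i2', fji, i3']
        by_cases hz2 : z = q
        · subst hz2; rw [j2', fij, j3', i1']
        by_cases hz3 : z = i.1
        · subst hz3; rw [fji, i3', j1', i2']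
        by_cases hz4 : z = j.1
        · subst hz4; rw [j3', i1', j2', fij]
        simp [fi, fj, hz1, hz2, hz3, hz4]
      · intro h
        have := congrArg (fun g : alternatingGroup α => (g : Perm α) p) h
        simp only [Subgroup.coe_mul, Perm.mul_apply, j1', i2', OneMemClass.coe_one,
          Perm.one_apply] at this
        exact i.2.1 this
    obtain ⟨e1, e2⟩ := e i j hij
    refine common_edge (hX i) (hX j) ?_ ?_
    · have := congrArg (fun g => (φ g : Perm α)) e1
      simpa [X] using this
    · intro h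
      apply e2
      apply φ.injective
      apply Subtype.ext
      simpa [X] using h
  obtain ⟨i0, j0, hij⟩ : ∃ i j : {i : α // i ≠ p ∧ i ≠ q}, i ≠ j := by
    have : 1 < (Finset.univ \ {p, q} : Finset α).card := by
      rw [Finset.card_sdiff, Finset.inter_univ, Finset.card_univ, Finset.card_pair hpq]
      omega
    obtain ⟨b, hb, c, hc, hbc⟩ := Finset.one_lt_card.1 this
    simp at hb hc
    exact ⟨⟨b, hb⟩, ⟨c, hc⟩, fun h => hbc (congrArg Subtype.val h)⟩
  obtain ⟨a, ha, ha'⟩ := hpair i0 j0 hij
  have hab : ∀ k, X k a = X i0 a := by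
    intro k
    by_cases hk : k = i0
    · rw [hk]
    by_cases hk' : k = j0
    · rw [hk', ha']
    obtain ⟨u, hu, hu'⟩ := hpair i0 k (Ne.symm hk)
    obtain ⟨v, hv, hv'⟩ := hpair j0 k (Ne.symm hk')
    exact common_edge_three (hX i0) (hX j0) (hX k) (hne _ _ hij) ha ha' hu hu' hv hv'
  obtain ⟨b, hb⟩ : ∃ b, b = X i0 a := ⟨_, rfl⟩
  rw [← hb] at ha hab
  have hm : ∀ k, X k a ≠ a := fun k => by rw [hab k]; exact ha
  have hf1 : ∀ k, X k b ≠ b := fun k => by rw [← hab k]; exact moved1 (hm k)
  have hf2 : ∀ k, X k b ≠ a := fun k => by rw [← hab k]; exact third_ne (hX k) (hm k)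
  have hf3 : ∀ k, X k (X k b) = a := fun k => by rw [← hab k, rot (hX k)]
  have hf4 : ∀ i j, X i b = X j b → i = j := by
    intro i j h
    by_contra hne'
    exact hne i j hne' (eq_of_two (hX i) (hX j) (hm i) (by rw [hab i, hab j]) (by rw [hab i, h]))
  let f : α → α := fun z =>
    if hp : z = p then a else if hq : z = q then b else X ⟨z, hp, hq⟩ b
  have fp : f p = a := by simp [f]
  have fq : f q = b := by simp [f, hpq.symm]
  have fi : ∀ i : {i : α // i ≠ p ∧ i ≠ q}, f i.1 = X i b := fun i => by simp [f, i.2.1, i.2.2]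
  have finj : Function.Injective f := by
    intro y z h
    simp only [f] at h
    split_ifs at h with h1 h2 h3 h4 h5 h6 h7 h8
    all_goals first
      | (subst_vars; rfl)
      | exact absurd h (by first | exact ha | exact Ne.symm ha)
      | exact absurd h (hf2 _)
      | exact absurd h.symm (hf2 _)
      | exact absurd h (hf1 _)
      | exact absurd h.symm (hf1 _)
      | exact congrArg Subtype.val (hf4 _ _ h)
  let σ : Perm α := Equiv.ofBijective f (Finite.injective_iff_bijective.1 finj)
  refine ⟨σ, ?_⟩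
  have hCσ : ∀ i, (MulAut.conjNormal σ (C i) : Perm α) = φ (C i) := by
    intro i
    rw [MulAut.conjNormal_apply, mul_inv_eq_iff_eq_mul]
    ext z
    simp only [Perm.mul_apply]
    show f ((C i : Perm α) z) = X i (f z)
    by_cases hz1 : z = p
    · subst hz1; rw [hC1, fp, fq, hab]
    by_cases hz2 : z = q
    · subst hz2; rw [hC2, fi, fq]
    by_cases hz3 : z = i.1
    · subst hz3
      rw [(cycle3_apply hpq i.2.1.symm i.2.2.symm).2.2, fp, fi, hf3]
    have e : (C i : Perm α) z = z := by simp [C, swap_apply_of_ne_of_ne, hz1, hz2, hz3]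
    rw [e]
    refine (fix_of_ne (hX i) (hm i) ?_ ?_ ?_).symm
    · rw [← fp]; exact fun h => hz1 (finj h)
    · rw [hab, ← fq]; exact fun h => hz2 (finj h)
    · rw [hab, ← fi]; exact fun h => hz3 (finj h)
  let E : Subgroup (alternatingGroup α) :=
    MonoidHom.eqLocus (MulAut.conjNormal σ : MulAut (alternatingGroup α)).toMonoidHom φ.toMonoidHom
  apply MulEquiv.ext
  intro g
  suffices hg : g ∈ E from hg
  have : (g : Perm α) ∈ E.map (alternatingGroup α).subtype := by
    have hle : alternatingGroup α ≤ E.map (alternatingGroup α).subtype := by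
      refine le_trans closure_three_cycles_eq_alternating.ge ?_
      rw [Subgroup.closure_le]
      intro x hx
      refine closure_star hpq h4 _ (fun i hi hi' => ?_) hx
      exact ⟨C ⟨i, hi, hi'⟩, Subtype.ext (hCσ _), rfl⟩
    exact hle g.2
  obtain ⟨e, he, heq⟩ := this
  exact (Subtype.ext heq : e = g) ▸ he

/-- Automorphisms of the alternating groups: for n ≥ 4 with n ≠ 6, every automorphism of the alternating group of degree n is conjugation by a unique permutation, i.e. conjugation induces an isomorphism from the symmetric group of degree n onto the automorphism group of the alternating group (so the outer automorphism group has order 2). -/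
theorem result (n : ℕ) (hn : 4 ≤ n) (h6 : n ≠ 6) : Function.Bijective (MulAut.conjNormal : Equiv.Perm (Fin n) →* MulAut ↥(alternatingGroup (Fin n))) :=
  ⟨injective_conjNormal (by simpa using hn), surjective_conjNormal (by simpa using hn) (by simpa using h6)⟩

end Cfsg.Agent.S2119
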