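import Cfsg.Statements.S5892
import Cfsg.Agent.Dickson.MaxPSL

set_option autoImplicit false
open Cfsg
open CfsgLib.Dickson Matrix MulAction
open scoped MatrixGroups

namespace Cfsg.Agent.S5892

section Small

variable {F : Type*} [Field F] [Fintype F] [DecidableEq F]

/-- `S₄` and `A₅` contain dihedral groups of order `6` resp. `10`. -/
theorem dihedral_gens :
    (∃ b t : Equiv.Perm (Fin 4), b ^ 3 = 1 ∧ b ≠ 1 ∧ t * t = 1 ∧ t ≠ 1 ∧ t * b * t⁻¹ = b⁻¹) ∧
    (∃ b t : Equiv.Perm (Fin 5), Equiv.Perm.sign b = 1 ∧ Equiv.Perm.sign t = 1 ∧ b ^ 5 = 1 ∧ b ≠ 1 ∧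
      t * t = 1 ∧ t ≠ 1 ∧ t * b * t⁻¹ = b⁻¹) := by
  refine ⟨⟨Equiv.swap 0 1 * Equiv.swap 1 2, Equiv.swap 0 1, ?_⟩,
    ⟨Equiv.swap 0 1 * Equiv.swap 1 2 * Equiv.swap 2 3 * Equiv.swap 3 4,
      Equiv.swap 1 4 * Equiv.swap 2 3, ?_⟩⟩ <;> decide +kernel

/-- The rotations generating a rational or quadratic pair stabiliser give a normal cyclic subgroup
with proper normaliser. -/
theorem normalizer_rotation_ne_top (p : ℕ) [Fact p.Prime] [CharP F p] (hq : 3 ≤ Fintype.card F)
    [DecidableEq (AlgebraicClosure F)] {a : Matrix.ProjectiveSpecialLinearGroup (Fin 2) F} (ha : a ≠ 1)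
    (hpa : ¬ p ∣ orderOf a)
    (hbig : 2 * (Fintype.card F + 1) <
      Nat.card (Matrix.ProjectiveSpecialLinearGroup (Fin 2) F)) :
    Subgroup.normalizer ((Subgroup.zpowers a : Subgroup _) :
      Set (Matrix.ProjectiveSpecialLinearGroup (Fin 2) F)) ≠ ⊤ := by
  intro htop
  obtain ⟨x, y, hxy, hle⟩ := exists_pslPairN_of_normal_cyclic p (H := (⊤ : Subgroup _)) ha hpa
    (fun h _ => by
      have hm : h⁻¹ ∈ Subgroup.normalizer ((Subgroup.zpowers a : Subgroup _) :
          Set (Matrix.ProjectiveSpecialLinearGroup (Fin 2) F)) := htop ▸ Subgroup.mem_top _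
      rw [Subgroup.mem_normalizer_iff_map_conj_eq] at hm
      rw [← hm]
      exact ⟨a, Subgroup.mem_zpowers a, by simp⟩)
  have hcard : Nat.card (pairN x y) ≤ 2 * (Fintype.card F + 1) := by
    rcases card_pairN hxy with h | h <;> rw [h] <;> omega
  have h1 := Subgroup.card_le_of_le hle
  rw [Subgroup.card_top] at h1
  have h2 : Nat.card (pslPairN x y) ≤ Nat.card (pairN x y) := by
    rw [← Subgroup.card_map_of_injective
      (ProjectiveSpecialLinearGroup.toPGL_injective (n := Fin 2) (R := F))]
    exact Subgroup.card_le_of_le (Subgroup.map_comap_le _ _)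
  omega

end Small

section Main

variable {F : Type*} [Field F] [Fintype F] [DecidableEq F] [DecidableEq (AlgebraicClosure F)]
  (p : ℕ) [Fact p.Prime] [CharP F p]
  {M : Subgroup (Matrix.ProjectiveSpecialLinearGroup (Fin 2) F)}

omit [DecidableEq (AlgebraicClosure F)] in
theorem psl_card_facts (hodd : Odd (Fintype.card F)) (h5 : 5 ≤ Fintype.card F) :
    2 * (Fintype.card F + 1) < Nat.card (Matrix.ProjectiveSpecialLinearGroup (Fin 2) F) ∧
      60 ≤ Nat.card (Matrix.ProjectiveSpecialLinearGroup (Fin 2) F) ∧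
      (7 ≤ Fintype.card F → 168 ≤ Nat.card (Matrix.ProjectiveSpecialLinearGroup (Fin 2) F)) := by
  have h := psl_two_mul_card hodd
  set q := Fintype.card F
  have h1 : q ^ 2 - 1 ≥ 24 := by
    have := Nat.pow_le_pow_left h5 2
    omega
  refine ⟨?_, ?_, fun h7 => ?_⟩
  · nlinarith
  · nlinarith
  · have h2 : q ^ 2 - 1 ≥ 48 := by
      have := Nat.pow_le_pow_left h7 2
      omega
    nlinarith

include p in
/-- The stabiliser of a pair, as a maximal subgroup. -/
theorem pair_case (hodd : Odd (Fintype.card F)) (h5 : 5 ≤ Fintype.card F) (hM : IsCoatom M)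
    {x y : OnePoint (AlgebraicClosure F)} (hxy : IsTorusPair x y) (hle : M ≤ pslPairN x y) :
    (13 ≤ Fintype.card F ∧ ∃ k : ℕ, 2 * k = Fintype.card F - 1 ∧ Nonempty (M ≃* DihedralGroup k)) ∨
    (Fintype.card F ≠ 7 ∧ Fintype.card F ≠ 9 ∧
      ∃ k : ℕ, 2 * k = Fintype.card F + 1 ∧ Nonempty (M ≃* DihedralGroup k)) := by
  obtain ⟨hbig, h60, h168⟩ := psl_card_facts hodd h5
  have hd : Nat.gcd 2 (Fintype.card F - 1) = 2 := by
    rcases gcd_two_pred (F := F) with ⟨he, -⟩ | ⟨-, hd⟩
    · exact absurd hodd (Nat.not_odd_iff_even.mpr he)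
    · exact hd
  obtain ⟨u, hu⟩ := hodd
  have hodd : Odd (Fintype.card F) := ⟨u, hu⟩
  have h2F : (2 : F) ≠ 0 := CfsgLib.SL2.two_ne_zero_iff_odd.mpr hodd
  have hcard := psl_two_mul_card hodd
  have hne : pslPairN x y ≠ ⊤ := by
    intro htop
    rcases hxy.pslPairN_dihedral with ⟨⟨i⟩, -⟩ | ⟨⟨i⟩, -⟩ <;>
    · have h1 := Nat.card_congr i.toEquiv
      rw [DihedralGroup.nat_card, htop, Subgroup.card_top, hd] at h1
      omega
  have heq := eq_of_isCoatom_le hM hle hne
  -- exclusion tools
  have hS4 : (Fintype.card F = 7 ∨ Fintype.card F = 9) →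
      ∃ H : Subgroup (Matrix.ProjectiveSpecialLinearGroup (Fin 2) F),
        Nonempty (H ≃* Equiv.Perm (Fin 4)) := fun h => exists_psl_s4 h2F
    (FiniteField.isSquare_two_iff.mpr (by omega))
  have hA5 : (Fintype.card F = 9 ∨ Fintype.card F = 11) →
      ∃ H : Subgroup (Matrix.ProjectiveSpecialLinearGroup (Fin 2) F),
        Nonempty (H ≃* alternatingGroup (Fin 5)) := fun h => exists_psl_a5_of_odd h2F (by
    rcases h with h | h <;> rw [h] <;> norm_num)
  have hcS4 : ∀ H : Subgroup (Matrix.ProjectiveSpecialLinearGroup (Fin 2) F),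
      (H ≃* Equiv.Perm (Fin 4)) → Nat.card H = 24 := fun H i => by
    rw [Nat.card_congr i.toEquiv, Nat.card_perm, Nat.card_eq_fintype_card, Fintype.card_fin]; decide
  have hcA5 : ∀ H : Subgroup (Matrix.ProjectiveSpecialLinearGroup (Fin 2) F),
      (H ≃* alternatingGroup (Fin 5)) → Nat.card H = 60 := fun H i => by
    rw [Nat.card_congr i.toEquiv, Nat.card_eq_fintype_card]; decide +kernel
  -- dihedral of order twice a prime
  have hrot : ∀ (r : ℕ), r.Prime → r ≠ 2 → p ≠ r →
      ¬ r ^ 2 ∣ Nat.card (Matrix.ProjectiveSpecialLinearGroup (Fin 2) F) →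
      (M ≃* DihedralGroup r) →
      ∀ {A : Type} [Group A] (H : Subgroup (Matrix.ProjectiveSpecialLinearGroup (Fin 2) F))
        (_ : H ≃* A) (b t : A), b ^ r = 1 → b ≠ 1 → t * t = 1 → t ≠ 1 → t * b * t⁻¹ = b⁻¹ →
        2 * r < Nat.card H → Nat.card H < Nat.card (Matrix.ProjectiveSpecialLinearGroup (Fin 2) F) →
        False := by
    intro r hr hr2 hpr hrG i A _ H j b t hb hb1 ht ht1 htb h1 h2
    have : Fact r.Prime := ⟨hr⟩
    obtain ⟨a, haM, hao, ha1, han⟩ := exists_normal_cyclic_of_dihedral hr.two_le i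
    have hpa : ¬ p ∣ orderOf a := by
      rw [hao]
      exact fun h => hpr ((Nat.prime_dvd_prime_iff_eq Fact.out hr).mp h)
    refine not_isCoatom_two_mul r hr2 hrG hM
      (by rw [Nat.card_congr i.toEquiv, DihedralGroup.nat_card]) haM hao han
      (normalizer_rotation_ne_top p (by omega) ha1 hpa hbig) (H := H)
      (j.symm b).2 (j.symm t).2 ?_ ?_ ?_ h1 h2
    · rw [Subgroup.orderOf_coe, MulEquiv.orderOf_eq, orderOf_eq_prime hb hb1]
    · rw [Subgroup.orderOf_coe, MulEquiv.orderOf_eq, orderOf_eq_prime (by rwa [pow_two]) ht1]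
    · refine Subgroup.mem_zpowers_iff.mpr ⟨-1, ?_⟩
      rw [_root_.zpow_neg_one, ← Subgroup.coe_inv, ← Subgroup.coe_inv, ← Subgroup.coe_mul,
        ← Subgroup.coe_mul, ← map_inv, ← map_inv, ← map_mul, ← map_mul, htb]
  obtain ⟨⟨b4, t4, e1, e2, e3, e4, e5⟩, ⟨b5, t5, g1, g2, g3, g4, g5, g6, g7⟩⟩ := dihedral_gens
  let B5 : alternatingGroup (Fin 5) := ⟨b5, Equiv.Perm.mem_alternatingGroup.mpr g1⟩
  let T5 : alternatingGroup (Fin 5) := ⟨t5, Equiv.Perm.mem_alternatingGroup.mpr g2⟩
  have hp : ∀ q, Fintype.card F = q → p ∣ q := fun q hq => by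
    obtain ⟨n, -, hn⟩ := FiniteField.card F p
    rw [← hq, hn]
    exact dvd_pow_self p n.pos.ne'
  rcases hxy.pslPairN_dihedral with ⟨⟨i⟩, -⟩ | ⟨⟨i⟩, -⟩
  · left
    rw [hd] at i
    let iM := (MulEquiv.subgroupCongr heq).trans i
    refine ⟨?_, (Fintype.card F - 1) / 2, by omega, ⟨iM⟩⟩
    by_contra hlt
    have hq : Fintype.card F = 5 ∨ Fintype.card F = 7 ∨ Fintype.card F = 9 ∨ Fintype.card F = 11 := by
      omega
    have hMc := Nat.card_congr iM.toEquiv
    rw [DihedralGroup.nat_card] at hMc
    rcases hq with hq | hq | hq | hq <;> rw [hq] at hcard hMc <;> norm_num [-Nat.card_eq_fintype_card] at hcard hMc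
    · obtain ⟨H, ⟨j⟩⟩ := exists_psl_a4_of_odd h2F
      have hH : Nat.card H = 12 := by
        rw [Nat.card_congr j.toEquiv, Nat.card_eq_fintype_card]; decide +kernel
      exact not_isCoatom_sylow 2 (k := 2) (hk := by rw [show Nat.card (Matrix.ProjectiveSpecialLinearGroup (Fin 2) F) = 60 by omega]; norm_num)
        (hM := hM) (hMc := by rw [hMc]; norm_num) (H := H) (by rw [hH]; norm_num)
        (by rw [hH]; norm_num) (by rw [hH]; omega)
    · obtain ⟨H, ⟨j⟩⟩ := hS4 (Or.inl hq)
      rw [hq] at iM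
      have hp7 : p = 7 := (Nat.prime_dvd_prime_iff_eq Fact.out (by norm_num)).mp (hp 7 hq)
      exact hrot 3 Nat.prime_three (by norm_num) (by omega)
        (by rw [show Nat.card (Matrix.ProjectiveSpecialLinearGroup (Fin 2) F) = 168 by omega]; norm_num) iM H j b4 t4 e1 e2 e3 e4 e5
        (by rw [hcS4 H j]; norm_num) (by rw [hcS4 H j]; omega)
    · obtain ⟨H, ⟨j⟩⟩ := hS4 (Or.inr hq)
      exact not_isCoatom_sylow 2 (k := 3) (hk := by rw [show Nat.card (Matrix.ProjectiveSpecialLinearGroup (Fin 2) F) = 360 by omega]; norm_num)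
        (hM := hM) (hMc := by rw [hMc]; norm_num) (H := H) (by rw [hcS4 H j]; norm_num)
        (by rw [hcS4 H j]; norm_num) (by rw [hcS4 H j]; omega)
    · obtain ⟨H, ⟨j⟩⟩ := hA5 (Or.inr hq)
      rw [hq] at iM
      have hp11 : p = 11 := (Nat.prime_dvd_prime_iff_eq Fact.out (by norm_num)).mp (hp 11 hq)
      exact hrot 5 (by norm_num) (by norm_num) (by omega)
        (by rw [show Nat.card (Matrix.ProjectiveSpecialLinearGroup (Fin 2) F) = 660 by omega]; norm_num) iM H j B5 T5 (Subtype.ext g3)
        (fun h => g4 (congrArg Subtype.val h)) (Subtype.ext g5)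
        (fun h => g6 (congrArg Subtype.val h)) (Subtype.ext g7)
        (by rw [hcA5 H j]; norm_num) (by rw [hcA5 H j]; omega)
  · right
    rw [hd] at i
    let iM := (MulEquiv.subgroupCongr heq).trans i
    have hMc := Nat.card_congr iM.toEquiv
    rw [DihedralGroup.nat_card] at hMc
    refine ⟨fun hq => ?_, fun hq => ?_, (Fintype.card F + 1) / 2, by omega, ⟨iM⟩⟩
    · rw [hq] at hcard hMc
      norm_num [-Nat.card_eq_fintype_card] at hcard hMc
      obtain ⟨H, ⟨j⟩⟩ := hS4 (Or.inl hq)
      exact not_isCoatom_sylow 2 (k := 3) (hk := by rw [show Nat.card (Matrix.ProjectiveSpecialLinearGroup (Fin 2) F) = 168 by omega]; norm_num)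
        (hM := hM) (hMc := by rw [hMc]; norm_num) (H := H) (by rw [hcS4 H j]; norm_num)
        (by rw [hcS4 H j]; norm_num) (by rw [hcS4 H j]; omega)
    · rw [hq] at hcard
      norm_num [-Nat.card_eq_fintype_card] at hcard
      obtain ⟨H, ⟨j⟩⟩ := hA5 (Or.inl hq)
      rw [hq] at iM
      have hp3 : p = 3 := (Nat.prime_dvd_prime_iff_eq Fact.out Nat.prime_three).mp
        ((Fact.out : p.Prime).dvd_of_dvd_pow (show p ∣ 3 ^ 2 from hp 9 hq))
      exact hrot 5 (by norm_num) (by norm_num) (by omega)
        (by rw [show Nat.card (Matrix.ProjectiveSpecialLinearGroup (Fin 2) F) = 360 by omega]; norm_num) iM H j B5 T5 (Subtype.ext g3)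
        (fun h => g4 (congrArg Subtype.val h)) (Subtype.ext g5)
        (fun h => g6 (congrArg Subtype.val h)) (Subtype.ext g7)
        (by rw [hcA5 H j]; norm_num) (by rw [hcA5 H j]; omega)

end Main

set_option maxHeartbeats 4000000 in
/-- Let F be a finite field of odd order q ≥ 5 and characteristic p, and let M be a maximal subgroup of PSL₂(F). Then one of the following holds: |M| = q(q − 1)/2 (the stabiliser of a point of the projective line); q ≥ 13 and M is dihedral of order q − 1; q ∉ {7, 9} and M is dihedral of order q + 1; q = q₀² and M ≅ PGL₂(F₀) with |F₀| = q₀; q = q₀^r for an odd prime r and M ≅ PSL₂(F₀) with |F₀| = q₀; q ≡ ±1 (mod 10) with q = p or q = p², p ≡ ±3 (mod 10), and M ≅ A₅; q = p ≡ ±3 (mod 8), q ≢ ±1 (mod 10), and M ≅ A₄; or q = p ≡ ±1 (mod 8) and M ≅ S₄. -/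
theorem result {F : Type*} [Field F] [Fintype F] (p : ℕ)
    [Fact p.Prime] [CharP F p] (hodd : Odd (Fintype.card F)) (h5 : 5 ≤ Fintype.card F)
    (M : Subgroup (Matrix.ProjectiveSpecialLinearGroup (Fin 2) F)) (hM : IsCoatom M) :
    2 * Nat.card M = Fintype.card F * (Fintype.card F - 1) ∨
    (13 ≤ Fintype.card F ∧ (∃ k : ℕ, 2 * k = Fintype.card F - 1 ∧ Nonempty (M ≃* DihedralGroup k))) ∨
    (Fintype.card F ≠ 7 ∧ Fintype.card F ≠ 9 ∧ (∃ k : ℕ, 2 * k = Fintype.card F + 1 ∧ Nonempty (M ≃* DihedralGroup k))) ∨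
    (∃ (F₀ : Type) (_ : Field F₀) (_ : Fintype F₀), Fintype.card F = Fintype.card F₀ ^ 2 ∧
        Nonempty (M ≃* Matrix.ProjGenLinGroup (Fin 2) F₀)) ∨
    (∃ (F₀ : Type) (_ : Field F₀) (_ : Fintype F₀) (r : ℕ), r.Prime ∧ Odd r ∧ Fintype.card F = Fintype.card F₀ ^ r ∧
        Nonempty (M ≃* Matrix.ProjectiveSpecialLinearGroup (Fin 2) F₀)) ∨
    ((Fintype.card F % 10 = 1 ∨ Fintype.card F % 10 = 9) ∧
        (Fintype.card F = p ∨ (Fintype.card F = p ^ 2 ∧ (p % 10 = 3 ∨ p % 10 = 7))) ∧
        Nonempty (M ≃* alternatingGroup (Fin 5))) ∨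
    (Fintype.card F = p ∧ (p % 8 = 3 ∨ p % 8 = 5) ∧ ¬ (p % 10 = 1 ∨ p % 10 = 9) ∧
        Nonempty (M ≃* alternatingGroup (Fin 4))) ∨
    (Fintype.card F = p ∧ (p % 8 = 1 ∨ p % 8 = 7) ∧ Nonempty (M ≃* Equiv.Perm (Fin 4))) := by
  classical
  obtain ⟨hbig, h60, h168⟩ := psl_card_facts hodd h5
  have hp2 : p ≠ 2 := (odd_card_iff p).mp hodd
  have h2 : (2 : F) ≠ 0 := CfsgLib.SL2.two_ne_zero_iff_odd.mpr hodd
  obtain ⟨n, hpp, hn⟩ := FiniteField.card F p
  have hp3 : 3 ≤ p := by have := hpp.two_le; omega
  have hcard := psl_two_mul_card hodd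
  set ι := ProjectiveSpecialLinearGroup.toPGL (n := Fin 2) (R := F)
  have hinj : Function.Injective ι := ProjectiveSpecialLinearGroup.toPGL_injective
  set M' := M.map ι with hM'
  let eM : M ≃* M' := M.equivMapOfInjective _ hinj
  have hM'L : M' ≤ (SpecialLinearGroup.toPGL (n := Fin 2) (R := F)).range := by
    rw [← range_toPGL_psl]
    exact Subgroup.map_le_range _ _
  have hnorm : ∀ {N : Subgroup PGL(2, F)} (k : PGL(2, F)),
      M'.map (MulAut.conj k).toMonoidHom = N →
      N ≤ (SpecialLinearGroup.toPGL (n := Fin 2) (R := F)).range := by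
    rintro N k rfl _ ⟨g, hg, rfl⟩
    exact toPGL_range_normal.conj_mem _ (hM'L hg) k
  have hcardM : ∀ {N : Subgroup PGL(2, F)} (k : PGL(2, F)),
      M'.map (MulAut.conj k).toMonoidHom = N → Nat.card M = Nat.card N := by
    rintro N k rfl
    rw [card_map_conj, card_map_toPGL]
  obtain ⟨x, y, hxy, hS⟩ := exists_quat_param (F := F)
  have hpair : (IsCyclic M ∧ ¬ p ∣ Nat.card M) ∨
      (∃ k, 2 ≤ k ∧ ¬ p ∣ k ∧ Nonempty (M ≃* DihedralGroup k)) →
      (13 ≤ Fintype.card F ∧ ∃ k : ℕ, 2 * k = Fintype.card F - 1 ∧ Nonempty (M ≃* DihedralGroup k)) ∨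
      (Fintype.card F ≠ 7 ∧ Fintype.card F ≠ 9 ∧
        ∃ k : ℕ, 2 * k = Fintype.card F + 1 ∧ Nonempty (M ≃* DihedralGroup k)) := fun h =>
    let ⟨_, _, hab, hle⟩ := le_pslPairN_of_cyclic_or_dihedral p h
    pair_case p hodd h5 hM hab hle
  have hbotc := card_bot_subfield (F := F) p
  have hpslbot : 2 * Nat.card (pslImage (⊥ : Subfield F).subtype) = p * (p ^ 2 - 1) := by
    have : Fintype (⊥ : Subfield F) := Fintype.ofFinite _
    rw [card_pslImage, psl_two_mul_card (by rw [← Nat.card_eq_fintype_card, hbotc]; exact hpp.odd_of_ne_two hp2),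
      ← Nat.card_eq_fintype_card, hbotc]
  have hpq : (n : ℕ) ≠ 1 → p * (p ^ 2 - 1) < Fintype.card F * (Fintype.card F ^ 2 - 1) := fun h => by
    refine psl_order_lt hpp.two_le ?_
    rw [hn]
    exact lt_self_pow₀ hpp.one_lt (by have := n.pos; omega)
  rcases classify_finite' p M' with ⟨z, hz⟩ | ⟨hc, hpc⟩ | ⟨k, hk, hpk, ⟨i⟩⟩ | ⟨h12, ⟨i⟩⟩ |
    ⟨h24, ⟨i⟩⟩ | ⟨h60', ⟨i⟩⟩ | ⟨L, k, hL⟩
  · left
    have hle : M ≤ pslStab z := fun g hg => hz _ ⟨g, hg, rfl⟩
    have hne : pslStab z ≠ ⊤ := fun h => by
      have := index_pslStab z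
      rw [h, Subgroup.index_top] at this
      omega
    have h := card_pslStab z
    rcases gcd_two_pred (F := F) with ⟨he, -⟩ | ⟨-, hd⟩
    · exact absurd hodd (Nat.not_odd_iff_even.mpr he)
    · rw [hd] at h
      rw [eq_of_isCoatom_le hM hle hne, ← h]; ring
  · rcases hpair (Or.inl ⟨isCyclic_of_surjective eM.symm eM.symm.surjective,
      by rwa [Nat.card_congr eM.toEquiv]⟩) with h | h
    exacts [Or.inr (Or.inl h), Or.inr (Or.inr (Or.inl h))]
  · rcases hpair (Or.inr ⟨k, hk, hpk, ⟨eM.trans i⟩⟩) with h | h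
    exacts [Or.inr (Or.inl h), Or.inr (Or.inr (Or.inl h))]
  · -- `A₄`
    refine Or.inr (Or.inr (Or.inr (Or.inr (Or.inr (Or.inr (Or.inl ?_))))))
    obtain ⟨k, φ, hφi, hφ, er, eV, hk⟩ := conj_alt_four hxy h2 (M'.subtype.comp i.symm.toMonoidHom)
      (M'.subtype_injective.comp i.symm.injective)
    rw [show (M'.subtype.comp i.symm.toMonoidHom).range = M' by
      rw [MonoidHom.range_comp, MonoidHom.range_eq_top.mpr i.symm.surjective, ← MonoidHom.range_eq_map,
        Subgroup.range_subtype]] at hk
    have hM12 : Nat.card M = 12 := by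
      rw [Nat.card_congr (eM.trans i).toEquiv, Nat.card_eq_fintype_card]; decide +kernel
    have h5p : 5 ≤ p := by
      by_contra h
      interval_cases p
      · exact h12 (by norm_num)
      · norm_num at hpp
    have hn1 : (n : ℕ) = 1 := by
      by_contra hne
      refine not_isCoatom_of_conj_le hM (hk.le.trans (alt_map_le_pslImage hxy h2 (hS ⊥).1 (hS ⊥).2 er eV))
        (pslImage_le_range_toPGL _) ?_ ?_
      · rw [hM12]
        have : 24 ≤ p ^ 2 - 1 := by
          have := Nat.pow_le_pow_left h5p 2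
          omega
        nlinarith
      · have := hpq hne
        omega
    have hqp : Fintype.card F = p := by rw [hn, hn1, pow_one]
    have hodd' : p % 2 = 1 := Nat.odd_iff.mp (hpp.odd_of_ne_two hp2)
    refine ⟨hqp, ?_, ?_, ⟨eM.trans i⟩⟩
    · by_contra h8
      obtain ⟨s, hs⟩ := FiniteField.isSquare_two_iff.mpr (show Fintype.card F % 8 ≠ 3 ∧ _ by
        rw [hqp]; omega)
      refine not_isCoatom_of_conj_le hM (N := quatN x y) (k := k) ?_
        ((quatN_le_pslImage hxy h2 (hS ⊤).1 (hS ⊤).2 (mem_top_subfield s) hs.symm).trans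
          (pslImage_le_range_toPGL _)) ?_ ?_
      · rw [hk, ← hφ]
        exact Subgroup.map_le_range _ _
      · obtain ⟨_, _, _, h24, -⟩ := exists_s4Hom hxy h2
        rw [hM12, h24]; norm_num
      · obtain ⟨_, _, _, h24, -⟩ := exists_s4Hom hxy h2
        rw [h24]; omega
    · intro h10
      have h5d : 5 ∣ Fintype.card F * (Fintype.card F ^ 2 - 1) := by
        rw [hqp]
        refine Dvd.dvd.mul_left ?_ _
        have : p ^ 2 % 5 = 1 := by
          rw [Nat.pow_mod]
          rcases h10 with h | h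
          · rw [show p % 5 = 1 by omega]
          · rw [show p % 5 = 4 by omega]
        omega
      obtain ⟨b, hb⟩ := exists_golden h2 h5d
      obtain ⟨e⟩ := icosaRef_equiv hxy h2 hb
      have h60c : Nat.card (icosaRef x y b) = 60 := by
        rw [Nat.card_congr e.toEquiv, Nat.card_eq_fintype_card]; decide +kernel
      refine not_isCoatom_of_conj_le hM (N := icosaRef x y b) (k := k) ?_
        ((icosaRef_le_pslImage hxy h2 hb (hS ⊤).1 (hS ⊤).2 (mem_top_subfield b)).trans
          (pslImage_le_range_toPGL _)) ?_ ?_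
      · rw [hk]
        refine Subgroup.map_le_iff_le_comap.mpr (card_le_twelve_gens (Subgroup.mem_comap.mpr ?_)
          (Subgroup.mem_comap.mpr ?_))
        · rw [er]; exact Subgroup.subset_closure (by simp)
        · rw [eV]
          obtain ⟨-, k1, k2, -⟩ := kleinSet_facts hxy h2
          rw [← k2, ← k1]
          have hr : qp x y 1 1 1 1 ∈ icosaRef x y b := Subgroup.subset_closure (by simp)
          exact mul_mem (mul_mem hr (mul_mem (mul_mem hr (Subgroup.subset_closure (by simp)))
            (inv_mem hr))) (inv_mem hr)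
      · rw [hM12, h60c]; norm_num
      · rw [h60c]
        have : 7 ≤ Fintype.card F := by omega
        have := h168 this
        omega
  · -- `S₄`
    refine Or.inr (Or.inr (Or.inr (Or.inr (Or.inr (Or.inr (Or.inr ?_))))))
    obtain ⟨k, hk⟩ := conj_perm_four hxy h2 (M'.subtype.comp i.symm.toMonoidHom)
      (M'.subtype_injective.comp i.symm.injective)
    rw [show (M'.subtype.comp i.symm.toMonoidHom).range = M' by
      rw [MonoidHom.range_comp, MonoidHom.range_eq_top.mpr i.symm.surjective, ← MonoidHom.range_eq_map,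
        Subgroup.range_subtype]] at hk
    have hsq : IsSquare (2 : F) := by
      by_contra hs
      exact not_quatN_le_range_toPGL hxy h2 hs (hnorm k hk)
    have hq8 := FiniteField.isSquare_two_iff.mp hsq
    have hM24 : Nat.card M = 24 := by
      rw [Nat.card_congr (eM.trans i).toEquiv, Nat.card_perm, Nat.card_eq_fintype_card, Fintype.card_fin]
      decide
    have h5p : 5 ≤ p := by
      by_contra h
      interval_cases p
      · exact h24 (by norm_num)
      · norm_num at hpp
    have hn1 : (n : ℕ) = 1 := by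
      by_contra hne
      have hlt := hpq hne
      rcases Nat.even_or_odd (n : ℕ) with he | ho
      · have hrange : (pglMap (⊥ : Subfield F).subtype).range ≤
            (SpecialLinearGroup.toPGL (n := Fin 2) (R := F)).range := by
          have : Fintype (⊥ : Subfield F) := Fintype.ofFinite _
          exact pglMap_range_le_toPGL _ hodd he (by rw [← Nat.card_eq_fintype_card, hbotc, hn])
        have hc : Nat.card (pglMap (⊥ : Subfield F).subtype).range = p * (p ^ 2 - 1) := by
          rw [card_pglMap_range, hbotc, pow_two, show 1 = 1 * 1 from rfl, Nat.mul_self_sub_mul_self_eq]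
          ring
        refine not_isCoatom_of_conj_le hM (k := k) (hk.le.trans (quatN_le_range hxy h2 (hS ⊥).1 (hS ⊥).2))
          hrange ?_ ?_
        · rw [hM24, hc]
          have : 24 ≤ p ^ 2 - 1 := by
            have := Nat.pow_le_pow_left h5p 2
            omega
          nlinarith
        · rw [hc]
          have h4 : p ^ 2 ≤ Fintype.card F := by
            rw [hn]; exact Nat.pow_le_pow_right hpp.pos (by have := n.pos; omega)
          have h5' : 25 ≤ p ^ 2 := Nat.pow_le_pow_left h5p 2
          have h6 : p ^ 2 - 1 < Fintype.card F ^ 2 - 1 := by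
            have : p < Fintype.card F := lt_of_lt_of_le (by nlinarith) h4
            have := Nat.pow_lt_pow_left this two_ne_zero
            omega
          nlinarith
      · obtain ⟨j, hj⟩ := ho
        have hp8 : p % 8 ≠ 3 ∧ p % 8 ≠ 5 := by
          have hp8' : p ^ 2 % 8 = 1 := by
            rw [Nat.pow_mod]
            have := Nat.odd_iff.mp (hpp.odd_of_ne_two hp2)
            have : p % 8 = 1 ∨ p % 8 = 3 ∨ p % 8 = 5 ∨ p % 8 = 7 := by omega
            rcases this with e | e | e | e <;> rw [e]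
          have : Fintype.card F % 8 = p % 8 := by
            rw [hn, hj, pow_succ, pow_mul, Nat.mul_mod, Nat.pow_mod, hp8']; simp
          rwa [this] at hq8
        have : Fintype (⊥ : Subfield F) := Fintype.ofFinite _
        obtain ⟨s, hs⟩ := (FiniteField.isSquare_two_iff (F := (⊥ : Subfield F))).mpr (by
          rwa [← Nat.card_eq_fintype_card, hbotc])
        refine not_isCoatom_of_conj_le hM (k := k) (hk.le.trans
          (quatN_le_pslImage hxy h2 (hS ⊥).1 (hS ⊥).2 s.2 (congrArg Subtype.val hs).symm))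
          (pslImage_le_range_toPGL _) ?_ ?_
        · rw [hM24]
          have : 48 ≤ p ^ 2 - 1 := by
            have h7 : 7 ≤ p := by
              by_contra h7
              interval_cases p <;> omega
            have := Nat.pow_le_pow_left h7 2
            omega
          nlinarith
        · omega
    have hqp : Fintype.card F = p := by rw [hn, hn1, pow_one]
    refine ⟨hqp, ?_, ⟨eM.trans i⟩⟩
    rw [hqp] at hq8
    have := Nat.odd_iff.mp (hpp.odd_of_ne_two hp2)
    omega
  · -- `A₅`
    refine Or.inr (Or.inr (Or.inr (Or.inr (Or.inr (Or.inl ?_)))))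
    obtain ⟨k, b, hb, hk⟩ := conj_alt_five hxy h2 (M'.subtype.comp i.symm.toMonoidHom)
      (M'.subtype_injective.comp i.symm.injective)
    rw [show (M'.subtype.comp i.symm.toMonoidHom).range = M' by
      rw [MonoidHom.range_comp, MonoidHom.range_eq_top.mpr i.symm.surjective, ← MonoidHom.range_eq_map,
        Subgroup.range_subtype]] at hk
    have hM60 : Nat.card M = 60 := by
      rw [Nat.card_congr (eM.trans i).toEquiv, Nat.card_eq_fintype_card]; decide +kernel
    have hp5 : p ≠ 5 := by rintro rfl; norm_num at h60'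
    obtain ⟨S, hbS, hS'⟩ := exists_golden_subfield p hb
    have hSF : Nat.card S = Fintype.card F := by
      obtain ⟨m, hm0, hm⟩ := exists_pow_card S
      by_contra hne
      have hlt : Nat.card S < Fintype.card F := lt_of_le_of_ne
        (hm ▸ Nat.le_self_pow (by omega) _) hne
      have h7 : 7 ≤ Nat.card S := by
        rcases hS' with h | ⟨h, -⟩ <;> rw [h]
        · by_contra h7
          interval_cases p
          · -- there is no golden ratio in the field with three elements
            have : Fintype S := Fintype.ofFinite _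
            have hc : (⟨b, hbS⟩ : S) ^ 3 = ⟨b, hbS⟩ := by
              have h' := FiniteField.pow_card (⟨b, hbS⟩ : S)
              rwa [← Nat.card_eq_fintype_card, h] at h'
            have hc' : b ^ 3 = b := congrArg Subtype.val hc
            exact one_ne_zero (α := F) (by linear_combination -(b + 2) * hc' + (1 + (b + 2) * (b - 1)) * hb)
          · norm_num at hpp
          · exact hp5 rfl
          · norm_num at hpp
        · nlinarith
      have : Fintype S := Fintype.ofFinite _
      have hSodd : Odd (Fintype.card S) := by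
        rw [← Nat.card_eq_fintype_card]
        exact (Nat.odd_pow_iff (by omega)).mp (hm ▸ hodd)
      have hc := psl_two_mul_card (F := S) hSodd
      rw [← Nat.card_eq_fintype_card] at hc
      have h48 : 48 ≤ Nat.card S ^ 2 - 1 := by
        have := Nat.pow_le_pow_left h7 2
        omega
      refine not_isCoatom_of_conj_le hM (k := k)
        (hk.le.trans (icosaRef_le_pslImage hxy h2 hb (hS S).1 (hS S).2 hbS)) (pslImage_le_range_toPGL _) ?_ ?_
      · rw [hM60, card_pslImage]
        nlinarith
      · rw [card_pslImage]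
        have := psl_order_lt (Finite.one_lt_card : 2 ≤ Nat.card S) hlt
        omega
    have h5q : 5 ∣ Fintype.card F ^ 2 - 1 := by
      have h5d : 5 ∣ Fintype.card F * (Fintype.card F ^ 2 - 1) := by
        rw [← hcard]
        exact Dvd.dvd.mul_left (dvd_trans (by rw [hM60]; norm_num) M.card_subgroup_dvd_card) 2
      refine (Nat.Prime.dvd_mul (by norm_num)).mp h5d |>.resolve_left fun h => hp5 ?_
      rw [hn] at h
      exact ((Nat.prime_dvd_prime_iff_eq (by norm_num) hpp).mp ((Nat.Prime.dvd_of_dvd_pow (by norm_num) h))).symm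
    refine ⟨?_, ?_, ⟨eM.trans i⟩⟩
    · have hu : Fintype.card F % 2 = 1 := Nat.odd_iff.mp hodd
      have hpos : 1 ≤ Fintype.card F ^ 2 := Nat.one_le_pow _ _ (by omega)
      have e : Fintype.card F ^ 2 % 5 = 1 := by omega
      rw [Nat.pow_mod] at e
      have : ∀ a < 5, a ^ 2 % 5 = 1 → a = 1 ∨ a = 4 := by decide
      have := this _ (Nat.mod_lt _ (by norm_num)) e
      omega
    · rcases hS' with h | ⟨h, hbot⟩
      · exact Or.inl (hSF ▸ h)
      · refine Or.inr ⟨hSF ▸ h, ?_⟩
        by_contra hp10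
        have hodd' : p % 2 = 1 := Nat.odd_iff.mp (hpp.odd_of_ne_two hp2)
        have hp50 : p % 5 ≠ 0 := fun h0 =>
          hp5 ((Nat.prime_dvd_prime_iff_eq (by norm_num) hpp).mp (Nat.dvd_of_mod_eq_zero h0)).symm
        have hp5' : p % 5 = 1 ∨ p % 5 = 4 := by omega
        have : Fintype (⊥ : Subfield F) := Fintype.ofFinite _
        have h2' : (2 : (⊥ : Subfield F)) ≠ 0 := fun h0 => h2 (congrArg Subtype.val h0)
        obtain ⟨b₀, hb₀⟩ := exists_golden (F := (⊥ : Subfield F)) h2' (by
          rw [← Nat.card_eq_fintype_card, hbotc]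
          refine Dvd.dvd.mul_left ?_ _
          have : p ^ 2 % 5 = 1 := by
            rw [Nat.pow_mod]
            rcases hp5' with e | e <;> rw [e]
          omega)
        have hb₀' : (b₀ : F) ^ 2 + (b₀ : F) - 1 = 0 := congrArg Subtype.val hb₀
        have : (b - b₀) * (b + b₀ + 1) = 0 := by linear_combination hb - hb₀'
        rcases mul_eq_zero.mp this with h' | h'
        · exact hbot (sub_eq_zero.mp h' ▸ b₀.2)
        · exact hbot (by
            rw [show b = -1 - b₀ by linear_combination h']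
            exact Subfield.sub_mem _ (Subfield.neg_mem _ (Subfield.one_mem _)) b₀.2)
  · -- subfields
    obtain ⟨m, hm0, hm⟩ := exists_pow_card L
    have : Fintype L := Fintype.ofFinite L
    have hmF : Fintype.card L ^ m = Fintype.card F := by rw [← Nat.card_eq_fintype_card, hm]
    have hLodd : Odd (Nat.card L) := (Nat.odd_pow_iff (by omega)).mp (hm ▸ hodd)
    have hQ : 2 ≤ Nat.card L := Finite.one_lt_card
    have hQ3 : 3 ≤ Nat.card L := by
      obtain ⟨j, hj⟩ := hLodd; omega
    obtain ⟨K, _, _, hK, ⟨jK⟩⟩ := exists_type_zero_field L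
    rcases hL with hL | ⟨-, hL⟩
    · have hcM : Nat.card M = (Nat.card L + 1) * (Nat.card L * (Nat.card L - 1)) := by
        rw [hcardM k hL, card_pglMap_range]
      have hmeven : Even m := by
        by_contra hmo
        refine not_pgl_dvd_psl hLodd (by omega) (Nat.not_even_iff_odd.mp hmo) (by rw [hm]; exact hcard) ?_
        rw [← hcM]
        exact M.card_subgroup_dvd_card
      obtain ⟨j, rfl⟩ := hmeven
      have hj : j = 1 := by
        by_contra hj
        obtain ⟨L₁, hle, hL₁⟩ := exists_intermediate L (d := j) ⟨2, by ring⟩ hm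
        have : Fintype L₁ := Fintype.ofFinite L₁
        refine not_isCoatom_of_conj_le hM (k := k)
          (hL.le.trans (pglMap_range_mono L.subtype L₁.subtype fun a => ⟨⟨a, hle a.2⟩, rfl⟩))
          (pglMap_range_le_toPGL L₁.subtype hodd (m := 2) ⟨1, rfl⟩ (by
            rw [← Nat.card_eq_fintype_card, hL₁, ← pow_mul, show j * 2 = j + j by ring, hm])) ?_ ?_
        · rw [hcM, card_pglMap_range, hL₁]
          exact pgl_order_lt hQ (lt_self_pow₀ (by omega) (by omega))
        · rw [card_pglMap_range, hL₁]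
          set R := Nat.card L ^ j with hR
          have hR3 : 3 ≤ R := hQ3.trans (Nat.le_self_pow (by omega) _)
          have hq : Fintype.card F = R * R := by rw [← hm, hR, pow_add]
          rw [hq] at hcard
          clear_value R
          have e : (R + 1) * (R * (R - 1)) + R = R ^ 3 := by
            obtain ⟨r, rfl⟩ : ∃ r, R = r + 1 := ⟨R - 1, by omega⟩
            simp only [Nat.add_sub_cancel]; ring
          have e2 : R * R * ((R * R) ^ 2 - 1) + R * R = R ^ 6 := by
            have : 1 ≤ (R * R) ^ 2 := Nat.one_le_pow _ _ (by nlinarith)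
            zify [this]; ring
          have e3 : 3 * (3 * (3 * R ^ 3)) ≤ R ^ 6 := by
            calc 3 * (3 * (3 * R ^ 3)) ≤ R * (R * (R * R ^ 3)) := by gcongr
              _ = R ^ 6 := by ring
          have e4 : R * R ≤ R ^ 3 := by
            calc R * R = R ^ 2 := by ring
              _ ≤ R ^ 3 := Nat.pow_le_pow_right (by omega) (by norm_num)
          have e5 : 0 < R ^ 3 := Nat.pow_pos (by omega)
          omega
      subst hj
      obtain ⟨jp⟩ := pgl_congr jK
      refine Or.inr (Or.inr (Or.inr (Or.inl ⟨K, inferInstance, inferInstance, by rw [hK, ← hm], ?_⟩)))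
      exact ⟨eM.trans ((M'.equivMapOfInjective _ (MulAut.conj k).injective).trans
        ((MulEquiv.subgroupCongr hL).trans
          ((MonoidHom.ofInjective (pglMap_injective L.subtype)).symm.trans jp)))⟩
    · have hcM : 2 * Nat.card M = Nat.card L * (Nat.card L ^ 2 - 1) := by
        rw [hcardM k hL, card_pslImage, psl_two_mul_card (by rwa [← Nat.card_eq_fintype_card]),
          Nat.card_eq_fintype_card]
      have hm1 : m ≠ 1 := fun h => by
        rw [h, pow_one] at hm
        refine hM.1 (Subgroup.eq_top_of_card_eq _ ?_)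
        rw [hm] at hcM
        omega
      have hmodd : Odd m := by
        rcases Nat.even_or_odd m with hme | hmo
        · exfalso
          refine not_isCoatom_of_conj_le hM (k := k) (hL.le.trans (pslImage_le _))
            (pglMap_range_le_toPGL _ hodd hme hmF) ?_ ?_
          · rw [card_pglMap_range]
            have : Nat.card L * (Nat.card L ^ 2 - 1) =
                (Nat.card L + 1) * (Nat.card L * (Nat.card L - 1)) := by
              rw [pow_two, show 1 = 1 * 1 from rfl, Nat.mul_self_sub_mul_self_eq]; ring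
            have : 0 < Nat.card M := Nat.card_pos
            omega
          · rw [card_pglMap_range]
            have hR : Nat.card L ^ 2 ≤ Fintype.card F := hm ▸ Nat.pow_le_pow_right (by omega)
              (by obtain ⟨j, rfl⟩ := hme; omega)
            have e : (Nat.card L + 1) * (Nat.card L * (Nat.card L - 1)) =
                Nat.card L * (Nat.card L ^ 2 - 1) := by
              rw [pow_two, show 1 = 1 * 1 from rfl, Nat.mul_self_sub_mul_self_eq]; ring
            have hlt : Nat.card L < Fintype.card F := lt_of_lt_of_le (by nlinarith) hR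
            have h2 := Nat.pow_lt_pow_left hlt two_ne_zero
            have h3 : 3 * Nat.card L ≤ Fintype.card F := le_trans (by nlinarith) hR
            have h4 : 3 * (Nat.card L * (Nat.card L ^ 2 - 1)) ≤
                Fintype.card F * (Fintype.card F ^ 2 - 1) := by
              rw [← mul_assoc]
              exact Nat.mul_le_mul h3 (by omega)
            have h9 : 0 < Nat.card L * (Nat.card L ^ 2 - 1) :=
              Nat.mul_pos (by omega) (by have := Nat.pow_le_pow_left hQ3 2; omega)
            omega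
        · exact hmo
      have hr : m.Prime := by
        by_contra hnp
        obtain ⟨d, hd, hd2, hdm⟩ := Nat.exists_dvd_of_not_prime2 (by omega) hnp
        obtain ⟨L₁, hle, hL₁⟩ := exists_intermediate L hd hm
        have : Fintype L₁ := Fintype.ofFinite L₁
        have hc1 : 2 * Nat.card (pslImage L₁.subtype) = Nat.card L₁ * (Nat.card L₁ ^ 2 - 1) := by
          rw [card_pslImage, psl_two_mul_card (by rw [← Nat.card_eq_fintype_card, hL₁]; exact hLodd.pow),
            Nat.card_eq_fintype_card]
        refine not_isCoatom_of_conj_le hM (k := k)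
          (hL.le.trans (pslImage_mono L.subtype L₁.subtype fun a => ⟨⟨a, hle a.2⟩, rfl⟩))
          (pslImage_le_range_toPGL _) ?_ ?_
        · have := psl_order_lt hQ (show Nat.card L < Nat.card L₁ from
            hL₁ ▸ lt_self_pow₀ (by omega) (by omega))
          omega
        · have := psl_order_lt (show 2 ≤ Nat.card L₁ from hL₁ ▸ hQ.trans (Nat.le_self_pow (by omega) _))
            (show Nat.card L₁ < Fintype.card F from
              hL₁ ▸ hm ▸ Nat.pow_lt_pow_right (by omega) hdm)
          omega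
      obtain ⟨jp⟩ := psl_congr jK
      obtain ⟨ep⟩ := pslImage_equiv L.subtype
      refine Or.inr (Or.inr (Or.inr (Or.inr (Or.inl
        ⟨K, inferInstance, inferInstance, m, hr, hmodd, by rw [hK, hm], ?_⟩))))
      exact ⟨eM.trans ((M'.equivMapOfInjective _ (MulAut.conj k).injective).trans
        ((MulEquiv.subgroupCongr hL).trans (ep.trans jp)))⟩

end Cfsg.Agent.S5892
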