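import Cfsg.Statements.S5893
import Cfsg.Agent.Dickson.MaxLemmas

set_option autoImplicit false
open Cfsg
open CfsgLib.Dickson Matrix MulAction
open scoped MatrixGroups

namespace Cfsg.Agent.S5893

/-- Let F be a finite field of even order q ≥ 4 and let M be a maximal subgroup of PSL₂(F) (= SL₂(F) = PGL₂(F)). Then one of the following holds: |M| = q(q − 1) (the stabiliser of a point of the projective line, elementary abelian of order q extended by a cyclic group of order q − 1); M is dihedral of order 2(q − 1); M is dihedral of order 2(q + 1); or q = q₀^r for a prime r with q₀ ≠ 2 and M ≅ PSL₂(F₀) with |F₀| = q₀. -/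
theorem result {F : Type*} [Field F] [Fintype F]
    (heven : Even (Fintype.card F)) (h4 : 4 ≤ Fintype.card F) (M : Subgroup (Matrix.ProjectiveSpecialLinearGroup (Fin 2) F)) (hM : IsCoatom M) :
    Nat.card M = Fintype.card F * (Fintype.card F - 1) ∨
    Nonempty (M ≃* DihedralGroup (Fintype.card F - 1)) ∨
    Nonempty (M ≃* DihedralGroup (Fintype.card F + 1)) ∨
    (∃ (F₀ : Type) (_ : Field F₀) (_ : Fintype F₀) (r : ℕ), r.Prime ∧ Fintype.card F₀ ≠ 2 ∧
        Fintype.card F = Fintype.card F₀ ^ r ∧ Nonempty (M ≃* Matrix.ProjectiveSpecialLinearGroup (Fin 2) F₀)) := by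
  classical
  have : CharP F 2 := by
    obtain ⟨p, hp⟩ := CharP.exists F
    have : Fact p.Prime := ⟨CharP.char_is_prime F p⟩
    have h2 : ringChar F = 2 := FiniteField.even_card_iff_char_two.mpr (Nat.even_iff.mp heven)
    rw [ringChar.eq F p] at h2
    exact h2 ▸ hp
  have : Fact (Nat.Prime 2) := ⟨Nat.prime_two⟩
  obtain ⟨e⟩ := psl_equiv_pgl (F := F)
  set M' := M.map e.toMonoidHom with hM'
  let eM : M ≃* M' := M.equivMapOfInjective _ e.injective
  have hM'c : IsCoatom M' := (OrderIso.isCoatom_iff e.mapSubgroup M).mpr hM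
  rw [Nat.card_congr eM.toEquiv]
  set q := Fintype.card F with hq
  -- subgroups of the stabiliser of a pair
  have hpair : ∀ x y, IsTorusPair x y → M' ≤ pairN x y →
      Nonempty (M ≃* DihedralGroup (q - 1)) ∨ Nonempty (M ≃* DihedralGroup (q + 1)) := by
    intro x y hxy hle
    have heq := eq_of_isCoatom_le hM'c hle (pairN_ne_top hxy (by omega))
    rcases hxy.pairN_dihedral with ⟨⟨i⟩, -⟩ | ⟨⟨i⟩, -⟩
    · exact Or.inl ⟨eM.trans ((MulEquiv.subgroupCongr heq).trans i)⟩
    · exact Or.inr ⟨eM.trans ((MulEquiv.subgroupCongr heq).trans i)⟩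
  have hpair' : (IsCyclic M' ∧ ¬ 2 ∣ Nat.card M') ∨
      (∃ n, 2 ≤ n ∧ ¬ 2 ∣ n ∧ Nonempty (M' ≃* DihedralGroup n)) →
      Nonempty (M ≃* DihedralGroup (q - 1)) ∨ Nonempty (M ≃* DihedralGroup (q + 1)) := fun h =>
    let ⟨x, y, hxy, hle⟩ := le_pairN_of_cyclic_or_dihedral 2 h
    hpair x y hxy hle
  rcases classify_finite' 2 M' with ⟨x, hx⟩ | hc | hd | ⟨h, -⟩ | ⟨h, -⟩ | ⟨h, -⟩ |
    ⟨L, k, hL | ⟨h, -⟩⟩
  · refine Or.inl ?_
    rw [eq_of_isCoatom_le hM'c (N := stabilizer _ x) hx (stabilizer_pgl_ne_top x),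
      card_stabilizer_pgl]
  · exact Or.inr ((hpair' (Or.inl hc)).imp_right Or.inl)
  · exact Or.inr ((hpair' (Or.inr hd)).imp_right Or.inl)
  · exact absurd (by norm_num) h
  · exact absurd (by norm_num) h
  · rcases h with h | h
    · exact absurd (by norm_num) h
    · exact absurd h (by norm_num)
  swap
  · exact absurd rfl h
  obtain ⟨m, hm0, hm⟩ := exists_pow_card L
  have hcard : Nat.card M' = (Nat.card L + 1) * (Nat.card L * (Nat.card L - 1)) := by
    rw [← card_pglMap_range L, ← hL, card_map_conj]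
  have hQ : 2 ≤ Nat.card L := Finite.one_lt_card
  by_cases hQ2 : Nat.card L = 2
  · -- a normal subgroup of order three
    have : Fact (Nat.Prime 3) := ⟨Nat.prime_three⟩
    have hc6 : Nat.card M' = 6 := by rw [hcard, hQ2]
    obtain ⟨a, ha⟩ := exists_prime_orderOf_dvd_card' 3 (G := M') (by rw [hc6]; norm_num)
    have hidx : (Subgroup.zpowers a).index = 2 := by
      have h := (Subgroup.zpowers a).card_mul_index
      rw [Nat.card_zpowers, ha, hc6] at h
      omega
    have : (Subgroup.zpowers a).Normal := Subgroup.normal_of_index_eq_two hidx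
    obtain ⟨x, y, hxy, hle, -⟩ := exists_pairN_of_normal_cyclic 2 (H := M') (a := (a : PGL(2, F)))
      (fun h => by rw [← Subgroup.orderOf_coe, h, orderOf_one] at ha; omega)
      (by rw [Subgroup.orderOf_coe, ha]; norm_num) (fun g hg => by
        obtain ⟨z, hz⟩ := Subgroup.mem_zpowers_iff.mp
          (‹(Subgroup.zpowers a).Normal›.conj_mem' a (Subgroup.mem_zpowers a) ⟨g, hg⟩)
        exact Subgroup.mem_zpowers_iff.mpr ⟨z, by simpa using congrArg Subtype.val hz⟩)
    exact Or.inr ((hpair x y hxy hle).imp_right Or.inl)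
  have hr : m.Prime := by
    by_contra hnp
    have hm1 : m ≠ 1 := fun h => by
      rw [h, pow_one] at hm
      refine hM'c.1 (Subgroup.eq_top_of_card_eq _ ?_)
      rw [hcard, card_pgl2, hm]
    obtain ⟨d, hd, hd2, hdm⟩ := Nat.exists_dvd_of_not_prime2 (by omega) hnp
    obtain ⟨L₁, hle, hL₁⟩ := exists_intermediate L hd hm
    have h1 : M' ≤ (pglMap L₁.subtype).range.map (MulAut.conj k⁻¹).toMonoidHom := le_map_conj_inv
      (hL.le.trans (pglMap_range_mono _ _ fun a => ⟨⟨a, hle a.2⟩, rfl⟩))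
    refine not_isCoatom_of_card hM'c h1 ?_ ?_
    · rw [hcard, card_map_conj, card_pglMap_range, hL₁]
      exact pgl_order_lt hQ (lt_self_pow₀ (by omega) (by omega))
    · rw [card_map_conj, card_pglMap_range, card_pgl2, hL₁]
      exact pgl_order_lt (hQ.trans (Nat.le_self_pow (by omega) _))
        (hm ▸ Nat.pow_lt_pow_right (by omega) hdm)
  obtain ⟨K, _, _, hK, ⟨j⟩⟩ := exists_type_zero_field L
  have hK2 : CharP K 2 := by
    have : CharP L 2 := L.subtype.charP Subtype.val_injective 2
    exact charP_of_injective_ringHom (f := j.toRingHom) j.injective 2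
  obtain ⟨jK⟩ := pgl_congr j
  obtain ⟨eK⟩ := psl_equiv_pgl (F := K)
  refine Or.inr (Or.inr (Or.inr ⟨K, inferInstance, inferInstance, m, hr, by omega, by rw [hK, hm], ?_⟩))
  exact ⟨eM.trans ((M'.equivMapOfInjective _ (MulAut.conj k).injective).trans
    ((MulEquiv.subgroupCongr hL).trans
      ((MonoidHom.ofInjective (pglMap_injective L.subtype)).symm.trans (jK.trans eK.symm))))⟩

end Cfsg.Agent.S5893
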