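import Cfsg.Statements.S5940
import Cfsg.Agent.Dickson.MaxPoly

set_option autoImplicit false
open Cfsg
open CfsgLib.Dickson Matrix
open scoped MatrixGroups commutatorElement

namespace Cfsg.Agent.S5940

/-- Let p ≥ 5 be a prime with p ≡ ±3 (mod 8) and p ≢ ±1 (mod 10), and F a field with p elements. Then PSL_2(F) has a maximal subgroup isomorphic to the alternating group A_4. -/
theorem result {F : Type*} [Field F] [Fintype F] (p : ℕ) [Fact p.Prime] (hF : Fintype.card F = p) (h5 : 5 ≤ p) (h8 : p % 8 = 3 ∨ p % 8 = 5) (h10 : p % 10 ≠ 1 ∧ p % 10 ≠ 9) : ∃ H : Subgroup (Matrix.ProjectiveSpecialLinearGroup (Fin 2) F), IsCoatom H ∧ Nonempty (H ≃* alternatingGroup (Fin 4)) := by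
  classical
  have hp : p.Prime := Fact.out
  have : CharP F p := charP_of_card_eq_prime hF
  have hp2 : p ≠ 2 := by omega
  have hodd : Odd (Fintype.card F) := (odd_card_iff p).mpr hp2
  have hm1 : ∀ Q m : ℕ, Q ^ m = Fintype.card F → m = 1 ∧ Q = p := by
    intro Q m h
    rw [hF] at h
    have hm0 : m ≠ 0 := fun h0 => by
      rw [h0, pow_zero] at h
      exact hp.one_lt.ne h
    have hQ : Q = p := by
      rcases (Nat.dvd_prime hp).mp (h ▸ dvd_pow_self Q hm0) with h1 | h1
      · rw [h1, one_pow] at h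
        exact absurd h hp.one_lt.ne
      · exact h1
    subst hQ
    exact ⟨(Nat.pow_right_injective hp.two_le (h.trans (pow_one Q).symm)), rfl⟩
  obtain ⟨H, ⟨i⟩⟩ := exists_psl_a4_of_odd (F := F) (CfsgLib.SL2.two_ne_zero_iff_odd.mpr hodd)
  have hH : Nat.card H = 12 := by rw [Nat.card_congr i.toEquiv, card_alt_four]
  refine ⟨H, ⟨fun htop => ?_, fun M hlt => ?_⟩, ⟨i⟩⟩
  · have h := psl_card_mul_two hodd
    rw [htop, Subgroup.card_top] at hH
    rw [hH, hF] at h
    have : 5 * 24 ≤ p * (p ^ 2 - 1) := Nat.mul_le_mul h5 (by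
      have : 5 ^ 2 ≤ p ^ 2 := Nat.pow_le_pow_left h5 2
      omega)
    omega
  · obtain ⟨x, hx, y, hy, h1, h2, h3, h4⟩ := exists_poly_witness i
      ⟨Equiv.swap 0 1 * Equiv.swap 1 2, Equiv.Perm.mem_alternatingGroup.mpr (by decide)⟩
      ⟨Equiv.swap 0 1 * Equiv.swap 1 3, Equiv.Perm.mem_alternatingGroup.mpr (by decide)⟩
      (by decide +kernel)
    have hne : Nat.card M ≠ 12 := fun h =>
      hlt.ne (Subgroup.eq_of_le_of_card_ge hlt.le (by omega))
    have hG : Nat.card M * 2 ∣ p * (p ^ 2 - 1) := by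
      rw [← hF, ← psl_card_mul_two hodd]
      exact Nat.mul_dvd_mul_right (Subgroup.card_subgroup_dvd_card M) 2
    rcases poly_overgroup_cases p hp2 (hlt.le hx) (hlt.le hy) h1 h2 h3 h4 with
      ⟨-, h⟩ | ⟨-, h⟩ | ⟨hp60, h⟩ | ⟨Q, m, hQm, hQ⟩
    · exact absurd h hne
    · exfalso
      rw [h] at hG
      have h16 : 16 ∣ p ^ 2 - 1 := (Nat.Coprime.pow_left 4 ((Nat.coprime_primes Nat.prime_two hp).mpr
        (Ne.symm hp2))).dvd_of_dvd_mul_left ((show 2 ^ 4 ∣ 24 * 2 by norm_num).trans hG)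
      have h9 : p ^ 2 % 16 = 9 := by
        rw [Nat.pow_mod]
        have : p % 16 = 3 ∨ p % 16 = 5 ∨ p % 16 = 11 ∨ p % 16 = 13 := by omega
        rcases this with h | h | h | h <;> rw [h]
      omega
    · exfalso
      rw [h] at hG
      rcases hp60 with hp60 | hp60
      swap
      · omega
      have hp5 : p ≠ 5 := fun h => hp60 (h ▸ by norm_num)
      rcases (show Nat.Prime 5 by norm_num).dvd_mul.mp ((show 5 ∣ 60 * 2 by norm_num).trans hG) with
        h' | h'
      · exact hp5 ((Nat.prime_dvd_prime_iff_eq (by norm_num) hp).mp h').symm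
      · have hn5 : ¬ 5 ∣ p := fun h =>
          hp5 ((Nat.prime_dvd_prime_iff_eq (by norm_num) hp).mp h).symm
        have hodd' : p % 2 = 1 := hp.eq_two_or_odd.resolve_left hp2
        have h4 : p ^ 2 % 5 = 4 := by
          rw [Nat.pow_mod]
          have : p % 5 = 2 ∨ p % 5 = 3 := by omega
          rcases this with h | h <;> rw [h]
        omega
    · obtain ⟨rfl, rfl⟩ := hm1 Q m hQm
      rcases hQ with ⟨-, hev⟩ | ⟨-, hQ⟩
      · exact absurd (hev hp2) (by norm_num)
      · refine Subgroup.eq_top_of_card_eq _ ?_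
        rw [← hF, ← psl_card_mul_two hodd] at hQ
        omega

end Cfsg.Agent.S5940
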