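import Cfsg.Statements.S0887
import Cfsg.Agent.Eq.Def_Characters
import Cfsg.Agent.Chars.Induced.Ito

set_option autoImplicit false
open Cfsg

namespace Cfsg.Agent.S0887

/-- Let N be a normal subgroup of the finite group G, χ an irreducible character of G and ϑ an irreducible character of N having nonzero inner product with the restriction of χ. If χ 1 = c and ϑ 1 = d as natural numbers, then d divides c and c / d divides the index of N. -/
theorem result {G : Type*} [Group G] [Fintype G] (N : Subgroup G) [N.Normal] [Fintype N] (χ : G → ℂ) (hχ : Cfsg.IsIrrCharacter G χ) (ϑ : N → ℂ) (hϑ : Cfsg.IsIrrCharacter N ϑ) (hcon : Cfsg.classInner (fun n : N => χ n) ϑ ≠ 0) (c d : ℕ) (hc : χ 1 = c) (hd : ϑ 1 = d) : d ∣ c ∧ c / d ∣ N.index := by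
  classical
  let χ' : IrrCharacter G := ⟨χ, hχ⟩
  let θ' : IrrCharacter N := ⟨ϑ, hϑ⟩
  have hm : CfsgLib.Chars.Induced.mult (fun n : N => (χ' : G → ℂ) n) (θ' : N → ℂ) ≠ 0 :=
    (CfsgLib.Chars.Induced.mult_ne_zero_iff
      (CfsgLib.Chars.isCharacter_restrict (CfsgLib.Chars.isCharacter_coe χ') N) θ').2 hcon
  have hcd : Cfsg.charDegree χ = c := CfsgLib.Chars.charDegree_eq_of_map_one hc
  have hdd : Cfsg.charDegree ϑ = d := CfsgLib.Chars.charDegree_eq_of_map_one hd
  have h1 := CfsgLib.Chars.Induced.clifford_one χ' θ' hm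
  have hdvd : d ∣ c := by
    refine ⟨CfsgLib.Chars.Induced.mult (fun n : N => (χ' : G → ℂ) n) (θ' : N → ℂ) *
      (CfsgLib.Chars.Induced.inertia N (θ' : N → ℂ)).index, ?_⟩
    apply Nat.cast_injective (R := ℂ)
    show ((c : ℕ) : ℂ) = _
    rw [← hc, show χ 1 = _ from h1]
    push_cast
    rw [show (θ' : N → ℂ) 1 = d from hd]
    ring
  refine ⟨hdvd, ?_⟩
  have h2 := CfsgLib.Chars.Induced.charDegree_dvd_mul_index χ' θ' hm
  change Cfsg.charDegree χ ∣ Cfsg.charDegree ϑ * N.index at h2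
  rw [hcd, hdd] at h2
  obtain ⟨k, rfl⟩ := hdvd
  have hd0 : d ≠ 0 := by
    rintro rfl
    exact CfsgLib.Chars.map_one_ne_zero θ' (by simpa using hd)
  rw [Nat.mul_div_cancel_left k (Nat.pos_of_ne_zero hd0)]
  exact Nat.dvd_of_mul_dvd_mul_left (Nat.pos_of_ne_zero hd0) h2

end Cfsg.Agent.S0887
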