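import Cfsg.Statements.S4437
import Cfsg.Agent.Blocks.Defect.StableClass
import Cfsg.Agent.Blocks.Defect.Stabilizer
import Cfsg.Agent.Eq.Def_Blocks

set_option autoImplicit false
open Cfsg

namespace Cfsg.Agent.S4437

open CfsgLib.Blocks in
theorem stab_iff {G : Type*} [Group G] [Fintype G] {M : Ideal Cfsg.AlgInt} [M.IsMaximal]
    {H : Subgroup G} {b : Set (Cfsg.IrrCharacter H)} (hb : Cfsg.IsPBlock M b) {g : G}
    (hg : g ∈ Subgroup.normalizer (H : Set G)) :
    (∀ θ ∈ b, ∀ θ' : Cfsg.IrrCharacter H, (∀ h h' : H, (h' : G) = g * h * g⁻¹ →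
      (θ' : H → ℂ) h' = (θ : H → ℂ) h) → θ' ∈ b) ↔ conjA g (subEl M H b) = subEl M H b := by
  have h := map_conj_eq_self_of_mem_normalizer hg
  constructor
  · intro hst
    rw [← subEl_mapBlock_conj g h b]
    congr 1
    obtain ⟨θ, hθ⟩ := nonempty_of_isPBlock hb
    have h1 : CfsgLib.Chars.irrEquiv (conjIso H H g h) θ ∈ b := by
      refine hst θ hθ _ fun x x' hx => ?_
      have : x' = conjIso H H g h x := Subtype.ext (hx.trans (coe_conjIso ..).symm)
      rw [this, CfsgLib.Chars.irrEquiv_apply, MulEquiv.symm_apply_apply]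
    exact (eq_blockOf_of_mem (isPBlock_mapBlock (conjIso H H g h) hb)
      (Set.mem_image_of_mem _ hθ)).trans (eq_blockOf_of_mem hb h1).symm
  · intro hc θ hθ θ' hconj
    rw [← subEl_mapBlock_conj g h b] at hc
    have heq := subEl_injective (isPBlock_mapBlock _ hb) hb hc
    rw [← heq]
    refine ⟨θ, hθ, Subtype.ext (funext fun x' => ?_)⟩
    obtain ⟨x, rfl⟩ := (conjIso H H g h).surjective x'
    rw [CfsgLib.Chars.irrEquiv_apply, MulEquiv.symm_apply_apply,
      hconj x _ (coe_conjIso H H g h x)]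


/-- Let P be a p-subgroup of the finite group G, H = P·C_G(P), and b a block of H (relative to a maximal ideal M of the algebraic integers containing p) having P as a defect group; let B be the block of G induced by b. Let T be the stabilizer of b in N_G(P): the elements g of N_G(P) such that the g-conjugate of every member of b is again a member of b. Then B has defect group P if and only if p does not divide the index of H in T. -/
theorem result {G : Type*} [Group G] [Fintype G] (p : ℕ) [Fact p.Prime] (M : Ideal Cfsg.AlgInt) (hM : Cfsg.IsPModular p M) (P : Subgroup G) (hP : IsPGroup p P) (H : Subgroup G) [Fintype H] (hH : H = P ⊔ Subgroup.centralizer (P : Set G)) (b : Set (Cfsg.IrrCharacter H)) (hb : Cfsg.IsPBlock M b) (hbP : Cfsg.IsDefectGroup p M b (P.subgroupOf H)) (B : Set (Cfsg.IrrCharacter G)) (hind : Cfsg.IsInducedBlock M H b B) (T : Subgroup G) (hT : ∀ g : G, g ∈ T ↔ (g ∈ Subgroup.normalizer (P : Set G) ∧ ∀ θ ∈ b, ∀ θ' : Cfsg.IrrCharacter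 H, (∀ h h' : H, (h' : G) = g * h * g⁻¹ → (θ' : H → ℂ) h' = (θ : H → ℂ) h) → θ' ∈ b)) : Cfsg.IsDefectGroup p M B P ↔ ¬ p ∣ H.relIndex T := by
  haveI := hM.2.1
  haveI := CfsgLib.Blocks.charP_kres hM
  classical
  have hB : Cfsg.IsPBlock M B := hind.2.1
  have hPH : P ≤ H := hH ▸ le_sup_left
  have hCH : Subgroup.centralizer (P : Set G) ≤ H := hH ▸ le_sup_right
  have hHN : H ≤ Subgroup.normalizer (P : Set G) :=
    hH ▸ sup_le Subgroup.le_normalizer (Subgroup.centralizer_le_normalizer _)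
  have hNH : Subgroup.normalizer (P : Set G) ≤ Subgroup.normalizer (H : Set G) := fun n hn => by
    rw [Subgroup.mem_normalizer_iff]
    intro y
    have hmap : H.map (MulAut.conj n).toMonoidHom = H := by
      rw [hH, Subgroup.map_sup, CfsgLib.Blocks.map_conj_eq_self_of_mem_normalizer hn,
        CfsgLib.Blocks.map_conj_centralizer,
        CfsgLib.Blocks.map_conj_eq_self_of_mem_normalizer hn]
    conv_rhs => rw [← hmap]
    exact (Subgroup.mem_map_iff_mem (f := (MulAut.conj n).toMonoidHom)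
      (MulAut.conj n).injective).symm
  have ho := (CfsgLib.Blocks.isInducedBlock_iff_brOver hM hP hPH hCH hHN hb hB).mp hind
  have hfP := (CfsgLib.Blocks.isDefectGroup_subEl_iff hb _).mp hbP
  rw [Subgroup.map_subgroupOf_eq_of_le hPH] at hfP
  rw [CfsgLib.Blocks.isDefectGroup_topEl_iff hB]
  have he := CfsgLib.Blocks.isBlockIdem_topEl hB (M := M)
  set e := CfsgLib.Blocks.topEl M B with he'
  set f := CfsgLib.Blocks.subEl M H b with hf'
  have hf : CfsgLib.Blocks.IsBlockIdem H f := CfsgLib.Blocks.isBlockIdem_subEl hb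
  set N := (⊤ : Subgroup G) ⊓ Subgroup.normalizer (P : Set G) with hN
  have hHN' : H ≤ N := le_inf le_top hHN
  have hPN : P ≤ N := hPH.trans hHN'
  have hNK : N ≤ Subgroup.normalizer (H : Set G) := inf_le_right.trans hNH
  have hT' : ∀ g, g ∈ T ↔ g ∈ N ∧ CfsgLib.Blocks.conjA g f = f := fun g => by
    rw [hT]
    constructor
    · rintro ⟨h1, h2⟩
      exact ⟨⟨Subgroup.mem_top g, h1⟩, (stab_iff hb (hNH h1)).mp h2⟩
    · rintro ⟨h1, h2⟩
      exact ⟨h1.2, (stab_iff hb (hNH h1.2)).mpr h2⟩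
  have hHT : H ≤ T := fun x hx =>
    (hT' x).mpr ⟨hHN' hx, CfsgLib.Blocks.isFixedBy_iff_conjA.mp hf.1.2 x hx⟩
  have hTN : T ≤ N := fun x hx => ((hT' x).mp hx).1
  haveI hHTn : (H.subgroupOf T).Normal :=
    (Subgroup.normal_subgroupOf_iff_le_normalizer hHT).mpr (hTN.trans hNK)
  -- the block of the normalizer above the orbit
  set E := CfsgLib.Blocks.orbitSum N f with hE
  have hEN : E ∈ CfsgLib.Blocks.centerIn _ N :=
    CfsgLib.Blocks.orbitSum_mem_centerIn hHN' le_rfl hNK hf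
  have hEf : E * f = f :=
    CfsgLib.Blocks.orbitSum_mul_of_mem hNK hf (CfsgLib.Blocks.self_mem_conjOrbit N f)
  have hEb : CfsgLib.Blocks.IsBlockIdem N E := by
    refine ⟨hEN, CfsgLib.Blocks.orbitSum_idem hNK hf,
      fun h0 => hf.ne_zero (by rw [← hEf, h0, zero_mul]), fun i hi hii => ?_⟩
    have hiC : CfsgLib.Blocks.IsSupportedOn i H := by
      have h := CfsgLib.Blocks.brTrunc_eq_self_of_idem hi hii hP hPN inf_le_right
      exact h ▸ CfsgLib.Blocks.isSupportedOn_mono (CfsgLib.Blocks.isSupportedOn_brTrunc P i) hCH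
    have hiH : i ∈ CfsgLib.Blocks.centerIn _ H := ⟨hiC, hi.2.mono hHN'⟩
    have hconj : ∀ a ∈ CfsgLib.Blocks.conjOrbit N f, ∃ n ∈ N,
        a = CfsgLib.Blocks.conjA n f ∧ i * a = CfsgLib.Blocks.conjA n (i * f) := fun a ha => by
      obtain ⟨n, hn, rfl⟩ := CfsgLib.Blocks.mem_conjOrbit.mp ha
      exact ⟨n, hn, rfl, by rw [map_mul, CfsgLib.Blocks.isFixedBy_iff_conjA.mp hi.2 n hn]⟩
    rcases hf.2.2.2 i hiH hii with h | h
    · left
      rw [hE, CfsgLib.Blocks.orbitSum, Finset.mul_sum]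
      refine Finset.sum_eq_zero fun a ha => ?_
      obtain ⟨n, -, -, h'⟩ := hconj a ha
      rw [h', h, map_zero]
    · right
      rw [hE, CfsgLib.Blocks.orbitSum, Finset.mul_sum]
      refine Finset.sum_congr rfl fun a ha => ?_
      obtain ⟨n, -, h1, h'⟩ := hconj a ha
      rw [h', h, h1]
  have S : CfsgLib.Blocks.BrSetting p ⊤ P N :=
    CfsgLib.Blocks.brSetting_normalizer hP le_top
  have hoE : CfsgLib.Blocks.BrOver P E e := by
    show CfsgLib.Blocks.brTrunc P e * E = E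
    rw [hE, CfsgLib.Blocks.orbitSum, Finset.mul_sum]
    refine Finset.sum_congr rfl fun a ha => ?_
    obtain ⟨n, hn, rfl⟩ := CfsgLib.Blocks.mem_conjOrbit.mp ha
    conv_lhs => rw [← CfsgLib.Blocks.isFixedBy_iff_conjA.mp (S.trunc_mem he.1).2 n hn, ← map_mul]
    rw [show CfsgLib.Blocks.brTrunc P e * f = f from ho]
  suffices hmain : CfsgLib.Blocks.IsDefectGroupIdem p N E P ↔ ¬ p ∣ H.relIndex T by
    rw [← hmain]
    exact ⟨fun h => h.defect_over he hEb hoE,
      fun h => CfsgLib.Blocks.IsDefectGroupIdem.of_over hEb h he hoE⟩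
  constructor
  · intro hEP hdvd
    haveI := Fintype.ofFinite (T ⧸ H.subgroupOf T)
    obtain ⟨y, hy⟩ := exists_prime_orderOf_dvd_card' p (G := T ⧸ H.subgroupOf T) hdvd
    obtain ⟨x, rfl⟩ := QuotientGroup.mk_surjective y
    obtain ⟨a, m, hm, ham⟩ := Nat.exists_eq_pow_mul_and_not_dvd (orderOf_pos x).ne' p
      (Fact.out : p.Prime).ne_one
    set x' : T := x ^ m with hx'
    have hx'p : IsPGroup p (Subgroup.zpowers (x' : G)) := by
      refine IsPGroup.of_card (n := a) ?_
      rw [Nat.card_zpowers, Subgroup.orderOf_coe, hx', orderOf_pow' x (fun h => hm (by rw [h]; exact dvd_zero p)),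
        ham, Nat.gcd_eq_right (dvd_mul_left m _), Nat.mul_div_cancel _
          (Nat.pos_of_ne_zero fun h => hm (by rw [h]; exact dvd_zero p))]
    have hx'H : (x' : G) ∉ H := fun h => by
      have h1 : (QuotientGroup.mk x : T ⧸ H.subgroupOf T) ^ m = 1 := by
        rw [← QuotientGroup.mk_pow, QuotientGroup.eq_one_iff]
        exact h
      exact hm (hy ▸ orderOf_dvd_of_pow_eq_one h1)
    have hfixT : CfsgLib.Blocks.IsFixedBy f T :=
      CfsgLib.Blocks.isFixedBy_iff_conjA.mpr fun g hg => ((hT' g).mp hg).2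
    obtain ⟨g, hg, hg0, -, hgR⟩ := hf.exists_stable_class hx'p
      (Subgroup.zpowers_le.mpr (hNK (hTN x'.2)))
      (hfixT.mono (Subgroup.zpowers_le.mpr x'.2))
    obtain ⟨c, hc, hcx⟩ := hgR _ (Subgroup.mem_zpowers _)
    -- a p-element outside H centralizing g
    set z : T := ⟨c, hHT hc⟩ * x' with hz
    obtain ⟨a', m', hm', ham'⟩ := Nat.exists_eq_pow_mul_and_not_dvd (orderOf_pos z).ne' p
      (Fact.out : p.Prime).ne_one
    set y : T := z ^ m' with hy'
    have hyp : IsPGroup p (Subgroup.zpowers (y : G)) := by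
      refine IsPGroup.of_card (n := a') ?_
      rw [Nat.card_zpowers, Subgroup.orderOf_coe, hy',
        orderOf_pow' z (fun h => hm' (by rw [h]; exact dvd_zero p)), ham', Nat.gcd_eq_right (dvd_mul_left m' _),
        Nat.mul_div_cancel _ (Nat.pos_of_ne_zero fun h => hm' (by rw [h]; exact dvd_zero p))]
    have hyH : (y : G) ∉ H := fun h => by
      have hzx : (QuotientGroup.mk z : T ⧸ H.subgroupOf T) = QuotientGroup.mk x' := by
        rw [hz, QuotientGroup.mk_mul, (QuotientGroup.eq_one_iff _).mpr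
          (show (⟨c, hHT hc⟩ : T) ∈ H.subgroupOf T from hc), one_mul]
      have h1 : (QuotientGroup.mk x : T ⧸ H.subgroupOf T) ^ (m * m') = 1 := by
        rw [pow_mul, ← QuotientGroup.mk_pow, ← hx', ← hzx, ← QuotientGroup.mk_pow, ← hy',
          QuotientGroup.eq_one_iff]
        exact h
      exact (Nat.Prime.not_dvd_mul (Fact.out : p.Prime) hm hm')
        (hy ▸ orderOf_dvd_of_pow_eq_one h1)
    have hyC : Subgroup.zpowers (y : G) ≤ Subgroup.centralizer ({g} : Set G) := by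
      rw [Subgroup.zpowers_le, hy', SubmonoidClass.coe_pow]
      exact Subgroup.pow_mem _ hcx _
    have hne : CfsgLib.Blocks.brTrunc (Subgroup.zpowers (y : G)) E ≠ 0 := by
      intro h0
      apply CfsgLib.Blocks.brTrunc_ne_zero_of_coeff hg0 hyC
      have hyN : Subgroup.zpowers (y : G) ≤ N := Subgroup.zpowers_le.mpr (hTN y.2)
      rw [← hEf, CfsgLib.Blocks.brTrunc_mul hyp (hEN.2.mono hyN)
        (hfixT.mono (Subgroup.zpowers_le.mpr y.2)), h0, zero_mul]
    obtain ⟨n, hn, hle⟩ := hEP.2.2.2 _ (Subgroup.zpowers_le.mpr (hTN y.2)) hyp hne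
    exact hyH ((Subgroup.mem_normalizer_iff.mp (hNK hn) _).mpr
      (hPH (hle ⟨(y : G), Subgroup.mem_zpowers _, rfl⟩)))
  · intro hndvd
    refine ⟨hPN, hP, ?_, fun Q hQN hQ hne => ?_⟩
    · rw [hEb.brTrunc_eq_self hP hPN inf_le_right]
      exact hEb.ne_zero
    obtain ⟨f', hf'mem, hfixQ, hne'⟩ := CfsgLib.Blocks.exists_fixed_member hQ hQN hne
    obtain ⟨n, hn, hnf⟩ := CfsgLib.Blocks.mem_conjOrbit.mp hf'mem
    subst hnf
    set Q₁ := Q.map (MulAut.conj n⁻¹).toMonoidHom with hQ₁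
    have hQ₁N : Q₁ ≤ N := by
      rintro _ ⟨q, hq, rfl⟩
      exact N.mul_mem (N.mul_mem (N.inv_mem hn) (hQN hq)) (N.inv_mem (N.inv_mem hn))
    have hQ₁T : Q₁ ≤ T := by
      intro u hu
      refine (hT' u).mpr ⟨hQ₁N hu, ?_⟩
      obtain ⟨q, hq, rfl⟩ := hu
      have h1 := CfsgLib.Blocks.isFixedBy_iff_conjA.mp hfixQ q hq
      simp only [MulEquiv.coe_toMonoidHom, MulAut.conj_apply, inv_inv]
      rw [← CfsgLib.Blocks.conjA_conjA, ← CfsgLib.Blocks.conjA_conjA, h1,
        CfsgLib.Blocks.conjA_conjA, inv_mul_cancel, CfsgLib.Blocks.conjA_one_left]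
    have hQ₁H : Q₁ ≤ H := by
      intro u hu
      obtain ⟨i, hi⟩ := (hQ.map (MulAut.conj n⁻¹).toMonoidHom) ⟨u, hu⟩
      have hu' : u ^ p ^ i = 1 := congrArg Subtype.val hi
      set uT : T := ⟨u, hQ₁T hu⟩ with huT
      have h1 : orderOf (QuotientGroup.mk uT : T ⧸ H.subgroupOf T) ∣ p ^ i := by
        refine orderOf_dvd_of_pow_eq_one ?_
        rw [← QuotientGroup.mk_pow, show uT ^ p ^ i = 1 from Subtype.ext (by simpa using hu'),
          QuotientGroup.mk_one]
      have h2 : orderOf (QuotientGroup.mk uT : T ⧸ H.subgroupOf T) ∣ H.relIndex T :=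
        orderOf_dvd_natCard _
      have h3 := Nat.Coprime.eq_one_of_dvd
        ((((Fact.out : p.Prime).coprime_iff_not_dvd.mpr hndvd).pow_left i).coprime_dvd_left h1) h2
      exact (QuotientGroup.eq_one_iff uT).mp (orderOf_eq_one_iff.mp h3)
    have hne₁ : CfsgLib.Blocks.brTrunc Q₁ f ≠ 0 := by
      intro h0
      apply hne'
      have h := CfsgLib.Blocks.conjA_brTrunc n Q₁ f
      rw [hQ₁, CfsgLib.Blocks.map_conj_map_conj, mul_inv_cancel, CfsgLib.Blocks.map_conj_one,
        ← hQ₁, h0, map_zero] at h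
      exact h.symm
    obtain ⟨c, hc, hle⟩ := hfP.2.2.2 Q₁ hQ₁H (hQ.map _) hne₁
    refine ⟨c * n⁻¹, N.mul_mem (hHN' hc) (N.inv_mem hn), ?_⟩
    rwa [hQ₁, CfsgLib.Blocks.map_conj_map_conj] at hle

end Cfsg.Agent.S4437
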