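import Cfsg.Statements.S4633
import Cfsg.Agent.S4437
import Cfsg.Agent.Blocks.Defect.Induced
import Cfsg.Agent.Blocks.Defect.LocalStructure
import Cfsg.Agent.Eq.Def_Blocks
import Cfsg.Agent.Eq.Def_BlockLocal
import Mathlib.NumberTheory.Basic
import Mathlib.GroupTheory.SpecificGroups.Cyclic

set_option autoImplicit false
open Cfsg

namespace Cfsg.Agent.S4633

/-- Let B be a block of the finite group G relative to a maximal ideal M of the algebraic integers containing the prime p, with a nontrivial cyclic defect group P. Let c be a block of C_G(P) inducing B and T the stabilizer of c in N_G(P) (the elements of N_G(P) conjugating c to itself); T contains C_G(P). Then T/C_G(P) is cyclic of order dividing p − 1, and it acts freely on the non-identity elements of P: an element of T fixing some non-identity element of P under conjugation lies in C_G(P). -/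
theorem result {G : Type*} [Group G] [Finite G] (p : ℕ) [Fact p.Prime] (M : Ideal Cfsg.AlgInt) (hM : Cfsg.IsPModular p M) (B : Set (Cfsg.IrrCharacter G)) (hB : Cfsg.IsPBlock M B) (P : Subgroup G) (hPD : Cfsg.IsDefectGroup p M B P) (hP1 : P ≠ ⊥) (hcyc : IsCyclic P) (c : Set (Cfsg.IrrCharacter (Subgroup.centralizer (P : Set G)))) (hc : Cfsg.IsInducedBlock M (Subgroup.centralizer (P : Set G)) c B) (T : Subgroup G) (hT : ∀ g : G, g ∈ T ↔ (g ∈ Subgroup.normalizer (P : Set G) ∧ Cfsg.StabilizesBlock (Subgroup.centralizer (P : Set G)) c g)) [hn : ((Subgroup.centralizer (P : Set G)).subgroupOf T).Normal] : IsCyclic (T ⧸ (Subgroup.centralizer (P : Set G)).subgroupOf T) ∧ (Subgroup.centralizer (P : Set G)).relIndex T ∣ p - 1 ∧ ∀ g ∈ T, ∀ x ∈ P, x ≠ 1 → g * x * g⁻¹ = x → g ∈ Subgroup.centralizer (P : Set G) := by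
  haveI := hM.2.1
  haveI := CfsgLib.Blocks.charP_kres hM
  classical
  haveI := Fintype.ofFinite G
  haveI : Fintype (Subgroup.centralizer (P : Set G)) := Fintype.ofFinite _
  have hp : p.Prime := Fact.out
  have hPp : IsPGroup p P := by
    obtain ⟨_, _, S, rfl⟩ := hPD
    exact S.2.map _
  haveI := hcyc
  have hPC : P ≤ (Subgroup.centralizer (P : Set G)) := by
    intro x hx
    rw [Subgroup.mem_centralizer_iff]
    intro y hy
    letI := IsCyclic.commGroup (α := P)
    exact congrArg Subtype.val (mul_comm (⟨y, hy⟩ : P) ⟨x, hx⟩)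
  have hCN : (Subgroup.centralizer (P : Set G)) ≤ Subgroup.normalizer (P : Set G) := Subgroup.centralizer_le_normalizer _
  have hNC : ∀ g ∈ Subgroup.normalizer (P : Set G), (Subgroup.centralizer (P : Set G)).map (MulAut.conj g).toMonoidHom = (Subgroup.centralizer (P : Set G)) := fun g hg => by
    rw [CfsgLib.Blocks.map_conj_centralizer, CfsgLib.Blocks.map_conj_eq_self_of_mem_normalizer hg]
  have hNCn : ∀ g ∈ Subgroup.normalizer (P : Set G), g ∈ Subgroup.normalizer ((Subgroup.centralizer (P : Set G)) : Set G) := fun g hg =>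
    Subgroup.mem_normalizer_iff.mpr fun y => by
      conv_rhs => rw [← hNC g hg]
      exact (Subgroup.mem_map_iff_mem (f := (MulAut.conj g).toMonoidHom) (MulAut.conj g).injective).symm
  have hcD : Cfsg.IsDefectGroup p M c (P.subgroupOf (Subgroup.centralizer (P : Set G))) := by
    have he := CfsgLib.Blocks.isBlockIdem_topEl hB (M := M)
    have heD := (CfsgLib.Blocks.isDefectGroup_topEl_iff hB P).mp hPD
    have hfb := CfsgLib.Blocks.isBlockIdem_subEl hc.1 (M := M)
    have ho := (CfsgLib.Blocks.isInducedBlock_iff_brOver hM hPp hPC le_rfl hCN hc.1 hB).mp hc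
    rw [CfsgLib.Blocks.isDefectGroup_subEl_iff hc.1, Subgroup.map_subgroupOf_eq_of_le hPC]
    obtain ⟨E, hE⟩ := hfb.exists_defectGroup p
    have hPE : P ≤ E := hfb.normal_le_defectGroup hPp hPC hCN hE
    have S : CfsgLib.Blocks.BrSetting p ⊤ P (Subgroup.centralizer (P : Set G)) :=
      ⟨hPp, le_top, inf_le_right, le_top, hCN⟩
    have hne : CfsgLib.Blocks.brTrunc E (CfsgLib.Blocks.topEl M B) ≠ 0 := by
      intro h0
      apply hE.2.2.1
      have hfix : CfsgLib.Blocks.IsFixedBy (CfsgLib.Blocks.brTrunc P (CfsgLib.Blocks.topEl M B)) E :=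
        (S.trunc_mem he.1).2.mono hE.1
      rw [← ho, CfsgLib.Blocks.brTrunc_mul hE.2.1 hfix (hfb.1.2.mono hE.1),
        CfsgLib.Blocks.brTrunc_brTrunc hPE, h0, zero_mul]
    obtain ⟨x, -, hx⟩ := heD.2.2.2 E le_top hE.2.1 hne
    have hcard := Subgroup.card_le_of_le hx
    rw [CfsgLib.Blocks.card_map_conj] at hcard
    rwa [← Subgroup.eq_of_le_of_card_ge hPE hcard] at hE
  have hT' : ∀ g : G, g ∈ T ↔ (g ∈ Subgroup.normalizer (P : Set G) ∧ ∀ θ ∈ c, ∀ θ' : Cfsg.IrrCharacter (Subgroup.centralizer (P : Set G)), (∀ h h' : (Subgroup.centralizer (P : Set G)), (h' : G) = g * h * g⁻¹ → (θ' : (Subgroup.centralizer (P : Set G)) → ℂ) h' = (θ : (Subgroup.centralizer (P : Set G)) → ℂ) h) → θ' ∈ c) := by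
    intro g
    rw [hT]
    refine and_congr_right fun hg => ?_
    constructor
    · rintro ⟨-, hst⟩ θ hθ θ' hconj
      obtain ⟨θ'', h1, h2⟩ := hst θ hθ
      have : θ' = θ'' := Subtype.ext (funext fun k' => by
        obtain ⟨k, hk⟩ := (CfsgLib.Blocks.conjIso (Subgroup.centralizer (P : Set G)) (Subgroup.centralizer (P : Set G)) g (hNC g hg)).surjective k'
        have hk' : (k' : G) = g * (k : G) * g⁻¹ := by rw [← hk, CfsgLib.Blocks.coe_conjIso]
        rw [hconj k k' hk', h2 k k' hk'])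
      rwa [this]
    · intro hst
      refine ⟨hNCn g hg, fun θ hθ => ?_⟩
      have hθ' : ∀ h h' : (Subgroup.centralizer (P : Set G)), (h' : G) = g * h * g⁻¹ →
          (CfsgLib.Chars.irrEquiv (CfsgLib.Blocks.conjIso (Subgroup.centralizer (P : Set G)) (Subgroup.centralizer (P : Set G)) g (hNC g hg)) θ : (Subgroup.centralizer (P : Set G)) → ℂ) h' = (θ : (Subgroup.centralizer (P : Set G)) → ℂ) h := by
        intro h h' hh
        have : h' = CfsgLib.Blocks.conjIso (Subgroup.centralizer (P : Set G)) (Subgroup.centralizer (P : Set G)) g (hNC g hg) h :=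
          Subtype.ext (hh.trans (CfsgLib.Blocks.coe_conjIso ..).symm)
        rw [this, CfsgLib.Chars.irrEquiv_apply, MulEquiv.symm_apply_apply]
      exact ⟨_, hst θ hθ _ hθ', hθ'⟩
  have hndvd : ¬ p ∣ (Subgroup.centralizer (P : Set G)).relIndex T :=
    (Cfsg.Agent.S4437.result p M hM P hPp (Subgroup.centralizer (P : Set G)) (sup_eq_right.mpr hPC).symm c hc.1 hcD B hc T hT').mp hPD
  -- a generator and the element of order `p`
  obtain ⟨⟨u, huP⟩, hu⟩ := IsCyclic.exists_generator (α := P)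
  have hgen : ∀ a ∈ P, ∃ i : ℤ, u ^ i = a := fun a ha => by
    obtain ⟨i, hi⟩ := hu ⟨a, ha⟩
    exact ⟨i, congrArg Subtype.val hi⟩
  obtain ⟨j, hj⟩ := IsPGroup.iff_orderOf.1 hPp ⟨u, huP⟩
  rw [Subgroup.orderOf_mk] at hj
  obtain ⟨m, rfl⟩ : ∃ m, j = m + 1 := by
    refine Nat.exists_eq_succ_of_ne_zero fun h => hP1 ?_
    rw [h, pow_zero, orderOf_eq_one_iff] at hj
    refine (Subgroup.eq_bot_iff_forall _).mpr fun a ha => ?_
    obtain ⟨i, rfl⟩ := hgen a ha
    rw [hj, one_zpow]
  set z : G := u ^ p ^ m with hz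
  have hzP : z ∈ P := Subgroup.pow_mem _ huP _
  have hzo : orderOf z = p := by
    rw [hz, orderOf_pow' u (pow_ne_zero _ hp.ne_zero), hj,
      Nat.gcd_eq_right (pow_dvd_pow p (Nat.le_succ m)), pow_succ,
      Nat.mul_div_cancel_left _ (pow_pos hp.pos _)]
  have hzuniq : ∀ a ∈ P, a ^ p = 1 → a ∈ Subgroup.zpowers z := by
    intro a ha hap
    obtain ⟨i, rfl⟩ := hgen a ha
    rw [← zpow_natCast, ← zpow_mul, ← orderOf_dvd_iff_zpow_eq_one, hj, pow_succ] at hap
    push_cast at hap
    obtain ⟨r, hr⟩ := (Int.mul_dvd_mul_iff_right (by exact_mod_cast hp.ne_zero)).1 hap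
    exact ⟨r, by show z ^ r = u ^ i; rw [hz, hr, ← zpow_natCast u, ← zpow_mul]; push_cast; rfl⟩
  have hTN : ∀ t ∈ T, t ∈ Subgroup.normalizer (P : Set G) := fun t ht => ((hT t).1 ht).1
  have hCT : (Subgroup.centralizer (P : Set G)) ≤ T := fun x hx => by
    rw [hT']
    refine ⟨hCN hx, ?_⟩
    rw [Cfsg.Agent.S4437.stab_iff hc.1 (Subgroup.le_normalizer hx)]
    exact CfsgLib.Blocks.isFixedBy_iff_conjA.mp (CfsgLib.Blocks.isBlockIdem_subEl hc.1).1.2 x hx
  haveI : Fintype (T ⧸ (Subgroup.centralizer (P : Set G)).subgroupOf T) := Fintype.ofFinite _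
  -- fixing `z` means centralizing `P`
  have hfix : ∀ t ∈ T, t * z * t⁻¹ = z → t ∈ (Subgroup.centralizer (P : Set G)) := by
    intro t ht htz
    obtain ⟨k, hk⟩ := hgen _ ((Subgroup.mem_normalizer_iff.1 (hTN t ht) u).1 huP)
    have hpow : ∀ n : ℕ, t ^ n * u * (t ^ n)⁻¹ = u ^ (k ^ n) := by
      intro n
      induction n with
      | zero => simp
      | succ n ih =>
        calc t ^ (n + 1) * u * (t ^ (n + 1))⁻¹ = t * (t ^ n * u * (t ^ n)⁻¹) * t⁻¹ := by
              rw [pow_succ']; group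
          _ = (MulAut.conj t) (u ^ (k ^ n)) := by rw [ih]; rfl
          _ = (t * u * t⁻¹) ^ (k ^ n) := map_zpow _ _ _
          _ = u ^ (k ^ (n + 1)) := by rw [← hk, ← zpow_mul, pow_succ']
    have hk1 : (p : ℤ) ∣ k - 1 := by
      have h1 : t * z * t⁻¹ = (t * u * t⁻¹) ^ p ^ m := (map_pow (MulAut.conj t) u _)
      rw [htz, ← hk, hz, ← zpow_natCast, ← zpow_natCast, ← zpow_mul, zpow_eq_zpow_iff_modEq,
        Int.modEq_iff_dvd, hj, pow_succ'] at h1
      have h2 : (p : ℤ) * ((p ^ m : ℕ) : ℤ) ∣ (k - 1) * ((p ^ m : ℕ) : ℤ) := by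
        convert h1 using 1 <;> push_cast <;> ring
      exact (Int.mul_dvd_mul_iff_right (by exact_mod_cast (pow_pos hp.pos m).ne')).1 h2
    have hk2 := dvd_sub_pow_of_dvd_sub (R := ℤ) (p := p) (a := k) (b := 1) hk1 m
    rw [one_pow] at hk2
    have htm : t ^ p ^ m ∈ (Subgroup.centralizer (P : Set G)) := by
      rw [Subgroup.mem_centralizer_iff]
      intro a ha
      have h1 : t ^ p ^ m * u * (t ^ p ^ m)⁻¹ = u := by
        rw [hpow]
        conv_rhs => rw [← zpow_one u]
        rw [zpow_eq_zpow_iff_modEq, hj, Int.modEq_iff_dvd, ← dvd_neg, neg_sub]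
        exact_mod_cast hk2
      obtain ⟨i, rfl⟩ := hgen a ha
      have h3 : Commute (t ^ p ^ m) u := by
        show t ^ p ^ m * u = u * t ^ p ^ m
        conv_rhs => rw [← h1]
        group
      exact (h3.zpow_right i).eq.symm
    have h1 : orderOf (QuotientGroup.mk (⟨t, ht⟩ : T) : T ⧸ (Subgroup.centralizer (P : Set G)).subgroupOf T) ∣ p ^ m := by
      refine orderOf_dvd_of_pow_eq_one ?_
      rw [← QuotientGroup.mk_pow, QuotientGroup.eq_one_iff]
      exact htm
    have h2 : orderOf (QuotientGroup.mk (⟨t, ht⟩ : T) : T ⧸ (Subgroup.centralizer (P : Set G)).subgroupOf T) ∣ (Subgroup.centralizer (P : Set G)).relIndex T :=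
      orderOf_dvd_natCard _
    have h3 := Nat.Coprime.eq_one_of_dvd
      (((hp.coprime_iff_not_dvd.mpr hndvd).pow_left m).coprime_dvd_left h1) h2
    exact (QuotientGroup.eq_one_iff (⟨t, ht⟩ : T)).mp (orderOf_eq_one_iff.mp h3)
  -- the action on the subgroup of order `p`
  set Z := Subgroup.zpowers z with hZ
  have hTZ : T ≤ Subgroup.normalizer (Z : Set G) := by
    intro t ht
    rw [Subgroup.mem_normalizer_iff]
    intro a
    constructor
    · rintro ⟨i, rfl⟩
      refine hzuniq _ ((Subgroup.mem_normalizer_iff.1 (hTN t ht) _).1 (Subgroup.zpow_mem _ hzP i)) ?_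
      rw [conj_pow, ← zpow_natCast, ← zpow_mul, mul_comm, zpow_mul, zpow_natCast,
        show z ^ p = 1 by rw [← hzo]; exact pow_orderOf_eq_one z, one_zpow, mul_one, mul_inv_cancel]
    · rintro ⟨i, hi⟩
      have hi' : a = t⁻¹ * z ^ i * t⁻¹⁻¹ := by
        calc a = t⁻¹ * (t * a * t⁻¹) * t⁻¹⁻¹ := by group
          _ = _ := by rw [show t * a * t⁻¹ = z ^ i from hi.symm]
      rw [hi']
      refine hzuniq _ ((Subgroup.mem_normalizer_iff.1 (Subgroup.inv_mem _ (hTN t ht)) _).1
        (Subgroup.zpow_mem _ hzP i)) ?_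
      rw [conj_pow, ← zpow_natCast, ← zpow_mul, mul_comm, zpow_mul, zpow_natCast,
        show z ^ p = 1 by rw [← hzo]; exact pow_orderOf_eq_one z, one_zpow, mul_one, mul_inv_cancel]
  let φ : T →* MulAut Z := (Subgroup.normalizerMonoidHom Z).comp (Subgroup.inclusion hTZ)
  have hker : φ.ker = (Subgroup.centralizer (P : Set G)).subgroupOf T := by
    ext t
    rw [MonoidHom.mem_ker, Subgroup.mem_subgroupOf]
    constructor
    · intro h
      refine hfix t t.2 ?_
      have h1 := congrArg Subtype.val (DFunLike.congr_fun h (⟨z, Subgroup.mem_zpowers z⟩ : Z))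
      exact h1
    · intro h
      refine MulEquiv.ext fun a => Subtype.ext ?_
      have ha : (a : G) ∈ P := by
        obtain ⟨i, hi⟩ := a.2
        rw [← hi]; exact Subgroup.zpow_mem _ hzP i
      show (t : G) * a * (t : G)⁻¹ = a
      rw [← Subgroup.mem_centralizer_iff.1 h a ha, mul_inv_cancel_right]
  haveI : IsCyclic Z := inferInstance
  have hZcard : Nat.card Z = p := by rw [hZ, Nat.card_zpowers, hzo]
  haveI : IsCyclic (ZMod (Nat.card Z))ˣ := by rw [hZcard]; infer_instance
  let ι : T ⧸ (Subgroup.centralizer (P : Set G)).subgroupOf T →* (ZMod (Nat.card Z))ˣ :=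
    ((IsCyclic.mulAutMulEquiv (G := Z)).toMonoidHom).comp
      ((QuotientGroup.kerLift φ).comp (QuotientGroup.quotientMulEquivOfEq hker.symm).toMonoidHom)
  have hι : Function.Injective ι :=
    (IsCyclic.mulAutMulEquiv (G := Z)).injective.comp
      ((QuotientGroup.kerLift_injective φ).comp (QuotientGroup.quotientMulEquivOfEq hker.symm).injective)
  refine ⟨isCyclic_of_injective ι hι, ?_, fun g hg x hx hx1 hgx => ?_⟩
  · have h := Subgroup.card_dvd_of_injective ι hι
    have hu : Nat.card (ZMod (Nat.card Z))ˣ = p - 1 := by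
      rw [hZcard, Nat.card_eq_fintype_card, ZMod.card_units]
    rw [hu] at h
    exact h
  · refine hfix g hg ?_
    have hcomm : Commute g x := by
      show g * x = x * g
      conv_rhs => rw [← hgx]
      group
    suffices hzx : z ∈ Subgroup.zpowers x by
      obtain ⟨i, hi⟩ := hzx
      rw [← hi, (hcomm.zpow_right i).eq, mul_inv_cancel_right]
    obtain ⟨s, hs⟩ := IsPGroup.iff_orderOf.1 hPp ⟨x, hx⟩
    rw [Subgroup.orderOf_mk] at hs
    obtain ⟨s', rfl⟩ := Nat.exists_eq_succ_of_ne_zero (show s ≠ 0 from fun h => hx1 (by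
      rw [h, pow_zero] at hs; exact orderOf_eq_one_iff.1 hs))
    set a := x ^ p ^ s' with ha
    have hap : orderOf a = p := by
      rw [ha, orderOf_pow' x (pow_ne_zero _ hp.ne_zero), hs,
        Nat.gcd_eq_right (pow_dvd_pow p (Nat.le_succ s')), Nat.succ_eq_add_one, pow_succ,
        Nat.mul_div_cancel_left _ (pow_pos hp.pos _)]
    have haZ : a ∈ Subgroup.zpowers z :=
      hzuniq a (Subgroup.pow_mem _ hx _) (by rw [← hap]; exact pow_orderOf_eq_one a)
    have heq : Subgroup.zpowers a = Subgroup.zpowers z :=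
      Subgroup.eq_of_le_of_card_ge (Subgroup.zpowers_le.2 haZ) (by
        rw [Nat.card_zpowers, Nat.card_zpowers, hap, hzo])
    have : Subgroup.zpowers z ≤ Subgroup.zpowers x :=
      heq ▸ Subgroup.zpowers_le.2 (Subgroup.pow_mem _ (Subgroup.mem_zpowers x) _)
    exact this (Subgroup.mem_zpowers z)

end Cfsg.Agent.S4633
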