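import Cfsg.Statements.S0968
import Cfsg.Agent.Blocks.Defect.SectionSum
import Cfsg.Agent.Blocks.Defect.Induced
import Cfsg.Agent.Blocks.HeightZero.RegularPair
import Cfsg.Agent.Blocks.Covering.Basic
import Cfsg.Agent.Chars.Basic.Linear
import Cfsg.Agent.Eq.Def_Blocks
import Cfsg.Agent.Eq.Def_BlockRank

set_option autoImplicit false
open Cfsg

namespace Cfsg.Agent.S0968

theorem int_of_local {p : ℕ} {M : Ideal Cfsg.AlgInt} [M.IsMaximal] (hM : Cfsg.IsPModular p M) :
    ∀ (i : ℕ) (z : ℤ), Cfsg.MemLocalRing M ((z : ℂ) / (p : ℂ) ^ i) →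
      ∃ w : ℤ, (z : ℂ) / (p : ℂ) ^ i = w := by
  have hp0 : (p : ℂ) ≠ 0 := Nat.cast_ne_zero.mpr hM.1.ne_zero
  intro i
  induction i with
  | zero => exact fun z _ => ⟨z, by simp⟩
  | succ i ih =>
    intro z hz
    have hpI : Cfsg.MemLocalIdeal M (p : ℂ) := CfsgLib.Blocks.memLocalIdeal_natCast_self hM
    have heq : (z : ℂ) / (p : ℂ) ^ i = (p : ℂ) * ((z : ℂ) / (p : ℂ) ^ (i + 1)) := by
      rw [pow_succ]; field_simp
    have h1 : Cfsg.MemLocalIdeal M ((z : ℂ) / (p : ℂ) ^ i) := by
      rw [heq]; exact CfsgLib.Blocks.memLocalIdeal_mul_right hpI hz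
    obtain ⟨w, hw⟩ := ih z (by
      rw [heq]; exact (CfsgLib.Blocks.localRing M).mul_mem (natCast_mem _ p) hz)
    rw [hw] at h1
    have hwp : p ∣ w.natAbs := by
      rw [← CfsgLib.Blocks.memLocalIdeal_natCast_iff hM]
      rcases Int.natAbs_eq w with h | h
      · rw [h, Int.cast_natCast] at h1; exact h1
      · rw [h, Int.cast_neg, Int.cast_natCast] at h1
        simpa using CfsgLib.Blocks.memLocalIdeal_neg h1
    obtain ⟨v, hv⟩ := Int.natCast_dvd.mpr hwp
    refine ⟨v, ?_⟩
    rw [heq, hv, Int.cast_mul, Int.cast_natCast] at hw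
    exact mul_left_cancel₀ hp0 hw


/-- Let P be a p-subgroup of the finite group G with P ⊔ C_G(P) = G, and let B be a block with defect group P relative to a maximal ideal M of the algebraic integers containing p. Then there is exactly one θ ∈ B with θ x = θ 1 for all x ∈ P; for this θ the exponent of p in θ(1) equals the exponent of p in the index of P; and the number of members of B equals the number of conjugacy classes of P. -/
theorem result {G : Type*} [Group G] [Finite G] (p : ℕ) [Fact p.Prime] (M : Ideal Cfsg.AlgInt) (hM : Cfsg.IsPModular p M) (P : Subgroup G) (hP : IsPGroup p P) (hG : P ⊔ Subgroup.centralizer (P : Set G) = ⊤) (B : Set (Cfsg.IrrCharacter G)) (hB : Cfsg.IsPBlock M B) (hD : Cfsg.IsDefectGroup p M B P) : (∃! θ : Cfsg.IrrCharacter G, θ ∈ B ∧ ∀ x ∈ P, (θ : G → ℂ) x = (θ : G → ℂ) 1) ∧ (∀ θ ∈ B, (∀ x ∈ P, (θ : G → ℂ) x = (θ : G → ℂ) 1) → (Cfsg.charDegree (θ : G → ℂ)).factorization p = P.index.factorization p) ∧ Nat.card B = Nat.card (ConjClasses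 P) := by
  haveI := hM.2.1
  haveI := CfsgLib.Blocks.charP_kres hM
  classical
  haveI := Fintype.ofFinite G
  haveI : Fintype P := Fintype.ofFinite P
  have hp : p.Prime := Fact.out
  haveI hPn : P.Normal := Subgroup.normalizer_eq_top_iff.mp (eq_top_iff.mpr
    (hG ▸ sup_le Subgroup.le_normalizer (Subgroup.centralizer_le_normalizer _)))
  obtain ⟨d, hd⟩ := IsPGroup.iff_card.mp hP
  have hC : ∀ g : G, ∃ a ∈ P, ∃ c ∈ Subgroup.centralizer (P : Set G), a * c = g := fun g =>
    Subgroup.mem_sup_of_normal_left.mp (hG ▸ Subgroup.mem_top g)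
  have hCn : (Subgroup.centralizer (P : Set G)).Normal := Subgroup.normal_centralizer
  have hc : ∀ u ∈ P, ∀ y : G, Cfsg.IsPRegular p y → Commute u y := by
    intro u hu y hy
    obtain ⟨a, ha, c, hcc, hac⟩ := hC y
    haveI := hCn
    obtain ⟨i, hi⟩ := IsPGroup.iff_orderOf.1 hP ⟨a, ha⟩
    rw [Subgroup.orderOf_mk] at hi
    have h1 : orderOf (QuotientGroup.mk y : G ⧸ Subgroup.centralizer (P : Set G)) ∣ p ^ i := by
      rw [← hac, QuotientGroup.mk_mul, (QuotientGroup.eq_one_iff c).mpr hcc, mul_one, ← hi]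
      exact orderOf_map_dvd (QuotientGroup.mk' _) a
    have h2 : orderOf (QuotientGroup.mk y : G ⧸ Subgroup.centralizer (P : Set G)) ∣ orderOf y :=
      orderOf_map_dvd (QuotientGroup.mk' _) y
    exact Subgroup.mem_centralizer_iff.mp ((QuotientGroup.eq_one_iff y).mp (orderOf_eq_one_iff.mp
      (Nat.Coprime.eq_one_of_dvd
        (((hp.coprime_iff_not_dvd.mpr hy).pow_left i).coprime_dvd_left h1) h2))) u hu
  have hpart : ∀ u ∈ P, ∀ y : G, Cfsg.IsPRegular p y → Cfsg.IsPPart p (u * y) u := by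
    intro u hu y hy
    obtain ⟨i, hi⟩ := IsPGroup.iff_orderOf.1 hP ⟨u, hu⟩
    rw [Subgroup.orderOf_mk] at hi
    exact ⟨y, rfl, hc u hu y hy, ⟨i, hi⟩, hy⟩
  -- the defect class
  have he := CfsgLib.Blocks.isBlockIdem_topEl hB (M := M)
  obtain ⟨g, hg, hgP⟩ :=
    he.exists_class_of_defectGroup ((CfsgLib.Blocks.isDefectGroup_topEl_iff hB P).mp hD)
  rw [top_inf_eq] at hgP
  have hgB : Cfsg.IsDefectClass M B g :=
    (CfsgLib.Blocks.isDefectClass_iff (f := MonoidHom.id G) Function.injective_id hB g).mpr (by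
      rw [CfsgLib.Blocks.range_monoidHom_id]; exact hg)
  have hgreg : Cfsg.IsPRegular p g := CfsgLib.Blocks.not_dvd_orderOf_of_isDefectClass hM hB hgB
  have hmin : CfsgLib.Blocks.HeightZero.minExp p B = P.index.factorization p := by
    rw [CfsgLib.Blocks.HeightZero.minExp_eq_of_defectClass hM hB hgB]
    obtain ⟨S, hS⟩ := CfsgLib.Blocks.exists_sylow_map_eq hgP
    have h := Subgroup.index_map_subtype (S : Subgroup (Subgroup.centralizer ({g} : Set G)))
    rw [hS] at h
    rw [h, Nat.factorization_mul Subgroup.index_ne_zero_of_finite Subgroup.index_ne_zero_of_finite,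
      Finsupp.add_apply, Nat.factorization_eq_zero_of_not_dvd S.not_dvd_index, zero_add]
  -- a member with `P` in its kernel
  obtain ⟨θ, hθ, hθker⟩ : ∃ θ ∈ B, P ≤ CfsgLib.Chars.charKer (θ : G → ℂ) := by
    by_contra hcon
    simp only [not_exists, not_and] at hcon
    apply hgB.2.1
    have hsum : ∑ u : P, Cfsg.blockCoeff B (g * u) = 0 := by
      simp only [Cfsg.blockCoeff, finsum_mem_eq_finite_toFinset_sum _ B.toFinite, ← Finset.mul_sum]
      rw [Finset.sum_comm, Finset.sum_eq_zero, mul_zero]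
      intro χ hχ
      rw [← Finset.mul_sum, ← map_sum,
        CfsgLib.Chars.sum_coset_eq_zero P χ (hcon χ ((Set.Finite.mem_toFinset _).mp hχ)), map_zero,
        mul_zero]
    rw [Finset.sum_eq_single (1 : P)] at hsum
    · rw [Subgroup.coe_one, mul_one] at hsum
      rw [hsum]
      exact CfsgLib.Blocks.memLocalIdeal_zero
    · intro u _ hu
      refine CfsgLib.Blocks.blockCoeff_eq_zero_of_singular hM hB ?_
      obtain ⟨i, hi⟩ := IsPGroup.iff_orderOf.1 hP u
      rw [← Subgroup.orderOf_coe] at hi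
      have hi0 : i ≠ 0 := by
        rintro rfl
        rw [pow_zero, orderOf_eq_one_iff] at hi
        exact hu (Subtype.ext hi)
      rw [((hc u u.2 g hgreg).symm).orderOf_mul_eq_mul_orderOf_of_coprime
        (hi ▸ ((hp.coprime_iff_not_dvd.2 hgreg).symm.pow_right i)), hi]
      exact dvd_mul_of_dvd_right (dvd_pow_self p hi0) _
    · exact fun h => absurd (Finset.mem_univ _) h
  have hθu : ∀ u ∈ P, ∀ h : G, (θ : G → ℂ) (u * h) = (θ : G → ℂ) h := fun u hu h =>
    CfsgLib.Chars.mem_charKer.mp (hθker hu) h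
  set n := Cfsg.charDegree (θ : G → ℂ) with hn
  have hn0 : n ≠ 0 := (CfsgLib.Chars.charDegree_pos θ).ne'
  obtain ⟨θb, hθb⟩ := CfsgLib.Chars.exists_inflate_eq P θ hθker
  have hnb : Cfsg.charDegree (θb : G ⧸ P → ℂ) = n := by
    rw [hn, ← hθb, CfsgLib.Chars.charDegree_inflate]
  have hθdeg : n.factorization p = P.index.factorization p := by
    refine le_antisymm ?_ (hmin ▸ CfsgLib.Blocks.HeightZero.minExp_le hθ)
    refine (Nat.factorization_le_iff_dvd hn0 Subgroup.index_ne_zero_of_finite).2 ?_ p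
    rw [← hnb, Subgroup.index_eq_card]
    exact CfsgLib.Chars.charDegree_dvd_card θb
  -- it vanishes off the sections of `P`
  have hvan : ∀ y : G, (¬ ∃ u ∈ P, Cfsg.IsPPart p y u) → (θ : G → ℂ) y = 0 := by
    intro y hy
    obtain ⟨u, hu⟩ := CfsgLib.Blocks.exists_isPPart (p := p) hp y
    have huP : u ∉ P := fun h => hy ⟨u, h, hu⟩
    obtain ⟨w, hw, hcw, ⟨i, hi⟩, hwp⟩ := hu
    haveI : Fintype (G ⧸ P) := Fintype.ofFinite _
    rw [← hθb, CfsgLib.Chars.inflate_apply]
    refine CfsgLib.Chars.Brauer.eq_zero_of_defect_zero hp θb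
      (a := P.index.factorization p) (m := P.index / p ^ P.index.factorization p) ?_
      (Nat.not_dvd_ordCompl hp Subgroup.index_ne_zero_of_finite) ?_ ?_
    · rw [← Subgroup.index_eq_card, Nat.ordProj_mul_ordCompl_eq_self]
    · rw [hnb, ← hθdeg]; exact Nat.ordProj_dvd n p
    · have hu1 : orderOf (QuotientGroup.mk u : G ⧸ P) ∣ p ^ i := hi ▸ orderOf_map_dvd (QuotientGroup.mk' P) u
      have hune : orderOf (QuotientGroup.mk u : G ⧸ P) ≠ 1 := fun h =>
        huP ((QuotientGroup.eq_one_iff u).mp (orderOf_eq_one_iff.mp h))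
      obtain ⟨j, -, hj⟩ := (Nat.dvd_prime_pow hp).mp hu1
      have hw1 : orderOf (QuotientGroup.mk w : G ⧸ P) ∣ orderOf w :=
        orderOf_map_dvd (QuotientGroup.mk' P) w
      have hcw' : Commute (QuotientGroup.mk u : G ⧸ P) (QuotientGroup.mk w) :=
        hcw.map (QuotientGroup.mk' P)
      rw [← hw, QuotientGroup.mk_mul, hcw'.orderOf_mul_eq_mul_orderOf_of_coprime
          ((((hp.coprime_iff_not_dvd.2 hwp).pow_left j).coprime_dvd_right hw1) |> fun h => by rwa [hj]),
        hj]
      refine dvd_mul_of_dvd_left (dvd_pow_self p ?_) _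
      rintro rfl
      rw [pow_zero] at hj
      exact hune hj
  set REG := Finset.univ.filter (fun y : G => Cfsg.IsPRegular p y) with hREG
  have hmemR : ∀ {y : G}, y ∈ REG ↔ Cfsg.IsPRegular p y := fun {y} => by simp [hREG]
  have hG0 : (Nat.card G : ℂ) ≠ 0 := Nat.cast_ne_zero.mpr Nat.card_pos.ne'
  have hP0 : (Nat.card P : ℂ) ≠ 0 := Nat.cast_ne_zero.mpr Nat.card_pos.ne'
  have hself : ∀ {K : Type _} [Group K] [Fintype K] (η : Cfsg.IrrCharacter K),
      ∑ u : K, (η : K → ℂ) u * (starRingEnd ℂ) ((η : K → ℂ) u) = Nat.card K := by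
    intro K _ _ η
    have h := CfsgLib.Chars.classInner_self η
    simp only [Cfsg.classInner] at h
    rwa [inv_mul_eq_iff_eq_mul₀ (Nat.cast_ne_zero.mpr Nat.card_pos.ne'), mul_one] at h
  have hTsum : ∑ y ∈ REG, (θ : G → ℂ) y * (starRingEnd ℂ) ((θ : G → ℂ) y) =
      (Nat.card G : ℂ) / Nat.card P := by
    have h1 := hself θ
    rw [Finset.sum_congr rfl (g := fun y => if ∃ u ∈ P, Cfsg.IsPPart p y u then
      (θ : G → ℂ) y * (starRingEnd ℂ) ((θ : G → ℂ) y) else 0) (fun y _ => by
        by_cases h : ∃ u ∈ P, Cfsg.IsPPart p y u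
        · rw [if_pos h]
        · rw [if_neg h, hvan y h, zero_mul]),
      CfsgLib.Blocks.sum_sections_eq hp hP hc] at h1
    rw [Finset.sum_congr rfl (fun (u : P) _ => Finset.sum_congr rfl fun y _ => by
      rw [hθu u u.2 y]), Finset.sum_const, Finset.card_univ, nsmul_eq_mul,
      ← Nat.card_eq_fintype_card] at h1
    rw [eq_div_iff hP0, mul_comm]
    exact h1
  -- the members attached to the characters of `P`
  let X : Cfsg.IrrCharacter P → G → ℂ := fun μ y =>
    if h : ∃ u ∈ P, Cfsg.IsPPart p y u then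
      (μ : P → ℂ) ⟨Classical.choose h, (Classical.choose_spec h).1⟩ * (θ : G → ℂ) y else 0
  have hXuy : ∀ (μ : Cfsg.IrrCharacter P) (u : P) (y : G), Cfsg.IsPRegular p y →
      X μ ((u : G) * y) = (μ : P → ℂ) u * (θ : G → ℂ) y := by
    intro μ u y hy
    have h : ∃ v ∈ P, Cfsg.IsPPart p ((u : G) * y) v := ⟨u, u.2, hpart u u.2 y hy⟩
    simp only [X, dif_pos h, hθu u u.2 y]
    congr 2
    refine congrArg (μ : P → ℂ) (Subtype.ext ?_)
    exact CfsgLib.Blocks.isPPart_unique hp (Classical.choose_spec h).2 (hpart u u.2 y hy)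
  have hXoff : ∀ μ y, (¬ ∃ u ∈ P, Cfsg.IsPPart p y u) → X μ y = 0 := fun μ y h => by
    simp only [X, dif_neg h]
  have hμinv : ∀ (μ : Cfsg.IrrCharacter P) (t : G) (u : P),
      (μ : P → ℂ) ⟨t * u * t⁻¹, hPn.conj_mem u u.2 t⟩ = (μ : P → ℂ) u := by
    intro μ t u
    obtain ⟨a, ha, c, hcc, rfl⟩ := hC t
    have h1 : (a * c) * (u : G) * (a * c)⁻¹ = a * u * a⁻¹ := by
      have h2 := Subgroup.mem_centralizer_iff.mp hcc u u.2
      calc a * c * (u : G) * (a * c)⁻¹ = a * (c * u) * c⁻¹ * a⁻¹ := by group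
        _ = a * u * a⁻¹ := by rw [← h2]; group
    have h3 : (⟨a * c * u * (a * c)⁻¹, hPn.conj_mem u u.2 _⟩ : P) = ⟨a, ha⟩ * u * ⟨a, ha⟩⁻¹ :=
      Subtype.ext h1
    rw [h3]
    exact CfsgLib.Chars.isClassFunction_coe μ u ⟨a, ha⟩
  have hXclass : ∀ μ, Cfsg.IsClassFunction G (X μ) := by
    intro μ y t
    by_cases h : ∃ u ∈ P, Cfsg.IsPPart p y u
    · obtain ⟨u, hu, huy⟩ := h
      obtain ⟨w, rfl, -, -, hwp⟩ := id huy
      have hwr : Cfsg.IsPRegular p (t * w * t⁻¹) := by
        show ¬ p ∣ orderOf (t * w * t⁻¹)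
        rwa [show orderOf (t * w * t⁻¹) = orderOf w from MulEquiv.orderOf_eq (MulAut.conj t) w]
      rw [show t * (u * w) * t⁻¹ = (t * u * t⁻¹) * (t * w * t⁻¹) by group,
        hXuy μ ⟨t * u * t⁻¹, hPn.conj_mem u hu t⟩ _ hwr, hXuy μ ⟨u, hu⟩ w hwp,
        hμinv μ t ⟨u, hu⟩, CfsgLib.Chars.isClassFunction_coe θ w t]
    · rw [hXoff μ y h, hXoff]
      rintro ⟨u, hu, huy⟩
      refine h ⟨t⁻¹ * u * t⁻¹⁻¹, hPn.conj_mem u hu t⁻¹, ?_⟩
      have := CfsgLib.Blocks.isPPart_conj huy t⁻¹
      simpa [mul_assoc] using this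
  have hXinner : ∀ (μ : Cfsg.IrrCharacter P) (φ : G → ℂ), Cfsg.classInner (X μ) φ =
      (Nat.card G : ℂ)⁻¹ * ∑ u : P, ∑ y ∈ REG,
        (μ : P → ℂ) u * (θ : G → ℂ) y * (starRingEnd ℂ) (φ ((u : G) * y)) := by
    intro μ φ
    simp only [Cfsg.classInner]
    congr 1
    rw [Finset.sum_congr rfl (g := fun y => if ∃ u ∈ P, Cfsg.IsPPart p y u then
      X μ y * (starRingEnd ℂ) (φ y) else 0) (fun y _ => by
        by_cases h : ∃ u ∈ P, Cfsg.IsPPart p y u
        · rw [if_pos h]
        · rw [if_neg h, hXoff μ y h, zero_mul]),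
      CfsgLib.Blocks.sum_sections_eq hp hP hc]
    exact Finset.sum_congr rfl fun u _ => Finset.sum_congr rfl fun y hy => by
      rw [hXuy μ u y (hmemR.mp hy)]
  have hXone : ∀ μ : Cfsg.IrrCharacter P, X μ 1 = (μ : P → ℂ) 1 * (θ : G → ℂ) 1 := fun μ => by
    have := hXuy μ 1 1 (by simp [Cfsg.IsPRegular, hp.ne_one])
    simpa using this
  have hGpm : Nat.card G = p ^ (Nat.card G).factorization p *
      (Nat.card G / p ^ (Nat.card G).factorization p) := (Nat.ordProj_mul_ordCompl_eq_self _ p).symm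
  have hexp : (Nat.card G).factorization p = d + n.factorization p := by
    rw [hθdeg, ← P.card_mul_index, Nat.factorization_mul Nat.card_pos.ne'
      Subgroup.index_ne_zero_of_finite, Finsupp.add_apply, hd, Nat.factorization_pow_self hp]
  have hgen := CfsgLib.Chars.Brauer.regularPart_gen hp θ hGpm
    (Nat.not_dvd_ordCompl hp Nat.card_pos.ne') (Nat.ordProj_dvd n p : p ^ n.factorization p ∣ n)
  rw [show p ^ ((Nat.card G).factorization p - n.factorization p) = Nat.card P by
    rw [hd]; congr 1; omega] at hgen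
  haveI : Fintype (ConjClasses G) := Fintype.ofFinite _
  have hint : ∀ (μ : Cfsg.IrrCharacter P) (φ : Cfsg.IrrCharacter G),
      ∃ w : ℤ, Cfsg.classInner (X μ) (φ : G → ℂ) = w := by
    intro μ φ
    obtain ⟨η, hη⟩ := CfsgLib.BlocksCover.exists_constituent φ P
    -- the `P`-translates of a regular value
    have hf : ∀ (u : P), ∀ y : G, Cfsg.IsPRegular p y →
        (φ : G → ℂ) ((u : G) * y) = (φ : G → ℂ) y / (η : P → ℂ) 1 * (η : P → ℂ) u ∧
        IsIntegral ℤ ((φ : G → ℂ) y / (η : P → ℂ) 1) := by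
      intro u y hy
      have hcl : Cfsg.IsClassFunction P (fun v : P => (φ : G → ℂ) ((v : G) * y)) := fun v w => by
        show (φ : G → ℂ) (((w * v * w⁻¹ : P) : G) * y) = (φ : G → ℂ) ((v : G) * y)
        rw [show ((w * v * w⁻¹ : P) : G) * y = (w : G) * ((v : G) * y) * (w : G)⁻¹ by
          have h1 := (hc w w.2 y hy).eq
          simp only [Subgroup.coe_mul, Subgroup.coe_inv]
          calc (w : G) * v * (w : G)⁻¹ * y = (w : G) * v * (w : G)⁻¹ * (y * w) * (w : G)⁻¹ := by group
            _ = (w : G) * v * (w : G)⁻¹ * (w * y) * (w : G)⁻¹ := by rw [h1]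
            _ = (w : G) * ((v : G) * y) * (w : G)⁻¹ := by group]
        exact CfsgLib.Chars.isClassFunction_coe φ _ _
      have hzero : ∀ η' : Cfsg.IrrCharacter P, η' ≠ η →
          Cfsg.classInner (fun v : P => (φ : G → ℂ) ((v : G) * y)) (η' : P → ℂ) = 0 := by
        intro η' hne
        set z : CfsgLib.Blocks.GA G := CfsgLib.Blocks.ofFun fun x =>
          if h : x ∈ P then (starRingEnd ℂ) ((η' : P → ℂ) ⟨x, h⟩) else 0 with hz
        have hzC : CfsgLib.Blocks.IsCentralElt z := CfsgLib.Blocks.isCentralElt_ofFun fun x t => by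
          by_cases hx : x ∈ P
          · rw [dif_pos hx, dif_pos (hPn.conj_mem x hx t), hμinv η' t ⟨x, hx⟩]
          · rw [dif_neg hx, dif_neg]
            intro h
            exact hx (by simpa [mul_assoc] using hPn.conj_mem _ h t⁻¹)
        have hω : ∀ y' : G, CfsgLib.Blocks.omega (φ : G → ℂ) (z * MonoidAlgebra.single y' (1 : ℂ)) =
            (∑ v : P, (φ : G → ℂ) ((v : G) * y') * (starRingEnd ℂ) ((η' : P → ℂ) v)) /
              (φ : G → ℂ) 1 := by
          intro y'
          rw [CfsgLib.Blocks.omega_apply, Finset.sum_div,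
            ← Fintype.sum_equiv (Equiv.mulRight y') (fun x => (z * MonoidAlgebra.single y' (1 : ℂ)).coeff
              (x * y') * (φ : G → ℂ) (x * y') / (φ : G → ℂ) 1) _ (fun _ => rfl)]
          simp only [MonoidAlgebra.mul_single_apply, mul_inv_cancel_right, mul_one, hz,
            CfsgLib.Blocks.coeff_ofFun, dite_mul, zero_mul]
          symm
          refine Fintype.sum_of_injective (fun v : P => (v : G)) Subtype.val_injective _ _
            (fun x hx => by rw [dif_neg fun h => hx ⟨⟨x, h⟩, rfl⟩, zero_div]) fun v => ?_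
          rw [dif_pos v.2, mul_comm ((φ : G → ℂ) _)]
        have h1 := CfsgLib.Blocks.omega_mul φ.2 hzC (MonoidAlgebra.single y (1 : ℂ))
        rw [hω y] at h1
        have hz0 : CfsgLib.Blocks.omega (φ : G → ℂ) z = 0 := by
          have h2 := hω 1
          rw [show MonoidAlgebra.single (1 : G) (1 : ℂ) = (1 : CfsgLib.Blocks.GA G) from rfl,
            mul_one] at h2
          rw [h2, show (∑ v : P, (φ : G → ℂ) ((v : G) * 1) * (starRingEnd ℂ) ((η' : P → ℂ) v)) =
            (Nat.card P : ℂ) * Cfsg.classInner (fun v : P => (φ : G → ℂ) v) (η' : P → ℂ) by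
              simp only [Cfsg.classInner, ← mul_assoc, mul_inv_cancel₀ hP0, one_mul, mul_one]]
          by_contra hne0
          have hη' : Cfsg.classInner (fun v : P => (φ : G → ℂ) v) (η' : P → ℂ) ≠ 0 :=
            fun h => hne0 (by rw [h, mul_zero, zero_div])
          obtain ⟨t, ht⟩ := CfsgLib.Chars.Induced.mem_conjOrbit_of_mult_ne_zero φ η η'
            ((CfsgLib.BlocksCover.mult_ne_zero_iff φ η).1 hη)
            ((CfsgLib.BlocksCover.mult_ne_zero_iff φ η').1 hη')
          refine hne (ht.symm.trans (Subtype.ext (funext fun v => ?_)))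
          rw [CfsgLib.Chars.Induced.conjIrr_coe, CfsgLib.Chars.Induced.conjFun_apply]
          simpa using hμinv η t⁻¹ v
        rw [hz0, zero_mul, div_eq_zero_iff] at h1
        simp only [Cfsg.classInner, h1.resolve_right (CfsgLib.Chars.map_one_ne_zero φ), mul_zero]
      set cc := Cfsg.classInner (fun v : P => (φ : G → ℂ) ((v : G) * y)) (η : P → ℂ) with hcc
      have hexpand := CfsgLib.Chars.eq_sum_classInner_smul hcl
      have hval : ∀ v : P, (φ : G → ℂ) ((v : G) * y) = cc * (η : P → ℂ) v := fun v => by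
        have h2 := congrFun hexpand v
        rw [Finset.sum_apply, Finset.sum_eq_single η] at h2
        · exact h2
        · intro η' _ hne; rw [Pi.smul_apply, hzero η' hne, zero_smul]
        · exact fun h => absurd (Finset.mem_univ _) h
      have h1 := hval 1
      rw [Subgroup.coe_one, one_mul] at h1
      have hcc' : (φ : G → ℂ) y / (η : P → ℂ) 1 = cc := by
        rw [h1, mul_div_assoc, div_self (CfsgLib.Chars.map_one_ne_zero η), mul_one]
      refine ⟨by rw [hcc']; exact hval u, ?_⟩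
      rw [hcc', hcc]
      exact CfsgLib.Blocks.isIntegral_average_twist (CfsgLib.Chars.isCharacter_coe φ) P
        (CfsgLib.Chars.isCharacter_coe η) y (fun v hv => (hc v hv y hy).symm.eq)
    rw [hXinner μ φ]
    have hsplit : ∑ u : P, ∑ y ∈ REG,
        (μ : P → ℂ) u * (θ : G → ℂ) y * (starRingEnd ℂ) ((φ : G → ℂ) ((u : G) * y)) =
        (∑ u : P, (μ : P → ℂ) u * (starRingEnd ℂ) ((η : P → ℂ) u)) *
          ∑ y ∈ REG, (θ : G → ℂ) y * (starRingEnd ℂ) ((φ : G → ℂ) y / (η : P → ℂ) 1) := by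
      rw [Finset.sum_mul]
      refine Finset.sum_congr rfl fun u _ => ?_
      rw [Finset.mul_sum]
      refine Finset.sum_congr rfl fun y hy => ?_
      rw [(hf u y (hmemR.mp hy)).1, map_mul]
      ring
    rw [hsplit]
    by_cases hμη : μ = η
    swap
    · refine ⟨0, ?_⟩
      have h1 := CfsgLib.Chars.classInner_of_ne hμη
      simp only [Cfsg.classInner] at h1
      rw [(mul_eq_zero.mp h1).resolve_left (inv_ne_zero hP0), zero_mul, mul_zero, Int.cast_zero]
    subst hμη
    rw [hself μ]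
    set r := ∑ y ∈ REG, (θ : G → ℂ) y * (starRingEnd ℂ) ((φ : G → ℂ) y / (μ : P → ℂ) 1) with hr
    -- it is local
    have hloc : Cfsg.MemLocalRing M ((Nat.card G : ℂ)⁻¹ * ((Nat.card P : ℂ) * r)) := by
      let a : G → ℂ := fun y => if Cfsg.IsPRegular p y then
        ((n * Nat.card P : ℕ) : ℂ) / (Nat.card G : ℂ) *
          (starRingEnd ℂ) ((φ : G → ℂ) y / (μ : P → ℂ) 1) else 0
      have haC : CfsgLib.Blocks.ofFun a ∈ CfsgLib.Blocks.centerO M G := by
        refine ⟨CfsgLib.Blocks.isCentralElt_ofFun fun x t => ?_, fun x => ?_⟩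
        · have hreg : Cfsg.IsPRegular p (t * x * t⁻¹) ↔ Cfsg.IsPRegular p x := by
            simp only [Cfsg.IsPRegular]
            rw [show orderOf (t * x * t⁻¹) = orderOf x from MulEquiv.orderOf_eq (MulAut.conj t) x]
          simp only [a, hreg, CfsgLib.Chars.isClassFunction_coe φ x t]
        · show Cfsg.MemLocalRing M (a x)
          simp only [a]
          split_ifs with hx
          · refine (CfsgLib.Blocks.localRing M).mul_mem (CfsgLib.Blocks.memLocalRing_natCast_div hM
              (mul_ne_zero hn0 Nat.card_pos.ne') Nat.card_pos.ne' ?_) ?_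
            · rw [Nat.factorization_mul hn0 Nat.card_pos.ne', Finsupp.add_apply, hexp, hd,
                Nat.factorization_pow_self hp]
              omega
            · exact CfsgLib.Blocks.memLocalRing_of_isIntegral
                ((hf 1 x hx).2.map (starRingEnd ℂ).toIntAlgHom)
          · exact (CfsgLib.Blocks.localRing M).zero_mem
      have heq : CfsgLib.Blocks.omega (θ : G → ℂ) (CfsgLib.Blocks.ofFun a) =
          (Nat.card G : ℂ)⁻¹ * ((Nat.card P : ℂ) * r) := by
        rw [CfsgLib.Blocks.omega_ofFun, hr, Finset.mul_sum, Finset.mul_sum, Finset.sum_filter]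
        refine Finset.sum_congr rfl fun y _ => ?_
        simp only [a]
        split_ifs
        · rw [← CfsgLib.Chars.coe_charDegree θ, ← hn]
          push_cast
          field_simp
        · rw [zero_mul, zero_div]
      rw [← heq]
      exact CfsgLib.Blocks.memLocalRing_omega haC θ
    -- it is rational with a `p`-power denominator
    obtain ⟨z, hz⟩ := CfsgLib.Chars.Exceptional.gen_inner_int hgen
      (CfsgLib.Chars.Exceptional.gen_of_char (CfsgLib.Chars.isCharacter_coe φ))
    have hz' : (Nat.card G : ℂ)⁻¹ * ((Nat.card P : ℂ) * r) = (z : ℂ) / (μ : P → ℂ) 1 := by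
      rw [← hz, hr]
      simp only [Cfsg.classInner, Cfsg.pRegularPart]
      rw [Finset.sum_filter, Finset.mul_sum, Finset.mul_sum, Finset.mul_sum, Finset.sum_div]
      refine Finset.sum_congr rfl fun y _ => ?_
      split_ifs
      · rw [map_div₀, ← CfsgLib.Chars.coe_charDegree μ, map_natCast]; ring
      · simp
    obtain ⟨i, -, hi⟩ := (Nat.dvd_prime_pow hp).mp
      (hd ▸ CfsgLib.Chars.charDegree_dvd_card μ : Cfsg.charDegree (μ : P → ℂ) ∣ p ^ d)
    rw [hz', ← CfsgLib.Chars.coe_charDegree μ, hi, Nat.cast_pow] at hloc ⊢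
    exact int_of_local hM i z hloc
  have hXnorm : ∀ μ ν : Cfsg.IrrCharacter P,
      Cfsg.classInner (X μ) (X ν) = if μ = ν then 1 else 0 := by
    intro μ ν
    rw [hXinner μ (X ν)]
    have h1 : ∑ u : P, ∑ y ∈ REG, (μ : P → ℂ) u * (θ : G → ℂ) y *
        (starRingEnd ℂ) (X ν ((u : G) * y)) =
        (∑ u : P, (μ : P → ℂ) u * (starRingEnd ℂ) ((ν : P → ℂ) u)) *
          ∑ y ∈ REG, (θ : G → ℂ) y * (starRingEnd ℂ) ((θ : G → ℂ) y) := by
      rw [Finset.sum_mul]
      refine Finset.sum_congr rfl fun u _ => ?_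
      rw [Finset.mul_sum]
      refine Finset.sum_congr rfl fun y hy => ?_
      rw [hXuy ν u y (hmemR.mp hy), map_mul]
      ring
    rw [h1, hTsum]
    split_ifs with h
    · subst h; rw [hself μ]; field_simp
    · have h2 := CfsgLib.Chars.classInner_of_ne h
      simp only [Cfsg.classInner] at h2
      rw [(mul_eq_zero.mp h2).resolve_left (inv_ne_zero hP0), zero_mul, mul_zero]
  have hXirr : ∀ μ : Cfsg.IrrCharacter P, Cfsg.IsIrrCharacter G (X μ) := by
    intro μ
    choose w hw using fun φ => hint μ φ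
    have hn1 : ∑ φ : Cfsg.IrrCharacter G, w φ * w φ = 1 := by
      have h1 := hXnorm μ μ
      rw [if_pos rfl, CfsgLib.Chars.classInner_eq_sum (hXclass μ)] at h1
      simp only [hw, map_intCast] at h1
      exact_mod_cast h1
    obtain ⟨φ, -, hφ⟩ : ∃ φ ∈ (Finset.univ : Finset (Cfsg.IrrCharacter G)), w φ * w φ ≠ 0 :=
      Finset.exists_ne_zero_of_sum_ne_zero (by rw [hn1]; exact one_ne_zero)
    rw [← Finset.add_sum_erase _ _ (Finset.mem_univ φ)] at hn1
    have hrest : 0 ≤ ∑ x ∈ Finset.univ.erase φ, w x * w x :=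
      Finset.sum_nonneg fun x _ => mul_self_nonneg _
    have hφ1 : 0 < w φ * w φ := lt_of_le_of_ne (mul_self_nonneg _) (Ne.symm hφ)
    have hsum0 : ∑ x ∈ Finset.univ.erase φ, w x * w x = 0 := by omega
    have hsq : w φ * w φ = 1 := by omega
    have hXeq : X μ = (w φ : ℂ) • (φ : G → ℂ) := by
      rw [CfsgLib.Chars.eq_sum_classInner_smul (hXclass μ), Finset.sum_eq_single φ, hw φ]
      · intro x _ hx
        rw [hw x, mul_self_eq_zero.mp ((Finset.sum_eq_zero_iff_of_nonneg fun y _ =>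
          mul_self_nonneg (w y)).mp hsum0 x (Finset.mem_erase.mpr ⟨hx, Finset.mem_univ _⟩)),
          Int.cast_zero, zero_smul]
      · exact fun h => absurd (Finset.mem_univ _) h
    rcases Int.eq_one_or_neg_one_of_mul_eq_one hsq with h | h
    · rw [hXeq, h, Int.cast_one, one_smul]; exact φ.2
    · exfalso
      have h1 := congrFun hXeq 1
      rw [hXone, h, Int.cast_neg, Int.cast_one, Pi.smul_apply, smul_eq_mul, neg_one_mul,
        ← CfsgLib.Chars.coe_charDegree μ, ← CfsgLib.Chars.coe_charDegree θ,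
        ← CfsgLib.Chars.coe_charDegree φ, eq_neg_iff_add_eq_zero] at h1
      norm_cast at h1
      have := CfsgLib.Chars.charDegree_pos φ
      omega
  let E : Cfsg.IrrCharacter P → Cfsg.IrrCharacter G := fun μ => ⟨X μ, hXirr μ⟩
  have hEinj : Function.Injective E := by
    intro μ ν h
    by_contra hne
    have h1 := hXnorm μ ν
    have h3 : X μ = X ν := congrArg Subtype.val h
    rw [if_neg hne, ← h3, hXnorm μ μ, if_pos rfl] at h1
    exact one_ne_zero h1
  have hEB : ∀ μ, E μ ∈ B := by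
    intro μ
    refine CfsgLib.Blocks.mem_of_sameBlock hB hθ ?_
    refine CfsgLib.BlocksCover.sameBlock_of_congr_on_regular hM (Subgroup.centralizer (P : Set G))
      (fun y hy => Subgroup.mem_centralizer_iff.mpr fun u hu => (hc u hu y hy).eq) θ (E μ) ?_
    rintro ⟨y, hy⟩
    obtain ⟨u, hu⟩ := CfsgLib.Blocks.exists_isPPart (p := p) hp y
    by_cases huP : u ∈ P
    · obtain ⟨w, rfl, -, -, hwp⟩ := id hu
      have h1 : Cfsg.centralChar (θ : G → ℂ) (u * w) =
          ((Subgroup.centralizer ({u * w} : Set G)).index : ℂ) * (θ : G → ℂ) w / (θ : G → ℂ) 1 := by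
        rw [Cfsg.centralChar, hθu u huP w]
      have h2 : Cfsg.centralChar (E μ : G → ℂ) (u * w) =
          ((Subgroup.centralizer ({u * w} : Set G)).index : ℂ) * (θ : G → ℂ) w / (θ : G → ℂ) 1 *
            ((μ : P → ℂ) ⟨u, huP⟩ / (μ : P → ℂ) 1) := by
        show Cfsg.centralChar (X μ) (u * w) = _
        rw [Cfsg.centralChar, hXuy μ ⟨u, huP⟩ w hwp, hXone]
        ring
      show Cfsg.MemLocalIdeal M (_ - _)
      rw [h1, h2, ← mul_one_sub]
      refine CfsgLib.Blocks.memLocalIdeal_mul_left ?_ ?_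
      · rw [← h1]; exact CfsgLib.Blocks.memLocalRing_centralChar θ _
      · -- central elements of `P` act by roots of unity
        have hz : (⟨u, huP⟩ : P) ∈ Subgroup.center P := Subgroup.mem_center_iff.mpr fun v =>
          Subtype.ext (by
            have h3 := Subgroup.mem_centralizer_iff.mp hy v v.2
            have h4 := (hc v v.2 w hwp).eq
            show (v : G) * u = u * v
            calc (v : G) * u = v * (u * w) * w⁻¹ := by group
              _ = u * (w * v) * w⁻¹ := by rw [h3]; group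
              _ = u * v := by rw [← h4]; group)
        set cm : ℂ := (μ : P → ℂ) ⟨u, huP⟩ / (μ : P → ℂ) 1 with hcm
        have hmul := CfsgLib.Chars.map_mul_of_mem_center μ hz
        have hpow : ∀ k : ℕ, (μ : P → ℂ) ((⟨u, huP⟩ : P) ^ k) = cm ^ k * (μ : P → ℂ) 1 := by
          intro k
          induction k with
          | zero => simp
          | succ k ih => rw [pow_succ', hmul, ih, ← hcm, pow_succ]; ring
        have hroot : cm ^ p ^ d = 1 := by
          have h5 := hpow (p ^ d)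
          rw [← hd, pow_card_eq_one'] at h5
          exact mul_right_cancel₀ (CfsgLib.Chars.map_one_ne_zero μ) (by rw [one_mul, ← hd]; exact h5.symm)
        have h6 := CfsgLib.Blocks.HeightZero.memLocalIdeal_root_pow_sub_one hM hroot
        simpa using CfsgLib.Blocks.memLocalIdeal_neg h6
    · have hno : ¬ ∃ v ∈ P, Cfsg.IsPPart p y v := fun ⟨v, hv, hvy⟩ =>
        huP (CfsgLib.Blocks.isPPart_unique hp hu hvy ▸ hv)
      show Cfsg.MemLocalIdeal M (Cfsg.centralChar (θ : G → ℂ) y - Cfsg.centralChar (X μ) y)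
      rw [Cfsg.centralChar, Cfsg.centralChar, hvan y hno, hXoff μ y hno]
      simp only [mul_zero, zero_div, sub_zero]
      exact CfsgLib.Blocks.memLocalIdeal_zero
  -- their idempotent is local
  have hAeq : B = Set.range E := by
    refine Set.Subset.antisymm ?_ (by rintro _ ⟨μ, rfl⟩; exact hEB μ)
    rw [CfsgLib.Blocks.eq_blockOf_of_mem hB (hEB (CfsgLib.Chars.oneChar P))]
    refine CfsgLib.Blocks.blockOf_subset_of_local ?_ ⟨_, rfl⟩
    intro y
    have hco : Cfsg.blockCoeff (Set.range E) y = (Nat.card G : ℂ)⁻¹ *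
        ∑ μ : Cfsg.IrrCharacter P, X μ 1 * (starRingEnd ℂ) (X μ y) := by
      rw [Cfsg.blockCoeff, finsum_mem_range hEinj, finsum_eq_sum_of_fintype]
    by_cases h : ∃ u ∈ P, Cfsg.IsPPart p y u
    · obtain ⟨u, huP, hu⟩ := h
      obtain ⟨w, rfl, -, -, hwp⟩ := id hu
      have hsum : ∑ μ : Cfsg.IrrCharacter P, X μ 1 * (starRingEnd ℂ) (X μ (u * w)) =
          (θ : G → ℂ) 1 * (starRingEnd ℂ) ((θ : G → ℂ) w) *
            (if (⟨u, huP⟩ : P) = 1 then (Nat.card P : ℂ) else 0) := by
        have h4 : (if (⟨u, huP⟩ : P) = 1 then (Nat.card P : ℂ) else 0) =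
            (starRingEnd ℂ) (∑ μ : Cfsg.IrrCharacter P, (μ : P → ℂ) 1 * (μ : P → ℂ) ⟨u, huP⟩) := by
          rw [CfsgLib.Chars.sum_irr_map_one_mul]
          split_ifs <;> simp
        rw [h4, map_sum, Finset.mul_sum]
        refine Finset.sum_congr rfl fun μ _ => ?_
        rw [hXone, hXuy μ ⟨u, huP⟩ w hwp, map_mul, map_mul, ← CfsgLib.Chars.coe_charDegree μ,
          map_natCast]
        ring
      rw [hco, hsum]
      split_ifs
      · rw [show (Nat.card G : ℂ)⁻¹ * ((θ : G → ℂ) 1 * (starRingEnd ℂ) ((θ : G → ℂ) w) *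
          (Nat.card P : ℂ)) = ((n * Nat.card P : ℕ) : ℂ) / (Nat.card G : ℂ) *
            (starRingEnd ℂ) ((θ : G → ℂ) w) by
          rw [← CfsgLib.Chars.coe_charDegree θ, ← hn]; push_cast; ring]
        refine (CfsgLib.Blocks.localRing M).mul_mem (CfsgLib.Blocks.memLocalRing_natCast_div hM
          (mul_ne_zero hn0 Nat.card_pos.ne') Nat.card_pos.ne' ?_)
          (CfsgLib.Blocks.memLocalRing_of_isIntegral
            ((CfsgLib.Chars.isIntegral_apply (CfsgLib.Chars.isCharacter_coe θ) w).map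
              (starRingEnd ℂ).toIntAlgHom))
        rw [Nat.factorization_mul hn0 Nat.card_pos.ne', Finsupp.add_apply, hexp, hd,
          Nat.factorization_pow_self hp]
        omega
      · rw [mul_zero, mul_zero]; exact (CfsgLib.Blocks.localRing M).zero_mem
    · rw [hco, Finset.sum_eq_zero (fun μ _ => by rw [hXoff μ y h, map_zero, mul_zero]), mul_zero]
      exact (CfsgLib.Blocks.localRing M).zero_mem
  have huniq : ∀ θ' ∈ B, (∀ x ∈ P, (θ' : G → ℂ) x = (θ' : G → ℂ) 1) → θ' = θ := by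
    intro θ' hθ' hker
    rw [hAeq] at hθ'
    obtain ⟨μ, rfl⟩ := hθ'
    have hconst : ∀ u : P, (μ : P → ℂ) u = (μ : P → ℂ) 1 := by
      intro u
      have h1 : X μ u = X μ 1 := hker u u.2
      have h2 := hXuy μ u 1 (by simp [Cfsg.IsPRegular, hp.ne_one])
      rw [mul_one] at h2
      rw [h2, hXone] at h1
      exact mul_right_cancel₀ (CfsgLib.Chars.map_one_ne_zero θ) h1
    have hμ : μ = CfsgLib.Chars.oneChar P := by
      by_contra hne
      have h1 := CfsgLib.Chars.classInner_of_ne hne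
      simp only [Cfsg.classInner, hconst, CfsgLib.Chars.oneChar_apply, map_one, mul_one,
        Finset.sum_const, Finset.card_univ, nsmul_eq_mul, ← Nat.card_eq_fintype_card,
        ← mul_assoc, inv_mul_cancel₀ hP0, one_mul] at h1
      exact CfsgLib.Chars.map_one_ne_zero μ h1
    refine Subtype.ext (funext fun y => ?_)
    show X μ y = _
    by_cases h : ∃ u ∈ P, Cfsg.IsPPart p y u
    · obtain ⟨u, hu, huy⟩ := h
      obtain ⟨w, rfl, -, -, hwp⟩ := id huy
      rw [hXuy μ ⟨u, hu⟩ w hwp, hμ, CfsgLib.Chars.oneChar_apply, one_mul, hθu u hu w]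
    · rw [hXoff μ y h, hvan y h]
  have hker0 : ∀ x ∈ P, (θ : G → ℂ) x = (θ : G → ℂ) 1 := fun x hx => by
    have := hθu x hx 1
    rwa [mul_one] at this
  refine ⟨⟨θ, ⟨hθ, hker0⟩, fun θ' h => huniq θ' h.1 h.2⟩,
    fun θ' h1 h2 => by rw [huniq θ' h1 h2]; exact hθdeg, ?_⟩
  rw [hAeq, Nat.card_range_of_injective hEinj, CfsgLib.Chars.card_irrCharacter]

end Cfsg.Agent.S0968
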