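import Cfsg.Statements.S0920
import Cfsg.Agent.Blocks.Defect.Induced
import Cfsg.Agent.Eq.Def_Blocks

set_option autoImplicit false
open Cfsg

namespace Cfsg.Agent.S0920

/-- Brauer's First Main Theorem. Let D be a p-subgroup of the finite group G with normalizer N, and fix a maximal ideal M of the algebraic integers containing p. Then (i) every block b of N having D as a defect group induces some block B of G having D as a defect group; (ii) every block of G with defect group D is induced by exactly one block of N with defect group D. -/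
theorem result {G : Type*} [Group G] [Finite G] (p : ℕ) [Fact p.Prime] (M : Ideal Cfsg.AlgInt) (hM : Cfsg.IsPModular p M) (D : Subgroup G) (hD : IsPGroup p D) : (∀ b : Set (Cfsg.IrrCharacter (Subgroup.normalizer (D : Set G))), Cfsg.IsPBlock M b → Cfsg.IsDefectGroup p M b (D.subgroupOf (Subgroup.normalizer (D : Set G))) → ∃ B : Set (Cfsg.IrrCharacter G), Cfsg.IsPBlock M B ∧ Cfsg.IsDefectGroup p M B D ∧ Cfsg.IsInducedBlock M (Subgroup.normalizer (D : Set G)) b B) ∧ (∀ B : Set (Cfsg.IrrCharacter G), Cfsg.IsPBlock M B → Cfsg.IsDefectGroup p M B D → ∃! b : Set (Cfsg.IrrCharacter (Subgroup.normalizer (D : Set G))), Cfsg.IsPBlock M b ∧ Cfsg.IsDefectGroup p M b (D.subgroupOf (Subgroup.normalizer (D : Set G))) ∧ Cfsg.IsInducedBlock M (Subgroup.normalizer (D : Set G)) b B) := by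
  haveI := hM.2.1
  haveI := CfsgLib.Blocks.charP_kres hM
  classical
  haveI := Fintype.ofFinite G
  set N := Subgroup.normalizer (D : Set G) with hN
  have hDN : D ≤ N := Subgroup.le_normalizer
  have hCN : Subgroup.centralizer (D : Set G) ≤ N := Subgroup.centralizer_le_normalizer _
  have S : CfsgLib.Blocks.BrSetting p ⊤ D N := ⟨hD, le_top, inf_le_right.trans hCN, le_top, le_rfl⟩
  have hmap : (D.subgroupOf N).map N.subtype = D := Subgroup.map_subgroupOf_eq_of_le hDN
  have hiff : ∀ b : Set (Cfsg.IrrCharacter N), Cfsg.IsPBlock M b →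
      (Cfsg.IsDefectGroup p M b (D.subgroupOf N) ↔
        CfsgLib.Blocks.IsDefectGroupIdem p (⊤ ⊓ N) (CfsgLib.Blocks.subEl M N b) D) := by
    intro b hb
    rw [CfsgLib.Blocks.isDefectGroup_subEl_iff hb, hmap, top_inf_eq]
  have hidem : ∀ b : Set (Cfsg.IrrCharacter N), Cfsg.IsPBlock M b →
      CfsgLib.Blocks.IsBlockIdem (⊤ ⊓ N) (CfsgLib.Blocks.subEl M N b) := fun b hb => by
    rw [top_inf_eq]; exact CfsgLib.Blocks.isBlockIdem_subEl hb
  constructor
  · intro b hb hbD
    obtain ⟨e, ⟨he, ho⟩, -⟩ := S.existsUnique_over (CfsgLib.Blocks.isBlockIdem_subEl (M := M) hb)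
    obtain ⟨B, hB, rfl⟩ := CfsgLib.Blocks.exists_topEl_eq he
    exact ⟨B, hB, (CfsgLib.Blocks.isDefectGroup_topEl_iff hB D).mpr
        (CfsgLib.Blocks.IsDefectGroupIdem.of_over (hidem b hb) ((hiff b hb).mp hbD) he ho),
      (CfsgLib.Blocks.isInducedBlock_iff_brOver hM hD hDN hCN le_rfl hb hB).mpr ho⟩
  · intro B hB hBD
    have he := CfsgLib.Blocks.isBlockIdem_topEl (M := M) hB
    have hBD' := (CfsgLib.Blocks.isDefectGroup_topEl_iff hB D).mp hBD
    obtain ⟨c, hc, ho⟩ := S.exists_block_over he hBD'.2.2.1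
    obtain ⟨b, hb, rfl⟩ := CfsgLib.Blocks.exists_subEl_eq hc
    have hbD := (hiff b hb).mpr
      (CfsgLib.Blocks.IsDefectGroupIdem.defect_over he hBD' (hidem b hb) ho)
    refine ⟨b, ⟨hb, hbD,
      (CfsgLib.Blocks.isInducedBlock_iff_brOver hM hD hDN hCN le_rfl hb hB).mpr ho⟩, ?_⟩
    rintro b' ⟨hb', -, hi'⟩
    exact CfsgLib.Blocks.subEl_injective hb' hb
      (CfsgLib.Blocks.IsDefectGroupIdem.over_unique (hidem b hb) ((hiff b hb).mp hbD) (hidem b' hb')
        he ho ((CfsgLib.Blocks.isInducedBlock_iff_brOver hM hD hDN hCN le_rfl hb' hB).mp hi'))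

end Cfsg.Agent.S0920
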