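import Cfsg.Statements.S4733
import Cfsg.Agent.Eq.Def_Blocks
import Cfsg.Agent.Eq.Def_BlockRank
import Cfsg.Agent.Blocks.Orth.Subsection
import Cfsg.Agent.S0914
import Cfsg.Agent.S0189

set_option autoImplicit false
open Cfsg

namespace Cfsg.Agent.S4733

/-- Let p be a prime, M a maximal ideal of the algebraic integers containing p, and B a p-block of the finite group G with k irreducible characters and p-regular rank l (the number of irreducible Brauer characters). Then l ≤ k, and the following are equivalent: B has defect 0; k = l = 1; k = l. -/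
theorem result {G : Type*} [Group G] [Finite G] (p : ℕ) [Fact p.Prime] (M : Ideal Cfsg.AlgInt) (hM : Cfsg.IsPModular p M) (B : Set (Cfsg.IrrCharacter G)) (hB : Cfsg.IsPBlock M B) : Cfsg.blockRank p B ≤ Nat.card B ∧ (Cfsg.blockDefect p B = 0 ↔ (Nat.card B = 1 ∧ Cfsg.blockRank p B = 1)) ∧ (Cfsg.blockDefect p B = 0 ↔ Nat.card B = Cfsg.blockRank p B) := by
  classical
  have := Fintype.ofFinite G
  have := hM.2.1
  have hBfin : B.Finite := B.toFinite
  set f : Cfsg.IrrCharacter G → G → ℂ := fun χ => Cfsg.pRegularPart p (χ : G → ℂ) with hf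
  have hrange : Submodule.span ℂ (f '' B) =
      Submodule.span ℂ (Set.range fun χ : B => f (χ : Cfsg.IrrCharacter G)) := by
    rw [Set.image_eq_range]
  have hne : B.Nonempty := CfsgLib.Blocks.nonempty_of_isPBlock hB
  set v := (Nat.card G).factorization p with hv
  set e : Cfsg.IrrCharacter G → ℕ :=
    fun χ => (Cfsg.charDegree (χ : G → ℂ)).factorization p with he
  have hle : ∀ χ, e χ ≤ v := fun χ =>
    (Nat.factorization_le_iff_dvd (CfsgLib.Chars.charDegree_pos χ).ne' Nat.card_pos.ne').2
      (CfsgLib.Chars.charDegree_dvd_card χ) p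
  have hd0 : Cfsg.blockDefect p B = 0 ↔ ∀ χ ∈ B, e χ = v := by
    show v - sInf (e '' B) = 0 ↔ _
    rw [Nat.sub_eq_zero_iff_le]
    constructor
    · exact fun h χ hχ => le_antisymm (hle χ) (h.trans (Nat.sInf_le ⟨χ, hχ, rfl⟩))
    · intro h
      obtain ⟨χ, hχ, hmin⟩ := Nat.sInf_mem (hne.image e)
      rw [← hmin, h χ hχ]
  have hcardB : Nat.card B = Fintype.card B := Nat.card_eq_fintype_card
  have hl : Cfsg.blockRank p B ≤ Nat.card B := by
    show Module.finrank ℂ (Submodule.span ℂ (f '' B)) ≤ _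
    rw [hrange, hcardB]
    exact finrank_range_le_card _
  have hfwd : Cfsg.blockDefect p B = 0 → Nat.card B = 1 ∧ Cfsg.blockRank p B = 1 := by
    intro h
    obtain ⟨χ, hχ⟩ := hne
    have hχv := hd0.1 h χ hχ
    have hdvd := CfsgLib.Chars.charDegree_dvd_card χ
    have hnd : ¬ p ∣ Nat.card G / Cfsg.charDegree (χ : G → ℂ) := by
      intro hp
      have hq0 : Nat.card G / Cfsg.charDegree (χ : G → ℂ) ≠ 0 :=
        (Nat.div_pos (Nat.le_of_dvd Nat.card_pos hdvd) (CfsgLib.Chars.charDegree_pos χ)).ne'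
      have h1 := ((Nat.Prime.dvd_iff_one_le_factorization hM.1 hq0).1 hp)
      rw [Nat.factorization_div hdvd, Finsupp.tsub_apply] at h1
      simp only [he] at hχv
      omega
    have hsing := (Cfsg.Agent.S0914.result p M hM χ).1 hnd
    rw [← CfsgLib.Blocks.eq_blockOf_of_mem hB hχ] at hsing
    subst hsing
    refine ⟨by simp, ?_⟩
    show Module.finrank ℂ (Submodule.span ℂ (f '' ({χ} : Set (Cfsg.IrrCharacter G)))) = 1
    rw [Set.image_singleton]
    refine finrank_span_singleton fun h0 => CfsgLib.Chars.map_one_ne_zero χ ?_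
    have := congrFun h0 1
    simpa [hf, Cfsg.pRegularPart, Cfsg.IsPRegular, hM.1.ne_one] using this
  have hback : Nat.card B = Cfsg.blockRank p B → Cfsg.blockDefect p B = 0 := by
    intro hk
    have hli : LinearIndependent ℂ fun χ : B => f (χ : Cfsg.IrrCharacter G) := by
      refine linearIndependent_iff_card_eq_finrank_span.2 ?_
      rw [← hcardB, hk]
      show Module.finrank ℂ (Submodule.span ℂ (f '' B)) = _
      rw [hrange, Set.finrank]
    refine hd0.2 fun χ hχ => ?_
    have hzero : ∀ g : G, p ∣ orderOf g → (χ : G → ℂ) g = 0 := by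
      set c : B → ℂ := fun ψ => classInner (f χ) ((ψ : Cfsg.IrrCharacter G) : G → ℂ)
      have hexp : f χ = ∑ ψ : B, c ψ • ((ψ : Cfsg.IrrCharacter G) : G → ℂ) := by
        have h1 := CfsgLib.Blocks.blockPart_pRegularPart hM hB (χ : G → ℂ)
        rw [CfsgLib.Blocks.blockPart_irr, Set.indicator_of_mem hχ,
          CfsgLib.Blocks.blockPart_apply_eq] at h1
        rw [show f χ = Cfsg.pRegularPart p (χ : G → ℂ) from rfl]
        conv_lhs => rw [← h1]
        exact Finset.sum_subtype _ (fun ψ => by simp)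
          (fun ψ : Cfsg.IrrCharacter G => classInner (f χ) (ψ : G → ℂ) • (ψ : G → ℂ))
      have hcoef : c = fun ψ => if ψ = ⟨χ, hχ⟩ then 1 else 0 := by
        have h2 : ∑ ψ : B, c ψ • f (ψ : Cfsg.IrrCharacter G) = f χ := by
          have h3 := congrArg (Cfsg.pRegularPart p) hexp
          rw [CfsgLib.Blocks.pRegularPart_sum] at h3
          rw [show (∑ ψ : B, c ψ • f (ψ : Cfsg.IrrCharacter G)) = Cfsg.pRegularPart p (f χ) from
            h3.symm]
          funext g
          by_cases hg : Cfsg.IsPRegular p g <;> simp [hf, Cfsg.pRegularPart, hg]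
        funext ψ
        have h4 := Fintype.linearIndependent_iff.1 hli
          (fun ψ => c ψ - if ψ = ⟨χ, hχ⟩ then 1 else 0) (by
            simp only [sub_smul, Finset.sum_sub_distrib, h2, ite_smul, one_smul, zero_smul,
              Finset.sum_ite_eq', Finset.mem_univ, if_true, sub_self]) ψ
        exact sub_eq_zero.1 h4
      intro g hg
      have h5 := congrFun hexp g
      rw [hcoef] at h5
      simp only [ite_smul, one_smul, zero_smul, Finset.sum_ite_eq', Finset.mem_univ, if_true] at h5
      rw [← h5]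
      simp [hf, Cfsg.pRegularPart, Cfsg.IsPRegular, hg]
    obtain ⟨P⟩ : Nonempty (Sylow p G) := inferInstance
    obtain ⟨m, hm⟩ := Cfsg.Agent.S0189.result p P (χ : G → ℂ) (CfsgLib.Chars.isCharacter_coe χ)
      (fun g hg hg1 => by
        refine hzero g ?_
        obtain ⟨k, hk⟩ := IsPGroup.iff_orderOf.1 P.isPGroup' ⟨g, hg⟩
        rw [Subgroup.orderOf_mk] at hk
        rw [hk]
        refine dvd_pow_self p fun hk0 => hg1 ?_
        rw [hk0, pow_zero] at hk
        exact orderOf_eq_one_iff.1 hk)
    rw [← CfsgLib.Chars.coe_charDegree χ, ← Nat.cast_mul] at hm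
    have hm' : Cfsg.charDegree (χ : G → ℂ) = Nat.card P * m := by exact_mod_cast hm
    refine le_antisymm (hle χ) ((Nat.Prime.pow_dvd_iff_le_factorization hM.1
      (CfsgLib.Chars.charDegree_pos χ).ne').1 ?_)
    rw [hm', P.card_eq_multiplicity]
    exact dvd_mul_right _ _
  exact ⟨hl, ⟨hfwd, fun h => hback (h.1.trans h.2.symm)⟩,
    ⟨fun h => (hfwd h).1.trans (hfwd h).2.symm, hback⟩⟩

end Cfsg.Agent.S4733
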