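import Cfsg.Statements.S0731
import Cfsg.Agent.Eq.Def_LieExceptional
import Cfsg.Agent.ZassAbelian.Sharp
import Cfsg.Agent.Dickson.PSL

set_option autoImplicit false
open Cfsg

namespace Cfsg.Agent.S0731


/-- A finite Zassenhaus group whose point stabiliser has an abelian regular normal subgroup on the remaining points is sharply triply transitive or isomorphic to `PSL(2, F)` for a finite field `F` of odd characteristic. -/
theorem result {G Ω : Type*} [Group G] [Finite G] [MulAction G Ω] [Finite Ω] (hZ : Cfsg.IsZassenhausGroup G Ω) (x : Ω) (F : Subgroup G) (hFle : F ≤ MulAction.stabilizer G x) (hFn : (F.subgroupOf (MulAction.stabilizer G x)).Normal) (hFab : IsMulCommutative F) (hreg : ∀ y z : Ω, y ≠ x → z ≠ x → ∃! u : F, (u : G) • y = z) : (MulAction.IsMultiplyPretransitive G Ω 3 ∧ ∀ t : Fin 3 ↪ Ω, MulAction.stabilizer G t = ⊥) ∨ ∃ (K : Type) (_ : Field K) (_ : Fintype K), ringChar K ≠ 2 ∧ Nonempty (G ≃* Matrix.ProjectiveSpecialLinearGroup (Fin 2) K) := by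
  classical
  obtain ⟨hfaith, h2, h3, hne, hnd⟩ := hZ
  obtain ⟨g₀, hg₀, a, b, hab, ha, hb⟩ := hne
  obtain ⟨c, hc⟩ : ∃ c : Ω, g₀ • c ≠ c := by
    by_contra h
    push Not at h
    exact hg₀ (eq_of_smul_eq_smul (α := Ω) fun c => by rw [h c, one_smul])
  -- three distinct points
  have hca : c ≠ a := fun e => hc (e ▸ ha)
  have hcb : c ≠ b := fun e => hc (e ▸ hb)
  obtain ⟨o, ho⟩ : ∃ o : Ω, o ≠ x := by
    by_cases h : a = x
    · exact ⟨b, fun e => hab (h.trans e.symm)⟩
    · exact ⟨a, h⟩
  have hfix : ∀ g : G, g ∈ MulAction.stabilizer G x → g • x = x := fun g hg => hg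
  let D : CfsgLib.ZassAbelian.Setting G Ω :=
    { i := x
      o := o
      io := Ne.symm ho
      pair := fun p q r s hpq hrs => MulAction.is_two_pretransitive_iff.mp h2 hpq hrs
      three := h3
      third := by
        by_contra h
        push Not at h
        rcases Classical.em (a = x) with e1 | e1
        · rcases Classical.em (b = x) with e2 | e2
          · exact hab (e1.trans e2.symm)
          · have hb' := h b e2
            have hc' := h c (fun e => hca (e.trans e1.symm))
            exact hcb (hc'.trans hb'.symm)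
        · have ha' := h a e1
          rcases Classical.em (b = x) with e2 | e2
          · have hc' := h c (fun e => hcb (e.trans e2.symm))
            exact hca (hc'.trans ha'.symm)
          · exact hab (ha'.trans (h b e2).symm)
      F := F
      Fle := fun u hu => hFle hu
      Fnorm := fun g hg u hu => hFn.conj_mem ⟨u, hFle hu⟩ hu ⟨g, hg⟩
      Fcomm := fun u hu v hv => congrArg Subtype.val (hFab.1.comm ⟨u, hu⟩ ⟨v, hv⟩)
      reg := fun y z hy hz => by
        obtain ⟨u, hu, -⟩ := hreg y z hy hz
        exact ⟨u, u.2, hu⟩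
      free := fun u hu y hy h => by
        obtain ⟨v, -, hv⟩ := hreg y y hy hy
        have e1 := hv ⟨u, hu⟩ h
        have e2 := hv 1 (one_smul G y)
        exact congrArg Subtype.val (e1.trans e2.symm) }
  rcases CfsgLib.ZassAbelian.classify D with hd | ⟨hd, hinv⟩ | ⟨M, hMn, ht, hf⟩
  · exact Or.inl ⟨D.three_pretransitive hd, D.stabilizer_three⟩
  · obtain ⟨K, iF, iT, -, hodd, e⟩ := CfsgLib.ZassAbelian.psl_of_inverted D hd hinv
    refine Or.inr ⟨K, iF, iT, fun h2' => ?_, e⟩
    exact Nat.not_even_iff_odd.2 hodd (Nat.even_iff.2 (FiniteField.even_card_iff_char_two.1 h2'))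
  · obtain ⟨p, hp⟩ := hnd M hMn ⟨fun p q => (ht p q).elim fun m hm => ⟨⟨m, hm.1⟩, hm.2⟩⟩
    exact absurd (CfsgLib.ZassAbelian.stabilizer_of_free hf p) hp

end Cfsg.Agent.S0731
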