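import Cfsg.Statements.S3277
import Cfsg.Agent.Eq.Def_Transfer
import Cfsg.Agent.StronglyEmbedded.AbelianCentralizer
import Cfsg.Agent.Involutions.SelfCentralizingFour
import Cfsg.Agent.Involutions.TwoFixedPoints
import Cfsg.Agent.Involutions.SolvableCore
import Cfsg.Agent.Involutions.AltFive
-- import your own Cfsg.Agent.* helpers here

set_option autoImplicit false
open Cfsg

namespace Cfsg.Agent.S3277

open CfsgLib.StronglyEmbedded (mul_self_eq_one inv_eq_self ne_one_of_orderOf_two orderOf_two_iff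
  orderOf_conj commute_iff_conj_eq even_card_of_mem)

/-- The case of an index two subgroup avoiding `x`. -/
theorem case_index_two {G : Type*} [Group G] [Finite G] (x : G) (hx : orderOf x = 2)
    (hC4 : Nat.card ↥(Subgroup.centralizer ({x} : Set G)) = 4)
    (hnc : ¬ Cfsg.HasNormalPComplement 2 G)
    (hne : ∀ E : Subgroup G, E.Normal → Cfsg.IsElementaryAbelian 2 E → Nat.card ↥E ≠ 2 ∧ Nat.card ↥E ≠ 4)
    (K : Subgroup G) (hK : K.Normal) (hKi : K.index = 2) (hxK : x ∉ K) : False := by
  classical
  haveI := hK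
  have hxx := mul_self_eq_one hx
  have hxN : x ∈ Subgroup.normalizer (K : Set G) := by
    rw [Subgroup.normalizer_eq_top]; trivial
  -- at most two fixed points
  have hfix : Nat.card {k : G // k ∈ K ∧ Commute x k} ≤ 2 := by
    have hinj : Nat.card ({k : G // k ∈ K ∧ Commute x k} ⊕ {k : G // k ∈ K ∧ Commute x k}) ≤
        Nat.card (Subgroup.centralizer ({x} : Set G)) := by
      refine Nat.card_le_card_of_injective (Sum.elim
        (fun k => (⟨k.1, Subgroup.mem_centralizer_singleton_iff.mpr k.2.2.symm.eq⟩ :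
          Subgroup.centralizer ({x} : Set G)))
        (fun k => (⟨x * k.1, Subgroup.mem_centralizer_singleton_iff.mpr
          (((Commute.refl x).mul_left k.2.2.symm).eq)⟩ : Subgroup.centralizer ({x} : Set G)))) ?_
      rintro (a | a) (b | b) he <;> simp only [Sum.elim_inl, Sum.elim_inr, Subtype.mk.injEq] at he
      · exact congrArg Sum.inl (Subtype.ext he)
      · exact absurd (by rw [show x = a.1 * b.1⁻¹ by rw [he]; group]
                         exact K.mul_mem a.2.1 (K.inv_mem b.2.1)) hxK
      · exact absurd (by rw [show x = b.1 * a.1⁻¹ by rw [← he]; group]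
                         exact K.mul_mem b.2.1 (K.inv_mem a.2.1)) hxK
      · exact congrArg Sum.inr (Subtype.ext (mul_left_cancel he))
    rw [Nat.card_sum, hC4] at hinj
    omega
  haveI hsol : Group.IsSolvable ↥K := CfsgLib.TwoFixedPoints.isSolvable_of_fixed_le_two hxx hxN hfix
  -- no normal 2-subgroup in `K`
  have hO2 : ∀ P : Subgroup G, P.Normal → P ≤ K → IsPGroup 2 P → P = ⊥ := by
    intro P hP hPK hPp
    by_contra hPne
    haveI : Nontrivial P := (Subgroup.nontrivial_iff_ne_bot P).mpr hPne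
    have hc := hPp.center_nontrivial
    obtain ⟨n, hn, hcard⟩ := ((hPp.to_subgroup (Subgroup.center P)).nontrivial_iff_card).mp hc
    obtain ⟨a, ha⟩ := exists_prime_orderOf_dvd_card' (G := Subgroup.center P) 2
      (hcard ▸ dvd_pow_self 2 hn.ne')
    let E : Subgroup G :=
      { carrier := {g | g ∈ P ∧ g * g = 1 ∧ ∀ p ∈ P, Commute p g}
        one_mem' := ⟨P.one_mem, mul_one 1, fun p _ => Commute.one_right p⟩
        mul_mem' := fun {g k} hg hk => ⟨P.mul_mem hg.1 hk.1, by
          rw [Commute.mul_mul_mul_comm (hg.2.2 k hk.1), hg.2.1, hk.2.1, one_mul],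
          fun p hp => (hg.2.2 p hp).mul_right (hk.2.2 p hp)⟩
        inv_mem' := fun {g} hg => ⟨P.inv_mem hg.1, by rw [← mul_inv_rev, hg.2.1, inv_one],
          fun p hp => (hg.2.2 p hp).inv_right⟩ }
    have hEn : E.Normal := ⟨fun g hg y => ⟨hP.conj_mem g hg.1 y, by
      rw [show y * g * y⁻¹ * (y * g * y⁻¹) = y * (g * g) * y⁻¹ by group, hg.2.1]; group, fun p hp => by
      have h1 := (hg.2.2 (y⁻¹ * p * y⁻¹⁻¹) (hP.conj_mem p hp y⁻¹)).map (MulAut.conj y).toMonoidHom
      simpa [mul_assoc] using h1⟩⟩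
    have hEel : Cfsg.IsElementaryAbelian 2 E :=
      ⟨⟨⟨fun g k => Subtype.ext (k.2.2.2 g.1 g.2.1).eq⟩⟩, fun g hg => by rw [sq]; exact hg.2.1⟩
    have haE : ((a : P) : G) ∈ E := by
      have h2 : ((a : P) : G) * ((a : P) : G) = 1 :=
        congrArg (fun e : Subgroup.center P => ((e : P) : G)) (mul_self_eq_one ha)
      exact ⟨(a : P).2, h2, fun p hp => congrArg Subtype.val (Subgroup.mem_center_iff.mp a.2 ⟨p, hp⟩)⟩
    have hE2 : 2 ∣ Nat.card E := even_iff_two_dvd.mp (even_card_of_mem
      (by rw [Subgroup.orderOf_coe, Subgroup.orderOf_coe, ha]) haE)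
    have hE4 : Nat.card E ≤ 4 := CfsgLib.TwoFixedPoints.card_le_four hxx
      (by rw [Subgroup.normalizer_eq_top]; trivial) hEel.1 (fun g hg => hg.2.1)
      (le_trans (Nat.card_le_card_of_injective (fun k => (⟨k.1, hPK k.2.1.1, k.2.2⟩ :
        {k : G // k ∈ K ∧ Commute x k})) fun a b h => Subtype.ext (congrArg Subtype.val h :)) hfix)
    obtain ⟨j, hj⟩ := IsPGroup.iff_card.mp (hPp.to_le (fun g hg => hg.1 : E ≤ P))
    have h24 := hne E hEn hEel
    have hj2 : j ≤ 2 := by
      by_contra hh
      have := Nat.pow_le_pow_right (show 1 ≤ 2 by norm_num) (show 3 ≤ j by omega)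
      omega
    interval_cases j <;> omega
  -- the odd core
  set A := (Cfsg.pPrimeCore 2 ↥K).map K.subtype with hA
  haveI hAc : (Cfsg.pPrimeCore 2 ↥K).Characteristic := by
    rw [Subgroup.characteristic_iff_map_le]
    intro φ
    rw [Cfsg.pPrimeCore, (Subgroup.gc_map_comap φ.toMonoidHom).l_sSup]
    refine iSup₂_le fun N hN => le_sSup ⟨?_, ?_⟩
    · exact hN.1.map _ φ.surjective
    · rw [Subgroup.card_map_of_injective (f := φ.toMonoidHom) φ.injective]; exact hN.2
  haveI hAn : A.Normal := inferInstance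
  have hAodd : Odd (Nat.card A) := by
    rw [hA, Subgroup.card_map_of_injective (f := K.subtype) Subtype.val_injective,
      ← Nat.coprime_two_right]
    exact CfsgLib.PLength.pPrimeCore_card_coprime 2 ↥K
  have hAK : A ≤ K := Subgroup.map_subtype_le _
  have hAfix : ∀ a ∈ A, Commute x a → a = 1 := by
    intro a ha hc
    by_contra ha1
    have hsub : Nat.card (Subgroup.zpowers a) ≤ 2 := le_trans (Nat.card_le_card_of_injective
      (fun k => (⟨k.1, hAK ((Subgroup.zpowers_le.mpr ha) k.2), by
        obtain ⟨i, hi⟩ := Subgroup.mem_zpowers_iff.mp k.2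
        rw [← hi]; exact hc.zpow_right i⟩ : {k : G // k ∈ K ∧ Commute x k}))
      fun a b h => Subtype.ext (congrArg Subtype.val h :)) hfix
    rw [Nat.card_zpowers] at hsub
    have h2 : orderOf a = 2 := by
      have := orderOf_pos a
      have h1 : orderOf a ≠ 1 := fun h => ha1 (orderOf_eq_one_iff.mp h)
      omega
    exact Nat.not_even_iff_odd.mpr hAodd (even_card_of_mem h2 ha)
  have hinv : ∀ a ∈ A, x * a * x⁻¹ = a⁻¹ := by
    intro a ha
    let f : A → A := fun b => ⟨b.1⁻¹ * (x * b.1 * x⁻¹), A.mul_mem (A.inv_mem b.2) (hAn.conj_mem _ b.2 x)⟩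
    have hf : Function.Injective f := by
      intro b c hbc
      have h : b.1⁻¹ * (x * b.1 * x⁻¹) = c.1⁻¹ * (x * c.1 * x⁻¹) := congrArg Subtype.val hbc
      have h' : Commute x (c.1 * b.1⁻¹) := by
        refine commute_iff_conj_eq.mpr ?_
        rw [show x * (c.1 * b.1⁻¹) * x⁻¹ =
          c.1 * (c.1⁻¹ * (x * c.1 * x⁻¹)) * (b.1⁻¹ * (x * b.1 * x⁻¹))⁻¹ * b.1⁻¹ by group, ← h]
        group
      exact Subtype.ext (mul_inv_eq_one.mp (hAfix _ (A.mul_mem c.2 (A.inv_mem b.2)) h')).symm
    obtain ⟨b, hb⟩ := Finite.injective_iff_surjective.mp hf ⟨a, ha⟩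
    rw [show a = b.1⁻¹ * (x * b.1 * x⁻¹) from (congrArg Subtype.val hb).symm, inv_eq_self hx]
    simp only [mul_inv_rev, inv_inv, inv_eq_self hx, ← mul_assoc]
    rw [show x * b.1⁻¹ * x * b.1 * x * x = x * b.1⁻¹ * x * b.1 * (x * x) by group, hxx, mul_one]
  set L := K ⊓ Subgroup.centralizer (A : Set G) with hL
  haveI hLn : L.Normal := inferInstance
  -- every commutator with `x` centralizes `A`
  have hcL : ∀ k ∈ K, x * k * x⁻¹ * k⁻¹ ∈ L := by
    intro k hk
    refine ⟨K.mul_mem (hK.conj_mem k hk x) (K.inv_mem hk), Subgroup.mem_centralizer_iff.mpr ?_⟩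
    intro a ha
    refine (commute_iff_conj_eq.mpr ?_).eq.symm
    have h1 : k * x⁻¹ * k⁻¹ * a * (k * x⁻¹ * k⁻¹)⁻¹ = a⁻¹ := by
      have h2 := hinv _ (hAn.conj_mem a ha k⁻¹)
      rw [inv_eq_self hx] at h2 ⊢
      rw [show k * x * k⁻¹ * a * (k * x * k⁻¹)⁻¹ = k * (x * (k⁻¹ * a * k⁻¹⁻¹) * x⁻¹) * k⁻¹ by group,
        inv_eq_self hx, h2]
      group
    rw [show x * k * x⁻¹ * k⁻¹ * a * (x * k * x⁻¹ * k⁻¹)⁻¹ =
      x * (k * x⁻¹ * k⁻¹ * a * (k * x⁻¹ * k⁻¹)⁻¹) * x⁻¹ by group, h1, hinv _ (A.inv_mem ha), inv_inv]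
  have hKL : Nat.card K ≤ 2 * Nat.card L := by
    haveI := Fintype.ofFinite K
    haveI := Fintype.ofFinite L
    rw [Nat.card_eq_fintype_card, ← Finset.card_univ, Nat.card_eq_fintype_card]
    have h1 := Finset.card_le_mul_card_image (s := (Finset.univ : Finset K))
      (f := fun k => (⟨_, hcL k.1 k.2⟩ : L)) 2 (by
        intro l hl
        obtain ⟨k₀, -, rfl⟩ := Finset.mem_image.mp hl
        refine le_trans ?_ hfix
        rw [← Nat.card_eq_finsetCard]
        refine Nat.card_le_card_of_injective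
          (fun k => (⟨k₀.1⁻¹ * k.1.1, K.mul_mem (K.inv_mem k₀.2) k.1.2, ?_⟩ :
            {k : G // k ∈ K ∧ Commute x k})) ?_
        · have h := congrArg Subtype.val (Finset.mem_filter.mp k.2).2
          simp only at h
          refine commute_iff_conj_eq.mpr ?_
          rw [show x * (k₀.1⁻¹ * k.1.1) * x⁻¹ =
            (x * k₀.1 * x⁻¹ * k₀.1⁻¹ * k₀.1)⁻¹ * (x * k.1.1 * x⁻¹ * k.1.1⁻¹) * k.1.1 by group, h]
          group
        · intro a b hab
          exact Subtype.ext (Subtype.ext (mul_left_cancel (congrArg Subtype.val hab))))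
    refine h1.trans (Nat.mul_le_mul_left 2 ?_)
    exact Finset.card_le_univ _
  have hLA : L ≤ A := by
    haveI : ((Cfsg.pPrimeCore 2 ↥K)).Normal := inferInstance
    have hkey : Subgroup.centralizer ((Cfsg.pPrimeCore 2 ↥K : Subgroup ↥K) : Set ↥K) ≤
        Cfsg.pPrimeCore 2 ↥K := by
      refine CfsgLib.SolvableCore.centralizer_le_of_nilpotent_normal_le _ fun M hM hnil => ?_
      haveI := hM
      haveI := hnil
      refine le_sSup ⟨hM, Nat.coprime_two_right.mpr (Nat.not_even_iff_odd.mp fun hev => ?_)⟩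
      obtain ⟨P⟩ : Nonempty (Sylow 2 ↥M) := inferInstance
      have hP1 : (P : Subgroup ↥M) ≠ ⊥ := P.ne_bot_of_dvd_card (even_iff_two_dvd.mp hev)
      haveI : (P : Subgroup ↥M).Characteristic := Sylow.characteristic_of_normal P inferInstance
      haveI hn1 : ((P : Subgroup ↥M).map M.subtype).Normal := inferInstance
      have hp1 : (P : Subgroup ↥M).map M.subtype ≤ Cfsg.pCore 2 ↥K :=
        le_sSup ⟨hn1, P.2.map _⟩
      haveI : (Cfsg.pCore 2 ↥K).Characteristic := by
        rw [Subgroup.characteristic_iff_map_le]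
        intro φ
        rw [Cfsg.pCore, (Subgroup.gc_map_comap φ.toMonoidHom).l_sSup]
        exact iSup₂_le fun N hN => le_sSup ⟨hN.1.map _ φ.surjective, hN.2.map _⟩
      have hp2 := hO2 ((Cfsg.pCore 2 ↥K).map K.subtype) inferInstance (Subgroup.map_subtype_le _)
        ((CfsgLib.PLength.pCore_isPGroup 2 ↥K).map _)
      rw [Subgroup.map_eq_bot_iff_of_injective _ Subtype.val_injective] at hp2
      rw [hp2, le_bot_iff, Subgroup.map_eq_bot_iff_of_injective _ Subtype.val_injective] at hp1
      exact hP1 hp1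
    intro l hl
    refine ⟨⟨l, hl.1⟩, hkey (Subgroup.mem_centralizer_iff.mpr fun a ha => Subtype.ext ?_), rfl⟩
    exact Subgroup.mem_centralizer_iff.mp hl.2 (a : G) ⟨a, ha, rfl⟩
  -- `A` is a normal 2-complement
  apply hnc
  obtain ⟨P⟩ : Nonempty (Sylow 2 G) := inferInstance
  refine ⟨P, A, hAn, ?_⟩
  have hrel : A.relIndex K ≤ 2 := by
    have h1 : Nat.card A * A.relIndex K = Nat.card K := by
      rw [← Subgroup.relIndex_bot_left, ← Subgroup.relIndex_bot_left]
      exact Subgroup.relIndex_mul_relIndex _ _ _ bot_le hAK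
    have h2 : Nat.card L ≤ Nat.card A := Nat.card_le_card_of_injective _ (Subgroup.inclusion_injective hLA)
    by_contra hgt
    have h3 : Nat.card A * 3 ≤ Nat.card A * A.relIndex K := Nat.mul_le_mul_left _ (by omega)
    have := Nat.card_pos (α := A)
    omega
  have hidx : A.index = A.relIndex K * 2 := by
    rw [← hKi, Subgroup.relIndex_mul_index hAK]
  have hr0 : A.relIndex K ≠ 0 := fun h => by
    have := Subgroup.index_ne_zero_of_finite (H := A)
    simp [hidx, h] at this
  obtain ⟨i, hi⟩ : ∃ i, A.index = 2 ^ i := by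
    rw [hidx]
    interval_cases hr : A.relIndex K
    · omega
    · exact ⟨1, rfl⟩
    · exact ⟨2, rfl⟩
  have hcard := A.card_mul_index
  refine Subgroup.isComplement'_of_coprime ?_ ?_
  · rw [← hcard, hi]
    congr 1
    rw [P.card_eq_multiplicity, ← hcard, hi, Nat.factorization_mul Nat.card_pos.ne' (by positivity),
      Finsupp.add_apply, Nat.factorization_eq_zero_of_not_dvd
      (fun h => Nat.not_even_iff_odd.mpr hAodd (even_iff_two_dvd.mpr h)), zero_add,
      Nat.Prime.factorization_pow Nat.prime_two, Finsupp.single_eq_same]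
  · obtain ⟨j, hj⟩ := IsPGroup.iff_card.mp P.2
    rw [hj]
    exact Nat.Coprime.pow_right j (Nat.coprime_two_right.mpr hAodd)

/-- Let G be a finite group containing an involution whose centralizer is elementary abelian of order 4. If G has no normal 2-complement and no normal elementary abelian 2-subgroup of order 2 or 4, then G is isomorphic to the alternating group of degree 5 (that is, to PSL(2, 5)). -/
theorem result {G : Type*} [Group G] [Finite G] (x : G) (hx : orderOf x = 2)
    (hC4 : Nat.card ↥(Subgroup.centralizer ({x} : Set G)) = 4) (hCe : ∀ c ∈ Subgroup.centralizer ({x} : Set G), c ^ 2 = 1)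
    (hnc : ¬ Cfsg.HasNormalPComplement 2 G)
    (hne : ∀ E : Subgroup G, E.Normal → Cfsg.IsElementaryAbelian 2 E → Nat.card ↥E ≠ 2 ∧ Nat.card ↥E ≠ 4) :
    Nonempty (G ≃* ↥(alternatingGroup (Fin 5))) := by
  classical
  haveI : Fact (Nat.Prime 2) := ⟨Nat.prime_two⟩
  set V := Subgroup.centralizer ({x} : Set G) with hV
  by_cases h8 : 8 ∣ Nat.card G
  · obtain ⟨K, hK, hKi, hxK⟩ := CfsgLib.SelfCentralizingFour.exists_normal_index_two hx V le_rfl hC4
      (fun Q hQ _ => hC4 ▸ Nat.card_le_card_of_injective _ (Subgroup.inclusion_injective hQ)) h8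
    exact (case_index_two x hx hC4 hnc hne K hK hKi hxK).elim
  · -- `V` is a Sylow 2-subgroup
    have hfac : (Nat.card G).factorization 2 = 2 := by
      refine le_antisymm ?_ ?_
      · by_contra hlt
        exact h8 (dvd_trans (show 8 ∣ 2 ^ (Nat.card G).factorization 2 from
          (show (8:ℕ) = 2 ^ 3 by rfl) ▸ pow_dvd_pow 2 (by omega)) (Nat.ordProj_dvd _ 2))
      · refine (Nat.Prime.pow_dvd_iff_le_factorization Nat.prime_two Nat.card_pos.ne').mp ?_
        rw [show (2:ℕ) ^ 2 = Nat.card V by rw [hC4]; rfl]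
        exact Subgroup.card_subgroup_dvd_card V
    set T : Sylow 2 G := Sylow.ofCard V (by rw [hC4, hfac]; rfl) with hT
    have hTV : (T : Subgroup G) = V := rfl
    have hxV : x ∈ V := Subgroup.mem_centralizer_singleton_iff.mpr rfl
    have hVsq : ∀ c ∈ V, c * c = 1 := fun c hc => by rw [← sq]; exact hCe c hc
    have hVab : ∀ a ∈ V, ∀ b ∈ V, a * b = b * a := by
      intro a ha b hb
      have hi : ∀ c ∈ V, c⁻¹ = c := fun c hc => inv_eq_of_mul_eq_one_right (hVsq c hc)
      rw [← hi _ (V.mul_mem ha hb), mul_inv_rev, hi a ha, hi b hb]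
    have hel : Cfsg.IsElementaryAbelian 2 V :=
      ⟨⟨⟨fun a b => Subtype.ext (hVab a.1 a.2 b.1 b.2)⟩⟩, hCe⟩
    have hnn : ¬ V.Normal := fun hn => (hne V hn hel).2 hC4
    have hncyc : ¬ IsCyclic V := by
      intro hc
      obtain ⟨⟨g, hgV⟩, hg⟩ := hc.exists_generator
      have h1 := orderOf_eq_card_of_forall_mem_zpowers hg
      have h2 : orderOf (⟨g, hgV⟩ : V) ∣ 2 := orderOf_dvd_iff_pow_eq_one.mpr (Subtype.ext (hCe g hgV))
      rw [h1, hC4] at h2
      norm_num at h2
    -- Burnside: an element of `N(V)` moves `x`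
    obtain ⟨n, hnN, hnx⟩ : ∃ n ∈ Subgroup.normalizer (V : Set G), n * x * n⁻¹ ≠ x := by
      by_contra hcon
      push Not at hcon
      have hle : Subgroup.normalizer ((T : Subgroup G) : Set G) ≤
          Subgroup.centralizer ((T : Subgroup G) : Set G) := by
        intro g hg
        rw [hTV] at hg ⊢
        have hgV : g ∈ V := Subgroup.mem_centralizer_singleton_iff.mpr
          (commute_iff_conj_eq.mpr (hcon g hg)).eq
        exact Subgroup.mem_centralizer_iff.mpr fun v hv => hVab v hv g hgV
      exact hnc ⟨T, (MonoidHom.transferSylow T hle).ker, inferInstance,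
        MonoidHom.ker_transferSylow_isComplement' T hle⟩
    -- every involution has a centralizer conjugate to `V`
    have hC : ∀ t : G, orderOf t = 2 → IsMulCommutative (Subgroup.centralizer ({t} : Set G)) ∧
        ∀ c ∈ Subgroup.centralizer ({t} : Set G), c ^ 2 = 1 := by
      intro t ht
      have htp : IsPGroup 2 (Subgroup.zpowers t) :=
        IsPGroup.of_card (n := 1) (by rw [Nat.card_zpowers, ht, pow_one])
      obtain ⟨R, hR⟩ := htp.exists_le_sylow
      obtain ⟨g, hg⟩ := MulAction.exists_smul_eq G R T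
      have htV : g * t * g⁻¹ ∈ V := by
        rw [← hTV, ← hg]
        exact Subgroup.smul_mem_pointwise_smul _ (MulAut.conj g) _ (hR (Subgroup.mem_zpowers t))
      -- the three involutions of `V` are conjugate to `x`
      have hconj : ∀ v ∈ V, v ≠ 1 → ∃ m : G, m * v * m⁻¹ = x := by
        intro v hv hv1
        by_cases hvx : v = x
        · exact ⟨1, by simp [hvx]⟩
        have hmem : ∀ i : ℕ, n ^ i * x * (n ^ i)⁻¹ ∈ V := fun i =>
          (Subgroup.mem_normalizer_iff.mp (Subgroup.pow_mem _ hnN i) x).mp hxV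
        have h2 : n ^ 2 * x * (n ^ 2)⁻¹ ≠ x := by
          intro h
          have hn2 : n ^ 2 ∈ V := Subgroup.mem_centralizer_singleton_iff.mpr
            (commute_iff_conj_eq.mpr h).eq
          have hp : IsPGroup 2 (Subgroup.zpowers n ⊔ V : Subgroup G) := by
            refine IsPGroup.to_sup_of_normal_right' ?_ T.2 (Subgroup.zpowers_le.mpr hnN)
            intro m
            obtain ⟨i, hi⟩ := Subgroup.mem_zpowers_iff.mp m.2
            refine ⟨2, Subtype.ext ?_⟩
            rw [SubmonoidClass.coe_pow, ← hi, OneMemClass.coe_one, ← zpow_natCast, ← zpow_mul,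
              show i * ((2 ^ 2 : ℕ) : ℤ) = ((2 * 2 : ℕ) : ℤ) * i by push_cast; ring, zpow_mul,
              zpow_natCast, pow_mul, hCe _ hn2, one_zpow]
          have hnV : n ∈ V := by
            have := T.3 hp le_sup_right
            rw [← hTV, ← this]; exact Subgroup.mem_sup_left (Subgroup.mem_zpowers n)
          exact hnx (commute_iff_conj_eq.mp (Subgroup.mem_centralizer_singleton_iff.mp hnV))
        set a := n * x * n⁻¹ with ha
        set b := n ^ 2 * x * (n ^ 2)⁻¹ with hb
        have hab : a ≠ b := by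
          intro h
          apply hnx
          have hb' : b = n * (n * x * n⁻¹) * n⁻¹ := by rw [hb, sq]; group
          have hh : n * x * n⁻¹ = n * (n * x * n⁻¹) * n⁻¹ := (ha.symm.trans h).trans hb'
          exact (mul_left_cancel (mul_right_cancel hh)).symm
        haveI := Fintype.ofFinite G
        have hxne := ne_one_of_orderOf_two hx
        have ha1 : a ≠ 1 := fun h => hxne (conj_eq_one_iff.mp h)
        have hb1 : b ≠ 1 := fun h => hxne (conj_eq_one_iff.mp h)
        have hs : ({1, x, a, b} : Finset G) = (V : Set G).toFinset := by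
          refine Finset.eq_of_subset_of_card_le ?_ ?_
          · intro y hy
            simp only [Finset.mem_insert, Finset.mem_singleton] at hy
            rw [Set.mem_toFinset]
            rcases hy with rfl | rfl | rfl | rfl
            · exact V.one_mem
            · exact hxV
            · simpa [ha] using hmem 1
            · exact hmem 2
          · rw [Set.toFinset_card, ← Nat.card_eq_fintype_card]
            refine hC4.le.trans (le_of_eq ?_)
            simp [hxne.symm, ha1.symm, hb1.symm, hnx.symm, h2.symm, hab]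
        have hvs : v ∈ ({1, x, a, b} : Finset G) := by rw [hs, Set.mem_toFinset]; exact hv
        simp only [Finset.mem_insert, Finset.mem_singleton] at hvs
        rcases hvs with rfl | rfl | rfl | rfl
        · exact absurd rfl hv1
        · exact absurd rfl hvx
        · exact ⟨n⁻¹, by rw [ha]; group⟩
        · exact ⟨(n ^ 2)⁻¹, by rw [hb]; group⟩
      have hgt : g * t * g⁻¹ ≠ 1 := fun h => ne_one_of_orderOf_two ht (conj_eq_one_iff.mp h)
      obtain ⟨m, hm⟩ := hconj _ htV hgt
      have hmt : m * g * t * (m * g)⁻¹ = x := by rw [← hm]; group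
      have hmem : ∀ c ∈ Subgroup.centralizer ({t} : Set G), m * g * c * (m * g)⁻¹ ∈ V := by
        intro c hc
        have hct : Commute c t := Subgroup.mem_centralizer_singleton_iff.mp hc
        refine Subgroup.mem_centralizer_singleton_iff.mpr ?_
        rw [← hmt]
        have h1 := hct.map (MulAut.conj (m * g)).toMonoidHom
        simp only [MulEquiv.coe_toMonoidHom, MulAut.conj_apply] at h1
        exact h1.eq
      refine ⟨⟨⟨fun c d => Subtype.ext ?_⟩⟩, fun c hc => ?_⟩
      · apply (MulAut.conj (m * g)).injective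
        simp only [Subgroup.coe_mul]
        rw [map_mul (MulAut.conj (m * g)), map_mul (MulAut.conj (m * g))]
        exact hVab _ (hmem c c.2) _ (hmem d d.2)
      · apply (MulAut.conj (m * g)).injective
        rw [map_pow (MulAut.conj (m * g)), map_one (MulAut.conj (m * g))]
        exact hCe _ (hmem c hc)
    have h : CfsgLib.StronglyEmbedded.AbelianCentralizer.Hyp T := ⟨hncyc, hnn, hC⟩
    have hcardT : Nat.card (T : Subgroup G) = 4 := hC4
    refine CfsgLib.AltFive.nonempty_mulEquiv (H := Subgroup.normalizer ((T : Subgroup G) : Set G)) ?_ ?_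
      (CfsgLib.StronglyEmbedded.AbelianCentralizer.normalCore_eq_bot h)
    · rw [← Subgroup.index_mul_card (Subgroup.normalizer ((T : Subgroup G) : Set G)),
        CfsgLib.StronglyEmbedded.AbelianCentralizer.index_eq h,
        CfsgLib.StronglyEmbedded.AbelianCentralizer.card_normalizer h, hcardT]
    · rw [CfsgLib.StronglyEmbedded.AbelianCentralizer.index_eq h, hcardT]

end Cfsg.Agent.S3277
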