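import Cfsg.Statements.S0071
import Mathlib
import Cfsg.Agent.Eq.Def_Transfer
import Cfsg.Agent.Transfer.Frobenius

set_option autoImplicit false
open Cfsg
open CfsgLib.Transfer

namespace Cfsg.Agent.S0071

/-- The Frobenius normal p-complement Theorem states that a Sylow p-subgroup has a normal complement exactly when, for each of its subgroups Q, every element of the normalizer of Q of order prime to p centralizes Q. -/
theorem result {G : Type*} [Group G] [Finite G] {p : ℕ} [Fact p.Prime] (P : Sylow p G) : (∃ N : Subgroup G, N.Normal ∧ N.IsComplement' (P : Subgroup G)) ↔ ∀ Q : Subgroup G, Q ≤ (P : Subgroup G) → ∀ g ∈ Subgroup.normalizer (Q : Set G), Nat.Coprime (orderOf g) p → g ∈ Subgroup.centralizer (Q : Set G) := by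
  constructor
  · rintro ⟨N, hN, hc⟩ Q hQP g hg hgc
    exact mem_centralizer_of_normalizer_hasNormalPComplement (P.2.to_le hQP)
      (hasNormalPComplement_subgroup ⟨P, N, hN, hc⟩ _) hg hgc
  · intro h
    refine exists_isComplement' (hasNormalPComplement_of_pLocal_centralizes fun Q hQ g hg hgc => ?_) P
    obtain ⟨R, hR⟩ := hQ.exists_le_sylow
    obtain ⟨x, hx⟩ := MulAction.exists_smul_eq G R P
    have hQP : Q.map (MulAut.conj x).toMonoidHom ≤ (P : Subgroup G) := by
      rw [← hx]; exact Subgroup.map_mono hR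
    have hg' : x * g * x⁻¹ ∈ Subgroup.normalizer ((Q.map (MulAut.conj x).toMonoidHom : Subgroup G) : Set G) :=
      Subgroup.le_normalizer_map _ (Subgroup.mem_map.mpr ⟨g, hg, rfl⟩)
    have ho : orderOf (x * g * x⁻¹) = orderOf g := MulEquiv.orderOf_eq (MulAut.conj x) g
    have h1 := h _ hQP _ hg' (by rw [ho]; exact hgc)
    rw [Subgroup.mem_centralizer_iff] at h1 ⊢
    intro a ha
    have h2 := h1 (x * a * x⁻¹) (Subgroup.mem_map.mpr ⟨a, ha, rfl⟩)
    have h3 : x * (a * g) * x⁻¹ = x * (g * a) * x⁻¹ := by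
      calc x * (a * g) * x⁻¹ = (x * a * x⁻¹) * (x * g * x⁻¹) := by group
        _ = (x * g * x⁻¹) * (x * a * x⁻¹) := h2
        _ = _ := by group
    exact mul_left_cancel (mul_right_cancel h3)

end Cfsg.Agent.S0071
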