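import Cfsg.Statements.S0514
import Mathlib.Tactic.LinearCombination
import Mathlib.GroupTheory.Transfer
import Mathlib.GroupTheory.Focal
import Mathlib.Tactic.Group

set_option autoImplicit false
open Cfsg
open scoped commutatorElement

namespace Cfsg.Agent.S0514

open DihedralGroup

/-- The sign of a dihedral element: `1` on reflections. -/
def refl (n : ℕ) : DihedralGroup n →* Multiplicative (ZMod 2) :=
  MonoidHom.mk' (fun x => match x with
    | .r _ => Multiplicative.ofAdd 0
    | .sr _ => Multiplicative.ofAdd 1) (by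
    rintro (a | a) (b | b) <;> simp only [r_mul_r, r_mul_sr, sr_mul_r, sr_mul_sr] <;> decide)

theorem pow_odd_eq {x : Multiplicative (ZMod 2)} {m : ℕ} (hm : Odd m) : x ^ m = x := by
  obtain ⟨l, rfl⟩ := hm
  have h2 : ∀ y : Multiplicative (ZMod 2), y ^ 2 = 1 := by decide
  rw [pow_succ, pow_mul, h2, one_pow, one_mul]

theorem ofAdd_one_ne : Multiplicative.ofAdd (1 : ZMod 2) ≠ 1 := by decide

theorem eq_of_two_torsion {n : ℕ} [NeZero n] {a b : ZMod n} (ha : -a = a) (hb : -b = b) (ha0 : a ≠ 0)
    (hb0 : b ≠ 0) : a = b := by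
  have h1 := ((ZMod.neg_eq_self_iff a).1 ha).resolve_left ha0
  have h2 := ((ZMod.neg_eq_self_iff b).1 hb).resolve_left hb0
  exact ZMod.val_injective n (by omega)

theorem commute_sr {n : ℕ} {i j : ZMod n} :
    (r j * sr i = sr i * r j → -j = j) ∧ (sr j * sr i = sr i * sr j → -(j - i) = j - i) := by
  refine ⟨fun h => ?_, fun h => ?_⟩
  · simp only [r_mul_sr, sr_mul_r, sr.injEq] at h
    linear_combination h
  · simp only [sr_mul_sr, r.injEq] at h
    linear_combination h

theorem exists_of_normal_complement {C : Type*} [Group C] [Finite C] (C₁ : Subgroup C) [C₁.Normal]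
    (K : Subgroup C₁) [K.Normal] (hC₁ : ∃ j, C₁.index = 2 ^ j) (hK : Odd (Nat.card K))
    (hKi : ∃ k, K.index = 2 ^ k) :
    ∃ N : Subgroup C, N.Normal ∧ Odd (Nat.card N) ∧ ∃ k : ℕ, N.index = 2 ^ k := by
  obtain ⟨j, hj⟩ := hC₁
  obtain ⟨k, hk⟩ := hKi
  refine ⟨K.map C₁.subtype, ⟨?_⟩, ?_, k + j, ?_⟩
  · rintro _ ⟨x, hx, rfl⟩ g
    refine ⟨⟨g * x * g⁻¹, Subgroup.Normal.conj_mem inferInstance _ x.2 g⟩, ?_, rfl⟩
    set y : C₁ := ⟨g * x * g⁻¹, Subgroup.Normal.conj_mem inferInstance _ x.2 g⟩
    have hy : orderOf y = orderOf x := by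
      rw [← Subgroup.orderOf_coe, ← Subgroup.orderOf_coe (a := x)]
      exact MulEquiv.orderOf_eq (MulAut.conj g) _
    have h1 : orderOf (y : C₁ ⧸ K) ∣ Nat.card K :=
      (orderOf_map_dvd (QuotientGroup.mk' K) y).trans (hy ▸ K.orderOf_dvd_natCard hx)
    have h2 : orderOf (y : C₁ ⧸ K) ∣ 2 ^ k := by
      have : orderOf (y : C₁ ⧸ K) ∣ Nat.card (C₁ ⧸ K) := orderOf_dvd_natCard _
      exact this.trans (dvd_of_eq hk)
    exact (QuotientGroup.eq_one_iff y).1 (orderOf_eq_one_iff.1
      (Nat.eq_one_of_dvd_coprimes ((Nat.coprime_two_right.2 hK).pow_right k) h1 h2))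
  · rwa [Subgroup.card_subtype]
  · rw [Subgroup.index_map_subtype, hk, hj, pow_add]

theorem burnside {C : Type*} [Group C] [Finite C] [Fact (Nat.Prime 2)] (P : Sylow 2 C)
    (h : Subgroup.normalizer (P : Set C) ≤ Subgroup.centralizer (P : Set C)) :
    ∃ N : Subgroup C, N.Normal ∧ Odd (Nat.card N) ∧ ∃ k : ℕ, N.index = 2 ^ k := by
  refine ⟨_, inferInstance, Nat.not_even_iff_odd.1 fun h2 =>
    MonoidHom.not_dvd_card_ker_transferSylow P h (even_iff_two_dvd.1 h2), ?_⟩
  obtain ⟨k, hk⟩ := IsPGroup.iff_card.1 P.2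
  exact ⟨k, (MonoidHom.ker_transferSylow_isComplement' P h).symm.index_eq_card.trans hk⟩

theorem le_centralizer_of_sq {C : Type*} [Group C] [Finite C] [Fact (Nat.Prime 2)] (P : Sylow 2 C)
    (hab : ∀ a ∈ (P : Subgroup C), ∀ b ∈ (P : Subgroup C), a * b = b * a)
    (hsq : ∀ g ∈ Subgroup.normalizer (P : Set C), g * g ∈ Subgroup.centralizer (P : Set C)) :
    Subgroup.normalizer (P : Set C) ≤ Subgroup.centralizer (P : Set C) := by
  intro g hg
  obtain ⟨a, m, hm, ham⟩ := Nat.exists_eq_pow_mul_and_not_dvd (orderOf_pos g).ne' 2 (by norm_num)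
  obtain ⟨l, rfl⟩ : Odd m := Nat.not_even_iff_odd.1 fun h => hm (even_iff_two_dvd.1 h)
  set g' := g ^ (2 * l + 1) with hg'
  have hord : g' ^ (2 ^ a) = 1 := by
    rw [hg', ← pow_mul, mul_comm, ← ham, pow_orderOf_eq_one]
  have hp : IsPGroup 2 (Subgroup.zpowers g') := by
    obtain ⟨i, -, hi⟩ := (Nat.dvd_prime_pow Nat.prime_two).1 (orderOf_dvd_of_pow_eq_one hord)
    exact IsPGroup.of_card (n := i) (by rw [Nat.card_zpowers, hi])
  have hT : IsPGroup 2 (Subgroup.zpowers g' ⊔ (P : Subgroup C) : Subgroup C) :=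
    hp.to_sup_of_normal_right' P.2
      (Subgroup.zpowers_le.2 (Subgroup.pow_mem _ hg (2 * l + 1)))
  have hgP : g' ∈ (P : Subgroup C) := by
    rw [← P.3 hT le_sup_right]
    exact Subgroup.mem_sup_left (Subgroup.mem_zpowers g')
  have hgc : g' ∈ Subgroup.centralizer (P : Set C) :=
    Subgroup.mem_centralizer_iff.2 fun b hb => hab b hb g' hgP
  have he : g = g' * ((g * g) ^ l)⁻¹ := by
    rw [hg', ← sq, ← pow_mul, pow_succ']
    group
  rw [he]
  exact Subgroup.mul_mem _ hgc (Subgroup.inv_mem _ (Subgroup.pow_mem _ (hsq g hg) l))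

theorem main {C : Type*} [Group C] [Finite C] [Fact (Nat.Prime 2)] (D : Sylow 2 C) (t : C)
    (htc : ∀ x : C, x * t = t * x) (ht2 : t * t = 1) (htne : t ≠ 1) (htD : t ∈ (D : Subgroup C)) (n : ℕ) (hn : n ≠ 0)
    (f : (D : Subgroup C) →* DihedralGroup n) (hf : Function.Injective f) :
    ∃ N : Subgroup C, N.Normal ∧ Odd (Nat.card N) ∧ ∃ k : ℕ, N.index = 2 ^ k := by
  have : NeZero n := ⟨hn⟩
  set tD : (D : Subgroup C) := ⟨t, htD⟩ with htD'
  have hftne : f tD ≠ 1 := by
    rw [← map_one f]
    exact fun h => htne (congrArg Subtype.val (hf h))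
  have hcomm : ∀ d, f d * f tD = f tD * f d := fun d => by
    rw [← map_mul, ← map_mul]
    exact congrArg f (Subtype.ext (htc d))
  obtain ⟨i, hi⟩ | ⟨i, hi⟩ : (∃ i, f tD = .r i) ∨ (∃ i, f tD = .sr i) := by
    rcases f tD with i | i
    · exact Or.inl ⟨i, rfl⟩
    · exact Or.inr ⟨i, rfl⟩
  · -- `t` is a rotation
    set χ : (D : Subgroup C) →* Multiplicative (ZMod 2) := (refl n).comp f with hχ
    have hinv : ∀ x y : (D : Subgroup C), ∀ g : C, (y : C) = g * x * g⁻¹ → χ x = χ y := by
      suffices key : ∀ x y : (D : Subgroup C), ∀ g : C, (y : C) = g * x * g⁻¹ →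
          ∀ a, f x = .sr a → ∀ b, f y ≠ .r b by
        intro x y g hy
        rcases hx : f x with a | a <;> rcases hy' : f y with b | b <;>
          simp only [hχ, MonoidHom.comp_apply, hx, hy'] <;> try rfl
        · exact absurd hx (key y x g⁻¹ (by rw [hy]; group) b hy' a)
        · exact absurd hy' (key x y g hy a hx b)
      intro x y g hy a hx b hyb
      have hx2 : x * x = 1 := hf (by rw [map_mul, hx, map_one]; simp)
      have hy2 : y * y = 1 := by
        apply Subtype.ext
        rw [Subgroup.coe_mul, hy, Subgroup.coe_one]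
        calc g * x * g⁻¹ * (g * x * g⁻¹) = g * ((x * x : (D : Subgroup C)) : C) * g⁻¹ := by
              rw [Subgroup.coe_mul]; group
          _ = 1 := by rw [hx2]; simp
      have hb : -b = b := by
        have h1 := congrArg f hy2
        rw [map_mul, hyb, map_one, r_mul_r, one_def, r.injEq] at h1
        linear_combination -h1
      have hi2 : -i = i := by
        have h1 : f (tD * tD) = 1 := by
          rw [show tD * tD = 1 from Subtype.ext ht2, map_one]
        rw [map_mul, hi, r_mul_r, one_def, r.injEq] at h1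
        linear_combination -h1
      have hi0 : i ≠ 0 := fun h => hftne (by rw [hi, h, one_def])
      have hb0 : b ≠ 0 := by
        intro h
        have hy1 : y = 1 := hf (by rw [hyb, h, map_one, one_def])
        have hx1 : (x : C) = 1 := by
          have h2 : g * (x : C) * g⁻¹ = 1 := by rw [← hy, hy1]; rfl
          exact mul_eq_left.1 (mul_inv_eq_one.1 h2)
        rw [show x = 1 from Subtype.ext hx1, map_one, one_def] at hx
        cases hx
      have hyt : y = tD := hf (by rw [hyb, hi, eq_of_two_torsion hb hi2 hb0 hi0])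
      have hxt : x = tD := by
        apply Subtype.ext
        have h2 : g * (x : C) * g⁻¹ = t := by rw [← hy, hyt]
        calc (x : C) = g⁻¹ * (g * (x : C) * g⁻¹) * g := by group
          _ = g⁻¹ * t * g := by rw [h2]
          _ = t := by rw [mul_assoc, ← htc g]; group
      rw [hxt, hi] at hx
      cases hx
    have hfoc : (D : Subgroup C).focalSubgroupOf ≤ χ.ker := by
      rw [Subgroup.focalSubgroupOf_eq_closure, Subgroup.closure_le]
      rintro z ⟨x, hx, u, hz⟩
      have hy : u * x⁻¹ * u⁻¹ ∈ (D : Subgroup C) := by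
        have he : u * x⁻¹ * u⁻¹ = x⁻¹ * (z : C) := by rw [hz, commutatorElement_def]; group
        rw [he]
        exact Subgroup.mul_mem _ (Subgroup.inv_mem _ hx) z.2
      have he : z = ⟨x, hx⟩ * ⟨u * x⁻¹ * u⁻¹, hy⟩ := by
        apply Subtype.ext
        rw [hz, commutatorElement_def, Subgroup.coe_mul]; group
      rw [SetLike.mem_coe, MonoidHom.mem_ker, he, map_mul,
        ← hinv (⟨x, hx⟩)⁻¹ ⟨u * x⁻¹ * u⁻¹, hy⟩ u rfl, ← map_mul, mul_inv_cancel, map_one]
    let Ψ : C →* Multiplicative (ZMod 2) :=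
      (QuotientGroup.lift _ χ hfoc).comp (Subgroup.transferFocal (D : Subgroup C))
    have hΨ : ∀ d : (D : Subgroup C), Ψ d = χ d := by
      intro d
      have h1 : Odd (D : Subgroup C).index := Nat.not_even_iff_odd.1 fun h =>
        D.not_dvd_index (even_iff_two_dvd.1 h)
      simp only [Ψ, MonoidHom.comp_apply, Subgroup.transferFocal_eq_pow, map_pow]
      exact pow_odd_eq h1
    have hidx : ∃ j, Ψ.ker.index = 2 ^ j := by
      rw [Subgroup.index_ker]
      have hd : Nat.card Ψ.range ∣ 2 := by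
        have := Subgroup.card_subgroup_dvd_card Ψ.range
        simpa using this
      obtain ⟨j, -, hj⟩ := (Nat.dvd_prime_pow (m := 1) Nat.prime_two).1 (by simpa using hd)
      exact ⟨j, hj⟩
    have htker : t ∈ Ψ.ker := by
      rw [MonoidHom.mem_ker, show t = ((tD : (D : Subgroup C)) : C) from rfl, hΨ, hχ,
        MonoidHom.comp_apply, hi]
      rfl
    obtain ⟨Q⟩ : Nonempty (Sylow 2 Ψ.ker) := inferInstance
    have hQcyc : IsCyclic (Q : Subgroup Ψ.ker) := by
      obtain ⟨D', hD'⟩ := (Q.2.map Ψ.ker.subtype).exists_le_sylow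
      obtain ⟨g, hg⟩ := MulAction.exists_smul_eq C D' D
      have hmem : ∀ q : (Q : Subgroup Ψ.ker),
          g * ((q : Ψ.ker) : C) * g⁻¹ ∈ (D : Subgroup C) := by
        intro q
        rw [← hg, Sylow.coe_subgroup_smul]
        exact ⟨_, hD' ⟨q, q.2, rfl⟩, rfl⟩
      let φ : (Q : Subgroup Ψ.ker) →* DihedralGroup n := f.comp (MonoidHom.mk'
        (fun q => (⟨g * ((q : Ψ.ker) : C) * g⁻¹, hmem q⟩ : (D : Subgroup C))) fun a b => by
          apply Subtype.ext
          simp only [Subgroup.coe_mul]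
          group)
      have hφ : Function.Injective φ := by
        intro a b hab
        have h2 := congrArg Subtype.val (hf hab)
        simp only [MonoidHom.mk'_apply] at h2
        exact Subtype.ext (Subtype.ext (mul_left_cancel (mul_right_cancel h2)))
      have hle : φ.range ≤ Subgroup.zpowers (r 1) := by
        rintro _ ⟨q, rfl⟩
        have h1 : refl n (φ q) = 1 := by
          have h3 := hΨ ⟨g * ((q : Ψ.ker) : C) * g⁻¹, hmem q⟩
          rw [map_mul, map_mul, (q : Ψ.ker).2, map_inv, mul_one, mul_inv_cancel] at h3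
          exact h3.symm
        rcases hq : φ q with a | a
        · obtain ⟨k, rfl⟩ := ZMod.intCast_surjective a
          exact Subgroup.mem_zpowers_iff.2 ⟨k, by simp⟩
        · exfalso
          rw [hq] at h1
          exact ofAdd_one_ne h1
      have := Subgroup.isCyclic_of_le hle
      exact isCyclic_of_injective φ.rangeRestrict (fun a b h => hφ (congrArg Subtype.val h))
    have hmin : (Nat.card Ψ.ker).minFac = 2 := by
      rw [Nat.minFac_eq_two_iff]
      have : orderOf (⟨t, htker⟩ : Ψ.ker) = 2 := orderOf_eq_prime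
        (Subtype.ext (by rw [sq]; exact ht2)) fun h => htne (congrArg Subtype.val h)
      have h5 := orderOf_dvd_natCard (⟨t, htker⟩ : Ψ.ker)
      rwa [this] at h5
    obtain ⟨N, hN, hodd, hk⟩ := burnside Q (hQcyc.normalizer_le_centralizer hmin)
    exact exists_of_normal_complement Ψ.ker N hidx hodd hk
  · -- `t` is a reflection: `D` is elementary abelian of order at most 4
    have key : ∀ x y : (D : Subgroup C), x ≠ 1 → x ≠ tD → y ≠ 1 → y ≠ tD → y = x ∨ y = tD * x := by
      have hcl : ∀ x : (D : Subgroup C), x ≠ 1 → x ≠ tD →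
          ∃ c : ZMod n, c ≠ 0 ∧ -c = c ∧ (f x = r c ∨ f x = sr (i + c)) := by
        intro x hx1 hxt
        have hc := hcomm x
        rw [hi] at hc
        rcases hfx : f x with a | a <;> rw [hfx] at hc
        · refine ⟨a, fun h => hx1 (hf (by rw [hfx, h, map_one, one_def])), commute_sr.1 hc, Or.inl rfl⟩
        · refine ⟨a - i, fun h => hxt (hf (by rw [hfx, hi, sub_eq_zero.1 h])), commute_sr.2 hc,
            Or.inr (by rw [add_sub_cancel])⟩
      intro x y hx1 hxt hy1 hyt
      obtain ⟨c, hc0, hc, hxc⟩ := hcl x hx1 hxt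
      obtain ⟨c', hc0', hc', hyc⟩ := hcl y hy1 hyt
      obtain rfl := eq_of_two_torsion hc hc' hc0 hc0'
      rcases hxc with hxc | hxc <;> rcases hyc with hyc | hyc
      · exact Or.inl (hf (hyc.trans hxc.symm))
      · refine Or.inr (hf ?_)
        rw [map_mul, hi, hxc, hyc, sr_mul_r]
      · refine Or.inr (hf ?_)
        rw [map_mul, hi, hxc, hyc, sr_mul_sr, add_sub_cancel_left]
      · exact Or.inl (hf (hyc.trans hxc.symm))
    refine burnside D (le_centralizer_of_sq D ?_ ?_)
    · intro a ha b hb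
      suffices h : (⟨a, ha⟩ : (D : Subgroup C)) * ⟨b, hb⟩ = ⟨b, hb⟩ * ⟨a, ha⟩ from
        congrArg Subtype.val h
      have htd : ∀ x : (D : Subgroup C), x * tD = tD * x := fun x => Subtype.ext (htc x)
      by_cases h1 : (⟨a, ha⟩ : (D : Subgroup C)) = 1
      · rw [h1, one_mul, mul_one]
      by_cases h2 : (⟨a, ha⟩ : (D : Subgroup C)) = tD
      · rw [h2]; exact (htd _).symm
      by_cases h3 : (⟨b, hb⟩ : (D : Subgroup C)) = 1
      · rw [h3, one_mul, mul_one]
      by_cases h4 : (⟨b, hb⟩ : (D : Subgroup C)) = tD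
      · rw [h4]; exact htd _
      rcases key _ _ h1 h2 h3 h4 with h | h <;> rw [h]
      rw [← mul_assoc, htd, mul_assoc]
    · intro g hg
      refine Subgroup.mem_centralizer_iff.2 fun d hd => ?_
      by_cases h1 : d = 1
      · rw [h1, one_mul, mul_one]
      by_cases h2 : d = t
      · rw [h2]; exact (htc _).symm
      have hgd : g * d * g⁻¹ ∈ (D : Subgroup C) := (Subgroup.mem_normalizer_iff.1 hg d).1 hd
      have hne1 : (⟨g * d * g⁻¹, hgd⟩ : (D : Subgroup C)) ≠ 1 := fun h => h1 (by
        have h' : g * d * g⁻¹ = 1 := congrArg Subtype.val h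
        exact mul_eq_left.1 (mul_inv_eq_one.1 h'))
      have hnet : (⟨g * d * g⁻¹, hgd⟩ : (D : Subgroup C)) ≠ tD := fun h => h2 (by
        have h' : g * d * g⁻¹ = t := congrArg Subtype.val h
        calc d = g⁻¹ * (g * d * g⁻¹) * g := by group
          _ = g⁻¹ * t * g := by rw [h']
          _ = t := by rw [mul_assoc, ← htc g]; group)
      have h2' : g * (g * d * g⁻¹) * g⁻¹ = d := by
        rcases key ⟨d, hd⟩ ⟨g * d * g⁻¹, hgd⟩ (fun h => h1 (congrArg Subtype.val h))
          (fun h => h2 (congrArg Subtype.val h)) hne1 hnet with h | h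
        · have h' : g * d * g⁻¹ = d := congrArg Subtype.val h
          rw [h', h']
        · have h' : g * d * g⁻¹ = t * d := congrArg Subtype.val h
          rw [h']
          calc g * (t * d) * g⁻¹ = (g * t) * d * g⁻¹ := by group
            _ = t * (g * d * g⁻¹) := by rw [htc g]; group
            _ = d := by rw [h', ← mul_assoc, ht2, one_mul]
      calc d * (g * g) = g * (g * d * g⁻¹) * g⁻¹ * (g * g) := by rw [h2']
        _ = _ := by group


/-- In a finite group whose Sylow 2-subgroups are dihedral of order at least 4, the centralizer of any involution has a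
normal subgroup of odd order whose index in the centralizer is a power of 2. -/
theorem result {X : Type*} [Group X] [Finite X]
    (S : Sylow 2 X) (n : ℕ) (hn : 2 ≤ n) (hS : Nonempty ((S : Subgroup X) ≃* DihedralGroup n)) (t : X)
    (ht : orderOf t = 2) :
    ∃ N : Subgroup (Subgroup.centralizer ({t} : Set X)), N.Normal ∧ Odd (Nat.card N) ∧ ∃ k : ℕ, N.index = 2 ^ k := by
  have : Fact (Nat.Prime 2) := ⟨Nat.prime_two⟩
  set C : Subgroup X := Subgroup.centralizer ({t} : Set X) with hC
  have htC : t ∈ C := Subgroup.mem_centralizer_singleton_iff.2 rfl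
  set t' : C := ⟨t, htC⟩ with ht'
  have htc : ∀ x : C, x * t' = t' * x := fun x =>
    Subtype.ext (Subgroup.mem_centralizer_singleton_iff.1 x.2)
  have htne : t' ≠ 1 := fun h => by
    have : t = 1 := congrArg Subtype.val h
    simp [this] at ht
  obtain ⟨D⟩ : Nonempty (Sylow 2 C) := inferInstance
  have htD : t' ∈ (D : Subgroup C) := by
    have hn' : (Subgroup.zpowers t').Normal := by
      constructor
      intro x hx g
      obtain ⟨k, rfl⟩ := Subgroup.mem_zpowers_iff.1 hx
      rw [← conj_zpow, htc g, mul_inv_cancel_right]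
      exact Subgroup.zpow_mem _ (Subgroup.mem_zpowers t') k
    have hp : IsPGroup 2 (Subgroup.zpowers t') := IsPGroup.of_card (n := 1) (by
      rw [Nat.card_zpowers, pow_one, ← Subgroup.orderOf_coe]; exact ht)
    exact hp.le_sylow_of_normal D (Subgroup.mem_zpowers t')
  obtain ⟨S', hS'⟩ := (D.2.map C.subtype).exists_le_sylow
  obtain ⟨e⟩ := hS
  have hn0 : n ≠ 0 := by omega
  let f : (D : Subgroup C) →* DihedralGroup n :=
    ((S'.equiv S).trans e).toMonoidHom.comp
      ((Subgroup.inclusion hS').comp ((C.subtype).subgroupMap (D : Subgroup C)))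
  have hf : Function.Injective f := by
    intro a b hab
    simp only [f, MonoidHom.coe_comp, Function.comp_apply, MulEquiv.coe_toMonoidHom,
      EmbeddingLike.apply_eq_iff_eq, Subgroup.inclusion_inj] at hab
    exact Subtype.ext (Subtype.ext (congrArg (fun v : Subgroup.map C.subtype (D : Subgroup C) => (v : X)) hab))
  refine main D t' htc (Subtype.ext ?_) htne htD n hn0 f hf
  change t * t = 1
  rw [← sq, ← ht, pow_orderOf_eq_one]

end Cfsg.Agent.S0514
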