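import Cfsg.Statements.S3282
import Cfsg.Agent.BrauerSuzukiWall.SplitPlus
import Cfsg.Agent.BrauerSuzukiWall.SplitMinus
import Cfsg.Agent.BrauerSuzukiWall.SmallK

set_option autoImplicit false
open Cfsg

namespace Cfsg.Agent.S3282

open CfsgLib.BrauerSuzukiWall

theorem result {G : Type*} [Group G] [Finite G] (t : G) (ht : orderOf t = 2)
    (K : Subgroup G) (hKab : IsMulCommutative ↥K) (hKH : K ≤ Subgroup.centralizer ({t} : Set G)) (htK : t ∈ K)
    (s : G) (hs : orderOf s = 2) (hsH : s ∈ Subgroup.centralizer ({t} : Set G)) (hsK : s ∉ K)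
    (hH : K ⊔ Subgroup.zpowers s = Subgroup.centralizer ({t} : Set G)) (hCK : K ⊓ Subgroup.centralizer ({s} : Set G) = Subgroup.zpowers t)
    (hinv : ∀ x ∈ K, s * x * s⁻¹ = x⁻¹)
    (hTI : ∀ g : G, g ∉ Subgroup.centralizer ({t} : Set G) → K ⊓ K.map (MulAut.conj g).toMonoidHom = ⊥)
    (hconj : ∀ x y : G, orderOf x = 2 → orderOf y = 2 → IsConj x y) :
    ∃ Q D : Subgroup G, 2 * Nat.card G = Nat.card ↥Q * (Nat.card ↥Q + 1) * (Nat.card ↥Q - 1) ∧
      (∀ x ∈ Q, x ≠ 1 → Subgroup.centralizer ({x} : Set G) = Q) ∧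
      IsMulCommutative ↥D ∧ 2 * Nat.card ↥D + 1 = Nat.card ↥Q ∧ Q ⊓ D = ⊥ ∧
      Subgroup.normalizer (Q : Set G) = Q ⊔ D ∧
      ∀ X : Subgroup G, X ≤ D → X ≠ ⊥ →
        Subgroup.normalizer (X : Set G) = Subgroup.normalizer (D : Set G) ∧
        ∃ u : G, orderOf u = 2 ∧ u ∉ D ∧ (∀ d ∈ D, u * d * u⁻¹ = d⁻¹) ∧
          Subgroup.normalizer (D : Set G) = D ⊔ Subgroup.zpowers u := by
  obtain ⟨hs2, -⟩ := orderOf_eq_two_iff'.mp hs
  obtain ⟨ht2, -⟩ := orderOf_eq_two_iff'.mp ht
  have hsi : s⁻¹ = s := inv_eq_of_mul_eq_one_right hs2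
  let S : Subgroup G :=
    { carrier := {g | g ∈ K ∨ s * g ∈ K}
      one_mem' := .inl K.one_mem
      mul_mem' := by
        rintro a b (ha | ha) (hb | hb)
        · exact .inl (K.mul_mem ha hb)
        · refine .inr ?_
          rw [show s * (a * b) = (s * a * s⁻¹) * (s * b) by group, hinv a ha]
          exact K.mul_mem (K.inv_mem ha) hb
        · exact .inr (by rw [← mul_assoc]; exact K.mul_mem ha hb)
        · refine .inl ?_
          have h1 : a * b = s * (s * a) * s⁻¹ * (s * b) * (1 : G) := by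
            rw [← mul_assoc s s a, hs2, one_mul, mul_one]; group
          rw [h1, hinv _ ha, mul_one]
          exact K.mul_mem (K.inv_mem ha) hb
      inv_mem' := by
        rintro a (ha | ha)
        · exact .inl (K.inv_mem ha)
        · refine .inr ?_
          rw [show s * a⁻¹ = s * (a⁻¹ * s⁻¹) * s by group,
            show a⁻¹ * s⁻¹ = (s * a)⁻¹ by group]
          have := hinv _ (K.inv_mem ha)
          rw [inv_inv, hsi] at this
          rw [this]; exact ha }
  have hle : Subgroup.centralizer ({t} : Set G) ≤ S := hH ▸ sup_le (fun a ha => Or.inl ha)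
    (Subgroup.zpowers_le.mpr (Or.inr (by rw [hs2]; exact K.one_mem)))
  have hD : Data t K s := by
    refine ⟨ht, fun a ha b hb => congrArg Subtype.val (hKab.is_comm.comm (⟨a, ha⟩ : K) ⟨b, hb⟩),
      htK, hs, Subgroup.mem_centralizer_singleton_iff.mp hsH, hsK,
      fun g hg => hle (Subgroup.mem_centralizer_singleton_iff.mpr hg), fun a ha h => ?_, hinv,
      fun g hg a ha h => ?_, fun x hx => hconj t x ht hx⟩
    · have hmem : a ∈ Subgroup.zpowers t := by
        rw [← hCK]
        refine Subgroup.mem_inf.mpr ⟨ha, Subgroup.mem_centralizer_singleton_iff.mpr ?_⟩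
        have h1 := hinv a ha
        rw [inv_eq_of_mul_eq_one_right h] at h1
        exact (mul_inv_eq_iff_eq_mul.mp h1).symm
      obtain ⟨i, rfl⟩ := Subgroup.mem_zpowers_iff.mp hmem
      rcases Int.even_or_odd' i with ⟨j, rfl | rfl⟩
      · left; rw [zpow_mul, show (2 : ℤ) = ((2 : ℕ) : ℤ) from rfl, zpow_natCast, sq, ht2, one_zpow]
      · right
        rw [zpow_add, zpow_mul, show (2 : ℤ) = ((2 : ℕ) : ℤ) from rfl, zpow_natCast, sq, ht2,
          one_zpow, zpow_one, one_mul]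
    · have hb : g * a * g⁻¹ ∈ K ⊓ K.map (MulAut.conj g).toMonoidHom :=
        Subgroup.mem_inf.mpr ⟨h, Subgroup.mem_map.mpr ⟨a, ha, rfl⟩⟩
      rw [hTI g (fun hg' => hg (Subgroup.mem_centralizer_singleton_iff.mp hg')),
        Subgroup.mem_bot] at hb
      exact conj_eq_one_iff.mp hb
  obtain ⟨m, hm⟩ := hD.even_card
  have hm0 : m ≠ 0 := fun e => by
    have h0 : 0 < Nat.card K := Nat.card_pos
    omega
  rcases (show Nat.card K = 2 ∨ 4 ≤ Nat.card K by omega) with hk | hk
  · exact hD.conclusion_two hk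
  · obtain ⟨a, ε, M, q, L, hS⟩ := hD.exists_setting hk
    rcases hS.cases with h | h
    · exact hS.conclusion_plus h.1
    · exact hS.conclusion_minus h.1

end Cfsg.Agent.S3282
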