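import Cfsg.Statements.S0508
import Cfsg.Agent.S0514
import Cfsg.Agent.S3282
import Cfsg.Agent.FusionTwo.DihedralCases
import Cfsg.Agent.Balance.ExtendedLayer
import Cfsg.Agent.BrauerSuzukiWall.Recognition

set_option autoImplicit false
open Cfsg

namespace Cfsg.Agent.S0508

open CfsgLib.FusionTwo

/-- A cyclic subgroup of index two of a dihedral Sylow group through the central involution. -/
theorem exists_rotation {G : Type*} [Group G] [Finite G] {S : Subgroup G} {k : ℕ} {x y t : G}
    (h : IsDihGen S k x y) (ht : orderOf t = 2) (htS : t ∈ S) (htZ : ∀ s ∈ S, s * t = t * s) :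
    ∃ T : Subgroup G, T ≤ S ∧ IsCyclic T ∧ t ∈ T ∧ 2 * Nat.card T = Nat.card S ∧
      ∀ g ∈ S, g ∉ T → g * g = 1 ∧ ∀ a ∈ T, g * a * g⁻¹ = a⁻¹ := by
  have hrefl : ∀ g ∈ S, g ∉ Subgroup.zpowers x →
      g * g = 1 ∧ ∀ a ∈ Subgroup.zpowers x, g * a * g⁻¹ = a⁻¹ := by
    intro g hg hgx
    obtain ⟨i, rfl | rfl⟩ := h.mem_cases hg
    · exact absurd (Subgroup.zpow_mem_zpowers x i) hgx
    · refine ⟨h.mul_self i, ?_⟩
      rintro a ⟨j, rfl⟩
      dsimp only
      rw [show x ^ i * y * x ^ j * (x ^ i * y)⁻¹ = x ^ i * (y * x ^ j) * y⁻¹ * (x ^ i)⁻¹ by group,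
        h.y_mul_zpow]
      group
  rcases Nat.lt_or_ge 1 k with hk | hk
  · refine ⟨Subgroup.zpowers x, (Subgroup.zpowers_le).mpr h.x_mem, inferInstance, ?_, ?_, hrefl⟩
    · rcases h.mem_involution htS ht with rfl | ⟨i, rfl⟩
      · exact Subgroup.zpow_mem_zpowers x _
      · exfalso
        have e := htZ x h.x_mem
        rw [mul_assoc (x ^ i), show y * x = x ^ (-1 : ℤ) * y by
          rw [← h.y_mul_zpow 1, zpow_one], ← mul_assoc, ← mul_assoc, ← zpow_add,
          ← zpow_one_add] at e
        have h1 := h.zpow_eq_iff.mp (mul_right_cancel e)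
        rw [show 1 + i - (i + -1) = 2 by ring] at h1
        have h2 : (2 : ℤ) ^ 2 ≤ 2 ^ k := pow_le_pow_right₀ (by norm_num) hk
        have := Int.le_of_dvd (by norm_num) h1
        omega
    · rw [Nat.card_zpowers, h.ox, h.card, pow_succ, mul_comm]
  · have hk1 : k = 1 := le_antisymm hk h.one_le
    subst hk1
    have hexp : ∀ g ∈ S, g * g = 1 := by
      intro g hg
      obtain ⟨i, rfl | rfl⟩ := h.mem_cases hg
      · rw [← zpow_add, h.zpow_eq_one_iff]
        exact ⟨i, by ring⟩
      · exact h.mul_self i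
    refine ⟨Subgroup.zpowers t, (Subgroup.zpowers_le).mpr htS, inferInstance,
      Subgroup.mem_zpowers t, ?_, fun g hg _ => ⟨hexp g hg, fun a ha => ?_⟩⟩
    · rw [Nat.card_zpowers, ht, h.card]; norm_num
    · obtain ⟨j, rfl⟩ := ha
      have hc : Commute g (t ^ j) := (show Commute g t from htZ g hg).zpow_right j
      dsimp only
      rw [hc.eq, mul_inv_cancel_right]
      exact eq_inv_of_mul_eq_one_left (hexp _ (S.zpow_mem htS j))

/-- Let G be a finite simple group with a dihedral Sylow 2-subgroup S (of order at least 4), t an involution in the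
centre of S, C the centralizer of t and O the core of C (its largest normal subgroup of odd order). Suppose that: if O
is nontrivial then the centralizer of O in S is cyclic of index 2 in S; every element of S not centralizing O inverts
every element of O; and the normalizer of every nontrivial subgroup of O lies in C. Then G is isomorphic to a projective
special linear group of dimension 2 over a field of odd order. -/
theorem result {G : Type*} [Group G] [Finite G] [IsSimpleGroup G] (S : Sylow 2 G) (n : ℕ)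
    (hn : 2 ≤ n) (hS : Nonempty ((S : Subgroup G) ≃* DihedralGroup n)) (t : G) (ht : orderOf t = 2)
    (htS : t ∈ (S : Subgroup G))
    (htZ : ∀ s ∈ (S : Subgroup G), s * t = t * s) (O : Subgroup G)
    (hO : O = (Cfsg.oddCore (Subgroup.centralizer ({t} : Set G))).map (Subgroup.centralizer ({t} : Set G)).subtype)
    (ha : O ≠ ⊥ → IsCyclic ((S : Subgroup G) ⊓ Subgroup.centralizer (O : Set G) : Subgroup G) ∧
      ((S : Subgroup G) ⊓ Subgroup.centralizer (O : Set G)).relIndex (S : Subgroup G) = 2)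
    (hb : ∀ s ∈ (S : Subgroup G), s ∉ Subgroup.centralizer (O : Set G) → ∀ y ∈ O, s * y * s⁻¹ = y⁻¹)
    (hc : ∀ Y : Subgroup G, Y ≤ O → Y ≠ ⊥ → Subgroup.normalizer (Y : Set G) ≤ Subgroup.centralizer ({t} : Set G)) :
    ∃ (F : Type) (_ : Field F) (_ : Fintype F), Odd (Fintype.card F) ∧ Nonempty (G ≃* Matrix.ProjectiveSpecialLinearGroup (Fin 2) F) := by
  classical
  haveI : Fact (Nat.Prime 2) := ⟨Nat.prime_two⟩
  obtain ⟨e⟩ := hS
  obtain ⟨k, x, y, -, h⟩ := exists_isDihGen S.2 hn e
  -- all involutions are conjugate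
  have hGcard : Nat.card (S : Subgroup G) ∣ Nat.card G := Subgroup.card_subgroup_dvd_card _
  have hfour : 4 ∣ Nat.card (S : Subgroup G) := by
    rw [h.card]
    exact (pow_dvd_pow 2 (show 2 ≤ k + 1 by have := h.one_le; omega))
  have hG : ∀ H : Subgroup G, H.index ≠ 2 := fun H hH => by
    rcases (Subgroup.normal_of_index_eq_two hH).eq_bot_or_eq_top with rfl | rfl
    · rw [Subgroup.index_bot] at hH
      have := Nat.le_of_dvd (by omega) (hfour.trans (hH ▸ hGcard))
      omega
    · simp at hH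
  have hall := DihFusion.all_fused_of_no_index_two h hG
  have hconj : ∀ a b : G, orderOf a = 2 → orderOf b = 2 → IsConj a b := fun a b ha' hb' =>
    (DihFusion.isConj_z h hall ha').trans (DihFusion.isConj_z h hall hb').symm
  obtain ⟨T, hTS, hTc, htT, hTcard, hTinv⟩ := exists_rotation h ht htS htZ
  set C := Subgroup.centralizer ({t} : Set G) with hCdef
  have hmemC : ∀ g, g ∈ C ↔ g * t = t * g := fun g => Subgroup.mem_centralizer_singleton_iff
  have hSC : (S : Subgroup G) ≤ C := fun s hs => (hmemC s).mpr (htZ s hs)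
  have hOC : O ≤ C := hO ▸ Subgroup.map_subtype_le _
  haveI hcoreN : (Cfsg.oddCore C).Normal := CfsgLib.Balance.oddCore_normal_inst 2
  have hOn : ∀ c ∈ C, ∀ o ∈ O, c * o * c⁻¹ ∈ O := by
    intro c hc o ho
    rw [hO] at ho ⊢
    obtain ⟨o', ho', rfl⟩ := ho
    exact ⟨⟨c, hc⟩ * o' * ⟨c, hc⟩⁻¹, hcoreN.conj_mem o' ho' ⟨c, hc⟩, rfl⟩
  have hOodd : Odd (Nat.card O) := by
    rw [hO, Subgroup.card_map_of_injective C.subtype_injective]
    exact Nat.odd_iff.mpr (Nat.two_dvd_ne_zero.mp (CfsgLib.Balance.pPrimeCore_not_dvd 2 C))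
  -- `C = OS`
  have hCOS : ∀ c ∈ C, ∃ o ∈ O, ∃ w ∈ (S : Subgroup G), c = o * w := by
    obtain ⟨N, hNn, hNodd, j, hNj⟩ := Cfsg.Agent.S0514.result S n hn ⟨e⟩ t ht
    have hNle : N ≤ Cfsg.oddCore C := le_sSup ⟨hNn, Nat.coprime_two_right.mpr hNodd⟩
    have h1 : (Cfsg.oddCore C ⊔ (S : Subgroup G).subgroupOf C).index = 1 := by
      have d1 := Subgroup.index_dvd_of_le (hNle.trans
        (le_sup_left : _ ≤ Cfsg.oddCore C ⊔ (S : Subgroup G).subgroupOf C))
      have d2 := Subgroup.index_dvd_of_le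
        (le_sup_right : _ ≤ Cfsg.oddCore C ⊔ (S : Subgroup G).subgroupOf C)
      have d3 : ((S : Subgroup G).subgroupOf C).index ∣ (S : Subgroup G).index :=
        Dvd.intro _ (Subgroup.relIndex_mul_index hSC)
      rw [hNj] at d1
      refine Nat.eq_one_of_dvd_coprimes ?_ d1 (d2.trans d3)
      exact Nat.Coprime.pow_left _ ((Nat.prime_two.coprime_iff_not_dvd).mpr S.not_dvd_index)
    rw [Subgroup.index_eq_one] at h1
    intro c hc
    have h2 : (⟨c, hc⟩ : C) ∈ Cfsg.oddCore C ⊔ (S : Subgroup G).subgroupOf C :=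
      h1 ▸ Subgroup.mem_top _
    obtain ⟨o, ho, w, hw, e'⟩ := Subgroup.mem_sup_of_normal_left.mp h2
    exact ⟨o, hO ▸ Subgroup.mem_map_of_mem _ ho, w, hw, (congrArg Subtype.val e').symm⟩
  -- `O ∩ S = 1`
  have hOS : ∀ g ∈ O, g ∈ (S : Subgroup G) → g = 1 := by
    intro g hgO hgS
    have d1 := Subgroup.orderOf_dvd_natCard _ hgO
    have d2 := Subgroup.orderOf_dvd_natCard _ hgS
    rw [h.card] at d2
    exact orderOf_eq_one_iff.mp
      (Nat.eq_one_of_dvd_coprimes ((Nat.coprime_two_right.mpr hOodd).pow_right _) d1 d2)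
  have hO2 : ∀ g ∈ O, g * g = 1 → g = 1 := by
    intro g hgO hg
    have d1 := Subgroup.orderOf_dvd_natCard _ hgO
    have d2 : orderOf g ∣ 2 := orderOf_dvd_of_pow_eq_one (by rw [pow_two, hg])
    exact orderOf_eq_one_iff.mp (Nat.eq_one_of_dvd_coprimes (Nat.coprime_two_right.mpr hOodd) d1 d2)
  -- the action of `S` on `O`
  have hTne : ∃ g ∈ (S : Subgroup G), g ∉ T := by
    by_contra hcon
    push Not at hcon
    have := congrArg (fun H : Subgroup G => Nat.card H) (le_antisymm hTS hcon)
    have := (Nat.card_pos : 0 < Nat.card T)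
    omega
  obtain ⟨s, hsS, hsT⟩ := hTne
  have hTmem : ∀ a ∈ T, a * a = 1 → a = 1 ∨ a = t := by
    intro a haT ha2
    haveI := Fintype.ofFinite T
    by_contra hcon
    push Not at hcon
    have hle := IsCyclic.card_pow_eq_one_le (α := T) (n := 2) (by norm_num)
    have hsub : ({1, ⟨t, htT⟩, ⟨a, haT⟩} : Finset T) ⊆
        Finset.univ.filter (fun z : T => z ^ 2 = 1) := by
      intro z hz
      simp only [Finset.mem_insert, Finset.mem_singleton] at hz
      simp only [Finset.mem_filter, Finset.mem_univ, true_and]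
      rcases hz with rfl | rfl | rfl
      · exact one_pow 2
      · exact Subtype.ext (by rw [SubgroupClass.coe_pow, ← ht]; exact pow_orderOf_eq_one t)
      · exact Subtype.ext (by rw [SubgroupClass.coe_pow, pow_two]; exact ha2)
    have h3 : ({1, ⟨t, htT⟩, ⟨a, haT⟩} : Finset T).card = 3 := by
      have ht1 : t ≠ 1 := fun e' => by simp [e'] at ht
      refine Finset.card_eq_three.mpr ⟨_, _, _, ?_, ?_, ?_, rfl⟩
      · exact fun e' => ht1 (congrArg Subtype.val e').symm
      · exact fun e' => hcon.1 (congrArg Subtype.val e').symm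
      · exact fun e' => hcon.2 (congrArg Subtype.val e').symm
    have := (Finset.card_le_card hsub).trans hle
    omega
  have hTO : ∀ w ∈ T, ∀ o ∈ O, w * o = o * w := by
    intro w hw o ho
    rcases eq_or_ne O ⊥ with hbot | hne
    · rw [hbot, Subgroup.mem_bot] at ho
      rw [ho, mul_one, one_mul]
    obtain ⟨hcyc, hrel⟩ := ha hne
    set A := (S : Subgroup G) ⊓ Subgroup.centralizer (O : Set G) with hA
    have htA : t ∈ A := ⟨htS, fun o ho => (hmemC o).mp (hOC ho)⟩
    have hAcard : 2 * Nat.card A = Nat.card (S : Subgroup G) := by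
      have hmul := Subgroup.relIndex_mul_relIndex ⊥ A (S : Subgroup G) bot_le inf_le_left
      rw [Subgroup.relIndex_bot_left, Subgroup.relIndex_bot_left, hrel] at hmul
      omega
    obtain ⟨c, hc'⟩ := Subgroup.isCyclic_iff_exists_zpowers_eq_top A |>.mp hcyc
    have hcA : c ∈ A := hc' ▸ Subgroup.mem_zpowers c
    have hcT : c ∈ T := by
      by_contra hcT
      obtain ⟨hc2, -⟩ := hTinv c hcA.1 hcT
      rw [← hc', Subgroup.mem_zpowers_iff] at htA
      obtain ⟨i, hi⟩ := htA
      rcases Int.even_or_odd' i with ⟨d, rfl | rfl⟩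
      · rw [zpow_mul, zpow_two, hc2, one_zpow] at hi
        rw [← hi, orderOf_one] at ht
        omega
      · rw [zpow_add, zpow_mul, zpow_two, hc2, one_zpow, one_mul, zpow_one] at hi
        exact hcT (hi ▸ htT)
    have hAT : A = T := Subgroup.eq_of_le_of_card_ge
      (hc' ▸ (Subgroup.zpowers_le).mpr hcT) (by omega)
    have : w ∈ A := hAT ▸ hw
    exact (this.2 o ho).symm
  have hsO : ∀ w ∈ (S : Subgroup G), w ∉ T → ∀ o ∈ O, w * o * w⁻¹ = o⁻¹ := by
    intro w hwS hwT o ho
    rcases eq_or_ne O ⊥ with hbot | hne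
    · rw [hbot, Subgroup.mem_bot] at ho
      rw [ho]; group
    refine hb w hwS (fun hwO => hwT ?_) o ho
    have hle : T ≤ (S : Subgroup G) ⊓ Subgroup.centralizer (O : Set G) :=
      le_inf hTS fun w hw o ho => (hTO w hw o ho).symm
    have hAcard : 2 * Nat.card ↥((S : Subgroup G) ⊓ Subgroup.centralizer (O : Set G)) =
        Nat.card (S : Subgroup G) := by
      have hmul := Subgroup.relIndex_mul_relIndex ⊥
        ((S : Subgroup G) ⊓ Subgroup.centralizer (O : Set G)) (S : Subgroup G) bot_le inf_le_left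
      rw [Subgroup.relIndex_bot_left, Subgroup.relIndex_bot_left, (ha hne).2] at hmul
      omega
    rw [Subgroup.eq_of_le_of_card_ge hle (by omega)]
    exact ⟨hwS, hwO⟩
  have hOab : ∀ a ∈ O, ∀ b ∈ O, a * b = b * a := by
    intro a ha' b hb'
    have h1 := hsO s hsS hsT _ (O.mul_mem ha' hb')
    rw [show s * (a * b) * s⁻¹ = (s * a * s⁻¹) * (s * b * s⁻¹) by group, hsO s hsS hsT a ha',
      hsO s hsS hsT b hb'] at h1
    rw [← inv_inj, mul_inv_rev, mul_inv_rev]
    rw [mul_inv_rev] at h1
    exact h1.symm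
  -- the subgroup `K = OT`
  let K : Subgroup G :=
    { carrier := {g | ∃ o ∈ O, ∃ w ∈ T, g = o * w}
      one_mem' := ⟨1, O.one_mem, 1, T.one_mem, (mul_one 1).symm⟩
      mul_mem' := by
        rintro _ _ ⟨o, ho, w, hw, rfl⟩ ⟨o', ho', w', hw', rfl⟩
        exact ⟨o * o', O.mul_mem ho ho', w * w', T.mul_mem hw hw', by
          rw [mul_assoc, ← mul_assoc w, hTO w hw o' ho', mul_assoc, mul_assoc]⟩
      inv_mem' := by
        rintro _ ⟨o, ho, w, hw, rfl⟩
        exact ⟨o⁻¹, O.inv_mem ho, w⁻¹, T.inv_mem hw, by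
          rw [mul_inv_rev, hTO _ (T.inv_mem hw) _ (O.inv_mem ho)]⟩ }
  have hTcomm : ∀ a ∈ T, ∀ b ∈ T, a * b = b * a := fun a ha' b hb' => by
    haveI := hTc
    letI := IsCyclic.commGroup (α := T)
    exact congrArg Subtype.val (mul_comm (⟨a, ha'⟩ : T) ⟨b, hb'⟩)
  have hKab : IsMulCommutative ↥K := by
    refine ⟨⟨?_⟩⟩
    rintro ⟨_, o, ho, w, hw, rfl⟩ ⟨_, o', ho', w', hw', rfl⟩
    refine Subtype.ext ?_
    show o * w * (o' * w') = o' * w' * (o * w)
    rw [mul_assoc, ← mul_assoc w, hTO w hw o' ho', mul_assoc o' w, hTcomm w hw w' hw',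
      ← mul_assoc o, hOab o ho o' ho', mul_assoc o', mul_assoc o', ← mul_assoc w',
      hTO w' hw' o ho, mul_assoc]
  have hKC : K ≤ C := by
    rintro _ ⟨o, ho, w, hw, rfl⟩
    exact C.mul_mem (hOC ho) (hSC (hTS hw))
  have htK : t ∈ K := ⟨1, O.one_mem, t, htT, (one_mul t).symm⟩
  have hK2 : ∀ a ∈ K, a * a = 1 → a = 1 ∨ a = t := by
    rintro _ ⟨o, ho, w, hw, rfl⟩ h2
    have h' : o * o * (w * w) = 1 := by
      rw [← h2, mul_assoc o w, ← mul_assoc w, hTO w hw o ho, mul_assoc, mul_assoc]
    have h'' : o * o = 1 := hOS _ (O.mul_mem ho ho) (by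
      rw [eq_inv_of_mul_eq_one_left h']
      exact (S : Subgroup G).inv_mem ((S : Subgroup G).mul_mem (hTS hw) (hTS hw)))
    rw [hO2 o ho h'', one_mul] at h2 ⊢
    exact hTmem w hw h2
  have hsK : s ∉ K := by
    rintro ⟨o, ho, w, hw, e'⟩
    have : o = 1 := hOS o ho (by
      rw [eq_mul_inv_of_mul_eq e'.symm]
      exact (S : Subgroup G).mul_mem hsS ((S : Subgroup G).inv_mem (hTS hw)))
    rw [this, one_mul] at e'
    exact hsT (e' ▸ hw)
  obtain ⟨hs2, hsTinv⟩ := hTinv s hsS hsT
  have hsord : orderOf s = 2 :=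
    orderOf_eq_prime (by rw [pow_two, hs2]) fun e' => hsK (e' ▸ K.one_mem)
  have hinv : ∀ a ∈ K, s * a * s⁻¹ = a⁻¹ := by
    rintro _ ⟨o, ho, w, hw, rfl⟩
    rw [show s * (o * w) * s⁻¹ = (s * o * s⁻¹) * (s * w * s⁻¹) by group, hsO s hsS hsT o ho,
      hsTinv w hw, mul_inv_rev, hTO _ (T.inv_mem hw) _ (O.inv_mem ho)]
  have hH : K ⊔ Subgroup.zpowers s = C := by
    refine le_antisymm (sup_le hKC ((Subgroup.zpowers_le).mpr (hSC hsS))) fun c hc' => ?_
    obtain ⟨o, ho, w, hw, rfl⟩ := hCOS c hc'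
    by_cases hwT : w ∈ T
    · exact Subgroup.mem_sup_left ⟨o, ho, w, hwT, rfl⟩
    have hidx : (T.subgroupOf (S : Subgroup G)).index = 2 := by
      have h' := (T.subgroupOf (S : Subgroup G)).card_mul_index
      rw [Nat.card_congr (Subgroup.subgroupOfEquivOfLe hTS).toEquiv, ← hTcard, mul_comm 2] at h'
      exact Nat.eq_of_mul_eq_mul_left Nat.card_pos h'
    have hws : w * s ∈ T := by
      have := mul_mem_of_not_mem hidx (a := ⟨w, hw⟩) (b := ⟨s, hsS⟩)
        (by simpa [Subgroup.mem_subgroupOf] using hwT) (by simpa [Subgroup.mem_subgroupOf] using hsT)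
      simpa [Subgroup.mem_subgroupOf] using this
    rw [show o * w = o * (w * s) * s by rw [mul_assoc o, mul_assoc, hs2, mul_one]]
    exact (K ⊔ Subgroup.zpowers s).mul_mem (Subgroup.mem_sup_left ⟨o, ho, _, hws, rfl⟩)
      (Subgroup.mem_sup_right (Subgroup.mem_zpowers s))
  have hCK : K ⊓ Subgroup.centralizer ({s} : Set G) = Subgroup.zpowers t := by
    refine le_antisymm ?_ ((Subgroup.zpowers_le).mpr ⟨htK, ?_⟩)
    · rintro a ⟨haK, has⟩
      have e1 : a * s = s * a := Subgroup.mem_centralizer_singleton_iff.mp has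
      have e2 := hinv a haK
      rw [← e1, mul_inv_cancel_right] at e2
      rcases hK2 a haK (eq_inv_iff_mul_eq_one.mp e2) with rfl | rfl
      · exact one_mem _
      · exact Subgroup.mem_zpowers _
    · exact Subgroup.mem_centralizer_singleton_iff.mpr (htZ s hsS).symm
  have hTI : ∀ g : G, g ∉ C → K ⊓ K.map (MulAut.conj g).toMonoidHom = ⊥ := by
    intro g hg
    rw [Subgroup.eq_bot_iff_forall]
    rintro a ⟨haK, b, hbK, hab⟩
    by_contra ha1
    have hab' : g * b * g⁻¹ = a := by
      simpa only [MulEquiv.coe_toMonoidHom, MulAut.conj_apply] using hab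
    have hgC : ∀ u ∈ K, u * u = 1 → u ≠ 1 → g * t * g⁻¹ = u → False := by
      intro u hu hu2 hu1 heq
      rcases hK2 u hu hu2 with rfl | rfl
      · exact hu1 rfl
      · exact hg ((hmemC g).mpr (mul_inv_eq_iff_eq_mul.mp heq))
    have htt : t * t = 1 := by rw [← pow_two, ← ht, pow_orderOf_eq_one]
    have ht1 : t ≠ 1 := fun e' => by simp [e'] at ht
    obtain ⟨o, ho, w, hw, rfl⟩ := haK
    by_cases ho1 : o = 1
    · subst ho1
      rw [one_mul] at ha1 hab'
      obtain ⟨z, hz⟩ := exists_prime_orderOf_dvd_card' (G := Subgroup.zpowers w) 2 (by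
        have hp : IsPGroup 2 (Subgroup.zpowers w) :=
          S.2.to_le ((Subgroup.zpowers_le).mpr (hTS hw))
        obtain ⟨i, hi⟩ := IsPGroup.iff_card.1 hp
        rcases i with _ | i
        · rw [pow_zero, Nat.card_zpowers, orderOf_eq_one_iff] at hi
          exact absurd hi ha1
        · rw [hi]; exact dvd_pow_self 2 (by omega))
      rw [← Subgroup.orderOf_coe] at hz
      have hzT : (z : G) ∈ T := (Subgroup.zpowers_le).mpr hw z.2
      rcases hTmem z hzT (by rw [← pow_two, ← hz, pow_orderOf_eq_one]) with e' | e'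
      · rw [e', orderOf_one] at hz; omega
      obtain ⟨i, hi⟩ := z.2
      have hbi : g * b ^ i * g⁻¹ = t := by
        rw [← conj_zpow, hab', ← e']; exact hi
      have hbt : b ^ i = t := by
        have hb2 : b ^ i * b ^ i = 1 := by
          calc b ^ i * b ^ i = g⁻¹ * ((g * b ^ i * g⁻¹) * (g * b ^ i * g⁻¹)) * g := by group
            _ = 1 := by rw [hbi, htt]; group
        rcases hK2 _ (K.zpow_mem hbK i) hb2 with e'' | e''
        · rw [e'', mul_one, mul_inv_cancel] at hbi
          exact absurd hbi.symm ht1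
        · exact e''
      rw [hbt] at hbi
      exact hgC t htK htt ht1 hbi
    · set m := Nat.card T with hm
      have ham : (o * w) ^ m = o ^ m := by
        rw [(show Commute o w from (hTO w hw o ho).symm).mul_pow]
        have : (⟨w, hw⟩ : T) ^ m = 1 := pow_card_eq_one'
        have hw' : w ^ m = 1 := by
          simpa [-pow_card_eq_one'] using congrArg Subtype.val this
        rw [hw', mul_one]
      set y' := o ^ m with hy'
      have hy1 : y' ≠ 1 := by
        intro e'
        have d1 : orderOf o ∣ m := orderOf_dvd_of_pow_eq_one e'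
        have d2 := Subgroup.orderOf_dvd_natCard _ ho
        refine ho1 (orderOf_eq_one_iff.mp (Nat.eq_one_of_dvd_coprimes
          ((Nat.coprime_two_right.mpr hOodd).pow_right (k + 1)) d2 ?_))
        refine d1.trans ?_
        rw [← h.card, ← hTcard]
        exact dvd_mul_left _ _
      have hyO : y' ∈ O := O.pow_mem ho m
      set u := g * t * g⁻¹ with hu
      have hcomm : u * y' = y' * u := by
        have hy : g * b ^ m * g⁻¹ = y' := by rw [← conj_pow, hab', ham]
        have hbt : t * b ^ m = b ^ m * t :=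
          congrArg Subtype.val (hKab.is_comm.comm (⟨t, htK⟩ : K) ⟨_, K.pow_mem hbK m⟩)
        rw [← hy, hu]
        calc g * t * g⁻¹ * (g * b ^ m * g⁻¹) = g * (t * b ^ m) * g⁻¹ := by group
          _ = g * (b ^ m * t) * g⁻¹ := by rw [hbt]
          _ = _ := by group
      have huC : u ∈ C := by
        refine hc (Subgroup.zpowers y') ((Subgroup.zpowers_le).mpr hyO) ?_ ?_
        · rwa [Ne, Subgroup.zpowers_eq_bot]
        · refine Subgroup.mem_normalizer_iff.mpr fun v => ?_
          constructor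
          · intro hv
            obtain ⟨i, rfl⟩ := hv
            refine ⟨i, ?_⟩
            dsimp only
            rw [((show Commute u y' from hcomm).zpow_right i).eq, mul_inv_cancel_right]
          · intro hv
            obtain ⟨i, hi⟩ := hv
            refine ⟨i, ?_⟩
            dsimp only at hi ⊢
            calc y' ^ i = u⁻¹ * (y' ^ i * u) := by
                  rw [← ((show Commute u y' from hcomm).zpow_right i).eq, inv_mul_cancel_left]
              _ = v := by rw [hi]; group
      obtain ⟨o', ho', w', hw', hu'⟩ := hCOS u huC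
      have hw'T : w' ∈ T := by
        by_contra hw'T
        have e1 : w' * y' * w'⁻¹ = y' := by
          calc w' * y' * w'⁻¹ = o'⁻¹ * (o' * w' * y') * w'⁻¹ := by group
            _ = o'⁻¹ * (y' * (o' * w')) * w'⁻¹ := by rw [← hu', hcomm]
            _ = o'⁻¹ * (y' * o') := by group
            _ = y' := by rw [hOab y' hyO o' ho']; group
        rw [hsO w' hw' hw'T y' hyO] at e1
        exact hy1 (hO2 y' hyO (inv_eq_iff_mul_eq_one.mp e1))
      refine hgC u ⟨o', ho', w', hw'T, hu'⟩ ?_ ?_ rfl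
      · calc u * u = g * (t * t) * g⁻¹ := by rw [hu]; group
          _ = 1 := by rw [htt]; group
      · intro e'
        apply ht1
        calc t = g⁻¹ * u * g := by rw [hu]; group
          _ = 1 := by rw [e']; group
  obtain ⟨Q, D, hQD⟩ := Cfsg.Agent.S3282.result t ht K hKab hKC htK s hsord (hSC hsS) hsK hH hCK
    hinv hTI hconj
  refine CfsgLib.BrauerSuzukiWall.psl_of_conclusion hQD ?_
  obtain ⟨hcard, -, -, hDq, -⟩ := hQD
  by_contra hq
  have hGpos : 0 < Nat.card G := Nat.card_pos
  have hDpos : 0 < Nat.card D := Nat.card_pos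
  have hq3 : Nat.card Q = 3 := by omega
  rw [hq3] at hcard
  have h12 : Nat.card G = 12 := by omega
  have hS4 : Nat.card (S : Subgroup G) = 4 := by
    rw [h.card]
    have hdvd : 2 ^ (k + 1) ∣ 12 := h12 ▸ h.card ▸ hGcard
    rcases Nat.lt_or_ge k 2 with hk | hk
    · rw [show k = 1 by have := h.one_le; omega]; norm_num
    · have : 2 ^ 3 ∣ 12 := (pow_dvd_pow 2 (by omega)).trans hdvd
      norm_num at this
  have hidx : (S : Subgroup G).index = 3 := by
    have := (S : Subgroup G).card_mul_index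
    rw [hS4, h12] at this; omega
  have hker : (MulAction.toPermHom G (G ⧸ (S : Subgroup G))).ker = ⊥ := by
    rw [← Subgroup.normalCore_eq_ker]
    refine (Subgroup.normalCore_normal (S : Subgroup G)).eq_bot_or_eq_top.resolve_right fun e' => ?_
    have h' := Subgroup.normalCore_le (S : Subgroup G)
    rw [e', top_le_iff] at h'
    rw [h', Subgroup.index_top] at hidx
    omega
  have hle := Nat.card_le_card_of_injective _
    ((MonoidHom.ker_eq_bot_iff (MulAction.toPermHom G (G ⧸ (S : Subgroup G)))).mp hker)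
  rw [Nat.card_perm, ← Subgroup.index_eq_card, hidx, h12] at hle
  norm_num [Nat.factorial] at hle

end Cfsg.Agent.S0508
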