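import Cfsg.Statements.S3224
import Mathlib.GroupTheory.SpecificGroups.Dihedral
import Mathlib.GroupTheory.PGroup
import Mathlib.GroupTheory.Index
import Mathlib.Tactic
-- import your own Cfsg.Agent.* helpers here

set_option autoImplicit false
open Cfsg

namespace Cfsg.Agent.S3224

theorem sq_one {S : Type*} [Group S] {x : S} (hx : orderOf x = 2) : x * x = 1 := by
  have := pow_orderOf_eq_one x
  rw [hx, pow_two] at this
  exact this

theorem ne_one' {S : Type*} [Group S] {x : S} (hx : orderOf x = 2) : x ≠ 1 := fun h => by
  rw [h, orderOf_one] at hx; omega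

/-- Centre of order two inside the centralizer, and the shape of that centralizer. -/
theorem exists_center_involution {S : Type*} [Group S] [Finite S] (hS : IsPGroup 2 S) {x : S}
    (hx : orderOf x = 2) (hC : Nat.card ↥(Subgroup.centralizer ({x} : Set S)) = 4)
    (hxZ : x ∉ Subgroup.center S) :
    ∃ z : S, orderOf z = 2 ∧ (∀ g, g * z = z * g) ∧ z ≠ x ∧
      ∀ g : S, g * x = x * g → g = 1 ∨ g = z ∨ g = x ∨ g = x * z := by
  haveI : Fact (Nat.Prime 2) := ⟨Nat.prime_two⟩
  haveI : Nontrivial S := ⟨x, 1, ne_one' hx⟩
  haveI := hS.center_nontrivial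
  obtain ⟨c, hc⟩ := exists_prime_orderOf_dvd_card' (G := Subgroup.center S) 2 (by
    obtain ⟨k, hk⟩ := (hS.to_subgroup (Subgroup.center S)).exists_card_eq
    rw [hk]
    refine dvd_pow_self 2 ?_
    rintro rfl
    have := Finite.one_lt_card (α := Subgroup.center S)
    omega)
  have hz : orderOf (c : S) = 2 := by rw [Subgroup.orderOf_coe]; exact hc
  have hcz : ∀ g, g * (c : S) = (c : S) * g := fun g => (Subgroup.mem_center_iff.1 c.2 g)
  have hne : (c : S) ≠ x := fun h => hxZ (h ▸ c.2)
  refine ⟨c, hz, hcz, hne, fun g hg => ?_⟩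
  classical
  let : Fintype S := Fintype.ofFinite S
  let T : Finset S := {1, (c : S), x, x * c}
  have hxc : x * (c : S) ≠ 1 := fun h => hne (by
    have := eq_inv_of_mul_eq_one_right h
    rw [this, inv_eq_of_mul_eq_one_right (sq_one hx)])
  have hTcard : T.card = 4 := by
    have h1 : (1 : S) ≠ c := (ne_one' hz).symm
    have h2 : (1 : S) ≠ x := (ne_one' hx).symm
    have h3 : (c : S) ≠ x * c := fun h => ne_one' hx (mul_eq_right.1 h.symm)
    have h4 : x ≠ x * (c : S) := fun h => ne_one' hz (mul_eq_left.1 h.symm)
    simp [T, h1, h2, h3, h4, hne, Ne.symm hxc]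
  have hsub : T ⊆ (Subgroup.centralizer ({x} : Set S) : Set S).toFinset := by
    intro u hu
    rw [Set.mem_toFinset]
    apply Subgroup.mem_centralizer_singleton_iff.2
    simp [T] at hu
    rcases hu with rfl | rfl | rfl | rfl
    · simp
    · exact (hcz x).symm
    · rfl
    · rw [mul_assoc, ← hcz x]
  have heq := Finset.eq_of_subset_of_card_le hsub (by
    rw [Set.toFinset_card, ← Nat.card_eq_fintype_card, hTcard]; exact hC.le)
  have : g ∈ T := by
    rw [heq, Set.mem_toFinset]
    exact Subgroup.mem_centralizer_singleton_iff.2 hg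
  simpa [T] using this

/-- The cyclic maximal subgroup. -/
theorem exists_cyclic_index_two : ∀ (N : ℕ) (S : Type _) [Group S] [Finite S], Nat.card S ≤ N →
    IsPGroup 2 S → ∀ x : S, orderOf x = 2 →
    Nat.card ↥(Subgroup.centralizer ({x} : Set S)) = 4 → x ∉ Subgroup.center S →
    ∃ a : S, (Subgroup.zpowers a).index = 2 ∧ x ∉ Subgroup.zpowers a := by
  intro N
  induction N with
  | zero =>
    intro S _ _ hcard
    have := Nat.card_pos (α := S)
    omega
  | succ N ih =>
    intro S _ _ hcard hS x hx hC hxZ
    haveI : Fact (Nat.Prime 2) := ⟨Nat.prime_two⟩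
    obtain ⟨z, hz, hcz, hzx, hshape⟩ := exists_center_involution hS hx hC hxZ
    let Z := Subgroup.zpowers z
    haveI hZn : Z.Normal := ⟨fun u hu g => by
      obtain ⟨k, rfl⟩ := Subgroup.mem_zpowers_iff.1 hu
      have : Commute g (z ^ k) := Commute.zpow_right (hcz g) k
      rw [this.eq, mul_inv_cancel_right]
      exact ⟨k, rfl⟩⟩
    have hZ : ∀ {u : S}, u ∈ Z → u = 1 ∨ u = z := by
      intro u hu
      obtain ⟨k, rfl⟩ := Subgroup.mem_zpowers_iff.1 hu
      rw [← zpow_mod_orderOf, hz]
      rcases Int.emod_two_eq_zero_or_one k with h | h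
      · exact Or.inl (by rw [show ((2 : ℕ) : ℤ) = 2 from rfl, h, zpow_zero])
      · exact Or.inr (by rw [show ((2 : ℕ) : ℤ) = 2 from rfl, h, zpow_one])
    let π : S →* S ⧸ Z := QuotientGroup.mk' Z
    have hπ : Function.Surjective π := QuotientGroup.mk'_surjective Z
    have hker : ∀ {u : S}, π u = 1 ↔ u ∈ Z := fun {u} => QuotientGroup.eq_one_iff u
    have hcardQ : Nat.card S = Nat.card (S ⧸ Z) * 2 := by
      rw [Subgroup.card_eq_card_quotient_mul_card_subgroup Z, Nat.card_zpowers, hz]
    have hxq : orderOf (π x) = 2 := by
      refine orderOf_eq_prime ?_ ?_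
      · rw [← map_pow, pow_two, sq_one hx, map_one]
      · intro h
        rcases hZ (hker.1 h) with h' | h'
        · exact ne_one' hx h'
        · exact hzx h'.symm
    -- the centralizer in the quotient
    let D := (Subgroup.centralizer ({π x} : Set (S ⧸ Z))).comap π
    have hD : Nat.card D = 2 * Nat.card ↥(Subgroup.centralizer ({π x} : Set (S ⧸ Z))) := by
      have h := Subgroup.card_mul_index D
      rw [Subgroup.index_comap_of_surjective _ hπ, hcardQ,
        ← Subgroup.card_mul_index (Subgroup.centralizer ({π x} : Set (S ⧸ Z))), mul_right_comm] at h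
      have h0 : (Subgroup.centralizer ({π x} : Set (S ⧸ Z))).index ≠ 0 :=
        Subgroup.index_ne_zero_of_finite
      rw [mul_comm (2 : ℕ)]
      exact Nat.eq_of_mul_eq_mul_right (Nat.pos_of_ne_zero h0) h
    have hD8 : Nat.card D ≤ 8 := by
      classical
      let : Fintype S := Fintype.ofFinite S
      let f : D → S := fun g => (g : S) * x * (g : S)⁻¹
      have hf : ∀ g : D, f g ∈ ({x, x * z} : Finset S) := by
        intro g
        have hg : π g * π x = π x * π g := Subgroup.mem_centralizer_singleton_iff.1 g.2
        have : π (x⁻¹ * ((g : S) * x * (g : S)⁻¹)) = 1 := by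
          rw [map_mul, map_mul, map_mul, hg, map_inv, map_inv]; group
        rcases hZ (hker.1 this) with h | h
        · exact Finset.mem_insert.2 (Or.inl (inv_mul_eq_one.1 h).symm)
        · refine Finset.mem_insert.2 (Or.inr (Finset.mem_singleton.2 ?_))
          exact inv_mul_eq_iff_eq_mul.1 h
      let : Fintype D := Fintype.ofFinite D
      have h1 : (Finset.univ : Finset D).card ≤ 4 * ({x, x * z} : Finset S).card := by
        refine Finset.card_le_mul_card_image_of_maps_to (fun g _ => hf g) 4 (fun v _ => ?_)
        rcases Finset.eq_empty_or_nonempty (Finset.univ.filter fun g : D => f g = v) with h | ⟨g₀, hg₀⟩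
        · rw [h]; simp
        · have hg₀' : f g₀ = v := (Finset.mem_filter.1 hg₀).2
          calc (Finset.univ.filter fun g : D => f g = v).card
              ≤ (Subgroup.centralizer ({x} : Set S) : Set S).toFinset.card := by
                refine Finset.card_le_card_of_injOn (fun g : D => ((g₀ : S))⁻¹ * (g : S)) ?_ ?_
                · intro g hg
                  have hgv : f g = f g₀ := ((Finset.mem_filter.1 hg).2).trans hg₀'.symm
                  rw [Finset.mem_coe, Set.mem_toFinset]
                  apply Subgroup.mem_centralizer_singleton_iff.2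
                  have hgv' : (g : S) * x * (g : S)⁻¹ = (g₀ : S) * x * (g₀ : S)⁻¹ := hgv
                  calc (g₀ : S)⁻¹ * (g : S) * x
                      = (g₀ : S)⁻¹ * ((g : S) * x * (g : S)⁻¹) * (g : S) := by group
                    _ = x * ((g₀ : S)⁻¹ * (g : S)) := by rw [hgv']; group
                · intro g _ g' _ h
                  exact Subtype.ext (mul_left_cancel h)
            _ = 4 := by rw [Set.toFinset_card, ← Nat.card_eq_fintype_card]; exact hC
      rw [Nat.card_eq_fintype_card, ← Finset.card_univ]
      exact h1.trans (by have := Finset.card_insert_le x {x * z}; simp at this ⊢; omega)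
    -- a cyclic subgroup of index two in the quotient
    obtain ⟨b, hb, hxb⟩ : ∃ b : S ⧸ Z, (Subgroup.zpowers b).index = 2 ∧
        π x ∉ Subgroup.zpowers b := by
      let Cq := Subgroup.centralizer ({π x} : Set (S ⧸ Z))
      by_cases hcq : π x ∈ Subgroup.center (S ⧸ Z)
      · have hCq : Cq = ⊤ := by
          rw [eq_top_iff]
          intro g _
          exact Subgroup.mem_centralizer_singleton_iff.2 (Subgroup.mem_center_iff.1 hcq g)
        have hle : Nat.card (S ⧸ Z) ≤ 4 := by
          have : Nat.card Cq = Nat.card (S ⧸ Z) := by rw [hCq, Subgroup.card_top]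
          change Nat.card D = 2 * Nat.card Cq at hD
          omega
        -- every element of the quotient squares to one
        have hnab : ∃ g : S, g * x ≠ x * g := by
          by_contra h
          push Not at h
          exact hxZ (Subgroup.mem_center_iff.2 h)
        obtain ⟨g, hg⟩ := hnab
        refine ⟨π g, ?_, ?_⟩
        · have hgb : π g ∉ Subgroup.zpowers (π x) := by
            intro h
            obtain ⟨k, hk⟩ := Subgroup.mem_zpowers_iff.1 h
            rw [← map_zpow] at hk
            have : (x ^ k)⁻¹ * g ∈ Z := hker.1 (by rw [map_mul, map_inv, hk, inv_mul_cancel])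
            apply hg
            have hcomm : Commute g x := by
              have e : g = x ^ k * ((x ^ k)⁻¹ * g) := by group
              rw [e]
              refine ((Commute.refl x).zpow_left k).mul_left ?_
              rcases hZ this with h | h <;> rw [h]
              · exact Commute.one_left x
              · exact (hcz x).symm
            exact hcomm
          have hxg : π x ∉ Subgroup.zpowers (π g) := by
            intro h
            obtain ⟨k, hk⟩ := Subgroup.mem_zpowers_iff.1 h
            rw [← map_zpow] at hk
            have : (g ^ k)⁻¹ * x ∈ Z := hker.1 (by rw [map_mul, map_inv, hk, inv_mul_cancel])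
            apply hg
            have hcomm : Commute g x := by
              have e : x = g ^ k * ((g ^ k)⁻¹ * x) := by group
              rw [e]
              refine ((Commute.refl g).zpow_right k).mul_right ?_
              rcases hZ this with h | h <;> rw [h]
              · exact Commute.one_right g
              · exact hcz g
            exact hcomm
          have hg1 : π g ≠ 1 := fun h => hgb (h ▸ one_mem _)
          have h2le : 2 ≤ Nat.card (Subgroup.zpowers (π g)) := by
            rw [Nat.card_zpowers]
            have h1 : orderOf (π g) ≠ 1 := fun h => hg1 (orderOf_eq_one_iff.1 h)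
            have h0 := orderOf_pos (π g)
            omega
          have hlt : (Subgroup.zpowers (π g)).index ≠ 1 := fun h =>
            hxg (by rw [Subgroup.index_eq_one.1 h]; trivial)
          have hmul := Subgroup.card_mul_index (Subgroup.zpowers (π g))
          have h0 : (Subgroup.zpowers (π g)).index ≠ 0 := Subgroup.index_ne_zero_of_finite
          rcases Nat.lt_or_ge (Subgroup.zpowers (π g)).index 3 with h3 | h3
          · omega
          · exfalso
            have := Nat.mul_le_mul h2le h3
            omega
        · intro h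
          obtain ⟨k, hk⟩ := Subgroup.mem_zpowers_iff.1 h
          rw [← map_zpow] at hk
          have : (g ^ k)⁻¹ * x ∈ Z := hker.1 (by rw [map_mul, map_inv, hk, inv_mul_cancel])
          apply hg
          have hcomm : Commute g x := by
            have e : x = g ^ k * ((g ^ k)⁻¹ * x) := by group
            rw [e]
            refine ((Commute.refl g).zpow_right k).mul_right ?_
            rcases hZ this with h | h <;> rw [h]
            · exact Commute.one_right g
            · exact hcz g
          exact hcomm
      · have hCq4 : Nat.card Cq ≤ 4 := by change Nat.card D = 2 * Nat.card Cq at hD; omega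
        have hmem : π x ∈ Cq := Subgroup.mem_centralizer_singleton_iff.2 rfl
        have hd : orderOf (π x) ∣ Nat.card Cq := Subgroup.orderOf_dvd_natCard Cq hmem
        rw [hxq] at hd
        have hne2 : Nat.card Cq ≠ 2 := by
          intro h2
          haveI : Nontrivial (S ⧸ Z) := ⟨π x, 1, ne_one' hxq⟩
          haveI := (hS.to_quotient Z).center_nontrivial
          have hle : Subgroup.zpowers (π x) ≤ Cq := Subgroup.zpowers_le.2 hmem
          have heq : Subgroup.zpowers (π x) = Cq :=
            Subgroup.eq_of_le_of_card_ge hle (by rw [Nat.card_zpowers, hxq, h2])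
          obtain ⟨c, hc⟩ := exists_ne (1 : Subgroup.center (S ⧸ Z))
          have hcC : (c : S ⧸ Z) ∈ Cq := Subgroup.mem_centralizer_singleton_iff.2
            (Subgroup.mem_center_iff.1 c.2 (π x)).symm
          rw [← heq, Subgroup.mem_zpowers_iff] at hcC
          obtain ⟨k, hk⟩ := hcC
          rw [← zpow_mod_orderOf, hxq] at hk
          rcases Int.emod_two_eq_zero_or_one k with h | h
          · rw [show ((2 : ℕ) : ℤ) = 2 from rfl, h, zpow_zero] at hk
            exact hc (Subtype.ext hk.symm)
          · rw [show ((2 : ℕ) : ℤ) = 2 from rfl, h, zpow_one] at hk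
            exact hcq (hk ▸ c.2)
        have hC4 : Nat.card Cq = 4 := by
          have hpos := Nat.card_pos (α := Cq)
          omega
        refine ih (S ⧸ Z) ?_ (hS.to_quotient Z) (π x) hxq hC4 hcq
        have := Nat.card_pos (α := S ⧸ Z)
        omega
    obtain ⟨a, rfl⟩ := hπ b
    let A := (Subgroup.zpowers (π a)).comap π
    have hA : A.index = 2 := by rw [Subgroup.index_comap_of_surjective _ hπ]; exact hb
    have hxA : x ∉ A := hxb
    haveI : A.Normal := Subgroup.normal_of_index_eq_two hA
    have hform : ∀ u ∈ A, ∃ k : ℤ, u = a ^ k ∨ u = a ^ k * z := by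
      intro u hu
      obtain ⟨k, hk⟩ := Subgroup.mem_zpowers_iff.1 hu
      rw [← map_zpow] at hk
      refine ⟨k, ?_⟩
      rcases hZ (hker.1 (show π ((a ^ k)⁻¹ * u) = 1 by rw [map_mul, map_inv, hk, inv_mul_cancel]))
        with h | h
      · exact Or.inl (inv_mul_eq_one.1 h).symm
      · exact Or.inr (inv_mul_eq_iff_eq_mul.1 h)
    by_cases hza : z ∈ Subgroup.zpowers a
    · have hAeq : Subgroup.zpowers a = A := by
        refine le_antisymm (Subgroup.zpowers_le.2 (Subgroup.mem_zpowers (π a))) fun u hu => ?_
        obtain ⟨k, rfl | rfl⟩ := hform u hu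
        · exact ⟨k, rfl⟩
        · exact mul_mem ⟨k, rfl⟩ hza
      exact ⟨a, hAeq ▸ hA, hAeq ▸ hxA⟩
    -- `z` outside `⟨a⟩`: only order eight occurs
    have haA : a ∈ A := Subgroup.mem_zpowers (π a)
    have hxaA : x * a * x⁻¹ ∈ A := Subgroup.Normal.conj_mem ‹A.Normal› a haA x
    have hAcomm : ∀ u ∈ A, ∀ v ∈ A, u * v = v * u := by
      intro u hu v hv
      have cz : ∀ k : ℤ, Commute (a ^ k) z := fun k => (hcz _)
      obtain ⟨k, rfl | rfl⟩ := hform u hu <;> obtain ⟨l, rfl | rfl⟩ := hform v hv
      · exact ((Commute.refl a).zpow_zpow k l).eq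
      · exact (((Commute.refl a).zpow_zpow k l).mul_right (cz k)).eq
      · exact (((Commute.refl a).zpow_zpow k l).mul_left (cz l).symm).eq
      · exact ((((Commute.refl a).zpow_zpow k l).mul_left (cz l).symm).mul_right
          ((cz k).mul_left (Commute.refl z))).eq
    have hxi : x⁻¹ = x := inv_eq_of_mul_eq_one_right (sq_one hx)
    have hfixA : ∀ u ∈ A, u * x = x * u → u = 1 ∨ u = z := by
      intro u hu h
      rcases hshape u h with h' | h' | h' | h'
      · exact Or.inl h'
      · exact Or.inr h'
      · exact absurd (h' ▸ hu) hxA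
      · exfalso
        have hzA : z ∈ A := by
          show π z ∈ Subgroup.zpowers (π a)
          rw [(hker.2 (Subgroup.mem_zpowers z) : π z = 1)]; exact one_mem _
        exact hxA ((A.mul_mem_cancel_right hzA).1 (h' ▸ hu))
    have hprod : a * (x * a * x⁻¹) = 1 ∨ a * (x * a * x⁻¹) = z := by
      refine hfixA _ (mul_mem haA hxaA) ?_
      have hc1 := hAcomm a haA _ hxaA
      rw [hxi] at hc1 ⊢
      calc a * (x * a * x) * x = a * (x * a) * (x * x) := by group
        _ = a * (x * a) * 1 := by rw [sq_one hx]
        _ = x * x * (a * x * a) := by rw [sq_one hx]; group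
        _ = x * (x * a * x * a) := by group
        _ = x * (a * (x * a * x)) := by rw [hc1]
    have hord : orderOf a ∣ 2 := by
      obtain ⟨i, hi⟩ := (IsPGroup.iff_orderOf.1 hS) a
      rcases Nat.lt_or_ge i 2 with hi2 | hi2
      · rw [hi]
        calc 2 ^ i ∣ 2 ^ 1 := pow_dvd_pow 2 (by omega)
          _ = 2 := by norm_num
      exfalso
      set m := 2 ^ (i - 1) with hm
      have hi1 : a ^ m * a ^ m = 1 := by
        rw [← pow_add, hm]
        have : 2 ^ (i - 1) + 2 ^ (i - 1) = 2 ^ i := by
          conv_rhs => rw [show i = (i - 1) + 1 by omega, pow_succ]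
          omega
        rw [this, ← hi, pow_orderOf_eq_one]
      have hze : z ^ m = 1 := by
        rw [show m = 2 * 2 ^ (i - 2) by rw [hm, ← pow_succ']; congr 1; omega, pow_mul, pow_two,
          sq_one hz, one_pow]
      have hconjm : x * a ^ m * x⁻¹ = a ^ m := by
        have hxa : ∀ t : ℕ, x * a ^ t * x⁻¹ = (x * a * x⁻¹) ^ t := fun t => (conj_pow).symm
        rw [hxa]
        rcases hprod with h | h
        · rw [eq_inv_of_mul_eq_one_right h, inv_pow]
          exact inv_eq_of_mul_eq_one_right hi1
        · rw [show x * a * x⁻¹ = a⁻¹ * z from eq_inv_mul_iff_mul_eq.2 h,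
            (show Commute a⁻¹ z from hcz _).mul_pow, inv_pow, hze, mul_one]
          exact inv_eq_of_mul_eq_one_right hi1
      have hcent : a ^ m * x = x * a ^ m := (mul_inv_eq_iff_eq_mul.1 hconjm).symm
      rcases hfixA _ (pow_mem haA m) hcent with h | h
      · have := Nat.le_of_dvd (Nat.pos_of_ne_zero (by positivity)) (orderOf_dvd_of_pow_eq_one h)
        rw [hi, hm] at this
        exact absurd this (Nat.not_le.2 (Nat.pow_lt_pow_right (by norm_num) (by omega)))
      · exact hza (h ▸ pow_mem (Subgroup.mem_zpowers a) m)
    have haa : a * a = 1 := by rw [← pow_two]; exact orderOf_dvd_iff_pow_eq_one.1 hord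
    rcases hprod with h | h
    · exfalso
      have hxa : x * a * x⁻¹ = a := by
        rw [eq_inv_of_mul_eq_one_right h]; exact inv_eq_of_mul_eq_one_right haa
      rcases hfixA a haA (mul_inv_eq_iff_eq_mul.1 hxa).symm with h1 | h1
      · -- then `A = Z`
        refine hxb ?_
        have htop : ∀ q : S ⧸ Z, q ∈ Subgroup.zpowers (π x) := by
          intro q
          obtain ⟨g, rfl⟩ := hπ q
          by_cases hgA : g ∈ A
          · obtain ⟨k, hk⟩ := Subgroup.mem_zpowers_iff.1 (show π g ∈ Subgroup.zpowers (π a) from hgA)
            rw [h1, map_one, one_zpow] at hk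
            rw [← hk]; exact one_mem _
          · have : x * g ∈ A := (Subgroup.mul_mem_iff_of_index_two hA).2
              ⟨fun h => absurd h hxA, fun h => absurd h hgA⟩
            obtain ⟨k, hk⟩ := Subgroup.mem_zpowers_iff.1 (show π (x * g) ∈ Subgroup.zpowers (π a) from this)
            rw [h1, map_one, one_zpow, map_mul] at hk
            rw [eq_inv_of_mul_eq_one_right hk.symm]
            exact inv_mem (Subgroup.mem_zpowers _)
        exact absurd (Subgroup.mem_center_iff.2 (fun g => by
          obtain ⟨k, hk⟩ := Subgroup.mem_zpowers_iff.1 (htop (π g))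
          rw [← map_zpow] at hk
          have : (x ^ k)⁻¹ * g ∈ Z := hker.1 (by rw [map_mul, map_inv, hk, inv_mul_cancel])
          have e : g = x ^ k * ((x ^ k)⁻¹ * g) := by group
          rw [e]
          refine (((Commute.refl x).zpow_left k).mul_left ?_).eq
          rcases hZ this with h | h <;> rw [h]
          · exact Commute.one_left x
          · exact (hcz x).symm)) hxZ
      · exact hza (h1 ▸ Subgroup.mem_zpowers a)
    · -- order eight: `x * a` generates a cyclic subgroup of index two
      have hsq : (x * a) * (x * a) = z := by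
        calc (x * a) * (x * a) = x * a * x⁻¹ * (x * x) * a := by group
          _ = x * a * x⁻¹ * a := by rw [sq_one hx, mul_one]
          _ = a * (x * a * x⁻¹) := (hAcomm a haA _ hxaA).symm
          _ = z := h
      have hord4 : orderOf (x * a) = 4 := by
        refine orderOf_eq_prime_pow (p := 2) (n := 1) ?_ ?_
        · rw [pow_one, pow_two, hsq]; exact ne_one' hz
        · rw [show (2 : ℕ) ^ (1 + 1) = 2 * 2 from rfl, pow_mul, pow_two, pow_two, hsq, sq_one hz]
      have hcardS : Nat.card S = 8 := by
        have hA4 : Nat.card A = 4 := by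
          have hZA : A = (Subgroup.zpowers (π a)).comap π := rfl
          have := Subgroup.card_mul_index A
          rw [hA, hcardQ, ← Subgroup.card_mul_index (Subgroup.zpowers (π a)), hb,
            Nat.card_zpowers] at this
          have h2 : orderOf (π a) = 2 := by
            refine orderOf_eq_prime (by rw [← map_pow, pow_two, haa, map_one]) fun h0 => ?_
            rcases hZ (hker.1 h0) with h0 | h0
            · rw [h0] at h
              simp at h
              exact ne_one' hz h.symm
            · exact hza (h0 ▸ Subgroup.mem_zpowers a)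
          rw [h2] at this
          omega
        have := Subgroup.card_mul_index A
        rw [hA, hA4] at this
        omega
      refine ⟨x * a, ?_, ?_⟩
      · have := Subgroup.card_mul_index (Subgroup.zpowers (x * a))
        rw [Nat.card_zpowers, hord4, hcardS] at this
        omega
      · intro hx'
        obtain ⟨k, hk, hk'⟩ : ∃ k, k < 4 ∧ (x * a) ^ k = x := by
          classical
          have := mem_zpowers_iff_mem_range_orderOf.1 hx'
          rw [hord4, Finset.mem_image] at this
          obtain ⟨k, hk, hk'⟩ := this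
          exact ⟨k, Finset.mem_range.1 hk, hk'⟩
        interval_cases k
        · exact ne_one' hx (by simpa using hk'.symm)
        · rw [pow_one] at hk'
          have ha1 : a = 1 := mul_eq_left.1 hk'
          rw [ha1] at h; simp at h; exact ne_one' hz h.symm
        · rw [pow_two, hsq] at hk'; exact hzx hk'
        · rw [pow_succ, pow_two, hsq] at hk'
          have haz : a = z := by
            rw [← mul_assoc, ← hcz x, mul_assoc] at hk'
            have h' : z * a = 1 := mul_eq_left.1 hk'
            exact (eq_inv_of_mul_eq_one_right h').trans (inv_eq_of_mul_eq_one_right (sq_one hz))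
          exact hza (haz ▸ Subgroup.mem_zpowers a)

/-- A finite 2-group containing an involution whose centralizer has order 4 is dihedral, quasi-dihedral (semidihedral), or of order 4. -/
theorem result {S : Type*} [Group S] [Finite S] (hS : IsPGroup 2 S)
    (x : S) (hx : orderOf x = 2) (hC : Nat.card ↥(Subgroup.centralizer ({x} : Set S)) = 4) :
    (∃ n : ℕ, Nonempty (S ≃* DihedralGroup n)) ∨ Cfsg.IsQuasiDihedral S ∨ Nat.card S = 4 := by
  haveI : Fact (Nat.Prime 2) := ⟨Nat.prime_two⟩
  by_cases hxZ : x ∈ Subgroup.center S
  · right; right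
    have : Subgroup.centralizer ({x} : Set S) = ⊤ := by
      rw [eq_top_iff]
      intro g _
      exact Subgroup.mem_centralizer_singleton_iff.2 (Subgroup.mem_center_iff.1 hxZ g)
    rw [this, Subgroup.card_top] at hC
    exact hC
  obtain ⟨z, hz, hcz, hzx, hshape⟩ := exists_center_involution hS hx hC hxZ
  obtain ⟨a, hidx, hxa⟩ := exists_cyclic_index_two _ S le_rfl hS x hx hC hxZ
  let A := Subgroup.zpowers a
  have hAn : A.Normal := Subgroup.normal_of_index_eq_two hidx
  have hxi : x⁻¹ = x := inv_eq_of_mul_eq_one_right (sq_one hx)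
  obtain ⟨i, hi⟩ := (IsPGroup.iff_orderOf.1 hS) a
  have hfix : ∀ u ∈ A, u * x = x * u → u = 1 ∨ u = z := by
    intro u hu h
    rcases hshape u h with h' | h' | h' | h'
    · exact Or.inl h'
    · exact Or.inr h'
    · exact absurd (h' ▸ hu) hxa
    · exfalso
      have hzA : z ∈ A := by
        by_contra hzA
        -- then the group is abelian
        apply hxZ
        have hax : Commute a x := by
          have h1 : x * z ∈ A := h' ▸ hu
          obtain ⟨k, hk⟩ := Subgroup.mem_zpowers_iff.1 h1
          have h2 : x = a ^ k * z⁻¹ := eq_mul_inv_of_mul_eq hk.symm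
          rw [h2]
          exact ((Commute.refl a).zpow_right k).mul_right (Commute.inv_right (hcz a))
        refine Subgroup.mem_center_iff.2 fun g => ?_
        by_cases hg : g ∈ A
        · obtain ⟨k, rfl⟩ := Subgroup.mem_zpowers_iff.1 hg
          exact (hax.zpow_left k).eq
        · have hxg : x * g ∈ A := (Subgroup.mul_mem_iff_of_index_two hidx).2
            ⟨fun h => absurd h hxa, fun h => absurd h hg⟩
          obtain ⟨k, hk⟩ := Subgroup.mem_zpowers_iff.1 hxg
          have hgeq : g = x * a ^ k := by rw [hk, ← mul_assoc, sq_one hx, one_mul]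
          rw [hgeq]
          exact ((Commute.refl x).mul_left (hax.zpow_left k)).eq
      exact hxa ((A.mul_mem_cancel_right hzA).1 (h' ▸ hu))
  have hxaA : x * a * x⁻¹ ∈ A := hAn.conj_mem a (Subgroup.mem_zpowers a) x
  obtain ⟨k, hk⟩ := Subgroup.mem_zpowers_iff.1 hxaA
  have hprod : a * (x * a * x⁻¹) = 1 ∨ a * (x * a * x⁻¹) = z := by
    refine hfix _ (mul_mem (Subgroup.mem_zpowers a) hxaA) ?_
    have hc1 : a * (x * a * x⁻¹) = x * a * x⁻¹ * a := by
      rw [← hk]; exact ((Commute.refl a).zpow_right k).eq
    rw [hxi] at hc1 ⊢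
    calc a * (x * a * x) * x = a * (x * a) * (x * x) := by group
      _ = a * (x * a) * 1 := by rw [sq_one hx]
      _ = x * x * (a * x * a) := by rw [sq_one hx]; group
      _ = x * (x * a * x * a) := by group
      _ = x * (a * (x * a * x)) := by rw [hc1]
  have hcard : Nat.card S = 2 ^ (i + 1) := by
    rw [← Subgroup.card_mul_index A, hidx, Nat.card_zpowers, hi, pow_succ]
  rcases hprod with h | h
  · left
    have hinv : x * a * x⁻¹ = a⁻¹ := eq_inv_of_mul_eq_one_right h
    refine ⟨2 ^ i, ⟨?_⟩⟩
    have hxpow : ∀ k : ℤ, a ^ k * x = x * a ^ (-k) := by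
      intro k
      have h1 : x * a ^ (-k) * x⁻¹ = a ^ k := by
        rw [← conj_zpow, hinv, inv_zpow', neg_neg]
      exact (mul_inv_eq_iff_eq_mul.1 h1).symm
    have hcast : ∀ k : ℤ, a ^ (((k : ZMod (2 ^ i))).val : ℤ) = a ^ k := by
      intro k
      haveI : NeZero (2 ^ i) := ⟨by positivity⟩
      rw [ZMod.val_intCast, ← hi, zpow_mod_orderOf]
    haveI : NeZero (2 ^ i) := ⟨by positivity⟩
    let f : DihedralGroup (2 ^ i) → S := fun d => match d with
      | DihedralGroup.r j => a ^ (j.val : ℤ)
      | DihedralGroup.sr j => x * a ^ (j.val : ℤ)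
    have hadd : ∀ p q : ZMod (2 ^ i), a ^ ((p + q).val : ℤ) = a ^ ((p.val : ℤ) + q.val) := by
      intro p q
      rw [← hcast ((p.val : ℤ) + q.val)]
      congr 3
      push_cast
      rw [ZMod.natCast_zmod_val, ZMod.natCast_zmod_val]
    have hsub : ∀ p q : ZMod (2 ^ i), a ^ ((p - q).val : ℤ) = a ^ ((p.val : ℤ) - q.val) := by
      intro p q
      rw [← hcast ((p.val : ℤ) - q.val)]
      congr 3
      push_cast
      rw [ZMod.natCast_zmod_val, ZMod.natCast_zmod_val]
    have hmul : ∀ d e, f (d * e) = f d * f e := by
      rintro (p | p) (q | q)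
      · simp only [DihedralGroup.r_mul_r, f, hadd, zpow_add]
      · simp only [DihedralGroup.r_mul_sr, f, hsub]
        rw [← mul_assoc, hxpow, mul_assoc, ← zpow_add, neg_add_eq_sub]
      · simp only [DihedralGroup.sr_mul_r, f, hadd, zpow_add, mul_assoc]
      · simp only [DihedralGroup.sr_mul_sr, f, hsub]
        rw [mul_assoc, ← mul_assoc (a ^ (p.val : ℤ)) x, hxpow, ← mul_assoc, ← mul_assoc, sq_one hx,
          one_mul, ← zpow_add, neg_add_eq_sub]
    let φ : DihedralGroup (2 ^ i) →* S := MonoidHom.mk' f hmul
    have hsurj : Function.Surjective φ := by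
      intro g
      by_cases hg : g ∈ A
      · obtain ⟨k, rfl⟩ := Subgroup.mem_zpowers_iff.1 hg
        exact ⟨DihedralGroup.r (k : ZMod (2 ^ i)), hcast k⟩
      · have : x * g ∈ A := (Subgroup.mul_mem_iff_of_index_two hidx).2
          ⟨fun h => absurd h hxa, fun h => absurd h hg⟩
        obtain ⟨k, hk⟩ := Subgroup.mem_zpowers_iff.1 this
        refine ⟨DihedralGroup.sr (k : ZMod (2 ^ i)), ?_⟩
        show x * a ^ (((k : ZMod (2 ^ i))).val : ℤ) = g
        rw [hcast, hk, ← mul_assoc, sq_one hx, one_mul]
    have hbij : Function.Bijective φ := by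
      rw [Nat.bijective_iff_surjective_and_card]
      refine ⟨hsurj, ?_⟩
      rw [DihedralGroup.nat_card, hcard, pow_succ']
    exact (MulEquiv.ofBijective φ hbij).symm
  · by_cases hi3 : 3 ≤ i
    · right; left
      refine ⟨i, hi3, hcard, a, x, hi, hx, ?_⟩
      have hzA : z ∈ A := h ▸ mul_mem (Subgroup.mem_zpowers a) hxaA
      have hzval : z = a ^ (2 ^ (i - 1)) := by
        classical
        obtain ⟨k, hk⟩ := Finset.mem_image.1 (mem_zpowers_iff_mem_range_orderOf.1 hzA)
        have hklt := Finset.mem_range.1 hk.1
        have hd : orderOf a ∣ 2 * k := orderOf_dvd_of_pow_eq_one (by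
          rw [mul_comm, pow_mul, hk.2, pow_two, sq_one hz])
        rw [hi] at hd hklt
        have he : 2 ^ i = 2 * 2 ^ (i - 1) := by rw [← pow_succ']; congr 1; omega
        rw [he] at hd hklt
        obtain ⟨c, hc⟩ := (mul_dvd_mul_iff_left (two_ne_zero)).1 hd
        have hkne : k ≠ 0 := by rintro rfl; exact ne_one' hz (by simpa using hk.2.symm)
        have hc1 : c = 1 := by
          rcases Nat.lt_or_ge c 2 with hc2 | hc2
          · interval_cases c
            · simp at hc; exact absurd hc hkne
            · rfl
          · nlinarith [Nat.two_pow_pos (i - 1)]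
        rw [← hk.2, hc, hc1, mul_one]
      have hconj : x * a * x⁻¹ = a⁻¹ * z := eq_inv_mul_iff_mul_eq.2 h
      rw [hconj, hzval, inv_mul_eq_iff_eq_mul, ← pow_succ']
      congr 1
      have : 2 ≤ 2 ^ (i - 1) := by
        calc 2 = 2 ^ 1 := (pow_one 2).symm
          _ ≤ _ := Nat.pow_le_pow_right (by norm_num) (by omega)
      omega
    · exfalso
      apply hxZ
      have hzA : z ∈ A := h ▸ mul_mem (Subgroup.mem_zpowers a) hxaA
      -- with `|a| ≤ 4` the twist is trivial
      have haz : a * a = z := by
        have h4 : a ^ 4 = 1 := by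
          apply orderOf_dvd_iff_pow_eq_one.1
          rw [hi]
          calc 2 ^ i ∣ 2 ^ 2 := pow_dvd_pow 2 (by omega)
            _ = 4 := by norm_num
        classical
        obtain ⟨k, hk⟩ := Finset.mem_image.1 (mem_zpowers_iff_mem_range_orderOf.1 hzA)
        have hklt : k < 4 := (Finset.mem_range.1 hk.1).trans_le
          (Nat.le_of_dvd (by norm_num) (orderOf_dvd_of_pow_eq_one h4))
        have h2 : a ^ (2 * k) = 1 := by rw [mul_comm, pow_mul, hk.2, pow_two, sq_one hz]
        interval_cases k
        · exact absurd (by simpa using hk.2.symm) (ne_one' hz)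
        · have ha : a = z := by simpa using hk.2
          exfalso
          rw [ha] at h
          have h5 : x * z * x⁻¹ = 1 := mul_eq_left.1 h
          exact ne_one' hz (conj_eq_one_iff.1 h5)
        · rw [← hk.2, pow_two]
        · exfalso
          have ha2 : a * a = 1 := by
            have e : a ^ (2 * 3) = a ^ 4 * (a * a) := by rw [← pow_two, ← pow_add]
            rw [e, h4, one_mul] at h2
            exact h2
          have ha : a = z := by
            rw [← hk.2, pow_succ, pow_two, ha2, one_mul]
          rw [ha] at h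
          exact ne_one' hz (conj_eq_one_iff.1 (mul_eq_left.1 h))
      refine Subgroup.mem_center_iff.2 fun g => ?_
      have hax : Commute a x := by
        have h6 : x * a * x⁻¹ = a := by
          rw [eq_inv_mul_iff_mul_eq.2 h, ← haz, inv_mul_cancel_left]
        exact (mul_inv_eq_iff_eq_mul.1 h6).symm
      by_cases hg : g ∈ A
      · obtain ⟨k, rfl⟩ := Subgroup.mem_zpowers_iff.1 hg
        exact (hax.zpow_left k).eq
      · have hxg : x * g ∈ A := (Subgroup.mul_mem_iff_of_index_two hidx).2
          ⟨fun h => absurd h hxa, fun h => absurd h hg⟩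
        obtain ⟨k, hk⟩ := Subgroup.mem_zpowers_iff.1 hxg
        have hgeq : g = x * a ^ k := by rw [hk, ← mul_assoc, sq_one hx, one_mul]
        rw [hgeq]
        exact ((Commute.refl x).mul_left (hax.zpow_left k)).eq

end Cfsg.Agent.S3224
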