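import Cfsg.Agent.SylowToolkit.Basic
import Cfsg.Agent.SylowToolkit.PermRep
import Cfsg.Agent.SylowToolkit.Counting
import Cfsg.Agent.SylowToolkit.Intersection
import Cfsg.Agent.SylowToolkit.Transfer
import Cfsg.Agent.SylowToolkit.Reduction
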