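import Cfsg.Statements.S0497
import Cfsg.Agent.SimpleOrders.ThreeSixty

set_option autoImplicit false
open Cfsg

namespace Cfsg.Agent.S0497

theorem result {G : Type*} [Group G] [Finite G] [IsSimpleGroup G]
    (h : Nat.card G = 360) : Nonempty (G ≃* alternatingGroup (Fin 6)) := by
  haveI : IsSimpleGroup (alternatingGroup (Fin 6)) := alternatingGroup.isSimpleGroup (by simp)
  have hc : Nat.card (alternatingGroup (Fin 6)) = 360 := by
    rw [Nat.card_eq_fintype_card, card_alternatingGroup, Fintype.card_fin]; rfl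
  obtain ⟨e₁⟩ := CfsgLib.SimpleOrders.ThreeSixty.nonempty_equiv_model h
  obtain ⟨e₂⟩ := CfsgLib.SimpleOrders.ThreeSixty.nonempty_equiv_model hc
  exact ⟨e₁.trans e₂.symm⟩

end Cfsg.Agent.S0497
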