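import Cfsg.Statements.S0984
import Cfsg.Agent.A7Order.Model

set_option autoImplicit false
open Cfsg

namespace Cfsg.Agent.S0984

/-- A simple group of order 2520 is isomorphic to the alternating group of degree 7. -/
theorem result {G : Type*} [Group G] [Finite G] [IsSimpleGroup G] (h : Nat.card G = 2520) : Nonempty (G ≃* alternatingGroup (Fin 7)) := by
  classical
  haveI := Fintype.ofFinite G
  haveI : IsSimpleGroup (alternatingGroup (Fin 7)) := alternatingGroup.isSimpleGroup (by simp)
  have hA : Nat.card (alternatingGroup (Fin 7)) = 2520 := by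
    rw [nat_card_alternatingGroup, Nat.card_fin]
    norm_num [Nat.factorial]
  obtain ⟨e⟩ := CfsgLib.A7Order.nonempty_mulEquiv_model h
  obtain ⟨f⟩ := CfsgLib.A7Order.nonempty_mulEquiv_model hA
  exact ⟨e.trans f.symm⟩

end Cfsg.Agent.S0984
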