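import Cfsg.Statements.S0115
import Cfsg.Agent.TwoGroup.MaximalClass
-- import your own Cfsg.Agent.* helpers here

set_option autoImplicit false
open Cfsg

namespace Cfsg.Agent.S0115

/-- A 2-group of order 2^n, n ≥ 3, is of maximal class exactly when its commutator quotient is a Klein four-group. -/
theorem result {X : Type*} [Group X] [Finite X] (n : ℕ) (hn : 3 ≤ n) (hX : Nat.card X = 2 ^ n) : Group.nilpotencyClass X = n - 1 ↔ IsKleinFour (X ⧸ commutator X) := by
  haveI : Fact (Nat.Prime 2) := ⟨Nat.prime_two⟩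
  have hp : IsPGroup 2 X := IsPGroup.of_card hX
  haveI := hp.isNilpotent
  have h8 : 8 ≤ Nat.card X := by rw [hX]; exact (Nat.pow_le_pow_right two_pos hn)
  constructor
  · intro hc
    obtain ⟨m, hm, hF⟩ := CfsgLib.TwoGroup.isMaxClassType_of_nilpotencyClass hX hn hc
    have key : ∀ (r s : ZMod (2 ^ m)), CfsgLib.TwoGroup.MaxType m r → (∃ w, s = 2 * w) →
        CfsgLib.TwoGroup.Frame X (2 ^ m) r s → IsKleinFour (X ⧸ commutator X) := by
      intro r s hr ⟨w, hw⟩ F
      obtain ⟨u, -, hu, -⟩ := hr.exists_factor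
      refine ⟨?_, ?_⟩
      · rw [← Subgroup.index_eq_card]; exact F.index_commutator_of_maxType (by omega) hr
      · have hdvd : Monoid.exponent (X ⧸ commutator X) ∣ 2 := by
          refine Monoid.exponent_dvd_of_forall_pow_eq_one fun q => ?_
          obtain ⟨g, rfl⟩ := QuotientGroup.mk_surjective q
          rw [← QuotientGroup.mk_pow, QuotientGroup.eq_one_iff, F.commutator_eq_of_maxType hr,
            F.mem_zpowers_e]
          obtain ⟨i, rfl | rfl⟩ := F.cover g
          · exact ⟨i, by rw [F.e_sq, mul_comm]⟩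
          · refine ⟨i + u * i + w, ?_⟩
            rw [F.ey_sq]
            congr 1
            linear_combination i * hu + hw
        rcases (Nat.dvd_prime Nat.prime_two).1 hdvd with h | h
        · exfalso
          haveI := Monoid.exp_eq_one_iff.1 h
          have h4 := F.index_commutator_of_maxType (by omega) hr
          rw [Subgroup.index_eq_card, Nat.card_unique] at h4
          omega
        · exact h
    have hhalf : CfsgLib.TwoGroup.half m = 2 * (2 : ZMod (2 ^ m)) ^ (m - 2) := by
      rw [CfsgLib.TwoGroup.half, ← pow_succ', show m - 2 + 1 = m - 1 by omega]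
    rcases hF with ⟨⟨F⟩⟩ | ⟨⟨F⟩⟩ | ⟨hm3, ⟨F⟩⟩
    · exact key _ _ (CfsgLib.TwoGroup.maxType_neg_one m) ⟨0, by rw [mul_zero]⟩ F
    · exact key _ _ (CfsgLib.TwoGroup.maxType_neg_one m) ⟨_, hhalf⟩ F
    · exact key _ _ (CfsgLib.TwoGroup.maxType_semidihedral hm3) ⟨0, by rw [mul_zero]⟩ F
  · intro hK
    have hidx : (commutator X).index = 4 := by rw [Subgroup.index_eq_card]; exact hK.card_four
    have hmax := (CfsgLib.TwoGroup.isMaxClassType_of_index_commutator hp hidx).resolve_left
      (by omega)
    obtain ⟨m, r, s, hm, hr, ⟨F⟩⟩ := hmax.exists_maxType_frame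
    rw [F.nilpotencyClass_of_maxType hm hr]
    have hc := F.card_eq
    rw [hX, ← pow_succ'] at hc
    have := Nat.pow_right_injective le_rfl hc
    omega

end Cfsg.Agent.S0115
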