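import Cfsg.Statements.S4399
import Cfsg.Agent.TwoGroup.MaximalClass
import Cfsg.Agent.TwoGroup.UniqueInvolution
import Cfsg.Agent.TwoGroup.CentralQuotient

set_option autoImplicit false
open Cfsg

namespace Cfsg.Agent.S4399

/-- Let S be a finite 2-group whose commutator quotient S/[S,S] is a Klein four-group (order 4 and exponent 2). Then S itself has order 4, or S is dihedral of order at least 8, semidihedral of order at least 16 (order 2^(k+4) with an element a of order 2^(k+3) and an involution b with b a b⁻¹ = a^(2^(k+2)−1)), or generalized quaternion of order at least 8. -/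
theorem result {S : Type*} [Group S] [Finite S] (h2 : IsPGroup 2 S) (hab : Nat.card (Abelianization S) = 4)
    (hexp : ∀ x : Abelianization S, x ^ 2 = 1) :
    Nat.card S = 4 ∨
    ((∃ k : ℕ, Nonempty (S ≃* DihedralGroup (2 ^ (k + 2)))) ∨
      (∃ k : ℕ, Nat.card S = 2 ^ (k + 4) ∧ ∃ a b : S, orderOf a = 2 ^ (k + 3) ∧ orderOf b = 2 ∧ b * a * b⁻¹ = a ^ (2 ^ (k + 2) - 1)) ∨
      (∃ k : ℕ, Nonempty (S ≃* QuaternionGroup (2 ^ (k + 1))))) := by
  have hidx : (commutator S).index = 4 := by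
    rw [Subgroup.index_eq_card]; exact hab
  rcases CfsgLib.TwoGroup.isMaxClassType_of_index_commutator h2 hidx with h | ⟨n, hn, h | h | ⟨h3, h⟩⟩
  · exact Or.inl h
  all_goals obtain ⟨F⟩ := h
  · obtain ⟨k, rfl⟩ : ∃ k, n = k + 2 := ⟨n - 2, by omega⟩
    exact Or.inr (Or.inl ⟨k, CfsgLib.TwoGroup.Frame.nonempty_mulEquiv_dihedral F⟩)
  · obtain ⟨k, rfl⟩ : ∃ k, n = k + 2 := ⟨n - 2, by omega⟩
    exact Or.inr (Or.inr (Or.inr ⟨k, CfsgLib.TwoGroup.Frame.nonempty_mulEquiv_quaternion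
      (m := 2 ^ (k + 1)) (by rw [← pow_succ']) (CfsgLib.TwoGroup.natCast_half (k + 2)).symm F⟩))
  · obtain ⟨k, rfl⟩ : ∃ k, n = k + 3 := ⟨n - 3, by omega⟩
    refine Or.inr (Or.inr (Or.inl ⟨k, by rw [F.card_eq]; ring, F.e 1, F.y, F.orderOf_e_one, ?_, ?_⟩))
    · refine orderOf_eq_prime (by rw [pow_two, F.y_sq, F.map_zero]) fun h => F.y_ne 0 ?_
      rw [F.map_zero, h]
    · rw [F.conj_y, mul_inv_cancel_right, ← F.map_nsmul, Nat.cast_sub Nat.one_le_two_pow, F.e_inj]
      have := CfsgLib.TwoGroup.natCast_half (k + 3)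
      rw [show k + 3 - 1 = k + 2 by omega] at this
      rw [this, Nat.cast_one, mul_one, mul_one]
      ring

end Cfsg.Agent.S4399
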