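import Cfsg.Statements.S3374

set_option autoImplicit false
open Cfsg

namespace Cfsg.Agent.S3374

open Matrix

/-- A 2×2 matrix as a quadruple. -/
abbrev Quad (R : Type) := R × R × R × R

def qmul {R : Type} [Mul R] [Add R] : Quad R → Quad R → Quad R
  | (a, b, c, d), (a', b', c', d') => (a * a' + b * c', a * b' + b * d', c * a' + d * c', c * b' + d * d')

def toQuad {R : Type} [CommRing R] (g : SpecialLinearGroup (Fin 2) R) : Quad R :=
  (g.1 0 0, g.1 0 1, g.1 1 0, g.1 1 1)

lemma toQuad_mul {R : Type} [CommRing R] (g h : SpecialLinearGroup (Fin 2) R) :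
    toQuad (g * h) = qmul (toQuad g) (toQuad h) := by
  simp [toQuad, qmul, Matrix.mul_apply, Fin.sum_univ_two]

lemma toQuad_inj {R : Type} [CommRing R] {g h : SpecialLinearGroup (Fin 2) R}
    (e : toQuad g = toQuad h) : g = h := by
  simp only [toQuad, Prod.mk.injEq] at e
  obtain ⟨e1, e2, e3, e4⟩ := e
  ext i j
  fin_cases i <;> fin_cases j <;> assumption

lemma det_toQuad {R : Type} [CommRing R] (g : SpecialLinearGroup (Fin 2) R) :
    g.1 0 0 * g.1 1 1 - g.1 0 1 * g.1 1 0 = 1 :=
  (Matrix.det_fin_two g.1).symm.trans g.2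

def imU : ZMod 5 → Quad (ZMod 11) := fun b =>
  match b.val with
  | 1 => (1, 4, 3, 2)
  | 2 => (2, 1, 9, 5)
  | 3 => (5, 10, 2, 2)
  | 4 => (2, 7, 8, 1)
  | _ => (1, 0, 0, 1)

def imD : ZMod 5 → Quad (ZMod 11) := fun a =>
  match a.val with
  | 2 => (10, 3, 3, 1)
  | 3 => (1, 8, 8, 10)
  | 4 => (10, 0, 0, 10)
  | _ => (1, 0, 0, 1)

def imW : Quad (ZMod 11) := (0, 10, 1, 0)

def imF : Quad (ZMod 5) → Quad (ZMod 11)
  | (a, b, c, d) => if c = 0 then qmul (imD a) (imU (a * a * a * b))
      else qmul (qmul (imU (a * (c * c * c))) (qmul imW (imD c))) (imU (d * (c * c * c)))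

def qU (b : ZMod 5) : Quad (ZMod 5) := (1, b, 0, 1)
def qW : Quad (ZMod 5) := (0, 4, 1, 0)

def qWord (a : ZMod 5) : Quad (ZMod 5) :=
  qmul (qmul qW (qU (-(a * a * a)))) (qmul (qmul qW (qU (-a))) (qmul qW (qU (-(a * a * a)))))

lemma check : ∀ a b c d : ZMod 5, a * d - b * c = 1 →
    (imF (qmul (a, b, c, d) qW) = qmul (imF (a, b, c, d)) imW ∧
     imF (qmul (a, b, c, d) (qU 1)) = qmul (imF (a, b, c, d)) (imU 1)) ∧
    ((imF (a, b, c, d)).1 * (imF (a, b, c, d)).2.2.2
      - (imF (a, b, c, d)).2.1 * (imF (a, b, c, d)).2.2.1 = 1) ∧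
    ((imF (a, b, c, d)).1 + (imF (a, b, c, d)).2.2.2 = 2 → (a, b, c, d) = ((1, 0, 0, 1) : Quad (ZMod 5))) ∧
    ((a, b, c, d) = if c = 0 then qmul (qWord a) (qU (a * a * a * b))
      else qmul (qmul (qU (a * (c * c * c))) (qmul qW (qWord c))) (qU (d * (c * c * c)))) := by
  decide

/-- The embedding on elements. -/
def emb (g : SpecialLinearGroup (Fin 2) (ZMod 5)) : SpecialLinearGroup (Fin 2) (ZMod 11) :=
  ⟨!![(imF (toQuad g)).1, (imF (toQuad g)).2.1; (imF (toQuad g)).2.2.1, (imF (toQuad g)).2.2.2], by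
    rw [Matrix.det_fin_two_of]
    exact (check _ _ _ _ (det_toQuad g)).2.1⟩

lemma toQuad_emb (g : SpecialLinearGroup (Fin 2) (ZMod 5)) : toQuad (emb g) = imF (toQuad g) := rfl

def slW : SpecialLinearGroup (Fin 2) (ZMod 5) := ⟨!![0, 4; 1, 0], by decide⟩
def slU (b : ZMod 5) : SpecialLinearGroup (Fin 2) (ZMod 5) := ⟨!![1, b; 0, 1], by simp⟩

lemma toQuad_slU (b : ZMod 5) : toQuad (slU b) = qU b := rfl
lemma toQuad_slW : toQuad slW = qW := rfl

/-- The elements on which the embedding is multiplicative from the right. -/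
def good : Submonoid (SpecialLinearGroup (Fin 2) (ZMod 5)) where
  carrier := {h | ∀ g, emb (g * h) = emb g * emb h}
  one_mem' := fun g => by
    have : emb 1 = 1 := toQuad_inj (by decide)
    rw [mul_one, this, mul_one]
  mul_mem' := fun {a b} ha hb g => by
    rw [← mul_assoc, hb, ha, hb a, mul_assoc]

lemma slW_mem : slW ∈ good := fun g => by
  apply toQuad_inj
  have h : imF qW = imW := by decide
  rw [toQuad_mul, toQuad_emb, toQuad_emb, toQuad_emb, toQuad_mul, toQuad_slW, h]
  exact ((check _ _ _ _ (det_toQuad g)).1).1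

lemma slU_mem (b : ZMod 5) : slU b ∈ good := by
  have h1 : slU 1 ∈ good := fun g => by
    apply toQuad_inj
    have h : imF (qU 1) = imU 1 := by decide
    rw [toQuad_mul, toQuad_emb, toQuad_emb, toQuad_emb, toQuad_mul, toQuad_slU, h]
    exact ((check _ _ _ _ (det_toQuad g)).1).2
  have : slU b = slU 1 ^ b.val := by
    have hp : ∀ n : ℕ, slU (n : ZMod 5) = slU 1 ^ n := by
      intro n
      induction n with
      | zero => simp only [pow_zero, Nat.cast_zero]; exact toQuad_inj (by decide)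
      | succ n ih =>
        rw [pow_succ, ← ih]
        apply toQuad_inj
        simp [toQuad_mul, toQuad_slU, qU, qmul, add_comm]
    rw [← hp, ZMod.natCast_zmod_val]
  rw [this]
  exact good.pow_mem h1 _

lemma mem_good (g : SpecialLinearGroup (Fin 2) (ZMod 5)) : g ∈ good := by
  have hword : ∀ a : ZMod 5, ∃ w ∈ good, toQuad w = qWord a := fun a =>
    ⟨(slW * slU (-(a * a * a))) * ((slW * slU (-a)) * (slW * slU (-(a * a * a)))),
      good.mul_mem (good.mul_mem slW_mem (slU_mem _))
        (good.mul_mem (good.mul_mem slW_mem (slU_mem _)) (good.mul_mem slW_mem (slU_mem _))),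
      by simp only [toQuad_mul, toQuad_slU, toQuad_slW]; rfl⟩
  have h := (check _ _ _ _ (det_toQuad g)).2.2.2
  split_ifs at h
  · obtain ⟨w, hw, hwq⟩ := hword (g.1 0 0)
    have : g = w * slU (g.1 0 0 * g.1 0 0 * g.1 0 0 * g.1 0 1) := by
      apply toQuad_inj; rw [toQuad_mul, toQuad_slU, hwq]; exact h
    rw [this]; exact good.mul_mem hw (slU_mem _)
  · obtain ⟨w, hw, hwq⟩ := hword (g.1 1 0)
    have : g = slU (g.1 0 0 * (g.1 1 0 * g.1 1 0 * g.1 1 0)) * (slW * w) *
        slU (g.1 1 1 * (g.1 1 0 * g.1 1 0 * g.1 1 0)) := by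
      apply toQuad_inj; simp only [toQuad_mul, toQuad_slU, toQuad_slW, hwq]; exact h
    rw [this]
    exact good.mul_mem (good.mul_mem (slU_mem _) (good.mul_mem slW_mem hw)) (slU_mem _)

/-- The embedding of SL(2,5) in SL(2,11). -/
def embHom : SpecialLinearGroup (Fin 2) (ZMod 5) →* SpecialLinearGroup (Fin 2) (ZMod 11) :=
  MonoidHom.mk' emb fun a b => mem_good b a

lemma eq_one_of_fix (g : SpecialLinearGroup (Fin 2) (ZMod 5)) (v : Fin 2 → ZMod 11) (hv : v ≠ 0)
    (h : (embHom g).1 *ᵥ v = v) : g = 1 := by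
  have : Fact (Nat.Prime 11) := ⟨by norm_num⟩
  have hd : ((embHom g).1 - 1).det = 0 :=
    Matrix.exists_mulVec_eq_zero_iff.1 ⟨v, hv, by rw [Matrix.sub_mulVec, h, Matrix.one_mulVec, sub_self]⟩
  have hdet := det_toQuad (embHom g)
  rw [Matrix.det_fin_two] at hd
  simp [Matrix.one_apply] at hd
  refine toQuad_inj ((check _ _ _ _ (det_toQuad g)).2.2.1 ?_)
  show (embHom g).1 0 0 + (embHom g).1 1 1 = 2
  linear_combination hdet - hd

/-- The action on the plane over the field with eleven elements. -/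
def actHom : SpecialLinearGroup (Fin 2) (ZMod 5) →* MulAut (Multiplicative (Fin 2 → ZMod 11)) where
  toFun g := AddEquiv.toMultiplicative (Matrix.SpecialLinearGroup.toLin' (embHom g)).toAddEquiv
  map_one' := by
    ext x : 1
    simp
  map_mul' a b := by
    ext x : 1
    simp

lemma actHom_apply (g : SpecialLinearGroup (Fin 2) (ZMod 5)) (x : Multiplicative (Fin 2 → ZMod 11)) :
    (actHom g x).toAdd = (embHom g).1 *ᵥ x.toAdd :=
  show (Matrix.SpecialLinearGroup.toLin' (embHom g)) x.toAdd = _ from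
    (Matrix.SpecialLinearGroup.toLin'_apply _ _).trans (Matrix.toLin'_apply _ _)


lemma eq_one_of_conj_left
    (g k : Multiplicative (Fin 2 → ZMod 11) ⋊[actHom] SpecialLinearGroup (Fin 2) (ZMod 5))
    (hg : g.left ≠ 1) (hk' : k.left = 1) (hx : (g * k * g⁻¹).left = 1) : k = 1 := by
  simp only [SemidirectProduct.mul_left, SemidirectProduct.mul_right,
    SemidirectProduct.inv_left, hk', map_one, mul_one] at hx
  rw [← MulAut.mul_apply, ← map_mul] at hx
  have h2 := congrArg Multiplicative.toAdd hx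
  simp only [toAdd_mul, toAdd_one, actHom_apply, toAdd_inv, Matrix.mulVec_neg] at h2
  have h3 : g.left.toAdd ≠ 0 := fun e => hg (Multiplicative.toAdd.injective e)
  have h4 := eq_one_of_fix _ _ h3 (add_neg_eq_zero.1 h2).symm
  have h5 : k.right = 1 := by
    simpa using h4
  exact SemidirectProduct.ext hk' h5

/-- SL(2,5) occurs as a Frobenius complement: there is a finite group L with a subgroup H isomorphic to SL(2,5) which is a non-trivial proper subgroup meeting each conjugate gHg⁻¹ with g outside H trivially. -/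
theorem result :
    ∃ (L : Type) (_ : Group L) (_ : Finite L) (H : Subgroup L),
      Cfsg.IsFrobeniusComplement H ∧ Nonempty (H ≃* Matrix.SpecialLinearGroup (Fin 2) (ZMod 5)) := by
  let L := Multiplicative (Fin 2 → ZMod 11) ⋊[actHom] SpecialLinearGroup (Fin 2) (ZMod 5)
  let H : Subgroup L := (SemidirectProduct.inr : _ →* L).range
  have : Finite L := Finite.of_injective
    (fun x : L => (x.left, x.right)) fun a b e => by
      simp only [Prod.mk.injEq] at e
      exact SemidirectProduct.ext e.1 e.2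
  have hmem : ∀ x : L, x ∈ H ↔ x.left = 1 := fun x =>
    ⟨fun ⟨k, hk⟩ => hk ▸ rfl, fun h => ⟨x.right, SemidirectProduct.ext h.symm rfl⟩⟩
  refine ⟨L, inferInstance, inferInstance, H, ⟨?_, ?_, ?_⟩,
    ⟨(MonoidHom.ofInjective SemidirectProduct.inr_injective).symm⟩⟩
  · intro h
    have h1 : (SemidirectProduct.inr slW : L) ∈ H := ⟨slW, rfl⟩
    rw [h, Subgroup.mem_bot] at h1
    have h2 := congrArg (fun x : L => toQuad x.right) h1
    simp only [SemidirectProduct.right_inr, SemidirectProduct.one_right, toQuad_slW] at h2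
    exact absurd h2 (by decide)
  · intro h
    have h1 : (SemidirectProduct.inl (Multiplicative.ofAdd ![1, 0]) : L) ∈ H := h ▸ Subgroup.mem_top _
    rw [hmem, SemidirectProduct.left_inl] at h1
    have h2 : (![1, 0] : Fin 2 → ZMod 11) 0 = 0 := by
      rw [show (![1, 0] : Fin 2 → ZMod 11) = 0 from h1]; rfl
    exact absurd h2 (by decide)
  · intro g hg
    rw [Subgroup.eq_bot_iff_forall]
    rintro x ⟨hx, k, hk, rfl⟩
    replace hx := (hmem _).1 hx
    have hk' := (hmem k).1 hk
    replace hx : (g * k * g⁻¹).left = 1 := hx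
    show g * k * g⁻¹ = 1
    have : k = 1 := eq_one_of_conj_left g k (fun e => hg ((hmem g).2 e)) hk' hx
    rw [this, mul_one, mul_inv_cancel]

end Cfsg.Agent.S3374
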