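import Cfsg.Agent.Eq.Def_Classical
import Mathlib.GroupTheory.SpecificGroups.Dihedral
import Mathlib.GroupTheory.SpecificGroups.Quaternion
import Mathlib.GroupTheory.Perm.Cycle.Type
import Mathlib.Tactic
import Mathlib.FieldTheory.Finite.GaloisField
import Mathlib.LinearAlgebra.Matrix.GeneralLinearGroup.Card
import Cfsg.Statements.S3157

set_option autoImplicit false
open Cfsg
open scoped commutatorElement

namespace Cfsg.Agent.S3157

theorem equiv_dihedral {C : Type*} [Group C] [Finite C] (hC : Nat.card C = 8) (r s : C)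
    (hr : orderOf r = 4) (hs : s ∉ Subgroup.zpowers r) (hrs : s * r * s⁻¹ = r⁻¹) (hs2 : s * s = 1) :
    Nonempty (C ≃* DihedralGroup 4) := by
  have h4 : r ^ 4 = 1 := by rw [← hr]; exact pow_orderOf_eq_one r
  have hadd : ∀ i j : ZMod 4, r ^ (i + j).val = r ^ i.val * r ^ j.val := by
    intro i j
    rw [← pow_add, ZMod.val_add, ← pow_mod_orderOf r (i.val + j.val), hr]
  have hneg : ∀ i : ZMod 4, r ^ (-i).val = (r ^ i.val)⁻¹ := fun i => by
    apply eq_inv_of_mul_eq_one_left
    rw [← hadd, neg_add_cancel]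
    rw [ZMod.val_zero, pow_zero]
  have hmove : ∀ i : ZMod 4, r ^ i.val * s = s * r ^ (-i).val := by
    intro i
    rw [hneg, ← inv_pow, ← hrs, conj_pow, show s⁻¹ = s from inv_eq_of_mul_eq_one_right hs2,
      show s * (s * r ^ i.val * s) = (s * s) * r ^ i.val * s by group, hs2, one_mul]
  let F : DihedralGroup 4 → C := fun g => match g with
    | .r i => r ^ i.val
    | .sr i => s * r ^ i.val
  let f : DihedralGroup 4 →* C :=
    { toFun := F
      map_one' := by
        show F (.r 0) = 1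
        exact (congrArg (r ^ ·) ZMod.val_zero).trans (pow_zero r)
      map_mul' := by
        rintro (i | i) (j | j)
        · exact hadd i j
        · show s * r ^ (j - i).val = r ^ i.val * (s * r ^ j.val)
          rw [← mul_assoc, hmove, mul_assoc, ← hadd, sub_eq_neg_add]
        · show s * r ^ (i + j).val = s * r ^ i.val * r ^ j.val
          rw [mul_assoc, hadd]
        · show r ^ (j - i).val = s * r ^ i.val * (s * r ^ j.val)
          rw [show s * r ^ i.val * (s * r ^ j.val) = s * (r ^ i.val * s) * r ^ j.val by group, hmove,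
            ← mul_assoc, hs2, one_mul, ← hadd, sub_eq_neg_add] }
  have hinj : Function.Injective f := by
    rw [injective_iff_map_eq_one]
    rintro (i | i) hi
    · have hd := orderOf_dvd_of_pow_eq_one (hi : r ^ i.val = 1)
      rw [hr] at hd
      have h0 := Nat.eq_zero_of_dvd_of_lt hd (ZMod.val_lt i)
      rw [ZMod.val_eq_zero] at h0
      subst h0; rfl
    · exfalso
      apply hs
      rw [eq_inv_of_mul_eq_one_left (hi : s * r ^ i.val = 1)]
      exact Subgroup.inv_mem _ (Subgroup.pow_mem _ (Subgroup.mem_zpowers r) _)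
  have hb : Function.Bijective f := by
    rw [Nat.bijective_iff_injective_and_card]
    exact ⟨hinj, by rw [DihedralGroup.nat_card, hC]⟩
  exact ⟨(MulEquiv.ofBijective f hb).symm⟩

theorem equiv_quaternion {C : Type*} [Group C] [Finite C] (hC : Nat.card C = 8) (r s : C)
    (hr : orderOf r = 4) (hs : s ∉ Subgroup.zpowers r) (hrs : s * r * s⁻¹ = r⁻¹) (hs2 : s * s = r * r) :
    Nonempty (C ≃* QuaternionGroup 2) := by
  have h4 : r ^ 4 = 1 := by rw [← hr]; exact pow_orderOf_eq_one r
  have hadd : ∀ i j : ZMod (2 * 2), r ^ (i + j).val = r ^ i.val * r ^ j.val := by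
    intro i j
    rw [← pow_add, ZMod.val_add, ← pow_mod_orderOf r (i.val + j.val), hr]
  have hneg : ∀ i : ZMod (2 * 2), r ^ (-i).val = (r ^ i.val)⁻¹ := fun i => by
    apply eq_inv_of_mul_eq_one_left
    rw [← hadd, neg_add_cancel]
    rw [ZMod.val_zero, pow_zero]
  have hmove : ∀ i : ZMod (2 * 2), r ^ i.val * s = s * r ^ (-i).val := by
    intro i
    have h1 : r ^ i.val = s * (r ^ i.val)⁻¹ * s⁻¹ := by
      rw [← inv_pow, ← conj_pow]
      congr 1
      calc r = (r⁻¹)⁻¹ := (inv_inv r).symm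
        _ = (s * r * s⁻¹)⁻¹ := by rw [hrs]
        _ = s * r⁻¹ * s⁻¹ := by group
    rw [hneg]
    nth_rewrite 1 [h1]
    group
  have h2 : r ^ ((2 : ℕ) : ZMod (2 * 2)).val = s * s := by
    rw [hs2, show ((2 : ℕ) : ZMod (2 * 2)).val = 2 from rfl, pow_two]
  let F : QuaternionGroup 2 → C := fun g => match g with
    | .a i => r ^ i.val
    | .xa i => s * r ^ i.val
  let f : QuaternionGroup 2 →* C :=
    { toFun := F
      map_one' := by
        show F (.a 0) = 1
        exact (congrArg (r ^ ·) ZMod.val_zero).trans (pow_zero r)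
      map_mul' := by
        rintro (i | i) (j | j)
        · exact hadd i j
        · show s * r ^ (j - i).val = r ^ i.val * (s * r ^ j.val)
          rw [← mul_assoc, hmove, mul_assoc, ← hadd, sub_eq_neg_add]
        · show s * r ^ (i + j).val = s * r ^ i.val * r ^ j.val
          rw [mul_assoc, hadd]
        · show r ^ (((2 : ℕ) : ZMod (2 * 2)) + j - i).val = s * r ^ i.val * (s * r ^ j.val)
          rw [show s * r ^ i.val * (s * r ^ j.val) = s * (r ^ i.val * s) * r ^ j.val by group, hmove,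
            ← mul_assoc, ← h2, mul_assoc, ← hadd, ← hadd]
          congr 2
          ring }
  have hinj : Function.Injective f := by
    rw [injective_iff_map_eq_one]
    rintro (i | i) hi
    · have hd := orderOf_dvd_of_pow_eq_one (hi : r ^ i.val = 1)
      rw [hr] at hd
      have h0 := Nat.eq_zero_of_dvd_of_lt hd (ZMod.val_lt i)
      rw [ZMod.val_eq_zero] at h0
      subst h0; rfl
    · exfalso
      apply hs
      rw [eq_inv_of_mul_eq_one_left (hi : s * r ^ i.val = 1)]
      exact Subgroup.inv_mem _ (Subgroup.pow_mem _ (Subgroup.mem_zpowers r) _)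
  have hb : Function.Bijective f := by
    rw [Nat.bijective_iff_injective_and_card]
    exact ⟨hinj, by rw [Nat.card_eq_fintype_card, QuaternionGroup.card, hC]⟩
  exact ⟨(MulEquiv.ofBijective f hb).symm⟩

section
variable {T : Type*} [Group T] [Finite T]

theorem telescope (ρ : MulAut T) (h3 : ρ ^ 3 = 1) (hfp : ∀ y : T, ρ y = y → y = 1) (u : T) :
    u * ρ u * ρ (ρ u) = 1 := by
  have hinj : Function.Injective fun w : T => w⁻¹ * ρ w := by
    intro a b h
    have : ρ (a * b⁻¹) = a * b⁻¹ := by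
      have h' : a⁻¹ * ρ a = b⁻¹ * ρ b := h
      rw [map_mul, map_inv]
      calc ρ a * (ρ b)⁻¹ = a * (a⁻¹ * ρ a) * (ρ b)⁻¹ := by group
        _ = a * (b⁻¹ * ρ b) * (ρ b)⁻¹ := by rw [h']
        _ = _ := by group
    exact mul_inv_eq_one.1 (hfp _ this)
  obtain ⟨w, hw⟩ := (Finite.injective_iff_surjective.1 hinj) u
  have h3' : ρ (ρ (ρ w)) = w := by
    calc ρ (ρ (ρ w)) = (ρ ^ 3) w := rfl
      _ = w := by rw [h3]; rfl
  simp only at hw
  rw [← hw, map_mul, map_mul, map_inv, map_inv, h3']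
  group

theorem commute_image (ρ : MulAut T) (h3 : ρ ^ 3 = 1) (hfp : ∀ y : T, ρ y = y → y = 1) (u : T) :
    u * ρ u = ρ u * u := by
  have h1 := telescope ρ h3 hfp u
  have h2 := telescope ρ h3 hfp u⁻¹
  rw [map_inv, map_inv] at h2
  have a1 : ρ (ρ u) = (u * ρ u)⁻¹ := eq_inv_of_mul_eq_one_right h1
  have a2 : ρ (ρ u) * ρ u * u = 1 := by
    calc ρ (ρ u) * ρ u * u = (u⁻¹ * (ρ u)⁻¹ * (ρ (ρ u))⁻¹)⁻¹ := by group
      _ = 1 := by rw [h2, inv_one]
  rw [mul_assoc, a1, inv_mul_eq_one] at a2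
  exact a2

/-- If the quotient by the centre has order 4 then the fixed-point-free automorphism of order 3 forces commutativity. -/
theorem comm_of_quot_four (ρ : MulAut T) (h3 : ρ ^ 3 = 1) (hfp : ∀ y : T, ρ y = y → y = 1)
    (hT : IsPGroup 2 T) (hq : Nat.card (T ⧸ Subgroup.center T) ≤ 4) : ∀ a b : T, a * b = b * a := by
  classical
  by_contra h
  push Not at h
  obtain ⟨a, b, hab⟩ := h
  set Z := Subgroup.center T with hZ
  have hρZ : ∀ v ∈ Z, ρ v ∈ Z := fun v hv => Subgroup.mem_center_iff.2 fun g => by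
    obtain ⟨g, rfl⟩ := ρ.surjective g
    rw [← map_mul, ← map_mul, Subgroup.mem_center_iff.1 hv g]
  have hfix : ∀ v : T, v⁻¹ * ρ v ∈ Z → v ∈ Z := by
    intro v hv
    have hh : (QuotientGroup.mk (ρ v) : T ⧸ Z) = QuotientGroup.mk v := (QuotientGroup.eq.2 hv).symm
    have hh2 : (QuotientGroup.mk (ρ (ρ v)) : T ⧸ Z) = QuotientGroup.mk (ρ v) := by
      refine (QuotientGroup.eq.2 ?_).symm
      have := hρZ _ hv
      rwa [map_mul, map_inv] at this
    have h1 : (QuotientGroup.mk v : T ⧸ Z) ^ 3 = 1 := by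
      have := congrArg (QuotientGroup.mk : T → T ⧸ Z) (telescope ρ h3 hfp v)
      rw [QuotientGroup.mk_mul, QuotientGroup.mk_mul, hh2, hh, QuotientGroup.mk_one] at this
      rw [pow_succ, pow_two, this]
    obtain ⟨k, hk⟩ := hT v
    have h2 : (QuotientGroup.mk v : T ⧸ Z) ^ 2 ^ k = 1 := by rw [← QuotientGroup.mk_pow, hk, QuotientGroup.mk_one]
    have := pow_gcd_eq_one.2 ⟨h1, h2⟩
    rw [show Nat.gcd 3 (2 ^ k) = 1 from Nat.Coprime.pow_right k (by norm_num), pow_one, QuotientGroup.eq_one_iff] at this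
    exact this
  have haZ : a ∉ Z := fun h => hab (Subgroup.mem_center_iff.1 h b).symm
  have hρa : ρ a ∉ Z := fun h => haZ (by
    have := hρZ _ (hρZ _ h)
    rwa [show ρ (ρ (ρ a)) = (ρ ^ 3) a from rfl, h3] at this)
  let f : Fin 4 → T ⧸ Z := ![1, QuotientGroup.mk a, QuotientGroup.mk (ρ a), QuotientGroup.mk (a * ρ a)]
  have hf : Function.Injective f := by
    have e1 : (QuotientGroup.mk a : T ⧸ Z) ≠ 1 := fun h => haZ ((QuotientGroup.eq_one_iff _).1 h)
    have e2 : (QuotientGroup.mk (ρ a) : T ⧸ Z) ≠ 1 := fun h => hρa ((QuotientGroup.eq_one_iff _).1 h)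
    have e3 : (QuotientGroup.mk a : T ⧸ Z) ≠ QuotientGroup.mk (ρ a) := fun h => haZ (hfix a (QuotientGroup.eq.1 h))
    have e4 : (QuotientGroup.mk (a * ρ a) : T ⧸ Z) ≠ 1 := by
      intro h
      have h4 : (ρ (ρ a))⁻¹ ∈ Z := by
        have h1 := telescope ρ h3 hfp a
        rw [← eq_inv_of_mul_eq_one_left h1]
        exact (QuotientGroup.eq_one_iff _).1 h
      have := hρZ _ (Subgroup.inv_mem _ h4)
      rw [inv_inv, show ρ (ρ (ρ a)) = (ρ ^ 3) a from rfl, h3] at this
      exact haZ this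
    intro i j hij
    fin_cases i <;> fin_cases j <;> simp [f] at hij ⊢
    all_goals first
      | exact e1 hij | exact e1 hij.symm | exact e2 hij | exact e2 hij.symm | exact e3 hij | exact e3 hij.symm
      | exact e4 hij | exact e4 hij.symm
      | (exact haZ hij) | (exact hρa hij) | (exact e4 ((QuotientGroup.eq_one_iff _).2 hij))
  haveI := Fintype.ofFinite (T ⧸ Z)
  have hb : Function.Surjective f := by
    refine ((Fintype.bijective_iff_injective_and_card f).2 ⟨hf, ?_⟩).2
    have h1 := Fintype.card_le_of_injective f hf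
    rw [Nat.card_eq_fintype_card] at hq
    rw [Fintype.card_fin] at h1 ⊢
    omega
  have hcent : ∀ v : T, Commute a v := by
    intro v
    obtain ⟨i, hi⟩ := hb (QuotientGroup.mk v)
    have key : ∀ w : T, (QuotientGroup.mk w : T ⧸ Z) = QuotientGroup.mk v → Commute a w → Commute a v := by
      intro w hw haw
      have hz := QuotientGroup.eq.1 hw
      rw [← mul_inv_cancel_left w v]
      exact haw.mul_right (Subgroup.mem_center_iff.1 hz a)
    have hc : Commute a (ρ a) := commute_image ρ h3 hfp a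
    fin_cases i
    · exact key 1 hi (Commute.one_right a)
    · exact key a hi (Commute.refl a)
    · exact key _ hi hc
    · exact key _ hi ((Commute.refl a).mul_right hc)
  exact hab (hcent b)

theorem card_modEq (ρ : MulAut T) (h3 : ρ ^ 3 = 1) (hfp : ∀ y : T, ρ y = y → y = 1) (H : Subgroup T)
    (hH : ∀ v ∈ H, ρ v ∈ H) : Nat.card H % 3 = 1 := by
  classical
  haveI := Fintype.ofFinite H
  haveI : Fact (Nat.Prime 3) := ⟨Nat.prime_three⟩
  let g : Function.End H := fun v => (⟨ρ v, hH v v.2⟩ : H)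
  have hg : g ^ 3 ^ 1 = 1 := by
    funext v
    apply Subtype.ext
    show ρ (ρ (ρ (v : T))) = v
    exact (DFunLike.congr_fun h3 (v : T) : _)
  have h := Equiv.Perm.card_fixedPoints_modEq (p := 3) hg
  have hfixset : Fintype.card (Function.fixedPoints g) = 1 := by
    rw [Fintype.card_eq_one_iff]
    refine ⟨⟨1, Subtype.ext (map_one ρ)⟩, fun v => Subtype.ext (Subtype.ext ?_)⟩
    exact hfp _ (congrArg Subtype.val v.2)
  rw [hfixset] at h
  rw [Nat.card_eq_fintype_card]
  exact h
end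


section Heis
variable {T : Type*} [Group T] [Finite T]

theorem bracket_mul_left {Z : Subgroup T} (hcen : ∀ v ∈ Z, ∀ u : T, u * v = v * u)
    (hc : ∀ u w : T, ⁅u, w⁆ ∈ Z) (a b w : T) : ⁅a * b, w⁆ = ⁅a, w⁆ * ⁅b, w⁆ := by
  have h1 := hcen _ (hc b w) a
  have h2 := hcen _ (hc b w) ⁅a, w⁆
  rw [h2]
  simp only [commutatorElement_def] at h1 ⊢
  calc a * b * w * (a * b)⁻¹ * w⁻¹ = (a * (b * w * b⁻¹ * w⁻¹)) * (w * a⁻¹ * w⁻¹) := by group
    _ = ((b * w * b⁻¹ * w⁻¹) * a) * (w * a⁻¹ * w⁻¹) := by rw [h1]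
    _ = _ := by group

/-- The facts about a group of order 64 used below. -/
structure Ctx (T : Type*) [Group T] (ρ : MulAut T) (Z : Subgroup T) (z : T) : Prop where
  h3 : ∀ v, ρ (ρ (ρ v)) = v
  fp : ∀ v, ρ v = v → v = 1
  tel : ∀ v, ρ (ρ v) = (v * ρ v)⁻¹
  comm : ∀ v, v * ρ v = ρ v * v
  cen : ∀ v ∈ Z, ∀ u : T, u * v = v * u
  elem : ∀ v ∈ Z, v * v = 1
  brk : ∀ u w : T, ⁅u, w⁆ ∈ Z
  sq : ∀ u : T, u * u ∈ Z
  inv : ∀ v ∈ Z, ρ v ∈ Z
  zmem : z ∈ Z
  zne : z ≠ 1
  four : ∀ v ∈ Z, v = 1 ∨ v = z ∨ v = ρ z ∨ v = z * ρ z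

variable {ρ : MulAut T} {Z : Subgroup T} {z : T}

theorem Ctx.bl (X : Ctx T ρ Z z) (a b w : T) : ⁅a * b, w⁆ = ⁅a, w⁆ * ⁅b, w⁆ :=
  bracket_mul_left X.cen X.brk a b w

theorem Ctx.symm (X : Ctx T ρ Z z) (a b : T) : ⁅b, a⁆ = ⁅a, b⁆ := by
  rw [← commutatorElement_inv a b]
  exact inv_eq_of_mul_eq_one_right (X.elem _ (X.brk a b))

theorem Ctx.br (X : Ctx T ρ Z z) (a b w : T) : ⁅a, b * w⁆ = ⁅a, b⁆ * ⁅a, w⁆ := by
  rw [X.symm (b * w) a, X.bl, X.symm a b, X.symm a w]

theorem Ctx.self (X : Ctx T ρ Z z) (a : T) : ⁅a, ρ a⁆ = 1 :=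
  commutatorElement_eq_one_iff_mul_comm.2 (X.comm a)

theorem Ctx.swap (X : Ctx T ρ Z z) (g h : T) : ⁅g, ρ h⁆ = ⁅ρ g, h⁆ := by
  have h1 := X.self (g * h)
  rw [map_mul, X.bl, X.br, X.br, X.self, X.self, one_mul, mul_one] at h1
  rw [X.symm h (ρ g), eq_inv_of_mul_eq_one_left h1]
  exact inv_eq_of_mul_eq_one_right (X.elem _ (X.brk h (ρ g)))

theorem Ctx.rho2_inv (X : Ctx T ρ Z z) (a h : T) : ⁅a, ρ (ρ h)⁆ = ⁅a, h⁆ * ⁅a, ρ h⁆ := by
  have h1 : ⁅a, ρ (ρ h)⁆ * (⁅a, h⁆ * ⁅a, ρ h⁆) = 1 := by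
    rw [← X.br, ← X.br, X.tel, inv_mul_cancel, commutatorElement_one_right]
  rw [eq_inv_of_mul_eq_one_left h1]
  exact inv_eq_of_mul_eq_one_right (X.elem _ (Z.mul_mem (X.brk a h) (X.brk a (ρ h))))

theorem Ctx.e_rel (X : Ctx T ρ Z z) (g h : T) : ρ ⁅g, ρ h⁆ = ⁅g, ρ h⁆ * ρ ⁅g, h⁆ := by
  rw [map_commutatorElement, map_commutatorElement]
  calc ⁅ρ g, ρ (ρ h)⁆ = ⁅ρ g, h⁆ * ⁅ρ g, ρ h⁆ := X.rho2_inv _ _
    _ = _ := by rw [X.swap g h]

theorem Ctx.e_val (X : Ctx T ρ Z z) (g h : T) (hgh : ⁅g, h⁆ = z) : ⁅g, ρ h⁆ = z * ρ z := by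
  have h1 := X.e_rel g h
  rw [hgh] at h1
  rcases X.four _ (X.brk g (ρ h)) with h2 | h2 | h2 | h2
  · exfalso
    rw [h2, map_one, one_mul] at h1
    exact X.zne (ρ.injective (h1.symm.trans (map_one ρ).symm))
  · exfalso
    rw [h2] at h1
    exact X.zne (mul_eq_right.1 h1.symm)
  · exfalso
    rw [h2, X.elem _ (X.inv _ X.zmem)] at h1
    exact X.zne (ρ.injective (by
      have := ρ.injective (h1.trans (map_one ρ).symm)
      rw [this, map_one]))
  · exact h2

theorem Ctx.sq_mul (X : Ctx T ρ Z z) (g h : T) : (g * h) * (g * h) = g * g * (h * h) * ⁅g, h⁆ := by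
  rw [← X.symm g h, mul_assoc (g * g), ← X.cen _ (X.brk h g) (h * h) |>.symm]
  rw [show g * g * (⁅h, g⁆ * (h * h)) = (g * g * ⁅h, g⁆) * (h * h) by group]
  have h1 := X.cen _ (X.brk h g) g
  simp only [commutatorElement_def] at h1 ⊢
  calc g * h * (g * h) = g * ((h * g * h⁻¹ * g⁻¹) * g) * (h * h) := by group
    _ = g * (g * (h * g * h⁻¹ * g⁻¹)) * (h * h) := by rw [h1]
    _ = _ := by group

theorem Ctx.iso (X : Ctx T ρ Z z) (hT : Nat.card T = 64) (a b : T) (ha : a * a = 1) (hb : b * b = 1)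
    (hab : ⁅a, b⁆ = z) :
    ∃ (F : Type) (_ : Field F) (_ : Fintype F), Fintype.card F = 4 ∧
      ∃ S : Sylow 2 (Matrix.ProjectiveSpecialLinearGroup (Fin 3) F),
        Nonempty (T ≃* ↥(S : Subgroup (Matrix.ProjectiveSpecialLinearGroup (Fin 3) F))) := by
  classical
  haveI : Fact (Nat.Prime 2) := ⟨Nat.prime_two⟩
  let F := GaloisField 2 2
  haveI : Fintype F := Fintype.ofFinite F
  have hF : Fintype.card F = 4 := by
    rw [← Nat.card_eq_fintype_card, GaloisField.card 2 2 (by norm_num)]; norm_num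
  haveI : CharP F 2 := inferInstance
  obtain ⟨w, hw0, hw1⟩ : ∃ w : F, w ≠ 0 ∧ w ≠ 1 := by
    by_contra hne
    push Not at hne
    have : (Finset.univ : Finset F) ⊆ {0, 1} := fun x _ => by
      by_cases hx : x = 0 <;> simp [hx, hne x]
    have := Finset.card_le_card this
    rw [Finset.card_univ, hF] at this
    exact absurd (this.trans Finset.card_le_two) (by norm_num)
  have hws1 : w + 1 ≠ 0 := fun h => hw1 (CharTwo.add_eq_zero.1 h)
  have hs1 : w + 1 ≠ 1 := fun h => hw0 (by simpa using h)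
  have hsw : w + 1 ≠ w := by simp
  have hall : ∀ x : F, x = 0 ∨ x = 1 ∨ x = w ∨ x = w + 1 := by
    intro x
    have hu : ({0, 1, w, w + 1} : Finset F) = Finset.univ := by
      apply Finset.eq_univ_of_card
      rw [hF]
      simp [hw0.symm, hw1.symm, hws1.symm, hs1.symm, hsw.symm]
    have := Finset.mem_univ x
    rw [← hu] at this
    simpa using this
  have hww : w * w = w + 1 := by
    rcases hall (w * w) with h | h | h | h
    · exact absurd (mul_self_eq_zero.1 h) hw0
    · exfalso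
      apply hw1
      have : (w + 1) * (w + 1) = 0 := by
        rw [add_mul, mul_add, h, mul_one, one_mul, add_comm w 1]
        exact CharTwo.add_self_eq_zero _
      exact absurd (mul_self_eq_zero.1 this) hws1
    · exact absurd (mul_left_cancel₀ hw0 (h.trans (mul_one w).symm)) hw1
    · exact h
  -- additive homomorphisms into T
  have mk : ∀ v v' : T, v * v = 1 → v' * v' = 1 → v * v' = v' * v →
      ∃ f : F → T, f 0 = 1 ∧ f 1 = v ∧ f w = v' ∧ f (w + 1) = v * v' ∧ ∀ x y, f (x + y) = f x * f y := by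
    intro v v' hv hv' hc
    let f : F → T := fun x => if x = 0 then 1 else if x = 1 then v else if x = w then v' else v * v'
    have f0 : f 0 = 1 := if_pos rfl
    have f1 : f 1 = v := by simp [f]
    have f2 : f w = v' := by simp [f, hw0, hw1]
    have f3 : f (w + 1) = v * v' := by simp [f, hws1, hs1, hsw]
    refine ⟨f, f0, f1, f2, f3, fun x y => ?_⟩
    have t1 : (1 : F) + 1 = 0 := CharTwo.add_self_eq_zero 1
    have t2 : w + w = 0 := CharTwo.add_self_eq_zero w
    have t3 : (1 : F) + w = w + 1 := add_comm _ _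
    have t4 : 1 + (w + 1) = w := by rw [add_comm w 1, ← add_assoc, t1, zero_add]
    have t5 : w + (w + 1) = 1 := by rw [← add_assoc, t2, zero_add]
    have t6 : w + 1 + 1 = w := by rw [add_assoc, t1, add_zero]
    have t7 : w + 1 + w = 1 := by rw [add_comm (w + 1) w, t5]
    have t8 : w + 1 + (w + 1) = 0 := CharTwo.add_self_eq_zero _
    have m1 : v * (v * v') = v' := by rw [← mul_assoc, hv, one_mul]
    have m2 : v' * (v * v') = v := by rw [hc, ← mul_assoc, hv', one_mul]
    have m3 : v * v' * v = v' := by rw [hc, mul_assoc, hv, mul_one]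
    have m4 : v * v' * v' = v := by rw [mul_assoc, hv', mul_one]
    have m5 : v * v' * (v * v') = 1 := by rw [mul_assoc, m2, hv]
    rcases hall x with h | h | h | h <;> rcases hall y with h' | h' | h' | h' <;> rw [h, h'] <;>
      simp only [add_zero, zero_add, t1, t2, t3, t4, t5, t6, t7, t8, f0, f1, f2, f3, one_mul, mul_one, hv, hv',
        m1, m2, m3, m4, m5]
    exact hc
  have hρinv : ∀ v : T, v * v = 1 → ρ v * ρ v = 1 := fun v hv => by rw [← map_mul, hv, map_one]
  obtain ⟨α, α0, α1, α2, α3, αadd⟩ := mk a (ρ a) ha (hρinv a ha) (X.comm a)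
  obtain ⟨β, β0, β1, β2, β3, βadd⟩ := mk b (ρ b) hb (hρinv b hb) (X.comm b)
  obtain ⟨γ, γ0, γ1, γ2, γ3, γadd⟩ := mk z (z * ρ z) (X.elem z X.zmem)
    (X.elem _ (Z.mul_mem X.zmem (X.inv z X.zmem))) (X.cen _ (Z.mul_mem X.zmem (X.inv z X.zmem)) z)
  have γ3' : γ (w + 1) = ρ z := by rw [γ3, ← mul_assoc, X.elem z X.zmem, one_mul]
  have γmem : ∀ x, γ x ∈ Z := by
    intro x
    rcases hall x with h | h | h | h <;> rw [h]
    · rw [γ0]; exact Z.one_mem
    · rw [γ1]; exact X.zmem
    · rw [γ2]; exact Z.mul_mem X.zmem (X.inv z X.zmem)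
    · rw [γ3']; exact X.inv z X.zmem
  have he := X.e_val a b hab
  have he' : ⁅ρ a, b⁆ = z * ρ z := by rw [← X.swap, he]
  have he'' : ⁅ρ a, ρ b⁆ = ρ z := by rw [← map_commutatorElement, hab]
  have hαβ : ∀ x y, ⁅α x, β y⁆ = γ (x * y) := by
    have hg0 : ∀ v : T, ⁅(1 : T), v⁆ = 1 := fun v => commutatorElement_one_left v
    have b1 : ∀ y, ⁅a, β y⁆ = γ y := fun y => by
      rcases hall y with h | h | h | h <;> rw [h]
      · rw [β0, γ0, commutatorElement_one_right]
      · rw [β1, γ1, hab]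
      · rw [β2, γ2, he]
      · rw [β3, γ3, X.br, hab, he]
    have b2 : ∀ y, ⁅ρ a, β y⁆ = γ (w * y) := fun y => by
      rcases hall y with h | h | h | h <;> rw [h]
      · rw [β0, mul_zero, γ0, commutatorElement_one_right]
      · rw [β1, mul_one, γ2, he']
      · rw [β2, hww, γ3', he'']
      · rw [β3, mul_add, mul_one, hww, X.br, he', he'', γadd, γ3', γ2]
        exact X.cen _ (X.inv z X.zmem) _
    intro x y
    rcases hall x with h | h | h | h <;> rw [h]
    · rw [α0, zero_mul, γ0, hg0]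
    · rw [α1, one_mul, b1]
    · rw [α2, b2]
    · rw [α3, X.bl, b1, b2, add_mul, one_mul, γadd]
      exact X.cen _ (γmem _) _
  let φ : F × F × F → T := fun v => γ v.2.2 * (β v.2.1 * α v.1)
  have hmul : ∀ x y c x' y' c' : F, φ (x + x', y + y', c + c' + x * y') = φ (x, y, c) * φ (x', y', c') := by
    intro x y c x' y' c'
    show γ (c + c' + x * y') * (β (y + y') * α (x + x')) = γ c * (β y * α x) * (γ c' * (β y' * α x'))
    have e1 : α x * β y' = γ (x * y') * (β y' * α x) := by rw [← hαβ, commutatorElement_def]; group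
    have c1 := X.cen _ (γmem c') (β y * α x)
    have c2 := X.cen _ (γmem (x * y')) (β y)
    rw [βadd, αadd, γadd, γadd]
    symm
    calc γ c * (β y * α x) * (γ c' * (β y' * α x'))
        = γ c * ((β y * α x) * γ c') * (β y' * α x') := by group
      _ = γ c * γ c' * β y * (α x * β y') * α x' := by rw [c1]; group
      _ = γ c * γ c' * (β y * γ (x * y')) * β y' * α x * α x' := by rw [e1]; group
      _ = _ := by rw [c2]; group
  have φ0 : φ (0, 0, 0) = 1 := by
    show γ 0 * (β 0 * α 0) = 1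
    rw [γ0, β0, α0, one_mul, one_mul]
  have γinj : ∀ x, γ x = 1 → x = 0 := by
    intro x hx
    rcases hall x with h | h | h | h <;> rw [h] at hx ⊢
    · exact absurd (γ1.symm.trans hx) X.zne
    · exfalso
      rw [γ2] at hx
      have h1 : ρ z = z := mul_left_cancel (hx.trans (X.elem z X.zmem).symm)
      exact X.zne (X.fp _ h1)
    · exact absurd (ρ.injective ((γ3'.symm.trans hx).trans (map_one ρ).symm)) X.zne
  have φker : ∀ x y c : F, φ (x, y, c) = 1 → x = 0 ∧ y = 0 ∧ c = 0 := by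
    intro x y c h
    change γ c * (β y * α x) = 1 at h
    have hcz : ∀ v u : T, v ∈ Z → ⁅u, v⁆ = 1 := fun v u hv => commutatorElement_eq_one_iff_mul_comm.2 (X.cen v hv u)
    have hy : ⁅a, γ c * (β y * α x)⁆ = γ y := by
      have := hαβ 1 y
      rw [α1, one_mul] at this
      rw [X.br, X.br, hcz _ _ (γmem c), this, one_mul]
      have haα : ⁅a, α x⁆ = 1 := by
        rw [← α1, commutatorElement_eq_one_iff_mul_comm, ← αadd, ← αadd, add_comm]
      rw [haα, mul_one]
    have hx : ⁅b, γ c * (β y * α x)⁆ = γ x := by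
      have := hαβ x 1
      rw [β1, mul_one] at this
      have hbβ : ⁅b, β y⁆ = 1 := by
        rw [← β1, commutatorElement_eq_one_iff_mul_comm, ← βadd, ← βadd, add_comm]
      rw [X.br, X.br, hcz _ _ (γmem c), hbβ, X.symm (α x) b, this, one_mul, one_mul]
    rw [h, commutatorElement_one_right] at hx hy
    have x0 := γinj x hx.symm
    have y0 := γinj y hy.symm
    rw [x0, y0, β0, α0, one_mul, mul_one] at h
    exact ⟨x0, y0, γinj c h⟩
  have φinj : Function.Injective φ := by
    rintro ⟨x, y, c⟩ ⟨x', y', c'⟩ h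
    have h1 : φ (x' + x, y' + y, c' + (c + x * y) + x' * y) = 1 := by
      rw [hmul, ← h, ← hmul, CharTwo.add_self_eq_zero, CharTwo.add_self_eq_zero,
        ← add_assoc c c, CharTwo.add_self_eq_zero, zero_add, CharTwo.add_self_eq_zero, φ0]
    obtain ⟨e1, e2, e3⟩ := φker _ _ _ h1
    obtain rfl := CharTwo.add_eq_zero.1 e1
    obtain rfl := CharTwo.add_eq_zero.1 e2
    rw [add_assoc, add_assoc c, CharTwo.add_self_eq_zero, add_zero, CharTwo.add_eq_zero] at e3
    subst e3
    rfl
  have φbij : Function.Bijective φ := by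
    rw [Nat.bijective_iff_injective_and_card]
    refine ⟨φinj, ?_⟩
    rw [hT, Nat.card_prod, Nat.card_prod, Nat.card_eq_fintype_card, hF]
  let E := Equiv.ofBijective φ φbij
  let M : F × F × F → Matrix (Fin 3) (Fin 3) F := fun v => !![1, v.1, v.2.2; 0, 1, v.2.1; 0, 0, 1]
  let N : F × F × F → Matrix.SpecialLinearGroup (Fin 3) F := fun v => ⟨M v, by simp [M, Matrix.det_fin_three]⟩
  have hN : ∀ x y c x' y' c' : F, N (x + x', y + y', c + c' + x * y') = N (x, y, c) * N (x', y', c') := by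
    intro x y c x' y' c'
    apply Subtype.ext
    show M _ = M _ * M _
    ext i j
    fin_cases i <;> fin_cases j <;> simp [M, Matrix.mul_apply, Fin.sum_univ_three] <;> ring
  let π := QuotientGroup.mk' (Subgroup.center (Matrix.SpecialLinearGroup (Fin 3) F))
  let ψ : T →* Matrix.ProjectiveSpecialLinearGroup (Fin 3) F :=
    MonoidHom.mk' (fun v => π (N (E.symm v))) (by
      intro u v
      obtain ⟨⟨x, y, c⟩, rfl⟩ := E.surjective u
      obtain ⟨⟨x', y', c'⟩, rfl⟩ := E.surjective v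
      have : E (x, y, c) * E (x', y', c') = E (x + x', y + y', c + c' + x * y') := (hmul _ _ _ _ _ _).symm
      rw [this, Equiv.symm_apply_apply, Equiv.symm_apply_apply, Equiv.symm_apply_apply, hN, map_mul])
  have hψ : Function.Injective ψ := by
    rw [injective_iff_map_eq_one]
    intro u hu
    obtain ⟨⟨x, y, c⟩, rfl⟩ := E.surjective u
    have hm : N (x, y, c) ∈ Subgroup.center _ := by
      rw [← QuotientGroup.eq_one_iff]
      simpa [ψ, π] using hu
    obtain ⟨r, hr, hr2⟩ := Matrix.SpecialLinearGroup.mem_center_iff.1 hm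
    have e1 := congrFun (congrFun hr2 0) 1
    have e2 := congrFun (congrFun hr2 1) 2
    have e3 := congrFun (congrFun hr2 0) 2
    simp [N, M] at e1 e2 e3
    show E (x, y, c) = 1
    rw [← e1, ← e2, ← e3]
    exact φ0
  have hcard : Nat.card ψ.range = 2 ^ 6 := by
    rw [← Nat.card_congr (MonoidHom.ofInjective hψ).toEquiv, hT]; norm_num
  obtain ⟨S, hS⟩ := (IsPGroup.of_card hcard).exists_le_sylow
  have hle : Nat.card (S : Subgroup (Matrix.ProjectiveSpecialLinearGroup (Fin 3) F)) ≤ 2 ^ 6 := by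
    obtain ⟨k, hk⟩ := IsPGroup.iff_card.1 S.2
    have h1 : Nat.card (Matrix.ProjectiveSpecialLinearGroup (Fin 3) F) ∣ Nat.card (GL (Fin 3) F) :=
      (Subgroup.card_quotient_dvd_card _).trans
        (Subgroup.card_dvd_of_injective Matrix.SpecialLinearGroup.toGL Matrix.SpecialLinearGroup.toGL_injective)
    have h2 : 2 ^ k ∣ 181440 := by
      have hG : Nat.card (GL (Fin 3) F) = 181440 := by
        rw [Matrix.card_GL_field, Fin.prod_univ_three, hF]
        rfl
      rw [← hk, ← hG]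
      exact (Subgroup.card_subgroup_dvd_card _).trans h1
    rw [hk]
    refine Nat.pow_le_pow_right (by norm_num) ?_
    by_contra hk6
    have : 2 ^ 7 ∣ 181440 := (pow_dvd_pow 2 (by omega : 7 ≤ k)).trans h2
    norm_num at this
  have heq : ψ.range = S := Subgroup.eq_of_le_of_card_ge hS (by rw [hcard]; exact hle)
  exact ⟨F, inferInstance, inferInstance, hF, S, ⟨(MonoidHom.ofInjective hψ).trans (MulEquiv.subgroupCongr heq)⟩⟩

end Heis

theorem core {T : Type*} [Group T] [Finite T] (hT : Nat.card T = 64) (hna : ¬ IsMulCommutative T) (ρ x : MulAut T) (hρ : orderOf ρ = 3) (hx : orderOf x = 2)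
    (hxr : x * ρ * x⁻¹ = ρ⁻¹) (hfp : ∀ y : T, ρ y = y → y = 1) (C : Subgroup T) (hC : ∀ y : T, y ∈ C ↔ x y = y) :
    (∃ (F : Type) (_ : Field F) (_ : Fintype F), Fintype.card F = 4 ∧
        ∃ S : Sylow 2 (Matrix.ProjectiveSpecialLinearGroup (Fin 3) F), Nonempty (T ≃* ↥(S : Subgroup (Matrix.ProjectiveSpecialLinearGroup (Fin 3) F)))) ∧
      (Nonempty (↥C ≃* DihedralGroup 4) ∨ Nonempty (↥C ≃* QuaternionGroup 2)) ∧ (∃ a b : T, a * a = 1 ∧ ⁅a, b⁆ ≠ 1) := by
  classical
  haveI : Fact (Nat.Prime 2) := ⟨Nat.prime_two⟩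
  have h3 : ρ ^ 3 = 1 := by rw [← hρ]; exact pow_orderOf_eq_one ρ
  have h3' : ∀ v, ρ (ρ (ρ v)) = v := fun v => DFunLike.congr_fun h3 v
  have hxx : ∀ v, x (x v) = v := fun v => by
    have : x ^ 2 = 1 := by rw [← hx]; exact pow_orderOf_eq_one x
    exact DFunLike.congr_fun this v
  have hxρ : ∀ v, x (ρ v) = ρ (ρ (x v)) := fun v => by
    have h1 : x * ρ = ρ⁻¹ * x := by rw [← hxr, inv_mul_cancel_right]
    have h2 : ρ⁻¹ = ρ * ρ := inv_eq_of_mul_eq_one_right (by rw [← pow_two, ← pow_succ', h3])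
    rw [h2] at h1
    exact DFunLike.congr_fun h1 v
  have hp : IsPGroup 2 T := IsPGroup.of_card (n := 6) (by rw [hT]; norm_num)
  set Z := Subgroup.center T with hZdef
  have hinv : ∀ v ∈ Z, ρ v ∈ Z := fun v hv => Subgroup.mem_center_iff.2 fun g => by
    obtain ⟨g, rfl⟩ := ρ.surjective g
    rw [← map_mul, ← map_mul, Subgroup.mem_center_iff.1 hv g]
  have hncomm : ¬ ∀ a b : T, a * b = b * a := fun h => hna ⟨⟨h⟩⟩
  have hq := Subgroup.card_eq_card_quotient_mul_card_subgroup Z
  rw [hT] at hq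
  have hZc : Nat.card Z = 4 := by
    obtain ⟨k, hk⟩ := IsPGroup.iff_card.1 (hp.to_subgroup Z)
    haveI : Nontrivial T := Finite.one_lt_card_iff_nontrivial.1 (by omega)
    have hk0 : k ≠ 0 := by
      intro h0
      haveI := hp.center_nontrivial
      have := Finite.one_lt_card (α := Z)
      rw [hk, h0] at this
      simp at this
    have hk6 : k ≤ 6 := by
      by_contra h6
      have : 2 ^ 7 ∣ 64 := ((pow_dvd_pow 2 (by omega : 7 ≤ k)).trans (Dvd.intro_left _ (hk ▸ hq.symm)))
      norm_num at this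
    have hm := card_modEq ρ h3 hfp Z hinv
    rw [hk] at hm
    have hbig : k < 4 := by
      by_contra h4
      refine hncomm (comm_of_quot_four ρ h3 hfp hp ?_)
      have : 16 ≤ Nat.card Z := by rw [hk]; calc 16 = 2 ^ 4 := rfl
                                               _ ≤ 2 ^ k := Nat.pow_le_pow_right (by norm_num) (by omega)
      nlinarith
    rw [hk]
    interval_cases k <;> simp_all
  have hQ16 : Nat.card (T ⧸ Z) = 16 := by rw [hZc] at hq; omega
  -- the induced automorphism of the quotient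
  let σ0 : T ⧸ Z →* T ⧸ Z := QuotientGroup.map Z Z ρ.toMonoidHom hinv
  have hσ3 : ∀ q, σ0 (σ0 (σ0 q)) = q := by
    intro q
    obtain ⟨v, rfl⟩ := QuotientGroup.mk_surjective q
    show QuotientGroup.mk (ρ (ρ (ρ v))) = _
    rw [h3']
  let σ : MulAut (T ⧸ Z) :=
    { toFun := σ0
      invFun := fun q => σ0 (σ0 q)
      left_inv := hσ3
      right_inv := hσ3
      map_mul' := map_mul σ0 }
  have hσp : σ ^ 3 = 1 := MulEquiv.ext hσ3
  have hQp : IsPGroup 2 (T ⧸ Z) := hp.to_quotient Z
  have hσfp : ∀ q, σ q = q → q = 1 := by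
    intro q hq'
    obtain ⟨v, rfl⟩ := QuotientGroup.mk_surjective q
    have hh : (QuotientGroup.mk (ρ v) : T ⧸ Z) = QuotientGroup.mk v := hq'
    have hh2 : (QuotientGroup.mk (ρ (ρ v)) : T ⧸ Z) = QuotientGroup.mk v := by
      have : σ0 (QuotientGroup.mk (ρ v)) = σ0 (QuotientGroup.mk v) := by rw [hh]
      exact this.trans hh
    have h1 : (QuotientGroup.mk v : T ⧸ Z) ^ 3 = 1 := by
      have := congrArg (QuotientGroup.mk : T → T ⧸ Z) (telescope ρ h3 hfp v)
      rw [QuotientGroup.mk_mul, QuotientGroup.mk_mul, hh2, hh, QuotientGroup.mk_one] at this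
      rw [pow_succ, pow_two, this]
    obtain ⟨k, hk⟩ := hQp (QuotientGroup.mk v)
    have := pow_gcd_eq_one.2 ⟨h1, hk⟩
    rwa [show Nat.gcd 3 (2 ^ k) = 1 from Nat.Coprime.pow_right k (by norm_num), pow_one] at this
  have hQcomm : ∀ a b : T ⧸ Z, a * b = b * a := by
    refine comm_of_quot_four σ hσp hσfp hQp ?_
    have hq2 := Subgroup.card_eq_card_quotient_mul_card_subgroup (Subgroup.center (T ⧸ Z))
    obtain ⟨k, hk⟩ := IsPGroup.iff_card.1 (hQp.to_subgroup (Subgroup.center (T ⧸ Z)))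
    haveI : Nontrivial (T ⧸ Z) := Finite.one_lt_card_iff_nontrivial.1 (by omega)
    have hk0 : k ≠ 0 := by
      intro h0
      haveI := hQp.center_nontrivial
      have := Finite.one_lt_card (α := Subgroup.center (T ⧸ Z))
      rw [hk, h0] at this
      simp at this
    have hm := card_modEq σ hσp hσfp (Subgroup.center (T ⧸ Z)) (fun v hv => Subgroup.mem_center_iff.2 fun g => by
      obtain ⟨g, rfl⟩ := σ.surjective g
      rw [← map_mul, ← map_mul, Subgroup.mem_center_iff.1 hv g])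
    rw [hk] at hm
    have hk1 : k ≠ 1 := fun h => by rw [h] at hm; omega
    have : 4 ≤ 2 ^ k := by calc 4 = 2 ^ 2 := rfl
                                _ ≤ 2 ^ k := Nat.pow_le_pow_right (by norm_num) (by omega)
    rw [hQ16, hk] at hq2
    nlinarith
  have hbrk : ∀ u w : T, ⁅u, w⁆ ∈ Z := fun u w => by
    rw [← QuotientGroup.eq_one_iff]
    show QuotientGroup.mk' Z ⁅u, w⁆ = 1
    rw [map_commutatorElement, commutatorElement_eq_one_iff_mul_comm]
    exact hQcomm _ _
  have hcen : ∀ v ∈ Z, ∀ u : T, u * v = v * u := fun v hv u => Subgroup.mem_center_iff.1 hv u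
  -- the centre
  obtain ⟨v₀, hv₀m, hv₀2, hv₀ne⟩ : ∃ v ∈ Z, v * v = 1 ∧ v ≠ 1 := by
    obtain ⟨v, hv⟩ := exists_prime_orderOf_dvd_card' (G := Z) 2 (by rw [hZc]; norm_num)
    refine ⟨v, v.2, ?_, ?_⟩
    · have := congrArg Subtype.val (pow_orderOf_eq_one v)
      rw [hv] at this
      rw [← pow_two]; exact this
    · intro h
      rw [Subtype.ext (show (v : T) = ((1 : Z) : T) from h), orderOf_one] at hv
      omega
  have hxcen : ∀ v ∈ Z, x v ∈ Z := fun v hv => Subgroup.mem_center_iff.2 fun g => by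
    obtain ⟨g, rfl⟩ := x.surjective g
    rw [← map_mul, ← map_mul, Subgroup.mem_center_iff.1 hv g]
  obtain ⟨z, hzm, hz2, hzne, hxz⟩ : ∃ z ∈ Z, z * z = 1 ∧ z ≠ 1 ∧ x z = z := by
    by_cases h : v₀ * x v₀ = 1
    · refine ⟨v₀, hv₀m, hv₀2, hv₀ne, ?_⟩
      rw [← inv_eq_of_mul_eq_one_right h, inv_eq_of_mul_eq_one_right hv₀2]
    · refine ⟨v₀ * x v₀, Z.mul_mem hv₀m (hxcen _ hv₀m), ?_, h, ?_⟩
      · have hc := hcen _ hv₀m (x v₀)
        calc v₀ * x v₀ * (v₀ * x v₀) = v₀ * (x v₀ * v₀) * x v₀ := by group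
          _ = (v₀ * v₀) * (x v₀ * x v₀) := by rw [hc]; group
          _ = 1 := by rw [hv₀2, ← map_mul, hv₀2, map_one, one_mul]
      · rw [map_mul, hxx]
        exact hcen _ hv₀m _
  have hρz2 : ρ z * ρ z = 1 := by rw [← map_mul, hz2, map_one]
  have hρzne : ρ z ≠ 1 := fun h => hzne (ρ.injective (h.trans (map_one ρ).symm))
  have hρzz : ρ z ≠ z := fun h => hzne (hfp z h)
  have hzρ : z * ρ z ≠ 1 := fun h => hρzz (mul_left_cancel (h.trans hz2.symm))
  have hfour : ∀ v ∈ Z, v = 1 ∨ v = z ∨ v = ρ z ∨ v = z * ρ z := by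
    intro v hv
    haveI := Fintype.ofFinite Z
    let f : Fin 4 → Z := ![1, ⟨z, hzm⟩, ⟨ρ z, hinv z hzm⟩, ⟨z * ρ z, Z.mul_mem hzm (hinv z hzm)⟩]
    have hval : (fun i => (f i : T)) = ![1, z, ρ z, z * ρ z] := by funext i; fin_cases i <;> rfl
    have hf : Function.Injective f := by
      intro i j h
      have h' : (![1, z, ρ z, z * ρ z] : Fin 4 → T) i = ![1, z, ρ z, z * ρ z] j := by
        rw [← hval]; exact congrArg Subtype.val h
      fin_cases i <;> fin_cases j <;> simp at h' ⊢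
      all_goals first
        | exact hzne h' | exact hzne h'.symm | exact hρzne h' | exact hρzne h'.symm
        | exact hρzz h' | exact hρzz h'.symm | exact hzρ h' | exact hzρ h'.symm
        | exact hρzz (by simpa using h')
    have hb : Function.Surjective f := ((Fintype.bijective_iff_injective_and_card f).2
      ⟨hf, by rw [Fintype.card_fin, ← Nat.card_eq_fintype_card, hZc]⟩).2
    obtain ⟨i, hi⟩ := hb ⟨v, hv⟩
    have hi' : (f i : T) = v := congrArg Subtype.val hi
    rw [congrFun hval i] at hi'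
    fin_cases i <;> simp at hi' <;> simp [← hi']
  have helem : ∀ v ∈ Z, v * v = 1 := by
    intro v hv
    rcases hfour v hv with h | h | h | h <;> rw [h]
    · exact one_mul 1
    · exact hz2
    · exact hρz2
    · calc z * ρ z * (z * ρ z) = z * (ρ z * z) * ρ z := by group
        _ = (z * z) * (ρ z * ρ z) := by rw [hcen z hzm (ρ z)]; group
        _ = 1 := by rw [hz2, hρz2, one_mul]
  have hsq : ∀ u : T, u * u ∈ Z := fun u => Subgroup.mem_center_iff.2 fun v => by
    have h1 := bracket_mul_left hcen hbrk u u v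
    rw [helem _ (hbrk u v)] at h1
    exact (commutatorElement_eq_one_iff_mul_comm.1 h1).symm
  have X : Ctx T ρ Z z :=
    ⟨h3', hfp, fun v => eq_inv_of_mul_eq_one_right (telescope ρ h3 hfp v),
      commute_image ρ h3 hfp, hcen, helem, hbrk, hsq, hinv, hzm, hzne, hfour⟩
  have hfix4 : ∀ v ∈ Z, x v = v → v = 1 ∨ v = z := by
    intro v hv hxv
    rcases hfour v hv with h | h | h | h
    · exact Or.inl h
    · exact Or.inr h
    · exfalso
      rw [h, hxρ, hxz] at hxv
      exact hρzz (ρ.injective hxv)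
    · exfalso
      rw [h, map_mul, hxρ, hxz] at hxv
      exact hρzz (ρ.injective (mul_left_cancel hxv))
  -- fixed points modulo the centre
  have hlift : ∀ v : T, v⁻¹ * x v ∈ Z → ∃ c ∈ C, c⁻¹ * v ∈ Z := by
    intro v hv
    set e := v⁻¹ * x v with he
    have hxe : x e = e := by
      have h1 : x e = (x v)⁻¹ * v := by rw [he, map_mul, map_inv, hxx]
      have h2 : (x v)⁻¹ * v = e⁻¹ := by rw [he]; group
      rw [h1, h2]
      exact inv_eq_of_mul_eq_one_right (helem e hv)
    have hxv : x v = v * e := by rw [he]; group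
    rcases hfix4 e hv hxe with h | h
    · exact ⟨v, (hC v).2 (by rw [hxv, h, mul_one]), by rw [inv_mul_cancel]; exact Z.one_mem⟩
    · refine ⟨v * ρ z, (hC _).2 ?_, ?_⟩
      · rw [map_mul, hxρ, hxz, hxv, h, mul_assoc, X.tel z, inv_eq_of_mul_eq_one_right (helem _ (Z.mul_mem hzm (hinv z hzm))),
          ← mul_assoc z z, hz2, one_mul]
      · rw [mul_inv_rev, inv_mul_cancel_right]
        exact Z.inv_mem (hinv z hzm)
  let D := C.map (QuotientGroup.mk' Z)
  have hσD : ∀ d ∈ D, σ d ∈ D → d = 1 := by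
    rintro _ ⟨c, hc, rfl⟩ ⟨c', hc', he⟩
    apply hσfp
    change QuotientGroup.mk c' = QuotientGroup.mk (ρ c) at he
    show QuotientGroup.mk (ρ c) = QuotientGroup.mk c
    have h1 := QuotientGroup.eq.1 he
    have h2 := hxcen _ h1
    rw [map_mul, map_inv, (hC c').1 hc', hxρ, (hC c).1 hc] at h2
    have h3e : (QuotientGroup.mk (ρ (ρ c)) : T ⧸ Z) = QuotientGroup.mk (ρ c) := by
      rw [← he]; exact (QuotientGroup.eq.2 h2).symm
    exact σ.injective h3e
  have hdec : ∀ q : T ⧸ Z, ∃ c ∈ C, ∃ c' ∈ C, q = QuotientGroup.mk c * σ (QuotientGroup.mk c') := by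
    intro q
    have key : ∀ u : T, ∃ c ∈ C, (QuotientGroup.mk c : T ⧸ Z) = QuotientGroup.mk (u * x u) := by
      intro u
      obtain ⟨c, hc, hcz⟩ := hlift (u * x u) (by
        rw [map_mul, hxx, ← QuotientGroup.eq]
        rw [QuotientGroup.mk_mul, QuotientGroup.mk_mul, hQcomm])
      exact ⟨c, hc, QuotientGroup.eq.2 hcz⟩
    obtain ⟨u, rfl⟩ := QuotientGroup.mk_surjective q
    -- u = r p σ p with p = [u x u], r = [ρ u x (ρ u)]
    obtain ⟨c, hc, hce⟩ := key (ρ u)
    obtain ⟨c', hc', hce'⟩ := key u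
    refine ⟨c * c', C.mul_mem hc hc', c', hc', ?_⟩
    show _ = QuotientGroup.mk (c * c') * QuotientGroup.mk (ρ c')
    have e1 : (QuotientGroup.mk (ρ c') : T ⧸ Z) = QuotientGroup.mk (ρ u * ρ (x u)) := by
      show σ (QuotientGroup.mk c') = _
      rw [hce', ← map_mul]; rfl
    rw [QuotientGroup.mk_mul, hce, hce', e1, hxρ]
    simp only [QuotientGroup.mk_mul]
    have ht : ∀ v : T, (QuotientGroup.mk (ρ (ρ v)) : T ⧸ Z) = QuotientGroup.mk v * QuotientGroup.mk (ρ v) := by
      intro v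
      rw [← QuotientGroup.mk_mul, X.tel]
      refine QuotientGroup.eq.2 ?_
      rw [inv_inv]
      exact hsq _
    rw [ht]
    letI : CommGroup (T ⧸ Z) := { (inferInstance : Group (T ⧸ Z)) with mul_comm := hQcomm }
    have h2 : ∀ q : T ⧸ Z, q * q = 1 := fun q => by
      obtain ⟨v, rfl⟩ := QuotientGroup.mk_surjective q
      rw [← QuotientGroup.mk_mul, QuotientGroup.eq_one_iff]; exact hsq v
    set A := (QuotientGroup.mk u : T ⧸ Z)
    set A' := (QuotientGroup.mk (ρ u) : T ⧸ Z)
    set B := (QuotientGroup.mk (x u) : T ⧸ Z)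
    set B' := (QuotientGroup.mk (ρ (x u)) : T ⧸ Z)
    have : A' * (B * B') * (A * B) * (A' * B') = (A' * A') * (B * B) * (B' * B') * A := by ac_rfl
    simp only [this, h2, one_mul]
  have hD4 : Nat.card D = 4 := by
    have hbij : Function.Bijective fun d : D × D => (d.1 : T ⧸ Z) * σ d.2 := by
      refine ⟨?_, ?_⟩
      · rintro ⟨⟨a, ha⟩, ⟨b, hb⟩⟩ ⟨⟨a', ha'⟩, ⟨b', hb'⟩⟩ h
        change a * σ b = a' * σ b' at h
        have h1 : σ (b * b'⁻¹) = a⁻¹ * a' := by
          rw [map_mul, map_inv]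
          calc σ b * (σ b')⁻¹ = a⁻¹ * (a * σ b) * (σ b')⁻¹ := by group
            _ = _ := by rw [h]; group
        have hbb : b * b'⁻¹ = 1 := hσD _ (D.mul_mem hb (D.inv_mem hb')) (by
          rw [h1]; exact D.mul_mem (D.inv_mem ha) ha')
        obtain rfl := mul_inv_eq_one.1 hbb
        obtain rfl := mul_right_cancel h
        rfl
      · intro q
        obtain ⟨c, hc, c', hc', rfl⟩ := hdec q
        exact ⟨(⟨_, c, hc, rfl⟩, ⟨_, c', hc', rfl⟩), rfl⟩
    have := Nat.card_congr (Equiv.ofBijective _ hbij)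
    rw [Nat.card_prod, hQ16] at this
    exact Nat.mul_self_inj.1 (this.trans (by norm_num : 16 = 4 * 4))
  -- the fixed point subgroup
  have hCD : Nat.card C = 8 := by
    let f : C →* T ⧸ Z := (QuotientGroup.mk' Z).comp C.subtype
    have hr : f.range = D := by rw [MonoidHom.range_comp, Subgroup.range_subtype]
    have h1 := Subgroup.card_eq_card_quotient_mul_card_subgroup f.ker
    rw [Nat.card_congr (QuotientGroup.quotientKerEquivRange f).toEquiv, hr, hD4] at h1
    have hk : Nat.card f.ker = 2 := by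
      rw [Nat.card_eq_two_iff]
      refine ⟨1, ⟨⟨z, (hC z).2 hxz⟩, (QuotientGroup.eq_one_iff _).2 hzm⟩, ?_, ?_⟩
      · intro h
        exact hzne (congrArg (fun k : f.ker => ((k : C) : T)) h).symm
      · refine Set.eq_univ_of_forall fun ⟨⟨v, hv⟩, hvk⟩ => ?_
        rcases hfix4 v ((QuotientGroup.eq_one_iff _).1 hvk) ((hC v).1 hv) with h | h <;> subst h <;> simp
    omega
  -- two fixed elements independent modulo the centre
  obtain ⟨g, hg, hgne⟩ : ∃ g ∈ C, g ∉ Z := by
    by_contra h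
    push Not at h
    have : D = ⊥ := by
      rw [eq_bot_iff]
      rintro _ ⟨c, hc, rfl⟩
      exact (QuotientGroup.eq_one_iff c).2 (h c hc)
    rw [this, Subgroup.card_bot] at hD4
    omega
  obtain ⟨h, hh, hh1, hh2⟩ : ∃ h ∈ C, h ∉ Z ∧ g⁻¹ * h ∉ Z := by
    by_contra hno
    push Not at hno
    haveI := Fintype.ofFinite D
    have hsub : ∀ d : D, (d : T ⧸ Z) = 1 ∨ (d : T ⧸ Z) = QuotientGroup.mk g := by
      rintro ⟨_, c, hc, rfl⟩
      by_cases h1 : c ∈ Z
      · exact Or.inl ((QuotientGroup.eq_one_iff c).2 h1)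
      · exact Or.inr (QuotientGroup.eq.2 (hno c hc h1)).symm
    have : Fintype.card D ≤ 2 := by
      refine (Fintype.card_le_of_injective (fun d : D => decide ((d : T ⧸ Z) = 1)) ?_).trans (by simp)
      intro a b hab
      simp only [decide_eq_decide] at hab
      apply Subtype.ext
      rcases hsub a with h1 | h1 <;> rcases hsub b with h2 | h2
      · rw [h1, h2]
      · rw [h1, hab.1 h1]
      · rw [hab.2 h2, h2]
      · rw [h1, h2]
    rw [← Nat.card_eq_fintype_card, hD4] at this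
    omega
  have hxmem : ∀ v ∈ Z, v ∈ C → v = 1 ∨ v = z := fun v hv hvC => hfix4 v hv ((hC v).1 hvC)
  have hgh : ⁅g, h⁆ = z := by
    refine (hxmem _ (hbrk g h) ?_).resolve_left fun h1 => ?_
    · rw [hC, map_commutatorElement, (hC g).1 hg, (hC h).1 hh]
    set e := ⁅g, ρ h⁆ with he
    have hρe : ρ e = e := by rw [he, X.e_rel, h1, map_one, mul_one]
    have he1 : e = 1 := hfp _ hρe
    have he2 : ⁅ρ g, h⁆ = 1 := by rw [← X.swap]; exact he1
    -- every element commutes with g
    have hmem : ∀ v : T, Commute g v := by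
      intro v
      obtain ⟨c, hc, c', hc', hv⟩ := hdec (QuotientGroup.mk v)
      have hv' : (QuotientGroup.mk v : T ⧸ Z) = QuotientGroup.mk (c * ρ c') := hv
      have key : ∀ d ∈ C, Commute g d ∧ Commute g (ρ d) := by
        intro d hd
        have hD' : (QuotientGroup.mk d : T ⧸ Z) = 1 ∨ (QuotientGroup.mk d : T ⧸ Z) = QuotientGroup.mk g ∨
            (QuotientGroup.mk d : T ⧸ Z) = QuotientGroup.mk h ∨ (QuotientGroup.mk d : T ⧸ Z) = QuotientGroup.mk (g * h) := by
          haveI := Fintype.ofFinite D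
          let f : Fin 4 → D := ![1, ⟨_, g, hg, rfl⟩, ⟨_, h, hh, rfl⟩, ⟨_, g * h, C.mul_mem hg hh, rfl⟩]
          have hval : (fun i => (f i : T ⧸ Z)) =
              ![1, QuotientGroup.mk g, QuotientGroup.mk h, QuotientGroup.mk (g * h)] := by
            funext i; fin_cases i <;> rfl
          have q1 : (QuotientGroup.mk g : T ⧸ Z) ≠ 1 := fun q => hgne ((QuotientGroup.eq_one_iff _).1 q)
          have q2 : (QuotientGroup.mk h : T ⧸ Z) ≠ 1 := fun q => hh1 ((QuotientGroup.eq_one_iff _).1 q)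
          have q3 : (QuotientGroup.mk g : T ⧸ Z) ≠ QuotientGroup.mk h := fun q => hh2 (QuotientGroup.eq.1 q)
          have q4 : (QuotientGroup.mk (g * h) : T ⧸ Z) ≠ 1 := by
            intro q
            apply q3
            rw [QuotientGroup.mk_mul] at q
            rw [eq_inv_of_mul_eq_one_left q, ← QuotientGroup.mk_inv]
            refine QuotientGroup.eq.2 ?_
            rw [inv_inv]; exact hsq h
          have hf : Function.Injective f := by
            intro i j hij
            have h' : (![1, QuotientGroup.mk g, QuotientGroup.mk h, QuotientGroup.mk (g * h)] : Fin 4 → T ⧸ Z) i =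
                ![1, QuotientGroup.mk g, QuotientGroup.mk h, QuotientGroup.mk (g * h)] j := by
              rw [← hval]; exact congrArg Subtype.val hij
            fin_cases i <;> fin_cases j <;> simp at h' ⊢
            all_goals first
              | exact q1 h' | exact q1 h'.symm | exact q2 h' | exact q2 h'.symm | exact q3 h' | exact q3 h'.symm
              | exact q4 h' | exact q4 h'.symm | exact hgne h' | exact hh1 h'
              | exact q4 ((QuotientGroup.eq_one_iff _).2 h')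
          have hb : Function.Surjective f := ((Fintype.bijective_iff_injective_and_card f).2
            ⟨hf, by rw [Fintype.card_fin, ← Nat.card_eq_fintype_card, hD4]⟩).2
          obtain ⟨i, hi⟩ := hb ⟨_, d, hd, rfl⟩
          have hi' : (f i : T ⧸ Z) = QuotientGroup.mk d := congrArg Subtype.val hi
          rw [congrFun hval i] at hi'
          fin_cases i <;> simp at hi' <;> simp [← hi']
        have cg : Commute g g := Commute.refl g
        have cρg : Commute g (ρ g) := X.comm g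
        have ch : Commute g h := commutatorElement_eq_one_iff_mul_comm.1 h1
        have cρh : Commute g (ρ h) := commutatorElement_eq_one_iff_mul_comm.1 (he ▸ he1)
        have step : ∀ w : T, (QuotientGroup.mk d : T ⧸ Z) = QuotientGroup.mk w → Commute g w → Commute g (ρ w) →
            Commute g d ∧ Commute g (ρ d) := by
          intro w hw c1 c2
          have hm := QuotientGroup.eq.1 hw.symm
          refine ⟨?_, ?_⟩
          · rw [← mul_inv_cancel_left w d]
            exact c1.mul_right (hcen _ hm g)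
          · rw [← mul_inv_cancel_left w d, map_mul]
            exact c2.mul_right (hcen _ (hinv _ hm) g)
        rcases hD' with e1 | e1 | e1 | e1
        · exact step 1 e1 (Commute.one_right g) (by rw [map_one]; exact Commute.one_right g)
        · exact step g e1 cg cρg
        · exact step h e1 ch cρh
        · exact step _ e1 (cg.mul_right ch) (by rw [map_mul]; exact cρg.mul_right cρh)
      have hm := QuotientGroup.eq.1 hv'.symm
      rw [← mul_inv_cancel_left (c * ρ c') v]
      exact ((key c hc).1.mul_right (key c' hc').2).mul_right (hcen _ hm g)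
    exact hgne (Subgroup.mem_center_iff.2 fun v => (hmem v).eq.symm)
  have hg2 := hxmem _ (hsq g) (C.mul_mem hg hg)
  have hh2' := hxmem _ (hsq h) (C.mul_mem hh hh)
  have hhg : ⁅h, g⁆ = z := by rw [X.symm, hgh]
  have pack : ∀ a b : T, a * a = 1 → b * b = 1 → ⁅a, b⁆ = z → ∃ a b : T, a * a = 1 ∧ b * b = 1 ∧ ⁅a, b⁆ = z :=
    fun a b h1 h2 h3 => ⟨a, b, h1, h2, h3⟩
  obtain ⟨A, B, hA, hB, hAB⟩ : ∃ a b : T, a * a = 1 ∧ b * b = 1 ∧ ⁅a, b⁆ = z := by
    rcases hg2 with a1 | a1
    · rcases hh2' with b1 | b1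
      · exact pack g h a1 b1 hgh
      · refine pack g (g * h) a1 ?_ ?_
        · rw [X.sq_mul, a1, b1, hgh, one_mul, hz2]
        · rw [X.br, commutatorElement_self, hgh, one_mul]
    · rcases hh2' with b1 | b1
      · refine pack h (h * g) b1 ?_ ?_
        · rw [X.sq_mul, a1, b1, hhg, one_mul, hz2]
        · rw [X.br, commutatorElement_self, hhg, one_mul]
      · have e0 := X.e_val g h hgh
        have e0' : ⁅ρ g, h⁆ = z * ρ z := by rw [← X.swap]; exact e0
        have sq1 : h * ρ g * (h * ρ g) = 1 := by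
          rw [X.sq_mul, b1, ← map_mul, a1, X.symm (ρ g) h, e0']
          exact helem _ (Z.mul_mem hzm (hinv z hzm))
        have sq2 : h * ρ (ρ g) * (h * ρ (ρ g)) = 1 := by
          rw [X.sq_mul, b1, ← map_mul, ← map_mul, a1, X.rho2_inv, hhg, X.symm (ρ g) h, e0', X.tel z,
            inv_eq_of_mul_eq_one_right (helem _ (Z.mul_mem hzm (hinv z hzm))), ← mul_assoc z z, hz2, one_mul]
          exact hρz2
        refine pack (h * ρ g) (h * ρ (ρ g)) sq1 sq2 ?_
        rw [X.bl, X.br, X.br, commutatorElement_self, X.rho2_inv, hhg, X.symm (ρ g) h, e0', X.self,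
          one_mul, mul_one, ← mul_assoc z z, hz2, one_mul]
        exact (hcen _ (Z.mul_mem hzm (hinv z hzm)) (ρ z)).trans (by rw [mul_assoc, hρz2, mul_one])
  refine ⟨X.iso hT A B hA hB hAB, ?_, A, B, hA, by rw [hAB]; exact hzne⟩
  have hord : ∀ r ∈ C, r * r = z → orderOf r = 4 := by
    intro r _ hr
    refine orderOf_eq_prime_pow (p := 2) (n := 1) ?_ ?_
    · rw [pow_one, pow_two, hr]; exact hzne
    · rw [show (2 : ℕ) ^ (1 + 1) = 2 * 2 from rfl, pow_mul, pow_two r, hr, pow_two, hz2]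
  have hnot : ∀ r s : T, ⁅s, r⁆ = z → s ∉ Subgroup.zpowers r := by
    rintro r s hrs ⟨k, rfl⟩
    apply hzne
    rw [← hrs, commutatorElement_eq_one_iff_mul_comm]
    exact ((Commute.refl r).zpow_left k).eq
  have finish : ∀ r ∈ C, ∀ s ∈ C, r * r = z → ⁅s, r⁆ = z →
      Nonempty (↥C ≃* DihedralGroup 4) ∨ Nonempty (↥C ≃* QuaternionGroup 2) := by
    intro r hr s hs hr2 hrs
    have o : orderOf (⟨r, hr⟩ : C) = 4 := by rw [Subgroup.orderOf_mk]; exact hord r hr hr2
    have n : (⟨s, hs⟩ : C) ∉ Subgroup.zpowers (⟨r, hr⟩ : C) := by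
      rintro ⟨k, hk⟩
      exact hnot r s hrs ⟨k, by simpa using congrArg Subtype.val hk⟩
    have c : (⟨s, hs⟩ : C) * ⟨r, hr⟩ * (⟨s, hs⟩ : C)⁻¹ = (⟨r, hr⟩ : C)⁻¹ := Subtype.ext (by
      show s * r * s⁻¹ = r⁻¹
      have : s * r * s⁻¹ = ⁅s, r⁆ * r := by rw [commutatorElement_def]; group
      rw [this, hrs, ← hr2]
      calc r * r * r = r⁻¹ * ((r * r) * (r * r)) := by group
        _ = r⁻¹ := by rw [hr2, hz2, mul_one])
    rcases hxmem _ (hsq s) (C.mul_mem hs hs) with s1 | s1
    · exact Or.inl (equiv_dihedral hCD _ _ o n c (Subtype.ext s1))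
    · exact Or.inr (equiv_quaternion hCD _ _ o n c (Subtype.ext (s1.trans hr2.symm)))
  rcases hg2 with a1 | a1
  · rcases hh2' with b1 | b1
    · refine finish (g * h) (C.mul_mem hg hh) g hg ?_ ?_
      · rw [X.sq_mul, a1, b1, hgh, one_mul, one_mul]
      · rw [X.br, commutatorElement_self, hgh, one_mul]
    · exact finish h hh g hg b1 hgh
  · exact finish g hg h hh a1 hhg


/-- Let T be a non-abelian group of order 64 admitting automorphisms ρ of order 3 and x of order 2 with x ρ x⁻¹ = ρ⁻¹ (so they generate a symmetric group of degree 3), where ρ fixes only the identity. Then T is isomorphic to a Sylow 2-subgroup of the projective special linear group of dimension 3 over the field with 4 elements, and the subgroup of fixed points of x is dihedral of order 8 or quaternion of order 8. -/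
theorem result {T : Type*} [Group T] [Finite T] (hT : Nat.card T = 64) (hna : ¬ IsMulCommutative T) (ρ x : MulAut T) (hρ : orderOf ρ = 3) (hx : orderOf x = 2)
    (hxr : x * ρ * x⁻¹ = ρ⁻¹) (hfp : ∀ y : T, ρ y = y → y = 1) (C : Subgroup T) (hC : ∀ y : T, y ∈ C ↔ x y = y) :
    (∃ (F : Type) (_ : Field F) (_ : Fintype F), Fintype.card F = 4 ∧
        ∃ S : Sylow 2 (Matrix.ProjectiveSpecialLinearGroup (Fin 3) F), Nonempty (T ≃* ↥(S : Subgroup (Matrix.ProjectiveSpecialLinearGroup (Fin 3) F)))) ∧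
      (Nonempty (↥C ≃* DihedralGroup 4) ∨ Nonempty (↥C ≃* QuaternionGroup 2)) := by
  obtain ⟨h1, h2, -⟩ := core hT hna ρ x hρ hx hxr hfp C hC
  exact ⟨h1, h2⟩

end Cfsg.Agent.S3157
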