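import Cfsg.Statements.S0801
import Cfsg.Agent.Dickson.MaxCoatom

set_option autoImplicit false
open Cfsg
open CfsgLib.Dickson Matrix MulAction
open scoped MatrixGroups

namespace Cfsg.Agent.S0801

/-- Addition of two entries coded as `a + 3 b`, standing for `a + b λ`. -/
def cAdd (e f : ℕ) : ℕ := (e % 3 + f % 3) % 3 + 3 * ((e / 3 + f / 3) % 3)

/-- Multiplication of an entry by `λ` when `λ ^ 2 = -1`. -/
def cMul (e : ℕ) : ℕ := (2 * (e / 3)) % 3 + 3 * (e % 3)

/-- Right multiplication by the lower generator. -/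
def stepA : ℕ × ℕ × ℕ × ℕ → ℕ × ℕ × ℕ × ℕ
  | (a, b, c, d) => (cAdd a b, b, cAdd c d, d)

/-- Right multiplication by the upper generator. -/
def stepB : ℕ × ℕ × ℕ × ℕ → ℕ × ℕ × ℕ × ℕ
  | (a, b, c, d) => (a, cAdd (cMul a) b, c, cAdd (cMul c) d)

/-- The `120` matrices generated when `λ ^ 2 = -1` in characteristic `3`. -/
def codes : List (ℕ × ℕ × ℕ × ℕ) :=
  [ (1,0,0,1), (1,0,1,1), (1,3,0,1), (1,0,2,1), (1,3,1,4), (4,3,1,1), (1,6,0,1), (1,3,2,7),
    (4,3,5,4), (1,6,1,7), (7,3,2,1), (4,8,1,4), (7,6,1,1), (4,3,6,7), (1,6,2,4), (7,3,6,4),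
    (4,8,5,0), (7,6,8,7), (7,7,2,7), (0,8,5,4), (4,1,1,7), (4,6,2,1), (7,1,1,4), (7,3,4,7),
    (4,8,6,8), (7,6,3,4), (7,7,6,5), (0,8,5,0), (4,1,5,8), (4,6,3,7), (7,1,8,5), (5,7,6,7),
    (7,2,2,4), (8,8,6,4), (5,1,8,7), (4,2,2,7), (8,1,5,4), (7,5,1,7), (7,7,4,0), (0,8,5,8),
    (4,1,6,6), (4,6,7,4), (7,1,3,3), (5,7,2,5), (7,2,6,3), (8,8,5,0), (5,1,1,8), (4,2,3,6),
    (8,1,1,5), (7,5,8,0), (0,7,4,7), (5,3,6,8), (6,2,3,4), (8,3,6,5), (3,1,3,7), (5,6,8,5),
    (3,2,6,7), (4,4,2,4), (6,1,6,4), (0,5,8,7), (5,7,4,0), (7,2,4,5), (8,8,1,8), (5,1,3,6),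
    (4,2,7,8), (8,1,6,3), (7,5,3,5), (0,7,4,5), (5,3,2,2), (6,2,0,3), (8,3,5,8), (3,1,6,8),
    (5,6,1,2), (3,2,0,6), (4,4,3,8), (6,1,3,5), (0,5,8,0), (0,7,4,0), (5,2,6,6), (8,2,7,4),
    (6,0,3,3), (2,3,2,5), (3,0,3,6), (2,6,1,5), (5,5,8,0), (5,2,4,7), (8,4,3,4), (6,2,6,5),
    (5,5,3,7), (0,5,8,5), (5,3,4,5), (8,3,1,2), (3,1,0,6), (5,6,3,8), (3,2,3,8), (4,4,7,0),
    (6,1,0,3), (5,2,2,8), (8,2,3,3), (6,0,0,3), (2,3,1,8), (3,0,6,6), (2,6,0,2), (5,5,1,5),
    (8,4,2,8), (8,6,7,8), (6,0,6,3), (2,0,2,2), (3,0,0,6), (8,6,3,5), (0,4,7,4), (8,2,2,5),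
    (2,3,0,2), (2,6,2,8), (8,4,7,0), (2,0,1,2), (8,6,2,2), (0,4,7,8), (2,0,0,2), (0,4,7,0) ]

theorem codes_closed : codes.length = 120 ∧ (1, 0, 0, 1) ∈ codes ∧
    ∀ m ∈ codes, stepA m ∈ codes ∧ stepB m ∈ codes := by
  decide +kernel

section

variable {F : Type*} [Field F]

/-- Decoding of an entry. -/
def dec (lam : F) (e : ℕ) : F := ((e % 3 : ℕ) : F) + ((e / 3 : ℕ) : F) * lam

theorem cast_mod_three [CharP F 3] (n : ℕ) : ((n % 3 : ℕ) : F) = (n : F) := by
  conv_rhs => rw [← Nat.mod_add_div n 3, Nat.cast_add, Nat.cast_mul, CharP.cast_eq_zero F 3, zero_mul,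
    add_zero]

theorem dec_add [CharP F 3] (lam : F) (e f : ℕ) : dec lam (cAdd e f) = dec lam e + dec lam f := by
  rw [dec, dec, dec, cAdd, show ((e % 3 + f % 3) % 3 + 3 * ((e / 3 + f / 3) % 3)) % 3 =
      (e % 3 + f % 3) % 3 by omega,
    show ((e % 3 + f % 3) % 3 + 3 * ((e / 3 + f / 3) % 3)) / 3 = (e / 3 + f / 3) % 3 by omega,
    cast_mod_three, cast_mod_three (e / 3 + f / 3)]
  push_cast
  ring

theorem dec_mul [CharP F 3] {lam : F} (h : lam ^ 2 = -1) (e : ℕ) :
    dec lam (cMul e) = dec lam e * lam := by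
  rw [dec, dec, cMul, show ((2 * (e / 3)) % 3 + 3 * (e % 3)) % 3 = (2 * (e / 3)) % 3 by omega,
    show ((2 * (e / 3)) % 3 + 3 * (e % 3)) / 3 = e % 3 by omega, cast_mod_three (2 * (e / 3))]
  have h3 : (3 : F) = 0 := CharP.cast_eq_zero F 3
  push_cast
  linear_combination ((e / 3 : ℕ) : F) * h3 - ((e / 3 : ℕ) : F) * h

/-- Decoding of a matrix. -/
def decM (lam : F) : ℕ × ℕ × ℕ × ℕ → Matrix (Fin 2) (Fin 2) F
  | (a, b, c, d) => !![dec lam a, dec lam b; dec lam c, dec lam d]

theorem decM_stepA [CharP F 3] (lam : F) (m : ℕ × ℕ × ℕ × ℕ) :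
    decM lam (stepA m) = decM lam m * !![1, 0; 1, 1] := by
  obtain ⟨a, b, c, d⟩ := m
  ext i j
  fin_cases i <;> fin_cases j <;> simp [decM, stepA, dec_add, Matrix.mul_apply, Fin.sum_univ_two]

theorem decM_stepB [CharP F 3] {lam : F} (h : lam ^ 2 = -1) (m : ℕ × ℕ × ℕ × ℕ) :
    decM lam (stepB m) = decM lam m * !![1, lam; 0, 1] := by
  obtain ⟨a, b, c, d⟩ := m
  ext i j
  fin_cases i <;> fin_cases j <;>
    simp [decM, stepB, dec_add, dec_mul h, Matrix.mul_apply, Fin.sum_univ_two]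

/-- The exceptional group has at most `120` elements. -/
theorem card_closure_le [Finite F] [CharP F 3] {lam : F} (h : lam ^ 2 = -1) :
    Nat.card (Subgroup.closure ({CfsgLib.SL2.l 1, CfsgLib.SL2.u lam} : Set SL(2, F))) ≤ 120 := by
  have hone : decM lam (1, 0, 0, 1) = 1 := by
    ext i j
    fin_cases i <;> fin_cases j <;> simp [decM, dec]
  have h3 : (3 : F) = 0 := CharP.cast_eq_zero F 3
  have hAinv : (CfsgLib.SL2.l (1 : F))⁻¹ = CfsgLib.SL2.l 1 * CfsgLib.SL2.l 1 := by
    rw [← CfsgLib.SL2.l_neg, ← CfsgLib.SL2.l_add]; congr 1; linear_combination -h3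
  have hBinv : (CfsgLib.SL2.u lam)⁻¹ = CfsgLib.SL2.u lam * CfsgLib.SL2.u lam := by
    rw [← CfsgLib.SL2.u_neg, ← CfsgLib.SL2.u_add]; congr 1; linear_combination -lam * h3
  have key : ∀ g ∈ Subgroup.closure ({CfsgLib.SL2.l 1, CfsgLib.SL2.u lam} : Set SL(2, F)),
      ∃ m ∈ codes, (g : Matrix (Fin 2) (Fin 2) F) = decM lam m := by
    intro g hg
    induction hg using Subgroup.closure_induction_right with
    | one => exact ⟨_, codes_closed.2.1, by rw [hone]; rfl⟩
    | mul_right x hx y hy ih =>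
      obtain ⟨m, hm, e⟩ := ih
      rcases hy with rfl | rfl
      · exact ⟨_, (codes_closed.2.2 m hm).1, by
          rw [decM_stepA, ← e, ← CfsgLib.SL2.coe_l]; rfl⟩
      · exact ⟨_, (codes_closed.2.2 m hm).2, by
          rw [decM_stepB h, ← e, ← CfsgLib.SL2.coe_u]; rfl⟩
    | mul_inv_cancel x hx y hy ih =>
      obtain ⟨m, hm, e⟩ := ih
      rcases hy with rfl | rfl
      · exact ⟨_, (codes_closed.2.2 _ (codes_closed.2.2 m hm).1).1, by
          rw [decM_stepA, decM_stepA, ← e, hAinv, ← CfsgLib.SL2.coe_l, mul_assoc]; rfl⟩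
      · exact ⟨_, (codes_closed.2.2 _ (codes_closed.2.2 m hm).2).2, by
          rw [decM_stepB h, decM_stepB h, ← e, hBinv, ← CfsgLib.SL2.coe_u, mul_assoc]; rfl⟩
  classical
  choose f hf hfe using key
  let f' : Subgroup.closure ({CfsgLib.SL2.l 1, CfsgLib.SL2.u lam} : Set SL(2, F)) → codes.toFinset :=
    fun g => ⟨f g.1 g.2, List.mem_toFinset.mpr (hf g.1 g.2)⟩
  have hf' : Function.Injective f' := fun a b hab =>
    Subtype.ext (Subtype.ext ((hfe a.1 a.2).trans ((congrArg (decM lam)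
      (congrArg Subtype.val hab :)).trans (hfe b.1 b.2).symm)))
  refine (Nat.card_le_card_of_injective f' hf').trans ?_
  rw [Nat.card_eq_fintype_card, Fintype.card_coe]
  exact (List.toFinset_card_le _).trans codes_closed.1.le

/-- The upper right entry of the small powers of a matrix of determinant one. -/
theorem pow_apply_zero_one (s : SL(2, F)) :
    (s ^ 2) 0 1 = (s 0 0 + s 1 1) * s 0 1 ∧
    (s ^ 3) 0 1 = ((s 0 0 + s 1 1) ^ 2 - 1) * s 0 1 ∧
    (s ^ 5) 0 1 = ((s 0 0 + s 1 1) ^ 4 - 3 * (s 0 0 + s 1 1) ^ 2 + 1) * s 0 1 := by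
  set t := s 0 0 + s 1 1 with ht
  set M : Matrix (Fin 2) (Fin 2) F := s.1 with hM
  have h2 : M * M = t • M - 1 := by
    have hdet := CfsgLib.SL2.det_eq s
    ext i j
    fin_cases i <;> fin_cases j <;>
      simp [hM, ht, Matrix.mul_apply, Fin.sum_univ_two] <;>
      first | ring1 | linear_combination hdet | linear_combination -hdet
  have h3 : M * M * M = (t ^ 2 - 1) • M - t • (1 : Matrix (Fin 2) (Fin 2) F) := by
    rw [h2, sub_mul, Matrix.smul_mul, h2, one_mul, smul_sub, smul_smul, sub_smul, one_smul, pow_two]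
    abel
  have h5 : M * M * M * (M * M) = (t ^ 4 - 3 * t ^ 2 + 1) • M -
      (t ^ 3 - 2 * t) • (1 : Matrix (Fin 2) (Fin 2) F) := by
    rw [h3, h2, sub_mul, mul_sub, mul_sub, Matrix.smul_mul, Matrix.smul_mul, Matrix.smul_mul,
      Matrix.smul_mul, Matrix.mul_smul, one_mul, mul_one, one_mul, h2]
    module
  refine ⟨?_, ?_, ?_⟩
  · rw [show ((s ^ 2 : SL(2, F)) : Matrix (Fin 2) (Fin 2) F) = M ^ 2 from Matrix.SpecialLinearGroup.coe_pow s 2, pow_two, h2]
    simp [hM]
  · rw [show ((s ^ 3 : SL(2, F)) : Matrix (Fin 2) (Fin 2) F) = M ^ 3 from Matrix.SpecialLinearGroup.coe_pow s 3, show M ^ 3 = M * M * M by noncomm_ring, h3]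
    simp [hM]
  · rw [show ((s ^ 5 : SL(2, F)) : Matrix (Fin 2) (Fin 2) F) = M ^ 5 from Matrix.SpecialLinearGroup.coe_pow s 5, show M ^ 5 = M * M * M * (M * M) by noncomm_ring, h5]
    simp [hM]

theorem toPGL_eq_one {s : SL(2, F)} (h : SpecialLinearGroup.toPGL s = 1) :
    s 0 1 = 0 ∧ (s = 1 ∨ s = -1) := by
  classical
  have h' : ProjGenLinGroup.mk (SpecialLinearGroup.toGL s) = 1 := h
  obtain ⟨h01, h10, h00⟩ := mk_eq_one_iff.mp h'
  have hd := CfsgLib.SL2.det_eq s
  rw [show s 0 1 = 0 from h01, show s 1 0 = 0 from h10, show s 1 1 = s 0 0 from h00.symm] at hd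
  have h1 : (s 0 0 - 1) * (s 0 0 + 1) = 0 := by linear_combination hd
  refine ⟨h01, ?_⟩
  rcases mul_eq_zero.mp h1 with e | e
  · exact Or.inl (CfsgLib.SL2.ext4 (by simpa using sub_eq_zero.mp e) (by simpa using h01)
      (by simpa using h10) (by simpa using h00.symm.trans (sub_eq_zero.mp e)))
  · have e' := eq_neg_of_add_eq_zero_left e
    exact Or.inr (CfsgLib.SL2.ext4 (by simpa using e') (by simpa using h01) (by simpa using h10)
      (by simpa using h00.symm.trans e'))

theorem trace_sq_mem {L : Subfield F} {s : SL(2, F)} {k : PGL(2, F)}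
    (h : k * SpecialLinearGroup.toPGL s * k⁻¹ ∈ (pglMap L.subtype).range) :
    (s 0 0 + s 1 1) ^ 2 ∈ L := by
  classical
  obtain ⟨k', rfl⟩ := ProjGenLinGroup.mk_surjective k
  obtain ⟨g, hg⟩ := h
  obtain ⟨m, rfl⟩ := ProjGenLinGroup.mk_surjective g
  rw [pglMap_mk, show SpecialLinearGroup.toPGL s = ProjGenLinGroup.mk (SpecialLinearGroup.toGL s) from rfl,
    ← map_inv, ← map_mul, ← map_mul, ProjGenLinGroup.mk_eq_mk_iff] at hg
  obtain ⟨c, hc⟩ := hg
  set M := GeneralLinearGroup.map L.subtype m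
  set S := k' * SpecialLinearGroup.toGL s * k'⁻¹
  have e : S.val = (c : F) • M.val := by
    rw [← hc]
    ext i j
    fin_cases i <;> fin_cases j <;>
      simp [Units.val_mul, Matrix.mul_apply, Fin.sum_univ_two, mul_comm]
  have h1 := trace_det_conj (SpecialLinearGroup.toGL s) k'⁻¹
  rw [inv_inv] at h1
  change S.val.trace = _ ∧ S.val.det = _ at h1
  have t1 : s 0 0 + s 1 1 = (c : F) * ((m 0 0 : L) + (m 1 1 : L) : F) := by
    have := h1.1
    rw [e, Matrix.trace_smul, Matrix.trace_fin_two, Matrix.trace_fin_two] at this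
    simpa [M, SpecialLinearGroup.toGL] using this.symm
  have t2 : (c : F) ^ 2 * ((m.val.det : L) : F) = 1 := by
    have := h1.2
    rw [e, Matrix.det_smul, Fintype.card_fin] at this
    rw [show (SpecialLinearGroup.toGL s).val.det = 1 from s.2] at this
    rw [show M.val.det = ((m.val.det : L) : F) from (L.subtype.map_det m.val).symm] at this
    exact this
  have hd : ((m.val.det : L) : F) ≠ 0 := fun h0 => by rw [h0, mul_zero] at t2; exact zero_ne_one t2
  have : (s 0 0 + s 1 1) ^ 2 = ((m 0 0 : L) + (m 1 1 : L) : F) ^ 2 / ((m.val.det : L) : F) := by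
    rw [eq_div_iff hd, t1]
    linear_combination ((m 0 0 : L) + (m 1 1 : L) : F) ^ 2 * t2
  rw [this]
  exact L.div_mem (L.toSubring.pow_mem (L.add_mem (m 0 0).2 (m 1 1).2) 2) (m.val.det).2

end

set_option maxHeartbeats 2000000 in
/-- Let F be a finite field of odd characteristic and λ ≠ 0 an element generating F as a field. Then the lower and upper unitriangular matrices with off-diagonal entries 1 and λ generate SL_2(F), unless |F| = 9 and λ² = −1, in which case they generate a subgroup of order 120. -/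
theorem result {F : Type*} [Field F] [Fintype F] (h2 : (2 : F) ≠ 0) (lam : F) (hlam : lam ≠ 0) (hgen : Subfield.closure ({lam} : Set F) = ⊤) : (Subgroup.closure {g : Matrix.SpecialLinearGroup (Fin 2) F | (g : Matrix (Fin 2) (Fin 2) F) = !![1, 0; 1, 1] ∨ (g : Matrix (Fin 2) (Fin 2) F) = !![1, lam; 0, 1]} = ⊤ ∧ ¬ (Fintype.card F = 9 ∧ lam ^ 2 = -1)) ∨ (Fintype.card F = 9 ∧ lam ^ 2 = -1 ∧ Nat.card ↥(Subgroup.closure {g : Matrix.SpecialLinearGroup (Fin 2) F | (g : Matrix (Fin 2) (Fin 2) F) = !![1, 0; 1, 1] ∨ (g : Matrix (Fin 2) (Fin 2) F) = !![1, lam; 0, 1]}) = 120) := by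
  classical
  obtain ⟨p, _⟩ := CharP.exists F
  have : Fact p.Prime := ⟨CharP.char_is_prime F p⟩
  obtain ⟨n, hpp, hn⟩ := FiniteField.card F p
  have hodd : Odd (Fintype.card F) := CfsgLib.SL2.two_ne_zero_iff_odd.mp h2
  have hp2 : p ≠ 2 := (odd_card_iff p).mp hodd
  set A : SL(2, F) := CfsgLib.SL2.l 1 with hA
  set B : SL(2, F) := CfsgLib.SL2.u lam with hB
  have hset : {g : SL(2, F) | (g : Matrix (Fin 2) (Fin 2) F) = !![1, 0; 1, 1] ∨
      (g : Matrix (Fin 2) (Fin 2) F) = !![1, lam; 0, 1]} = {A, B} := by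
    ext g
    constructor
    · rintro (h | h)
      · exact Or.inl (Subtype.ext (h.trans (CfsgLib.SL2.coe_l 1).symm))
      · exact Or.inr (Subtype.ext (h.trans (CfsgLib.SL2.coe_u lam).symm))
    · rintro (rfl | rfl)
      · exact Or.inl (CfsgLib.SL2.coe_l 1)
      · exact Or.inr (CfsgLib.SL2.coe_u lam)
  rw [hset]
  set H := Subgroup.closure ({A, B} : Set SL(2, F)) with hH
  have hAH : A ∈ H := Subgroup.subset_closure (Or.inl rfl)
  have hBH : B ∈ H := Subgroup.subset_closure (Or.inr rfl)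
  have hle120 : Fintype.card F = 9 → lam ^ 2 = -1 → Nat.card H ≤ 120 := by
    intro h9 hl
    have : CharP F 3 := by
      have h3 : p ∣ 3 ^ 2 := by
        rw [show (3 : ℕ) ^ 2 = Fintype.card F by rw [h9]; norm_num, hn]; exact dvd_pow_self p n.pos.ne'
      rwa [← (Nat.prime_dvd_prime_iff_eq hpp Nat.prime_three).mp (hpp.dvd_of_dvd_pow h3)]
    exact card_closure_le hl
  set π := SpecialLinearGroup.toPGL (n := Fin 2) (R := F) with hπ
  set Hb := H.map π with hHb
  have hmem : ∀ s ∈ H, π s ∈ Hb := fun s hs => ⟨s, hs, rfl⟩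
  have hA1 : π A ≠ 1 := fun h => by
    rcases (toPGL_eq_one h).2 with e | e <;>
      have := congrArg (fun g : SL(2, F) => g 1 0) e <;> simp [hA] at this
  have hpA : orderOf (π A) = p := by
    refine orderOf_eq_prime ?_ hA1
    rw [← map_pow, hA]
    have : (CfsgLib.SL2.l (1 : F)) ^ p = CfsgLib.SL2.l ((p : F)) := by
      have : ∀ k : ℕ, (CfsgLib.SL2.l (1 : F)) ^ k = CfsgLib.SL2.l (k : F) := by
        intro k
        induction k with
        | zero => simp
        | succ k ih => rw [pow_succ, ih, ← CfsgLib.SL2.l_add, Nat.cast_succ]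
      exact this p
    rw [this, CharP.cast_eq_zero, CfsgLib.SL2.l_zero, map_one]
  have hpdvd : p ∣ Nat.card Hb := hpA ▸ Subgroup.orderOf_dvd_natCard _ (hmem A hAH)
  -- the entries of the products used below
  have eAB : (A * B) 0 1 = lam ∧ (A * B) 0 0 + (A * B) 1 1 = 2 + lam := by
    constructor <;> simp [hA, hB, Matrix.mul_apply, Fin.sum_univ_two]
    ring
  have eAAB : (A * A * B) 0 1 = lam ∧ (A * A * B) 0 0 + (A * A * B) 1 1 = 2 + 2 * lam := by
    constructor <;> simp [hA, hB, Matrix.mul_apply, Fin.sum_univ_two]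
    ring
  rcases classify_finite' p Hb with ⟨z, hz⟩ | ⟨-, hc⟩ | ⟨k, -, hk, ⟨i⟩⟩ | ⟨h12, ⟨i⟩⟩ | ⟨h24, ⟨i⟩⟩ |
    ⟨h60, ⟨i⟩⟩ | ⟨L, k, hL⟩
  · exfalso
    have hzA := hz _ (hmem A hAH)
    have hzB := hz _ (hmem B hBH)
    change SpecialLinearGroup.toGL A • z = z at hzA
    change SpecialLinearGroup.toGL B • z = z at hzB
    cases z with
    | infty =>
      have h10 := OnePoint.smul_infty_eq_self_iff.mp hzA
      simp [hA, SpecialLinearGroup.toGL] at h10
    | coe c =>
      have hB10 : (SpecialLinearGroup.toGL B) 1 0 = 0 := by simp [hB, SpecialLinearGroup.toGL]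
      have h := (smul_coe_eq_self_iff hB10 c).mp hzB
      simp [hB, SpecialLinearGroup.toGL] at h
      exact hlam h
  · exact absurd hpdvd hc
  · exfalso
    rw [Nat.card_congr i.toEquiv, DihedralGroup.nat_card] at hpdvd
    rcases hpp.dvd_mul.mp hpdvd with h | h
    · exact hp2 ((Nat.prime_dvd_prime_iff_eq hpp Nat.prime_two).mp h)
    · exact hk h
  · exfalso
    rw [Nat.card_congr i.toEquiv, Nat.card_eq_fintype_card,
      show Fintype.card (alternatingGroup (Fin 4)) = 12 by decide +kernel] at hpdvd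
    exact h12 hpdvd
  · exfalso
    rw [Nat.card_congr i.toEquiv, Nat.card_perm, Nat.card_eq_fintype_card, Fintype.card_fin] at hpdvd
    exact h24 hpdvd
  · -- the exceptional case
    right
    have hc60 : Nat.card Hb = 60 := by
      rw [Nat.card_congr i.toEquiv, Nat.card_eq_fintype_card]; decide +kernel
    have hp3 : p = 3 := h60.resolve_left (fun h => h (hc60 ▸ hpdvd))
    subst hp3
    have h3 : (3 : F) = 0 := CharP.cast_eq_zero F 3
    have hcond : ∀ s ∈ H, s 0 1 ≠ 0 → s 0 0 + s 1 1 = 0 ∨ (s 0 0 + s 1 1) ^ 2 = 1 ∨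
        (s 0 0 + s 1 1) ^ 4 = -1 := by
      intro s hs h01
      obtain ⟨e2, e3, e5⟩ := pow_apply_zero_one s
      have h1 : ∀ k : ℕ, i ⟨π s, hmem s hs⟩ ^ k = 1 → (s ^ k) 0 1 = 0 := by
        intro k hk
        refine (toPGL_eq_one ?_).1
        rw [← map_pow, ← map_one i] at hk
        have := congrArg Subtype.val (i.injective hk)
        rw [map_pow]
        exact this
      rcases alt_five_pow (i ⟨π s, hmem s hs⟩) with h | h | h
      · exact Or.inl ((mul_eq_zero.mp (e2 ▸ h1 2 h)).resolve_right h01)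
      · exact Or.inr (Or.inl (sub_eq_zero.mp ((mul_eq_zero.mp (e3 ▸ h1 3 h)).resolve_right h01)))
      · refine Or.inr (Or.inr ?_)
        have := (mul_eq_zero.mp (e5 ▸ h1 5 h)).resolve_right h01
        linear_combination this + (s 0 0 + s 1 1) ^ 2 * h3
    have c1 := hcond (A * B) (mul_mem hAH hBH) (eAB.1 ▸ hlam)
    have c2 := hcond (A * A * B) (mul_mem (mul_mem hAH hAH) hBH) (eAAB.1 ▸ hlam)
    rw [eAB.2] at c1
    rw [eAAB.2] at c2
    -- `λ` lies in the field with nine elements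
    have hl9 : lam ^ 9 = lam := by
      have ht : (2 + lam) ^ 9 = 2 + lam := by
        rcases c1 with e | e | e
        · rw [e]; norm_num
        · calc (2 + lam) ^ 9 = ((2 + lam) ^ 2) ^ 4 * (2 + lam) := by ring
            _ = _ := by rw [e]; ring
        · calc (2 + lam) ^ 9 = ((2 + lam) ^ 4) ^ 2 * (2 + lam) := by ring
            _ = _ := by rw [e]; ring
      rw [show (9 : ℕ) = 3 ^ 2 by norm_num, add_pow_char_pow] at ht
      norm_num at ht ⊢
      linear_combination ht - 170 * h3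
    have hfix : ∀ x : F, x ^ 9 = x := by
      intro x
      have hle : Subfield.closure ({lam} : Set F) ≤
          RingHom.eqLocusField (iterateFrobenius F 3 2) (RingHom.id F) := by
        rw [Subfield.closure_le, Set.singleton_subset_iff]
        show iterateFrobenius F 3 2 lam = lam
        rw [iterateFrobenius_def]; norm_num [hl9]
      have hx : iterateFrobenius F 3 2 x = x := hle (hgen.symm ▸ Subfield.mem_top x)
      rw [iterateFrobenius_def] at hx
      norm_num at hx
      exact hx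
    have hq9 : Fintype.card F ≤ 9 := by
      obtain ⟨g, hg⟩ := IsCyclic.exists_generator (α := Fˣ)
      have ho := orderOf_eq_card_of_forall_mem_zpowers hg
      have h8 : g ^ 8 = 1 := by
        ext
        rw [Units.val_pow_eq_pow_val, Units.val_one]
        exact mul_right_cancel₀ g.ne_zero (by rw [← pow_succ, one_mul]; exact hfix g)
      have := Nat.le_of_dvd (by norm_num) (orderOf_dvd_of_pow_eq_one h8)
      rw [ho, Nat.card_units, Nat.card_eq_fintype_card] at this
      omega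
    have hq : Fintype.card F = 9 := by
      rcases (show (n : ℕ) = 1 ∨ 2 ≤ (n : ℕ) by have := n.pos; omega) with h | h
      · exfalso
        have := Subgroup.card_le_card_group Hb
        rw [hc60, card_pgl2, hn, h] at this
        norm_num at this
      · have := Nat.pow_le_pow_right (show 0 < 3 by norm_num) h
        omega
    have hl3 : lam ^ 3 ≠ lam := by
      intro h
      have hle : Subfield.closure ({lam} : Set F) ≤
          RingHom.eqLocusField (iterateFrobenius F 3 1) (RingHom.id F) := by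
        rw [Subfield.closure_le, Set.singleton_subset_iff]
        show iterateFrobenius F 3 1 lam = lam
        rw [iterateFrobenius_def]; norm_num [h]
      obtain ⟨g, hg⟩ := IsCyclic.exists_generator (α := Fˣ)
      have ho := orderOf_eq_card_of_forall_mem_zpowers hg
      have hx : iterateFrobenius F 3 1 (g : F) = g := hle (hgen.symm ▸ Subfield.mem_top _)
      rw [iterateFrobenius_def, pow_one] at hx
      have h2' : g ^ 2 = 1 := by
        ext
        rw [Units.val_pow_eq_pow_val, Units.val_one]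
        exact mul_right_cancel₀ g.ne_zero (by rw [← pow_succ, one_mul]; exact hx)
      have := Nat.le_of_dvd (by norm_num) (orderOf_dvd_of_pow_eq_one h2')
      rw [ho, Nat.card_units, Nat.card_eq_fintype_card, hq] at this
      omega
    have hl0 : ∀ a : F, a ^ 3 = a → lam ≠ a := fun a ha h => hl3 (h ▸ ha)
    have q1 : (2 + lam) ^ 4 = -1 := by
      rcases c1 with e | e | e
      · exact absurd (show lam = 1 by linear_combination e - h3) (hl0 1 (one_pow 3))
      · exfalso
        have : lam * (lam + 1) = 0 := by linear_combination e - (lam + 1) * h3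
        rcases mul_eq_zero.mp this with e' | e'
        · exact hlam e'
        · exact hl0 (-1) (by ring) (eq_neg_of_add_eq_zero_left e')
      · exact e
    have q2 : (2 + 2 * lam) ^ 4 = -1 := by
      rcases c2 with e | e | e
      · exact absurd (show lam = -1 by linear_combination -e + (lam + 1) * h3) (hl0 (-1) (by ring))
      · exfalso
        have : lam * (lam - 1) = 0 := by linear_combination e - (lam ^ 2 + 3 * lam + 1) * h3
        rcases mul_eq_zero.mp this with e' | e'
        · exact hlam e'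
        · exact hl0 1 (one_pow 3) (sub_eq_zero.mp e')
      · exact e
    have hl2 : lam ^ 2 = -1 := by
      have : lam * (lam ^ 2 + 1) = 0 := by
        linear_combination -(q2 - q1) + (5 * lam ^ 4 + 19 * lam ^ 3 + 24 * lam ^ 2 + 11 * lam) * h3
      exact eq_neg_of_add_eq_zero_left ((mul_eq_zero.mp this).resolve_left hlam)
    refine ⟨hq, hl2, le_antisymm (hle120 hq hl2) ?_⟩
    let f := π.subgroupMap H
    have hf : Function.Surjective f := π.subgroupMap_surjective H
    have hcardH : Nat.card H = Nat.card f.ker * 60 := by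
      rw [← f.ker.card_mul_index, Subgroup.index_ker, MonoidHom.range_eq_top.mpr hf, Subgroup.card_top,
        hc60]
    have : Fact (Nat.Prime 2) := ⟨Nat.prime_two⟩
    obtain ⟨g, hg⟩ := exists_prime_orderOf_dvd_card' (G := H) 2 (by rw [hcardH]; omega)
    have hg' : (g : SL(2, F)) = -1 :=
      (CfsgLib.SL2.orderOf_eq_two_iff h2).mp ((Subgroup.orderOf_coe g).trans hg)
    have hgk : g ∈ f.ker := by
      refine Subtype.ext ?_
      show π (g : SL(2, F)) = 1
      rw [hg']
      exact mk_eq_one_iff.mpr ⟨by simp [SpecialLinearGroup.toGL], by simp [SpecialLinearGroup.toGL],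
        by simp [SpecialLinearGroup.toGL]⟩
    have h2k : 2 ≤ Nat.card f.ker := by
      have := Subgroup.orderOf_dvd_natCard _ hgk
      rw [hg] at this
      exact Nat.le_of_dvd Nat.card_pos this
    omega
  · -- the full group
    left
    have hle : Hb.map (MulAut.conj k).toMonoidHom ≤ (pglMap L.subtype).range := by
      rcases hL with h | ⟨-, h⟩
      · exact h.le
      · exact h.le.trans (pslImage_le _)
    have htr : ∀ s ∈ H, (s 0 0 + s 1 1) ^ 2 ∈ L := fun s hs =>
      trace_sq_mem (hle ⟨π s, hmem s hs, rfl⟩)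
    have hlL : lam ∈ L := by
      have h1 := htr _ (mul_mem hAH hBH)
      have h2' := htr _ (mul_mem (mul_mem hAH hAH) hBH)
      rw [eAB.2] at h1
      rw [eAAB.2] at h2'
      have h8 : (8 : F) ≠ 0 := by
        rw [show (8 : F) = 2 ^ 3 by norm_num]; exact pow_ne_zero _ h2
      rw [show lam = (4 * (2 + lam) ^ 2 - (2 + 2 * lam) ^ 2 - 12) / 8 by field_simp; ring]
      have e4 : (4 : F) ∈ L := by simp
      have e8 : (8 : F) ∈ L := by simp
      have e12 : (12 : F) ∈ L := by simp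
      exact L.div_mem (L.sub_mem (L.sub_mem (L.mul_mem e4 h1) h2') e12) e8
    have hLtop : L = ⊤ := top_le_iff.mp (hgen ▸ (Subfield.closure_le.mpr (Set.singleton_subset_iff.mpr hlL)))
    subst hLtop
    have : Fintype (⊤ : Subfield F) := Fintype.ofFinite _
    have hcL : Fintype.card (⊤ : Subfield F) = Fintype.card F :=
      Fintype.card_congr Subfield.topEquiv.toEquiv
    have hG : 2 * Nat.card π.range = Fintype.card F * (Fintype.card F ^ 2 - 1) := by
      rw [hπ, ← range_toPGL_psl, ← Nat.card_congr (MonoidHom.ofInjective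
        (ProjectiveSpecialLinearGroup.toPGL_injective (n := Fin 2) (R := F))).toEquiv]
      exact psl_two_mul_card hodd
    have hHbc : Nat.card π.range ≤ Nat.card Hb := by
      rw [← card_map_conj Hb k]
      rcases hL with h | ⟨-, h⟩
      · rw [h, card_pglMap_range, Nat.card_eq_fintype_card (α := (⊤ : Subfield F)), hcL]
        have e : (Fintype.card F + 1) * (Fintype.card F * (Fintype.card F - 1)) =
            Fintype.card F * (Fintype.card F ^ 2 - 1) := by
          rw [pow_two, show 1 = 1 * 1 from rfl, Nat.mul_self_sub_mul_self_eq]; ring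
        omega
      · rw [h, card_pslImage]
        have hc := psl_two_mul_card (F := (⊤ : Subfield F)) (hcL.symm ▸ hodd)
        rw [hcL] at hc
        omega
    have hrange : Hb = π.range := Subgroup.eq_of_le_of_card_ge (Subgroup.map_le_range _ _) hHbc
    have hsq : ∀ g : SL(2, F), g * g ∈ H := by
      intro g
      obtain ⟨h', hh', he⟩ : π g ∈ Hb := hrange ▸ ⟨g, rfl⟩
      have : π (h'⁻¹ * g) = 1 := by rw [map_mul, map_inv, he, inv_mul_cancel]
      rcases (toPGL_eq_one this).2 with e | e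
      · rw [inv_mul_eq_one] at e; exact e ▸ mul_mem hh' hh'
      · rw [inv_mul_eq_iff_eq_mul] at e
        rw [e, mul_neg, mul_one, neg_mul_neg]
        exact mul_mem hh' hh'
    have htop : H = ⊤ := by
      rw [← top_le_iff, ← CfsgLib.SL2.U_sup_L, sup_le_iff]
      constructor
      · intro g hg
        obtain ⟨t, rfl⟩ := CfsgLib.SL2.mem_U.mp hg
        rw [show t = t / 2 + t / 2 by field_simp; ring, CfsgLib.SL2.u_add]
        exact hsq _
      · intro g hg
        obtain ⟨t, rfl⟩ := CfsgLib.SL2.mem_L.mp hg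
        rw [show t = t / 2 + t / 2 by field_simp; ring, CfsgLib.SL2.l_add]
        exact hsq _
    refine ⟨htop, fun ⟨h9, hl⟩ => ?_⟩
    have := hle120 h9 hl
    rw [htop, Subgroup.card_top, CfsgLib.SL2.card_SL, h9] at this
    norm_num at this

end Cfsg.Agent.S0801
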