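import Cfsg.Statements.S4033
import Cfsg.Agent.TwoRegular.Main
import Cfsg.Agent.PCompl.ClassSize

set_option autoImplicit false
open Cfsg

namespace Cfsg.Agent.S4033

/-- Let G be a finite group and p a prime, and suppose the conjugacy classes of p-regular elements of G (elements of order prime to p) have exactly two distinct sizes. Then either G has an abelian p-complement (an abelian subgroup of order prime to p and p-power index), or there are a prime q ≠ p, a Sylow p-subgroup P, a Sylow q-subgroup Q and a central subgroup A such that PQ is a normal subgroup of order #P·#Q and G is the internal direct product PQ × A. -/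
theorem result {G : Type*} [Group G] [Finite G] {p : ℕ} (hp : p.Prime)
    (h2 : Set.ncard (Set.range fun x : {x : G // (orderOf x).Coprime p} => (ConjClasses.mk (x : G)).carrier.ncard) = 2) :
    (∃ H : Subgroup G, IsMulCommutative H ∧ ¬ p ∣ Nat.card H ∧ ∃ k : ℕ, H.index = p ^ k) ∨
    (∃ (q : ℕ) (_ : Fact q.Prime) (P : Sylow p G) (Q : Sylow q G) (A : Subgroup G), q ≠ p ∧
        A ≤ Subgroup.center G ∧ Nat.card ↥((P : Subgroup G) ⊔ (Q : Subgroup G)) = Nat.card P * Nat.card Q ∧
        ((P : Subgroup G) ⊔ (Q : Subgroup G)).Normal ∧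
        ((P : Subgroup G) ⊔ (Q : Subgroup G)) ⊓ A = ⊥ ∧ ((P : Subgroup G) ⊔ (Q : Subgroup G)) ⊔ A = ⊤) := by
  set f := fun x : {x : G // (orderOf x).Coprime p} =>
    (ConjClasses.mk (x : G)).carrier.ncard with hfdef
  have hf : ∀ x, f x = (Subgroup.centralizer ({(x : G)} : Set G)).index := fun x =>
    CfsgLib.PCompl.carrier_ncard (x : G)
  have hone : ∀ x : {x : G // (orderOf x).Coprime p}, f x = 1 ↔ (x : G) ∈ Subgroup.center G :=
    fun x => by
      rw [hf, Subgroup.index_eq_one]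
      exact Subgroup.centralizer_eq_top_iff_subset.trans Set.singleton_subset_iff
  have h1 : (1 : ℕ) ∈ Set.range f :=
    ⟨⟨1, by simp⟩, (hone ⟨1, by simp⟩).2 (one_mem _)⟩
  obtain ⟨a, b, hab, hr⟩ := Set.ncard_eq_two.1 h2
  obtain ⟨m, hm1, hm⟩ : ∃ m, m ≠ 1 ∧ Set.range f = {1, m} := by
    rw [hr] at h1
    rcases h1 with e | e
    · subst e; exact ⟨b, hab.symm, hr⟩
    · rw [Set.mem_singleton_iff] at e; subst e
      exact ⟨a, hab, hr.trans (Set.pair_comm _ _)⟩
  have hsize : ∀ x : G, CfsgLib.TwoRegular.Reg p x →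
      (Subgroup.centralizer ({x} : Set G)).index = m := by
    intro x hx
    rw [← hf ⟨x, hx.1⟩]
    rcases (hm ▸ Set.mem_range_self (⟨x, hx.1⟩ : {x : G // (orderOf x).Coprime p}) :
      f ⟨x, hx.1⟩ ∈ ({1, m} : Set ℕ)) with e | e
    · exact absurd ((hone _).1 e) hx.2
    · exact e
  by_cases htwo : ∀ r : ℕ, ∃ q : ℕ, q.Prime ∧ q ≠ r ∧
      ∃ y : G, CfsgLib.TwoRegular.Reg p y ∧ CfsgLib.TwoRegular.IsEl q y
  · exact Or.inl ((⟨hsize, htwo⟩ : CfsgLib.TwoRegular.Hyp p m G).exists_abelian_compl hp)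
  · push Not at htwo
    obtain ⟨r, hr'⟩ := htwo
    obtain ⟨x, hx⟩ : ∃ x, f x = m := (hm.symm ▸ Set.mem_insert_of_mem _ rfl : m ∈ Set.range f)
    have hxz : (x : G) ∉ Subgroup.center G := fun e => hm1 (hx ▸ (hone x).2 e)
    have hcen : ∀ t : ℕ, t.Prime → t ≠ p → t ≠ r → ∀ a : G, CfsgLib.TwoRegular.IsEl t a →
        a ∈ Subgroup.center G := fun t ht htp htr a ha => by
      by_contra haz
      exact hr' t ht htr a ⟨CfsgLib.TwoRegular.reg_of_isEl hp ht htp ha, haz⟩ ha
    by_cases hrq : r.Prime ∧ r ≠ p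
    · haveI : Fact r.Prime := ⟨hrq.1⟩
      obtain ⟨P, Q, A, h3⟩ := CfsgLib.TwoRegular.exists_direct hp hrq.2 hcen
      exact Or.inr ⟨r, inferInstance, P, Q, A, hrq.2, h3⟩
    · exfalso
      refine hxz (CfsgLib.MaxCentralizers.le_of_primePow (X := Subgroup.zpowers (x : G))
        (Y := Subgroup.center G) (fun w hw t k ht hk => ?_) (Subgroup.mem_zpowers _))
      by_cases hk0 : k = 0
      · rw [hk0, pow_zero, orderOf_eq_one_iff] at hk
        exact hk ▸ one_mem _
      have htp : t ≠ p := fun e => by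
        have h3 := x.2.coprime_dvd_left (orderOf_dvd_of_mem_zpowers hw)
        rw [hk, e] at h3
        exact hp.coprime_iff_not_dvd.1 ((Nat.coprime_pow_left_iff (Nat.pos_of_ne_zero hk0) _ _).1 h3)
          dvd_rfl
      exact hcen t ht htp (fun e => hrq ⟨e ▸ ht, e ▸ htp⟩) w ⟨k, hk ▸ pow_orderOf_eq_one w⟩

end Cfsg.Agent.S4033
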