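import Cfsg.Statements.S0118
import Cfsg.Agent.GlaubermanZJ.QdFree
import Cfsg.Agent.GlaubermanZJ.FullCenterFunctor
-- import your own Cfsg.Agent.* helpers here

set_option autoImplicit false
open Cfsg

namespace Cfsg.Agent.S0118

/-- Glauberman's ZJ-Theorem, in the case of groups with no section isomorphic to SL(2,p), p odd: conjugation of subsets of a Sylow p-subgroup P inside P is always induced from the normalizer of Z(J(P)). -/
theorem result {G : Type*} [Group G] [Finite G] {p : ℕ} [Fact p.Prime] (hp : p ≠ 2) (hfree : ¬ ∃ (H K : Subgroup G) (hK : (K.subgroupOf H).Normal), Nonempty ((H ⧸ K.subgroupOf H) ≃* Matrix.SpecialLinearGroup (Fin 2) (ZMod p))) (P : Sylow p G) (A : Set G) (hA : A ⊆ (P : Set G)) (g : G) (hAg : (fun a => g⁻¹ * a * g) '' A ⊆ (P : Set G)) : ∃ n ∈ Subgroup.normalizer (Cfsg.centerThompsonOf p (P : Subgroup G) : Set G), ∀ a ∈ A, n⁻¹ * a * n = g⁻¹ * a * g := by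
  have hqd : ¬ Cfsg.Involves (Cfsg.qd p) G := fun hi => hfree (by
    obtain ⟨K, L, hL, he⟩ := CfsgLib.QdSection.sl_two_section_of_involves_qd hi
    exact ⟨K, L, hL, he⟩)
  obtain ⟨-, h⟩ := CfsgLib.GlaubermanZJ.controlsStrongFusionOf_of_qdFree hp (CfsgLib.GlaubermanZJ.fullCenter p)
    hqd P (CfsgLib.GlaubermanZJ.isStronglyClosed_self (P : Subgroup G)) (A := A) hA
  obtain ⟨x, hx, hxa⟩ := h g⁻¹ (by simpa using hAg)
  exact ⟨x⁻¹, inv_mem hx, fun a ha => by have := hxa a ha; rw [inv_inv] at this ⊢; exact this.symm⟩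

end Cfsg.Agent.S0118
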