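import Cfsg.Statements.S5426
import Cfsg.Agent.LargeExtraspecial.Structure

set_option autoImplicit false
open Cfsg CfsgLib CfsgLib.LargeExtraspecial
open scoped Pointwise commutatorElement

namespace Cfsg.Agent.S5426

/-- Let Q be a large extraspecial 2-subgroup of the finite group G (extraspecial; centralizer equal to its centre; normal in the centralizer of its centre; normalizing no non-trivial subgroup of odd order) with centre generated by z, and let M be the normal closure of z in G. Then one of the following holds: Q is normal in G; or M is abelian and the generalized Fitting subgroup of G is its largest normal 2-subgroup; or M is the generalized Fitting subgroup of G and is a non-abelian simple group; or M is the generalized Fitting subgroup of G and is the direct product of a non-abelian simple subgroup L and its conjugate u L u⁻¹ by some u in Q (the two meet trivially and commute elementwise), with z = z₁ (u z₁ u⁻¹) for some z₁ in L whose centralizer in L is a Sylow 2-subgroup of L with Frattini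 subgroup inside the subgroup generated by z₁, and Q is not the largest normal 2-subgroup of the centralizer of z. -/
theorem result {G : Type*} [Group G] [Finite G] (Q : Subgroup G) (hQ : Cfsg.IsLargeExtraspecial Q) (z : G) (hz : ((Subgroup.center ↥Q).map Q.subtype) = Subgroup.zpowers z) (M : Subgroup G) (hM : M = Subgroup.normalClosure ({z} : Set G)) : Q.Normal ∨ (IsMulCommutative ↥M ∧ Cfsg.generalizedFittingSubgroup G = Cfsg.pCore 2 G) ∨ (M = Cfsg.generalizedFittingSubgroup G ∧ IsSimpleGroup ↥M ∧ ¬ IsMulCommutative ↥M) ∨ (M = Cfsg.generalizedFittingSubgroup G ∧ ∃ (L : Subgroup G) (u : G), u ∈ Q ∧ IsSimpleGroup ↥L ∧ ¬ IsMulCommutative ↥L ∧ L ⊓ (L).map (MulAut.conj u).toMonoidHom = ⊥ ∧ (∀ x ∈ L, ∀ y ∈ (L).map (MulAut.conj u).toMonoidHom, x * y = y * x) ∧ L ⊔ (L).map (MulAut.conj u).toMonoidHom = M ∧ ∃ z₁ ∈ L, z = z₁ * (u * z₁ * u⁻¹) ∧ (∃ R : Sylow 2 ↥L, (R : Subgroup ↥L) = (Subgroup.centralizer ({z₁} : Set G)).subgroupOf L ∧ (frattini ↥(R : Subgroup ↥L)).map ((L.subtype).comp (R : Subgroup ↥L).subtype) ≤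 Subgroup.zpowers z₁) ∧ Q ≠ (Cfsg.pCore 2 ↥(Subgroup.centralizer ({z} : Set G))).map (Subgroup.centralizer ({z} : Set G)).subtype) := by
  classical
  haveI : Fact (Nat.Prime 2) := ⟨Nat.prime_two⟩
  have h : Setting Q z := setting_of_large hQ hz
  have hconjG : ∀ (X : Subgroup G), X.Normal → Q ≤ Subgroup.normalizer (X : Set G) := fun X hX => by
    rw [Subgroup.normalizer_eq_top_iff.2 hX]; exact le_top
  -- the Fitting subgroup is the 2-core
  have hfit : fittingSubgroup G = pCore 2 G := by
    apply le_antisymm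
    · haveI := Cores.fittingSubgroup_normal (G := G)
      set F := fittingSubgroup G
      haveI hFn : Group.IsNilpotent ↥F := CfsgLib.Fitting.fittingSubgroup_isNilpotent G
      refine le_sSup ⟨inferInstance, ?_⟩
      have hodd : ∀ p : ℕ, p.Prime → p ∣ Nat.card ↥F → p = 2 := by
        intro p hp hpd
        by_contra hp2
        haveI : Fact p.Prime := ⟨hp⟩
        obtain ⟨P⟩ : Nonempty (Sylow p ↥F) := inferInstance
        haveI hPn : (P : Subgroup ↥F).Normal :=
          ((Group.isNilpotent_of_finite_tfae (G := ↥F)).out 0 3 rfl rfl).1 hFn p inferInstance P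
        haveI := P.characteristic_of_normal hPn
        have hn : ((P : Subgroup ↥F).map F.subtype).Normal := inferInstance
        have hbot : (P : Subgroup ↥F).map F.subtype = ⊥ := by
          refine hQ.2.2.2 _ ?_ (hconjG _ hn)
          rw [Nat.card_congr ((P : Subgroup ↥F).equivMapOfInjective _ F.subtype_injective).toEquiv.symm,
            P.card_eq_multiplicity]
          exact (hp.odd_of_ne_two hp2).pow
        rw [Subgroup.map_eq_bot_iff_of_injective _ F.subtype_injective] at hbot
        exact P.ne_bot_of_dvd_card hpd hbot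
      have hne : Nat.card ↥F ≠ 0 := Nat.card_pos.ne'
      exact IsPGroup.of_card (n := (Nat.card ↥F).factorization 2)
        (Nat.eq_prime_pow_of_unique_prime_dvd hne (fun {d} hd hdd => hodd d hd hdd) ▸ by
          rw [Nat.factorization_pow]; simp [Nat.prime_two.factorization_self])
    · refine CfsgLib.Fitting.le_fittingSubgroup inferInstance ?_
      exact (isPGroup_pCore 2).isNilpotent
  have hlayer_norm : (layer G).Normal := inferInstance
  have hpn : ∀ P : Subgroup G, P.Normal → IsPGroup 2 ↥P → P ≤ pCore 2 G := fun P h1 h2 => le_sSup ⟨h1, h2⟩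
  have hsnp : ∀ P : Subgroup G, P.IsSubnormal → IsPGroup 2 ↥P → P ≤ fittingSubgroup G := by
    intro P hP hPp
    have h1 : fittingSubgroup ↥P = ⊤ := top_le_iff.1
      (CfsgLib.Fitting.le_fittingSubgroup inferInstance (by
        haveI := hPp.isNilpotent; infer_instance))
    have := Cores.map_fittingSubgroup_subgroup_le hP
    rwa [h1, Cores.map_subtype_top] at this
  by_cases hO : pCore 2 G = ⊥
  swap
  · -- the 2-core is nontrivial
    right; left
    set O := pCore 2 G with hOd
    set Zo : Subgroup G := (Subgroup.center ↥O).map O.subtype with hZo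
    have hZn : Zo.Normal := inferInstance
    have hZ1 : Zo ≠ ⊥ := by
      haveI : Nontrivial ↥O := (Subgroup.nontrivial_iff_ne_bot _).2 hO
      haveI := (isPGroup_pCore (G := G) 2).center_nontrivial
      rw [hZo, Ne, Subgroup.map_eq_bot_iff_of_injective _ O.subtype_injective]
      exact (Subgroup.nontrivial_iff_ne_bot _).1 inferInstance
    have hzZ : z ∈ Zo := mem_of_invariant hQ h hZ1 (hconjG _ hZn)
    refine ⟨?_, ?_⟩
    · have hMle : M ≤ Zo := hM ▸ Subgroup.normalClosure_le_normal (by simpa using hzZ)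
      refine ⟨⟨fun a b => Subtype.ext ?_⟩⟩
      obtain ⟨b', hb', hbe⟩ := hMle b.2
      obtain ⟨a', ha', hae⟩ := hMle a.2
      show (a : G) * b = b * a
      rw [← hae, ← hbe]
      exact congrArg Subtype.val (Subgroup.mem_center_iff.1 hb' a')
    · have hlayer : layer G = ⊥ := by
        refine eq_bot_of_perfect h Cores.isPerfect_layer ?_ (hconjG _ hlayer_norm) ?_
        · intro x hx
          have hzF : z ∈ fittingSubgroup G := hfit.symm ▸ Subgroup.map_subtype_le _ hzZ
          exact (Cores.commute_of_commutator_eq_bot Cores.commutator_fitting_layer hzF hx).symm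
        · intro x hx hxQ y hy
          set X := layer G ⊓ Q
          have hXn : (X.subgroupOf (layer G)).Normal := ⟨fun n hn e => by
            rw [Subgroup.mem_subgroupOf] at hn ⊢
            refine ⟨(layer G).mul_mem ((layer G).mul_mem e.2 n.2) ((layer G).inv_mem e.2), ?_⟩
            refine (h.normalized (e : G) ?_ _).1 hn.2
            have hzF : z ∈ fittingSubgroup G := hfit.symm ▸ Subgroup.map_subtype_le _ hzZ
            exact (Cores.commute_of_commutator_eq_bot Cores.commutator_fitting_layer hzF e.2).symm⟩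
          have hXs : X.IsSubnormal :=
            Subgroup.IsSubnormal.trans inf_le_left hXn.isSubnormal hlayer_norm.isSubnormal
          have hxF := hsnp X hXs ((isPGroup_of_isExtraspecial hQ.1).to_le inf_le_right) ⟨hx, hxQ⟩
          exact Cores.commute_of_commutator_eq_bot Cores.commutator_fitting_layer hxF hy
      rw [generalizedFittingSubgroup, hlayer, bot_sup_eq, hfit]
  -- now the generalized Fitting subgroup is the layer
  have hF : fittingSubgroup G = ⊥ := hfit.trans hO
  have hFstar : generalizedFittingSubgroup G = layer G := by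
    rw [generalizedFittingSubgroup, hF, sup_bot_eq]
  have hE1 : layer G ≠ ⊥ := by
    intro e
    have := Cores.centralizer_generalizedFitting_le (G := G)
    rw [hFstar, e] at this
    exact h.z_ne_one (Subgroup.mem_bot.1 (this (Subgroup.mem_centralizer_iff.2 fun x hx => by
      rw [Subgroup.mem_bot.1 hx, one_mul, mul_one])))
  have hzE : z ∈ layer G := mem_of_invariant hQ h hE1 (hconjG _ hlayer_norm)
  have hsn2 : ∀ P : Subgroup G, P.IsSubnormal → IsPGroup 2 ↥P → P = ⊥ := fun P h1 h2 =>
    eq_bot_iff.2 (hF ▸ hsnp P h1 h2)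
  -- no component centralizes `z`
  have hnoz : ∀ L : Subgroup G, IsComponent L → ¬ ∀ x ∈ L, x * z = z * x := by
    intro L₀ hL₀ hL₀z
    set s : Set (Subgroup G) := {L | IsComponent L ∧ ∀ x ∈ L, x * z = z * x}
    set X := sSup s with hXd
    have hperf : ⁅X, X⁆ = X := by
      refine le_antisymm (Subgroup.commutator_le_self _) (sSup_le fun L hL => ?_)
      rw [← Cores.commutator_self_of_isComponent hL.1]
      exact Subgroup.commutator_mono (le_sSup hL) (le_sSup hL)
    have hXz : ∀ x ∈ X, x * z = z * x := by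
      have : X ≤ Subgroup.centralizer ({z} : Set G) := sSup_le fun L hL x hx =>
        Subgroup.mem_centralizer_singleton_iff.2 (hL.2 x hx)
      exact fun x hx => Subgroup.mem_centralizer_singleton_iff.1 (this hx)
    have hQX : Q ≤ Subgroup.normalizer (X : Set G) := by
      have hle : ∀ q ∈ Q, X ≤ X.comap (MulAut.conj q).toMonoidHom := by
        intro q hq
        refine sSup_le fun L hL => ?_
        rw [← Subgroup.map_le_iff_le_comap]
        refine le_sSup ⟨Cores.isComponent_conj hL.1 q, ?_⟩
        rintro _ ⟨x, hx, rfl⟩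
        have hqz := h.comm hq
        calc q * x * q⁻¹ * z = q * x * (q⁻¹ * z) := by group
          _ = q * x * (z * q⁻¹) := by
              rw [show q⁻¹ * z = z * q⁻¹ from h.comm (Q.inv_mem hq)]
          _ = q * (x * z) * q⁻¹ := by group
          _ = (q * z) * x * q⁻¹ := by rw [hL.2 x hx]; group
          _ = z * (q * x * q⁻¹) := by rw [hqz]; group
      refine Subgroup.le_normalizer_iff.2 fun q hq x hx => hle q hq hx
    have hXE : X ≤ layer G := sSup_le fun L hL => Cores.le_layer hL.1
    have hbot : X = ⊥ := by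
      refine eq_bot_of_perfect h hperf hXz hQX fun x hx hxQ y hy => ?_
      have hn : ((X ⊓ Q).subgroupOf X).Normal := ⟨fun n hn e => by
        rw [Subgroup.mem_subgroupOf] at hn ⊢
        exact ⟨X.mul_mem (X.mul_mem e.2 n.2) (X.inv_mem e.2),
          (h.normalized (e : G) (hXz e e.2) _).1 hn.2⟩⟩
      have hXn : (X.subgroupOf (layer G)).Normal := by
        rw [Subgroup.normal_subgroupOf_iff_le_normalizer hXE, Subgroup.le_normalizer_iff]
        intro e he x hx
        have : X ≤ X.comap (MulAut.conj e).toMonoidHom := sSup_le fun L hL y hy =>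
          (le_sSup hL : L ≤ X) ((Subgroup.mem_normalizer_iff.1 (Cores.layer_le_normalizer hL.1 he) y).1 hy)
        exact this hx
      have hXs : X.IsSubnormal :=
        Subgroup.IsSubnormal.trans hXE hXn.isSubnormal hlayer_norm.isSubnormal
      have h1 := hsn2 _ (Subgroup.IsSubnormal.trans inf_le_left hn.isSubnormal hXs)
        ((isPGroup_of_isExtraspecial hQ.1).to_le inf_le_right)
      have : x ∈ (⊥ : Subgroup G) := h1 ▸ (⟨hx, hxQ⟩ : x ∈ X ⊓ Q)
      rw [Subgroup.mem_bot.1 this, one_mul, mul_one]
    exact Cores.ne_bot_of_isComponent hL₀ (eq_bot_iff.2 (hbot ▸ le_sSup ⟨hL₀, hL₀z⟩))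
  have hME : M = layer G := by
    refine le_antisymm (hM ▸ Subgroup.normalClosure_le_normal (by simpa using hzE))
      (Cores.layer_le fun L hL => ?_)
    have hMn : M.Normal := hM ▸ Subgroup.normalClosure_normal
    rcases Cores.component_le_or_commutes hL hMn.isSubnormal with e | e
    · exact e
    · exact absurd (fun x hx => Cores.commute_of_commutator_eq_bot e hx
        (hM ▸ Subgroup.subset_normalClosure rfl)) (hnoz L hL)
  have hMF : M = generalizedFittingSubgroup G := hME.trans hFstar.symm
  obtain ⟨L, hL⟩ : ∃ L : Subgroup G, IsComponent L := by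
    by_contra hne
    push Not at hne
    exact hE1 (Cores.layer_eq_bot_iff.2 hne)
  -- components are simple
  have hcenL : ∀ K : Subgroup G, IsComponent K → (Subgroup.center ↥K).map K.subtype = ⊥ := by
    intro K hK
    have hsn : ((Subgroup.center ↥K).map K.subtype).IsSubnormal := by
      refine Subgroup.IsSubnormal.trans (Subgroup.map_subtype_le _) ?_ hK.1
      rw [← Subgroup.comap_subtype, Subgroup.comap_map_eq_self_of_injective K.subtype_injective]
      exact (inferInstance : (Subgroup.center ↥K).Normal).isSubnormal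
    have hcomm : ∀ a b : ↥((Subgroup.center ↥K).map K.subtype), a * b = b * a := by
      intro a b
      obtain ⟨a', ha', hae⟩ := a.2
      obtain ⟨b', hb', hbe⟩ := b.2
      refine Subtype.ext ?_
      show (a : G) * b = b * a
      rw [← hae, ← hbe]
      exact congrArg Subtype.val (Subgroup.mem_center_iff.1 hb' a')
    have h1 : fittingSubgroup ↥((Subgroup.center ↥K).map K.subtype) = ⊤ := top_le_iff.1
      (Cores.le_fittingSubgroup_of_isMulCommutative inferInstance
        ⟨⟨fun a b => Subtype.ext (hcomm a b)⟩⟩)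
    have := Cores.map_fittingSubgroup_subgroup_le hsn
    rw [h1, Cores.map_subtype_top, hF] at this
    exact le_bot_iff.1 this
  have hsimple : ∀ K : Subgroup G, IsComponent K → IsSimpleGroup ↥K ∧ ¬ IsMulCommutative ↥K := by
    intro K hK
    have hc : Subgroup.center ↥K = ⊥ :=
      (Subgroup.map_eq_bot_iff_of_injective _ K.subtype_injective).1 (hcenL K hK)
    haveI := Cores.nontrivial_of_isQuasisimple hK.2
    refine ⟨⟨fun N hN => ?_⟩, fun hcomm => ?_⟩
    · rcases Cores.normal_eq_top_or_le_center hK.2 N hN with e | e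
      · exact Or.inr e
      · exact Or.inl (le_bot_iff.1 (hc ▸ e))
    · apply Cores.center_ne_top_of_isQuasisimple hK.2
      rw [eq_top_iff]
      exact fun a _ => Subgroup.mem_center_iff.2 fun b => hcomm.is_comm.comm b a
  -- the rest of the components
  let hat : Subgroup G → Subgroup G := fun K => sSup {K' | IsComponent K' ∧ K' ≠ K}
  have le_hat : ∀ K K', IsComponent K' → K' ≠ K → K' ≤ hat K := fun K K' a b => le_sSup ⟨a, b⟩
  have hat_comm : ∀ K, IsComponent K → ∀ a ∈ K, ∀ b ∈ hat K, a * b = b * a := fun K hK a ha b hb =>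
    Cores.commute_of_commutator_eq_bot (Cores.commutator_sSup_eq_bot
      fun K' hK' => Cores.commutator_eq_bot_of_ne hK hK'.1 (Ne.symm hK'.2)) ha hb
  have hat_inf : ∀ K, IsComponent K → ∀ a ∈ K, a ∈ hat K → a = 1 := by
    intro K hK a ha ha'
    have : a ∈ (Subgroup.center ↥K).map K.subtype := ⟨⟨a, ha⟩, Subgroup.mem_center_iff.2 fun b =>
      Subtype.ext (hat_comm K hK b b.2 a ha'), rfl⟩
    rwa [hcenL K hK, Subgroup.mem_bot] at this
  have decomp : ∀ K, IsComponent K → ∀ e ∈ layer G, ∃ a ∈ K, ∃ b ∈ hat K, e = a * b := by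
    intro K hK e he
    have hle : layer G ≤ K ⊔ hat K := Cores.layer_le fun K' hK' => by
      by_cases e' : K' = K
      · exact e' ▸ le_sup_left
      · exact le_sup_of_le_right (le_hat K K' hK' e')
    let D : Subgroup G :=
      { carrier := {x | ∃ a ∈ K, ∃ b ∈ hat K, x = a * b}
        one_mem' := ⟨1, K.one_mem, 1, (hat K).one_mem, by simp⟩
        mul_mem' := by
          rintro _ _ ⟨a, ha, b, hb, rfl⟩ ⟨a', ha', b', hb', rfl⟩
          refine ⟨a * a', K.mul_mem ha ha', b * b', (hat K).mul_mem hb hb', ?_⟩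
          calc a * b * (a' * b') = a * (b * a') * b' := by group
            _ = a * a' * (b * b') := by rw [← hat_comm K hK a' ha' b hb]; group
        inv_mem' := by
          rintro _ ⟨a, ha, b, hb, rfl⟩
          exact ⟨a⁻¹, K.inv_mem ha, b⁻¹, (hat K).inv_mem hb, by
            rw [mul_inv_rev, hat_comm K hK a⁻¹ (K.inv_mem ha) b⁻¹ ((hat K).inv_mem hb)]⟩ }
    have : K ⊔ hat K ≤ D := sup_le (fun a ha => ⟨a, ha, 1, (hat K).one_mem, by simp⟩)
      (fun b hb => ⟨1, K.one_mem, b, hb, by simp⟩)
    exact this (hle he)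
  let cj : G → Subgroup G → Subgroup G := fun g K => K.map (MulAut.conj g).toMonoidHom
  have hcj : ∀ g K, IsComponent K → IsComponent (cj g K) := fun g K hK => Cores.isComponent_conj hK g
  have cj_mul : ∀ a b K, cj (a * b) K = cj a (cj b K) := fun a b K => by
    simp only [cj, Subgroup.map_map]
    congr 1; ext x; simp [mul_assoc]
  have hZfix : ∀ e ∈ layer G, ∀ K, IsComponent K → cj e K = K := by
    intro e he K hK
    ext x
    have hn := Cores.layer_le_normalizer hK he
    simp only [cj, CfsgLib.LargeExtraspecial.mem_conj_iff]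
    rw [Subgroup.mem_normalizer_iff.1 hn (e⁻¹ * x * e)]
    simp [mul_assoc]
  have cj_one : ∀ K, cj 1 K = K := fun K => by
    simp only [cj]; ext x; rw [CfsgLib.LargeExtraspecial.mem_conj_iff]; simp
  -- a single orbit
  have horbit : ∀ K, IsComponent K → ∃ q ∈ Q, K = cj q L := by
    intro K hK
    by_contra hne
    push Not at hne
    let s : Set (Subgroup G) := {K' | ∃ q ∈ Q, K' = cj q L}
    have hX1 : sSup s ≠ ⊥ := by
      intro e
      apply Cores.ne_bot_of_isComponent hL
      rw [eq_bot_iff, ← e]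
      exact le_sSup ⟨1, Q.one_mem, (cj_one L).symm⟩
    have hinv : Q ≤ Subgroup.normalizer ((sSup s : Subgroup G) : Set G) := by
      refine Subgroup.le_normalizer_iff.2 fun q hq x hx => ?_
      have : sSup s ≤ (sSup s).comap (MulAut.conj q).toMonoidHom := by
        refine sSup_le ?_
        rintro _ ⟨r, hr, rfl⟩
        rw [← Subgroup.map_le_iff_le_comap]
        exact le_sSup ⟨q * r, Q.mul_mem hq hr, (cj_mul q r L).symm⟩
      exact this hx
    have hzX := mem_of_invariant hQ h hX1 hinv
    have hXK : sSup s ≤ hat K := by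
      refine sSup_le ?_
      rintro _ ⟨r, hr, rfl⟩
      exact le_hat _ _ (hcj r L hL) (Ne.symm (hne r hr))
    exact hnoz K hK fun x hx => hat_comm K hK x hx z (hXK hzX)
  by_cases hmove : ∀ q ∈ Q, cj q L = L
  · -- a single component
    right; right; left
    have : M = L := by
      rw [hME]
      refine le_antisymm (Cores.layer_le fun K hK => ?_) (Cores.le_layer hL)
      obtain ⟨q, hq, rfl⟩ := horbit K hK
      exact (hmove q hq).le
    refine ⟨hMF, ?_⟩
    rw [this]
    exact hsimple L hL
  push Not at hmove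
  obtain ⟨u, hu, huL⟩ := hmove
  obtain ⟨x, hx, y, hy, hzxy⟩ := decomp L hL z hzE
  have hxy := hat_comm L hL x hx y hy
  have hx1 : x ≠ 1 := by
    intro e
    exact hnoz L hL fun a ha => hat_comm L hL a ha z (by rw [hzxy, e, one_mul]; exact hy)
  have hxx : x * x = 1 := by
    refine hat_inf L hL _ (L.mul_mem hx hx) ?_
    have : x * x = (y * y)⁻¹ := by
      apply eq_inv_of_mul_eq_one_left
      calc x * x * (y * y) = (x * y) * (x * y) := by
            rw [mul_assoc x y, ← mul_assoc y x, ← hxy]; group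
        _ = 1 := by rw [← hzxy, h.z_mul_z]
    rw [this]
    exact (hat L).inv_mem ((hat L).mul_mem hy hy)
  have hxz : x * z = z * x := by
    rw [hzxy, ← mul_assoc, mul_assoc x y x, ← hxy]; group
  have hxo : orderOf x = 2 := orderOf_eq_prime (by rw [pow_two, hxx]) hx1
  -- elements of `L` centralizing `x` normalize `Q`
  have hR : ∀ r ∈ L, r * x = x * r → r * z = z * r := by
    intro r hr hrx
    rw [hzxy, ← mul_assoc, hrx, mul_assoc, hat_comm L hL r hr y hy, mul_assoc]
  have hd : ∀ r ∈ L, r * x = x * r → ∀ q ∈ Q, q * r * q⁻¹ * r⁻¹ ∈ Q := by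
    intro r hr hrx q hq
    rw [show q * r * q⁻¹ * r⁻¹ = q * (r * q⁻¹ * r⁻¹) by group]
    exact Q.mul_mem hq ((h.normalized r (hR r hr hrx) _).1 (Q.inv_mem hq))
  have hcjmem : ∀ g r, r ∈ L → g * r * g⁻¹ ∈ cj g L := fun g r hr => ⟨r, hr, rfl⟩
  have hsimpL := hsimple L hL
  have nontwo : ¬ ∀ r ∈ L, r * x = x * r → r = 1 ∨ r = x := by
    intro hall
    haveI := hsimpL.1
    refine not_centralizer_two hsimpL.2 (x := (⟨x, hx⟩ : ↥L))
      (by rw [← Subgroup.orderOf_coe]; exact hxo) fun r hr => ?_
    rcases hall r r.2 (congrArg Subtype.val hr) with e | e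
    · exact Or.inl (Subtype.ext e)
    · exact Or.inr (Subtype.ext e)
  -- exactly two components
  have htwo : ∀ K, IsComponent K → K = L ∨ K = cj u L := by
    by_contra hne
    push Not at hne
    obtain ⟨K, hK, hKL, hKu⟩ := hne
    obtain ⟨q, hq, rfl⟩ := horbit K hK
    refine nontwo fun r hr hrx => ?_
    set d := u * r * u⁻¹ * r⁻¹
    have hdQ : d ∈ Q := hd r hr hrx u hu
    have hconj : q * d * q⁻¹ = ((q * u) * r * (q * u)⁻¹) * (q * r * q⁻¹)⁻¹ := by simp only [d]; group
    have hur : u * r * u⁻¹ ∈ hat L := le_hat L _ (hcj u L hL) huL (hcjmem u r hr)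
    by_cases hqu : cj (q * u) L = L
    · -- compare the components in `u L u⁻¹`
      have hl : q * d * q⁻¹ ∈ hat (cj u L) := by
        rw [hconj]
        refine Subgroup.mul_mem _ ?_ (Subgroup.inv_mem _ ?_)
        · exact le_hat _ _ (hcj _ L hL) (hqu.symm ▸ Ne.symm huL) (hcjmem _ r hr)
        · exact le_hat _ _ (hcj q L hL) hKu (hcjmem q r hr)
      have hLu : L ≤ hat (cj u L) := le_hat _ _ hL (Ne.symm huL)
      rcases conj_mem_two hQ.1 h.mem_iff hq hdQ with e | e
      · left
        rw [e] at hl
        have : u * r * u⁻¹ ∈ hat (cj u L) := by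
          simpa [d] using Subgroup.mul_mem _ hl (hLu hr)
        exact conj_eq_one_iff.1 (hat_inf _ (hcj u L hL) _ (hcjmem u r hr) this)
      · right
        rw [e] at hl
        have h1 : z * (u * r * u⁻¹) ∈ hat (cj u L) := by
          simpa [d, mul_assoc] using Subgroup.mul_mem _ hl (hLu hr)
        have hyu : u * y * u⁻¹ ∈ hat (cj u L) := by
          have : hat L ≤ (hat (cj u L)).comap (MulAut.conj u).toMonoidHom := by
            refine sSup_le fun K' hK' => ?_
            rw [← Subgroup.map_le_iff_le_comap]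
            exact le_hat _ _ (hcj u K' hK'.1) fun e' => hK'.2
              (Subgroup.map_injective (MulAut.conj u).injective e')
          exact this hy
        have hz' : z = (u * y * u⁻¹) * (u * x * u⁻¹) := by
          calc z = u * z * u⁻¹ := by rw [h.comm hu, mul_inv_cancel_right]
            _ = u * (y * x) * u⁻¹ := by rw [hzxy, hxy]
            _ = _ := by group
        have h2 : u * (x * r) * u⁻¹ ∈ hat (cj u L) := by
          have := Subgroup.mul_mem _ (Subgroup.inv_mem _ hyu) h1
          rw [hz'] at this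
          convert this using 1
          group
        have := conj_eq_one_iff.1 (hat_inf _ (hcj u L hL) _ (hcjmem u _ (L.mul_mem hx hr)) h2)
        exact (eq_inv_of_mul_eq_one_right this).trans (inv_eq_of_mul_eq_one_right hxx)
    · have hl : q * d * q⁻¹ ∈ hat L := by
        rw [hconj]
        exact Subgroup.mul_mem _ (le_hat L _ (hcj _ L hL) hqu (hcjmem _ r hr))
          (Subgroup.inv_mem _ (le_hat L _ (hcj q L hL) hKL (hcjmem q r hr)))
      rcases conj_mem_two hQ.1 h.mem_iff hq hdQ with e | e
      · left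
        rw [e] at hl
        have : r⁻¹ ∈ hat L := by
          simpa [d, mul_assoc] using Subgroup.mul_mem _ (Subgroup.inv_mem _ hur) hl
        exact inv_eq_one.1 (hat_inf L hL _ (L.inv_mem hr) this)
      · right
        rw [e] at hl
        have hc : (x * r⁻¹) * (y * (u * r * u⁻¹)) = z * d := by
          have c1 : r⁻¹ * (y * (u * r * u⁻¹)) = y * (u * r * u⁻¹) * r⁻¹ :=
            hat_comm L hL r⁻¹ (L.inv_mem hr) _ (Subgroup.mul_mem _ hy hur)
          rw [mul_assoc, c1, hzxy]; simp only [d]; group
        have : x * r⁻¹ ∈ hat L := by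
          have := Subgroup.mul_mem _ (hc ▸ hl) (Subgroup.inv_mem _ (Subgroup.mul_mem _ hy hur))
          rwa [mul_inv_cancel_right] at this
        exact (mul_inv_eq_one.1 (hat_inf L hL _ (L.mul_mem hx (L.inv_mem hr)) this)).symm
  set L' := cj u L with hL'
  have hhat : hat L = L' := by
    refine le_antisymm (sSup_le fun K hK => ?_) (le_hat L _ (hcj u L hL) huL)
    rcases htwo K hK.1 with e | e
    · exact absurd e hK.2
    · exact e.le
  have hu2 : cj u L' = L := by
    rw [hL', ← cj_mul]
    refine hZfix _ ?_ L hL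
    rcases (h.mem_iff _).1 (sq_mem hQ.1 hu) with e | e <;> rw [e]
    exacts [Subgroup.one_mem _, hzE]
  have hux : y = u * x * u⁻¹ := by
    have hux' : u * x * u⁻¹ ∈ hat L := hhat.symm ▸ hcjmem u x hx
    have huy : u * y * u⁻¹ ∈ L := by
      rw [← hu2]; exact ⟨y, hhat ▸ hy, rfl⟩
    have hzz : z = (u * y * u⁻¹) * (u * x * u⁻¹) := by
      calc z = u * z * u⁻¹ := by rw [h.comm hu, mul_inv_cancel_right]
        _ = u * (y * x) * u⁻¹ := by rw [hzxy, hxy]
        _ = _ := by group
    have hyx : y * (u * x * u⁻¹)⁻¹ = x⁻¹ * (u * y * u⁻¹) := by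
      calc y * (u * x * u⁻¹)⁻¹ = x⁻¹ * z * (u * x * u⁻¹)⁻¹ := by rw [hzxy]; group
        _ = x⁻¹ * (u * y * u⁻¹) := by rw [hzz]; group
    exact mul_inv_eq_one.1 (hat_inf L hL _ (hyx ▸ L.mul_mem (L.inv_mem hx) huy)
      ((hat L).mul_mem hy ((hat L).inv_mem hux')))
  right; right; right
  have hsup : L ⊔ L' = M := by
    rw [hME]
    refine le_antisymm (sup_le (Cores.le_layer hL) (Cores.le_layer (hcj u L hL)))
      (Cores.layer_le fun K hK => ?_)
    rcases htwo K hK with e | e <;> rw [e]
    exacts [le_sup_left, le_sup_right]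
  -- squares in `C_L(x)`
  have hsq : ∀ r ∈ L, r * x = x * r → r * r = 1 ∨ r * r = x := by
    intro r hr hrx
    have hdQ := hd r hr hrx u hu
    have hur : u * r * u⁻¹ ∈ hat L := hhat.symm ▸ hcjmem u r hr
    have hc := hat_comm L hL r⁻¹ (L.inv_mem hr) _ hur
    set v := u * r * u⁻¹
    have e1 : v * r⁻¹ * (v * r⁻¹) = (r * r)⁻¹ * (v * v) := by
      calc v * r⁻¹ * (v * r⁻¹) = v * (r⁻¹ * v) * r⁻¹ := by group
        _ = v * v * (r⁻¹ * r⁻¹) := by rw [hc]; group
        _ = (r⁻¹ * r⁻¹) * (v * v) := by
            rw [hat_comm L hL (r⁻¹ * r⁻¹) (L.mul_mem (L.inv_mem hr) (L.inv_mem hr)) _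
              ((hat L).mul_mem hur hur)]
        _ = (r * r)⁻¹ * (v * v) := by group
    rcases (h.mem_iff _).1 (sq_mem hQ.1 hdQ) with e | e
    · left
      rw [e1, inv_mul_eq_one] at e
      exact hat_inf L hL _ (L.mul_mem hr hr) (e ▸ (hat L).mul_mem hur hur)
    · right
      rw [e1, hzxy] at e
      have : x⁻¹ * (r * r)⁻¹ = y * (v * v)⁻¹ := by
        rw [eq_mul_inv_iff_mul_eq, mul_assoc, inv_mul_eq_iff_eq_mul, e]
      have h1 := hat_inf L hL _ (L.mul_mem (L.inv_mem hx) (L.inv_mem (L.mul_mem hr hr)))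
        (this ▸ (hat L).mul_mem hy ((hat L).inv_mem ((hat L).mul_mem hur hur)))
      rw [← mul_inv_rev, inv_eq_one] at h1
      exact (eq_inv_of_mul_eq_one_left h1).trans (inv_eq_of_mul_eq_one_right hxx)
  set R₀ : Subgroup ↥L := (Subgroup.centralizer ({x} : Set G)).subgroupOf L with hR₀
  have hR₀m : ∀ r : ↥L, r ∈ R₀ ↔ (r : G) * x = x * r := fun r => by
    rw [hR₀, Subgroup.mem_subgroupOf, Subgroup.mem_centralizer_singleton_iff]
  have hR₀p : IsPGroup 2 ↥R₀ := by
    intro r
    refine ⟨2, Subtype.ext (Subtype.ext ?_)⟩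
    have h4 : ((r : ↥L) : G) ^ (2 ^ 2) = 1 := by
      rw [show (2 : ℕ) ^ 2 = 2 * 2 by norm_num, pow_mul, pow_two ((r : ↥L) : G), pow_two]
      rcases hsq _ (r : ↥L).2 ((hR₀m r).1 r.2) with e | e <;> rw [e]
      · rw [one_mul]
      · exact hxx
    simpa using h4
  obtain ⟨T, hT⟩ := hR₀p.exists_le_sylow
  have hTR : (T : Subgroup ↥L) = R₀ := by
    obtain ⟨S, -, hSz⟩ := exists_sylow_central hQ h
    have hTp : IsPGroup 2 ↥((T : Subgroup ↥L).map L.subtype) := T.isPGroup'.map _
    obtain ⟨S', hS'⟩ := hTp.exists_le_sylow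
    obtain ⟨g, hg⟩ := MulAction.exists_smul_eq G S S'
    obtain ⟨k, hkL, hk⟩ : ∃ k : G, cj k L = L ∧
        ∀ t ∈ (T : Subgroup ↥L), (k⁻¹ * (t : G) * k) * z = z * (k⁻¹ * t * k) := by
      have hbase : ∀ t ∈ (T : Subgroup ↥L), (g⁻¹ * (t : G) * g) * z = z * (g⁻¹ * t * g) := by
        intro t ht
        have := hS' ⟨t, ht, rfl⟩
        rw [← hg] at this
        change (t : G) ∈ MulAut.conj g • (S : Subgroup G) at this
        rw [Subgroup.mem_smul_pointwise_iff_exists] at this
        obtain ⟨s, hs, hst⟩ := this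
        rw [← hst]
        simpa [mul_assoc] using hSz s hs
      rcases htwo _ (hcj g L hL) with e | e
      · exact ⟨g, e, hbase⟩
      · refine ⟨g * u, ?_, fun t ht => ?_⟩
        · rw [cj_mul]
          rcases htwo _ (hcj g _ (hcj u L hL)) with e' | e'
          · exact e'
          · exact absurd (Subgroup.map_injective (MulAut.conj g).injective (e.trans e'.symm)) (Ne.symm huL)
        · have huz : u * z = z * u := h.comm hu
          calc (g * u)⁻¹ * t * (g * u) * z = u⁻¹ * (g⁻¹ * t * g) * (u * z) := by group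
            _ = u⁻¹ * ((g⁻¹ * t * g) * z) * u := by rw [huz]; group
            _ = u⁻¹ * z * (g⁻¹ * t * g) * u := by rw [hbase t ht]; group
            _ = z * ((g * u)⁻¹ * t * (g * u)) := by
                rw [show u⁻¹ * z = z * u⁻¹ from h.comm (Q.inv_mem hu)]; group
    have hmem : ∀ t : ↥(T : Subgroup ↥L), k⁻¹ * ((t : ↥L) : G) * k ∈ L := fun t => by
      have := (CfsgLib.LargeExtraspecial.mem_conj_iff L k (t : ↥L)).1 (by
        change ((t : ↥L) : G) ∈ cj k L
        rw [hkL]; exact (t : ↥L).2)
      exact this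
    have hmem2 : ∀ t : ↥(T : Subgroup ↥L), (⟨_, hmem t⟩ : ↥L) ∈ R₀ := by
      intro t
      rw [hR₀m]
      set r := k⁻¹ * ((t : ↥L) : G) * k
      have hrz : r * z = z * r := hk (t : ↥L) t.2
      have hry := hat_comm L hL r (hmem t) y hy
      have hy' : r * x * y = x * r * y := by
        rw [mul_assoc x r y, hry, ← mul_assoc x y r, ← hzxy, mul_assoc r x y, ← hzxy, hrz]
      exact mul_right_cancel hy'
    have hcard : Nat.card ↥(T : Subgroup ↥L) ≤ Nat.card ↥R₀ :=
      Nat.card_le_card_of_injective (fun t => (⟨_, hmem2 t⟩ : ↥R₀)) fun t t' e => by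
        have e' : k⁻¹ * ((t : ↥L) : G) * k = k⁻¹ * ((t' : ↥L) : G) * k :=
          congrArg (fun r : ↥R₀ => ((r : ↥L) : G)) e
        exact Subtype.ext (Subtype.ext (mul_left_cancel (mul_right_cancel e')))
    exact (Subgroup.eq_of_le_of_card_ge hT hcard).symm
  have hxR₀ : (⟨x, hx⟩ : ↥L) ∈ R₀ := (hR₀m _).2 rfl
  refine ⟨hMF, L, u, hu, hsimpL.1, hsimpL.2, ?_, ?_, hsup, x, hx, ?_, ⟨T, hTR, ?_⟩, ?_⟩
  · rw [eq_bot_iff]
    intro a ha
    exact Subgroup.mem_bot.2 (hat_inf L hL a ha.1 (hhat.symm ▸ ha.2))
  · exact fun a ha b hb => hat_comm L hL a ha b (hhat.symm ▸ hb)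
  · rw [hzxy, hux]
  · -- the Frattini subgroup
    set Y := (T : Subgroup ↥L) with hY
    let xT : ↥Y := ⟨⟨x, hx⟩, hTR.symm ▸ hxR₀⟩
    have hxc : ∀ a : ↥Y, a * xT = xT * a := fun a =>
      Subtype.ext (Subtype.ext ((hR₀m _).1 (hTR ▸ a.2)))
    haveI hn : (Subgroup.zpowers xT).Normal := ⟨fun n hn a => by
      obtain ⟨m, rfl⟩ := Subgroup.mem_zpowers_iff.1 hn
      rw [((show Commute a xT from hxc a).zpow_right m).eq, mul_inv_cancel_right]
      exact hn⟩
    have hsqT : ∀ a : ↥Y, a * a ∈ Subgroup.zpowers xT := by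
      intro a
      rcases hsq _ (a : ↥L).2 ((hR₀m _).1 (hTR ▸ a.2)) with e | e
      · rw [show a * a = 1 from Subtype.ext (Subtype.ext e)]; exact Subgroup.one_mem _
      · rw [show a * a = xT from Subtype.ext (Subtype.ext e)]; exact Subgroup.mem_zpowers _
    have := CfsgLib.CharP.frattini_le_ker_of_elementary (p := 2)
      (QuotientGroup.mk' (Subgroup.zpowers xT))
      (fun a b => by
        show _ * _ = _ * _
        rw [← map_mul, ← map_mul, QuotientGroup.mk'_apply, QuotientGroup.mk'_apply, QuotientGroup.eq]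
        have h1 := Subgroup.mul_mem _ (Subgroup.mul_mem _ (hsqT b⁻¹) (hsqT (b * a⁻¹))) (hsqT a)
        simpa [mul_assoc] using h1)
      (fun a => by
        rw [← map_pow, QuotientGroup.mk'_apply, QuotientGroup.eq_one_iff, pow_two]
        exact hsqT a)
    rw [QuotientGroup.ker_mk'] at this
    refine (Subgroup.map_mono this).trans (le_of_eq ?_)
    rw [MonoidHom.map_zpowers]
    rfl
  · intro hQeq
    set C := Subgroup.centralizer ({z} : Set G) with hC
    set N := M.subgroupOf C with hN
    have hMn : M.Normal := hM ▸ Subgroup.normalClosure_normal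
    haveI : N.Normal := by rw [hN]; infer_instance
    have hNp : IsPGroup 2 ↥N := by
      intro n
      refine ⟨2, ?_⟩
      obtain ⟨a, ha, b, hb, hab⟩ := decomp L hL ((n : ↥C) : G) (hME ▸ n.2)
      have hz' := Subgroup.mem_centralizer_singleton_iff.1 (n : ↥C).2
      rw [hab] at hz'
      have hcab := hat_comm L hL a ha b hb
      have hax : a * x = x * a ∧ b * y = y * b := by
        have e : (a * x) * (b * y) = (x * a) * (y * b) := by
          calc (a * x) * (b * y) = a * (x * b) * y := by group
            _ = a * b * (x * y) := by rw [hat_comm L hL x hx b hb]; group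
            _ = x * y * (a * b) := by rw [← hzxy, hz']
            _ = x * (y * a) * b := by group
            _ = (x * a) * (y * b) := by rw [← hat_comm L hL a ha y hy]; group
        have e1 : (x * a)⁻¹ * (a * x) = (y * b) * (b * y)⁻¹ := by
          rw [inv_mul_eq_iff_eq_mul, ← mul_assoc, eq_mul_inv_iff_mul_eq, e]
        have e2 := hat_inf L hL _ (L.mul_mem (L.inv_mem (L.mul_mem hx ha)) (L.mul_mem ha hx))
          (e1 ▸ (hat L).mul_mem ((hat L).mul_mem hy hb) ((hat L).inv_mem ((hat L).mul_mem hb hy)))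
        refine ⟨(inv_mul_eq_one.1 e2).symm, ?_⟩
        rw [e2] at e1
        exact (mul_inv_eq_one.1 e1.symm).symm
      have hb' : u⁻¹ * b * u ∈ L := (CfsgLib.LargeExtraspecial.mem_conj_iff L u b).1 (show b ∈ L' from hhat ▸ hb)
      have hbx : u⁻¹ * b * u * x = x * (u⁻¹ * b * u) := by
        calc u⁻¹ * b * u * x = u⁻¹ * (b * (u * x * u⁻¹)) * u := by group
          _ = x * (u⁻¹ * b * u) := by rw [← hux, hax.2, hux]; group
      have h4 : ∀ r ∈ L, r * x = x * r → r ^ 4 = 1 := by
        intro r hr hrx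
        rw [show (4 : ℕ) = 2 * 2 by norm_num, pow_mul, pow_two r, pow_two]
        rcases hsq r hr hrx with e | e <;> rw [e]
        · rw [one_mul]
        · exact hxx
      refine Subtype.ext (Subtype.ext ?_)
      show ((n : ↥C) : G) ^ (2 ^ 2) = 1
      rw [hab, show (2 : ℕ) ^ 2 = 4 by norm_num, (show Commute a b from hcab).mul_pow,
        h4 a ha hax.1, one_mul]
      have := h4 _ hb' hbx
      rwa [show u⁻¹ * b * u = u⁻¹ * b * u⁻¹⁻¹ by group, conj_pow, conj_eq_one_iff] at this
    refine nontwo fun r hr hrx => ?_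
    have hrQ : r ∈ Q := by
      rw [hQeq]
      refine ⟨⟨r, Subgroup.mem_centralizer_singleton_iff.2 (hR r hr hrx)⟩, ?_, rfl⟩
      refine le_sSup (show N ∈ {K : Subgroup ↥C | K.Normal ∧ IsPGroup 2 ↥K} from ⟨inferInstance, hNp⟩) ?_
      show r ∈ M
      exact hME ▸ Cores.le_layer hL hr
    have hur : u * r * u⁻¹ ∈ hat L := hhat.symm ▸ hcjmem u r hr
    rcases conj_mem_two hQ.1 h.mem_iff hu hrQ with e | e
    · left
      rw [e] at hur
      exact hat_inf L hL r hr hur
    · right
      have : x * r ∈ hat L := by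
        have e' : x * r = y⁻¹ * (u * r * u⁻¹) := by rw [e, hzxy, hxy]; group
        rw [e']; exact (hat L).mul_mem ((hat L).inv_mem hy) hur
      exact (eq_inv_of_mul_eq_one_right (hat_inf L hL _ (L.mul_mem hx hr) this)).trans
        (inv_eq_of_mul_eq_one_right hxx)

end Cfsg.Agent.S5426
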