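import Cfsg.Statements.S5433
import Cfsg.Agent.LargeExtraspecial.Basic

set_option autoImplicit false
open Cfsg CfsgLib

namespace Cfsg.Agent.S5433

/-- Let Q be a large extraspecial 2-subgroup of the finite group G (extraspecial; centralizer equal to its centre; normal in the centralizer of its centre; normalizing no non-trivial subgroup of odd order), and L a normal subgroup of G containing Q. Then G is the product of L and the normalizer of Q. -/
theorem result {G : Type*} [Group G] [Finite G] (Q : Subgroup G) (hQ : Cfsg.IsLargeExtraspecial Q) (L : Subgroup G) [L.Normal] (hQL : Q ≤ L) : L ⊔ Subgroup.normalizer (Q : Set G) = ⊤ := by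
  haveI : Fact (Nat.Prime 2) := ⟨Nat.prime_two⟩
  obtain ⟨hE, hC, hN, -⟩ := hQ
  obtain ⟨P, hP⟩ := (LargeExtraspecial.isPGroup_of_isExtraspecial hE |>.comap_subtype (K := L)).exists_le_sylow
  have hQP : Q ≤ (P : Subgroup ↥L).map L.subtype := by
    intro q hq
    exact ⟨⟨q, hQL hq⟩, hP (show (⟨q, hQL hq⟩ : ↥L) ∈ Q.comap L.subtype from hq), rfl⟩
  set P' : Subgroup G := (P : Subgroup ↥L).map L.subtype with hP'
  have hPp : IsPGroup 2 ↥P' := P.isPGroup'.map _
  have hzP : LargeExtraspecial.zOf P' ≤ LargeExtraspecial.zOf Q := by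
    intro x hx
    rw [LargeExtraspecial.zOf, ← hC]
    exact Subgroup.mem_centralizer_iff.2 fun q hq => (LargeExtraspecial.mem_zOf.1 hx).2 q (hQP hq)
  have hz2 := LargeExtraspecial.card_zOf hE
  have hne : Q ≠ ⊥ := by
    rintro rfl
    have := Subgroup.card_le_of_le (LargeExtraspecial.zOf_le (⊥ : Subgroup G))
    rw [Subgroup.card_bot, hz2] at this
    omega
  haveI : Nontrivial ↥P' := by
    rw [Subgroup.nontrivial_iff_ne_bot]
    exact fun h => hne (le_bot_iff.1 (h ▸ hQP))
  haveI := hPp.center_nontrivial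
  have hzne : LargeExtraspecial.zOf P' ≠ ⊥ := by
    intro h
    rw [LargeExtraspecial.zOf, Subgroup.map_eq_bot_iff_of_injective _ P'.subtype_injective] at h
    exact (Subgroup.nontrivial_iff_ne_bot _).1 inferInstance h
  have hzeq : LargeExtraspecial.zOf P' = LargeExtraspecial.zOf Q := by
    refine Subgroup.eq_of_le_of_card_ge hzP ?_
    have h1 := (Subgroup.one_lt_card_iff_ne_bot _).2 hzne
    omega
  have hfr := Sylow.normalizer_sup_eq_top P
  rw [eq_top_iff]
  calc (⊤ : Subgroup G) = Subgroup.normalizer (P' : Set G) ⊔ L := hfr.symm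
    _ ≤ L ⊔ Subgroup.normalizer (Q : Set G) := ?_
  refine sup_le (le_sup_of_le_right ?_) le_sup_left
  refine le_trans ?_ hN
  intro g hg
  refine Subgroup.mem_centralizer_iff.2 fun x hx => ?_
  have hx' : x ∈ LargeExtraspecial.zOf P' := hzeq.symm ▸ hx
  have hgx : g * x * g⁻¹ ∈ LargeExtraspecial.zOf P' := by
    obtain ⟨hxP, hxc⟩ := LargeExtraspecial.mem_zOf.1 hx'
    refine LargeExtraspecial.mem_zOf.2 ⟨(Subgroup.mem_normalizer_iff.1 hg x).1 hxP, fun q hq => ?_⟩
    have hq' := hxc _ ((Subgroup.mem_normalizer_iff.1 (Subgroup.inv_mem _ hg) q).1 hq)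
    calc q * (g * x * g⁻¹) = g * ((g⁻¹ * q * g⁻¹⁻¹) * x) * g⁻¹ := by group
      _ = g * (x * (g⁻¹ * q * g⁻¹⁻¹)) * g⁻¹ := by rw [hq']
      _ = g * x * g⁻¹ * q := by group
  rw [hzeq] at hgx
  by_cases hx1 : x = 1
  · subst hx1; simp
  have : g * x * g⁻¹ = x := by
    by_contra hne'
    have h3 : ({1, x, g * x * g⁻¹} : Set G) ⊆ (LargeExtraspecial.zOf Q : Set G) :=
      Set.insert_subset (Subgroup.one_mem _) (Set.insert_subset hx (Set.singleton_subset_iff.2 hgx))
    have h4 := Set.ncard_le_ncard h3 (Set.toFinite _)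
    rw [Set.ncard_insert_of_notMem, Set.ncard_pair (fun h => hne' h.symm)] at h4
    · rw [show (LargeExtraspecial.zOf Q : Set G).ncard = 2 from hz2] at h4
      omega
    · simp only [Set.mem_insert_iff, Set.mem_singleton_iff, not_or]
      exact ⟨fun h => hx1 h.symm, fun h => hx1 (by simpa using h.symm)⟩
  exact (mul_inv_eq_iff_eq_mul.1 this).symm

end Cfsg.Agent.S5433
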