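import Cfsg.Statements.S2202
import Cfsg.Agent.Eq.Def_KGroupFacts
import Cfsg.Agent.Schur.StemSylow
import Cfsg.Agent.SL2.Sylow
import Cfsg.Agent.CAGroups.AbelianInvolutionSplit
import Mathlib

set_option autoImplicit false
set_option linter.style.haveILetI false
open Cfsg

namespace Cfsg.Agent.S2202

open scoped commutatorElement
open CfsgLib.CAGroups.AbelianCent

universe u

/-- `G ≅ SL₂(q) × A`. -/
theorem product_of_hyp {G : Type u} [Group G] [Finite G] {T : Sylow 2 G} (h : Hyp T) :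
    ∃ (F : Type) (_ : Field F) (_ : Fintype F) (A : Type) (_ : CommGroup A) (_ : Finite A),
      CharP F 2 ∧ Odd (Nat.card A) ∧ Nonempty (G ≃* Matrix.SpecialLinearGroup (Fin 2) F × A) := by
  classical
  obtain ⟨A, S⟩ := exists_split h
  obtain ⟨F, iF, iF', φ, hc, h4, -, hφ, hker⟩ := S.sl2 h
  haveI := hc
  set K := commutator G with hK
  have hKsurj : K.map φ = ⊤ := by
    obtain ⟨a, ha, ha2⟩ : ∃ a : F, a ≠ 0 ∧ a ^ 2 ≠ 1 := by
      by_contra hno
      push Not at hno
      have : (Finset.univ : Finset F) ⊆ {0, 1, -1} := fun x _ => by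
        rcases eq_or_ne x 0 with hx | hx
        · simp [hx]
        · rcases sq_eq_one_iff.mp (hno x hx) with h | h <;> simp [h]
      have := (Finset.card_le_card this).trans Finset.card_le_three
      rw [Finset.card_univ] at this
      omega
    rw [hK, commutator_def, Subgroup.map_commutator, Subgroup.map_top_of_surjective φ hφ, ← commutator_def,
      Matrix.SL2.commutator_eq_top ha ha2]
  have hdec : ∀ g : G, ∃ k ∈ K, ∃ a ∈ A, g = k * a := fun g => by
    obtain ⟨k, hk, e⟩ := Subgroup.mem_map.mp (hKsurj ▸ Subgroup.mem_top (φ g) : φ g ∈ K.map φ)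
    refine ⟨k, hk, k⁻¹ * g, ?_, (mul_inv_cancel_left k g).symm⟩
    rw [← hker, MonoidHom.mem_ker, map_mul, map_inv, e, inv_mul_cancel]
  have hAc : ∀ a ∈ A, ∀ g : G, g * a = a * g := fun a ha g => Subgroup.mem_center_iff.mp (S.le_center ha) g
  set σ := φ.comp K.subtype with hσdef
  have hσker : ∀ x : K, x ∈ σ.ker ↔ (x : G) ∈ A := fun x => by
    rw [MonoidHom.mem_ker, ← hker, MonoidHom.mem_ker]; rfl
  have hperf : K ≤ (commutator K).map K.subtype := by
    refine le_trans (le_of_eq (hK.trans (commutator_def G))) (Subgroup.commutator_le.mpr ?_)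
    intro x _ y _
    obtain ⟨k, hk, a, ha, rfl⟩ := hdec x
    obtain ⟨l, hl, b, hb, rfl⟩ := hdec y
    have e : ⁅k * a, l * b⁆ = ⁅k, l⁆ := by
      simp only [commutatorElement_def, mul_inv_rev]
      calc k * a * (l * b) * (a⁻¹ * k⁻¹) * (b⁻¹ * l⁻¹)
          = k * (a * (l * b) * a⁻¹) * k⁻¹ * (b⁻¹ * l⁻¹) := by group
        _ = k * l * (b * k⁻¹ * b⁻¹) * l⁻¹ := by
          rw [← hAc a ha (l * b), mul_inv_cancel_right]; group
        _ = k * l * k⁻¹ * l⁻¹ := by rw [← hAc b hb k⁻¹, mul_inv_cancel_right]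
    rw [e]
    exact ⟨⁅⟨k, hk⟩, ⟨l, hl⟩⁆, Subgroup.commutator_mem_commutator (Subgroup.mem_top _) (Subgroup.mem_top _),
      map_commutatorElement K.subtype _ _⟩
  have hstem : Cfsg.IsStemExtension σ := by
    refine ⟨fun y => ?_, fun x hx => Subgroup.mem_center_iff.mpr fun y => Subtype.ext (hAc _ ((hσker x).mp hx) y),
      fun x _ => ?_⟩
    · obtain ⟨k, hk, e⟩ := Subgroup.mem_map.mp (hKsurj ▸ Subgroup.mem_top y : y ∈ K.map φ)
      exact ⟨⟨k, hk⟩, e⟩
    · obtain ⟨c, hc, e⟩ := Subgroup.mem_map.mp (hperf x.2)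
      rwa [← Subtype.ext (a1 := c) (a2 := x) e]
  have hkerbot : σ.ker = ⊥ := by
    by_contra hne
    obtain ⟨r, hr, hrd⟩ := Nat.exists_prime_and_dvd
      (Finite.one_lt_card_iff_nontrivial.mpr ((Subgroup.nontrivial_iff_ne_bot _).mpr hne)).ne'
    haveI : Fact r.Prime := ⟨hr⟩
    haveI : Fact (Nat.Prime 2) := ⟨Nat.prime_two⟩
    have hdvdA : Nat.card σ.ker ∣ Nat.card A :=
      Subgroup.card_dvd_of_injective
        (MonoidHom.mk' (fun x : σ.ker => (⟨((x : K) : G), (hσker x).mp x.2⟩ : A)) fun x y => rfl)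
        fun x y e => Subtype.ext (Subtype.ext (congrArg (fun q : A => (q : G)) e :))
    have hrodd : Odd r := S.odd.of_dvd_nat (hrd.trans hdvdA)
    have hr2 : r ≠ 2 := fun e => by rw [e] at hrodd; exact absurd hrodd (by decide)
    obtain ⟨R⟩ : Nonempty (Sylow r (Matrix.SpecialLinearGroup (Fin 2) F)) := inferInstance
    haveI := CfsgLib.SL2.isCyclic_sylow_odd (p := 2) hr2 hr2 R
    have hidx : ¬ r ∣ (R : Subgroup (Matrix.SpecialLinearGroup (Fin 2) F)).index := R.not_dvd_index
    exact CfsgLib.Schur.not_dvd_card_ker_of_isCyclic hstem (R : Subgroup (Matrix.SpecialLinearGroup (Fin 2) F)) hidx hrd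
  let e1 : K ≃* Matrix.SpecialLinearGroup (Fin 2) F :=
    MulEquiv.ofBijective σ ⟨(MonoidHom.ker_eq_bot_iff σ).mp hkerbot, hstem.1⟩
  let m : K × A →* G := MonoidHom.mk' (fun p => (p.1 : G) * (p.2 : G)) fun p q => by
    show ((p.1 : G) * q.1) * ((p.2 : G) * q.2) = _
    rw [mul_assoc (p.1 : G), ← mul_assoc (q.1 : G), hAc _ p.2.2 q.1]
    group
  have hm : Function.Bijective m := by
    refine ⟨(injective_iff_map_eq_one m).mpr fun p hp => ?_, fun g => ?_⟩
    · have hp1 : (p.1 : G) = ((p.2 : G))⁻¹ := eq_inv_of_mul_eq_one_left hp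
      have : p.1 ∈ σ.ker := (hσker _).mpr (hp1 ▸ A.inv_mem p.2.2)
      rw [hkerbot, Subgroup.mem_bot] at this
      refine Prod.ext this (Subtype.ext ?_)
      rw [this, Subgroup.coe_one, eq_comm, inv_eq_one] at hp1
      exact hp1
    · obtain ⟨k, hk, a, ha, rfl⟩ := hdec g
      exact ⟨(⟨k, hk⟩, ⟨a, ha⟩), rfl⟩
  letI : CommGroup A := { (inferInstance : Group A) with
    mul_comm := fun a b => Subtype.ext (hAc b b.2 a) }
  refine ⟨F, iF, iF', Shrink.{0} A, inferInstance, inferInstance, hc, ?_, ⟨?_⟩⟩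
  · rw [← Nat.card_congr (equivShrink.{0} A)]
    exact S.odd
  · exact (MulEquiv.ofBijective m hm).symm.trans (e1.prodCongr Shrink.mulEquiv.symm)

/-- Finite groups in which the centralizer of every involution is abelian. Let G be a finite group of even order in which the centralizer of every element of order 2 is abelian. Then the Sylow 2-subgroups of G are cyclic, or a Sylow 2-subgroup of G is normal, or G is isomorphic to the direct product of SL₂(F) for a finite field F of characteristic two and an abelian group of odd order. -/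
theorem result {G : Type*} [Group G] [Finite G] (heven : Even (Nat.card G)) (h : ∀ t : G, orderOf t = 2 → IsMulCommutative ↥(Subgroup.centralizer ({t} : Set G))) :
    (∀ P : Sylow 2 G, IsCyclic ↥P) ∨ (∀ P : Sylow 2 G, (P : Subgroup G).Normal) ∨
    (∃ (F : Type) (_ : Field F) (_ : Fintype F) (A : Type) (_ : CommGroup A) (_ : Finite A), CharP F 2 ∧ Odd (Nat.card A) ∧ Nonempty (G ≃* Matrix.SpecialLinearGroup (Fin 2) F × A)) := by
  classical
  obtain ⟨T⟩ : Nonempty (Sylow 2 G) := inferInstance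
  by_cases hcyc : IsCyclic (T : Subgroup G)
  · exact Or.inl fun P => (Sylow.equiv T P).isCyclic.mp hcyc
  by_cases hnor : (T : Subgroup G).Normal
  · haveI := Sylow.unique_of_normal T hnor
    exact Or.inr (Or.inl fun P => Subsingleton.elim T P ▸ hnor)
  exact Or.inr (Or.inr (product_of_hyp ⟨hcyc, hnor, h⟩))

end Cfsg.Agent.S2202
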