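import Cfsg.Statements.S0223
import Cfsg.Agent.Involution.Dihedral

set_option autoImplicit false
open Cfsg

namespace Cfsg.Agent.S0223

/-- Let H be a proper subgroup of even order of the finite group G. Then H is strongly embedded if and only if (i) C_G(t) ≤ H for every involution t of H and (ii) H controls fusion of its involutions: involutions of H conjugate in G are conjugate in H. -/
theorem result {G : Type*} [Group G] [Finite G] (H : Subgroup G) (hH : H ≠ ⊤) (heven : Even (Nat.card H)) : Cfsg.IsStronglyEmbedded H ↔ ((∀ t ∈ H, orderOf t = 2 → Subgroup.centralizer ({t} : Set G) ≤ H) ∧ (∀ t ∈ H, ∀ s ∈ H, orderOf t = 2 → orderOf s = 2 → IsConj t s → ∃ h ∈ H, h * t * h⁻¹ = s)) := by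
  constructor
  · rintro ⟨-, -, hg⟩
    have key : ∀ t ∈ H, orderOf t = 2 → ∀ g : G, g⁻¹ * t * g ∈ H → g ∈ H := by
      intro t ht ht2 g hgt
      by_contra hgH
      have hmem : t ∈ H ⊓ H.map (MulAut.conj g).toMonoidHom :=
        ⟨ht, ⟨g⁻¹ * t * g, hgt, by simp [mul_assoc]⟩⟩
      have hd := orderOf_dvd_natCard (⟨t, hmem⟩ : ↥(H ⊓ H.map (MulAut.conj g).toMonoidHom))
      rw [Subgroup.orderOf_mk, ht2] at hd
      obtain ⟨k, hk⟩ := hg g hgH
      omega
    refine ⟨fun t ht ht2 c hc => key t ht ht2 c ?_, fun t ht s hs ht2 hs2 hts => ?_⟩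
    · rw [mul_assoc, ← Subgroup.mem_centralizer_singleton_iff.mp hc, inv_mul_cancel_left]
      exact ht
    · obtain ⟨g, rfl⟩ := isConj_iff.mp hts
      have := key t ht ht2 g⁻¹ (by simpa using hs)
      exact ⟨g, by simpa using inv_mem this, rfl⟩
  · rintro ⟨hcent, hfus⟩
    refine ⟨hH, heven, fun g hg => ?_⟩
    by_contra hodd
    rw [Nat.not_odd_iff_even, even_iff_two_dvd] at hodd
    obtain ⟨⟨t, ⟨htH, s, hsH, hst⟩⟩, ht2⟩ :=
      exists_prime_orderOf_dvd_card' (G := ↥(H ⊓ H.map (MulAut.conj g).toMonoidHom)) 2 hodd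
    rw [← Subgroup.orderOf_coe] at ht2
    change orderOf t = 2 at ht2
    change g * s * g⁻¹ = t at hst
    have hs2 : orderOf s = 2 := by
      rw [← ht2, ← hst]
      exact ((MulEquiv.orderOf_eq (MulAut.conj g) s)).symm
    obtain ⟨h, hh, hht⟩ := hfus s hsH t htH hs2 ht2 (isConj_iff.mpr ⟨g, hst⟩)
    have hc : h⁻¹ * g ∈ Subgroup.centralizer ({s} : Set G) := by
      rw [Subgroup.mem_centralizer_singleton_iff, ← mul_inv_eq_iff_eq_mul]
      calc h⁻¹ * g * s * (h⁻¹ * g)⁻¹ = h⁻¹ * (g * s * g⁻¹) * h := by group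
      _ = h⁻¹ * (h * s * h⁻¹) * h := by rw [hst, hht]
      _ = s := by group
    exact hg ((H.mul_mem_cancel_left (inv_mem hh)).mp (hcent s hsH hs2 hc))

end Cfsg.Agent.S0223
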