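import Cfsg.Statements.S3864
import Cfsg.Agent.Eq.Def_Transfer
import Cfsg.Agent.FusionTwo.DihedralCases
import Cfsg.Agent.Transfer.NormalPComplement

set_option autoImplicit false
open Cfsg

namespace Cfsg.Agent.S3864

theorem card_classes_swap (G : Type*) [Group G] :
    Nat.card {C : ConjClasses G // ∃ g : G, ConjClasses.mk g = C ∧ orderOf g = 2} =
      Nat.card {C : ConjClasses G // ∃ t : G, orderOf t = 2 ∧ ConjClasses.mk t = C} :=
  Nat.card_congr (Equiv.subtypeEquivRight fun C =>
    ⟨fun ⟨g, h1, h2⟩ => ⟨g, h2, h1⟩, fun ⟨g, h1, h2⟩ => ⟨g, h2, h1⟩⟩)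

open CfsgLib.FusionTwo in
theorem exists_normal_index_two {G : Type*} [Group G] [Finite G]
    (hne : Cfsg.pResidual 2 G ≠ ⊤) : ∃ N : Subgroup G, N.Normal ∧ N.index = 2 := by
  haveI := pResidual_normal (G := G) 2
  obtain ⟨k, hk⟩ := index_pResidual_two_pow (G := G)
  have hk0 : 0 < k := by
    rcases Nat.eq_zero_or_pos k with rfl | h
    · rw [pow_zero, Subgroup.index_eq_one] at hk
      exact absurd hk hne
    · exact h
  haveI : Fact (Nat.Prime 2) := ⟨Nat.prime_two⟩
  have hcard : Nat.card (G ⧸ Cfsg.pResidual 2 G) = 2 ^ k := by rw [← Subgroup.index_eq_card, hk]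
  obtain ⟨K, hK⟩ := Sylow.exists_subgroup_card_pow_prime 2 (G := G ⧸ Cfsg.pResidual 2 G) (n := k - 1)
    (by rw [hcard]; exact Nat.pow_dvd_pow 2 (Nat.sub_le k 1))
  refine ⟨K.comap (QuotientGroup.mk' _), Subgroup.normal_of_index_eq_two ?_, ?_⟩ <;>
  · rw [Subgroup.index_comap_of_surjective _ (QuotientGroup.mk'_surjective _)]
    have h1 := K.card_mul_index
    rw [hK, hcard] at h1
    exact Nat.eq_of_mul_eq_mul_left (pow_pos (by norm_num : 0 < 2) (k - 1))
      (h1.trans (by rw [← pow_succ, Nat.sub_add_cancel hk0]))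

open CfsgLib.FusionTwo in
/-- The middle case: one class of reflections is fused to the central involution. -/
theorem middle_case {G : Type*} [Group G] [Finite G] {S : Sylow 2 G} {n : ℕ} {x y : G}
    (h : IsDihGen (S : Subgroup G) n x y) (hn : 2 ≤ n)
    (hy : ¬ IsConj (x ^ ((2 : ℤ) ^ (n - 1))) y) (hxy : IsConj (x ^ ((2 : ℤ) ^ (n - 1))) (x * y)) :
    Nat.card {C : ConjClasses G // ∃ g : G, ConjClasses.mk g = C ∧ orderOf g = 2} = 2 ∧
      (∃ N : Subgroup G, N.Normal ∧ N.index = 2) ∧ ∀ N : Subgroup G, N.Normal → N.index ≠ 4 := by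
  refine ⟨?_, exists_normal_index_two (fun e => DihFusion.refl_not_mem_residual h hy (e ▸ Subgroup.mem_top y)), ?_⟩
  · rw [card_classes_swap]
    refine card_classes_two 2 h.orderOf_z h.oy hy fun t ht => ?_
    obtain ⟨s, hs, hts⟩ := exists_isConj_mem_sylow S ⟨1, by rw [ht, pow_one]⟩
    have hso : orderOf s = 2 := by
      obtain ⟨g, rfl⟩ := isConj_iff.1 hts
      rw [orderOf_conj, ht]
    rcases h.mem_involution hs hso with rfl | ⟨i, rfl⟩
    · exact Or.inl hts
    · rcases Int.even_or_odd' i with ⟨k, rfl | rfl⟩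
      · refine Or.inr (hts.trans ?_)
        have h1 := h.isConj_refl (i := 2 * k) (i' := 0) ⟨-k, by ring⟩
        rwa [zpow_zero, one_mul] at h1
      · refine Or.inl (hts.trans ?_)
        have h1 := h.isConj_refl (i := 2 * k + 1) (i' := 1) ⟨-k, by ring⟩
        rw [zpow_one] at h1
        exact h1.trans hxy.symm
  · intro N hN h4
    haveI := hN
    set π := QuotientGroup.mk' N with hπ
    have hcard : Nat.card (G ⧸ N) = 4 := by rw [← Subgroup.index_eq_card, h4]
    haveI : Fact (Nat.Prime 2) := ⟨Nat.prime_two⟩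
    have hcomm : ∀ a b : G ⧸ N, a * b = b * a :=
      IsPGroup.commutative_of_card_eq_prime_sq (p := 2) (by rw [hcard]; norm_num)
    have hx2 : π x * π x = 1 := by
      have h1 : π (y * x * y⁻¹) = π x := by
        rw [map_mul, map_mul, map_inv, hcomm (π y), mul_inv_cancel_right]
      rw [h.rel, map_inv] at h1
      exact mul_eq_one_iff_eq_inv.mpr h1.symm
    have hz : π (x ^ ((2 : ℤ) ^ (n - 1))) = 1 := by
      obtain ⟨d, hd⟩ : (2 : ℤ) ∣ 2 ^ (n - 1) := dvd_pow_self 2 (by omega)
      rw [hd, map_zpow, zpow_mul, zpow_two, hx2, one_zpow]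
    have hxy1 : π x * π y = 1 := by
      obtain ⟨c, hc⟩ := isConj_iff.1 hxy
      rw [← map_mul, ← hc, map_mul, map_mul, hz, map_inv, mul_one, mul_inv_cancel]
    have hy2 : π y * π y = 1 := by rw [← map_mul, h.yy, map_one]
    have hZ : (Subgroup.zpowers (π y)).comap π = ⊤ := by
      haveI := pResidual_normal (G := G) 2
      rw [eq_top_iff, ← pResidual_sup_sylow S]
      refine sup_le (fun a ha => ?_) ?_
      · rw [Subgroup.mem_comap]
        have hle : Cfsg.pResidual 2 G ≤ N := by
          refine (Subgroup.closure_le _).2 fun b hb => ?_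
          show b ∈ N
          rw [← QuotientGroup.eq_one_iff, ← orderOf_eq_one_iff]
          refine Nat.eq_one_of_dvd_coprimes ((hb : Nat.Coprime (orderOf b) 2).pow_right 2)
            (orderOf_map_dvd π b) ((orderOf_dvd_natCard _).trans (dvd_of_eq ?_))
          exact hcard
        rw [show π a = 1 from (QuotientGroup.eq_one_iff a).mpr (hle ha)]
        exact one_mem _
      · intro a ha
        rw [Subgroup.mem_comap]
        have hxZ : π x ∈ Subgroup.zpowers (π y) := by
          rw [eq_inv_of_mul_eq_one_left hxy1]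
          exact inv_mem (Subgroup.mem_zpowers _)
        obtain ⟨i, rfl | rfl⟩ := h.mem_cases ha
        · rw [map_zpow]; exact zpow_mem hxZ i
        · rw [map_mul, map_zpow]; exact mul_mem (zpow_mem hxZ i) (Subgroup.mem_zpowers _)
    have htop : Subgroup.zpowers (π y) = ⊤ := by
      rw [eq_top_iff]
      intro b _
      obtain ⟨a, rfl⟩ := QuotientGroup.mk'_surjective N b
      exact hZ.ge (Subgroup.mem_top a)
    have h2 : Nat.card (Subgroup.zpowers (π y)) ∣ 2 := by
      rw [Nat.card_zpowers]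
      exact orderOf_dvd_of_pow_eq_one (by rw [pow_two, hy2])
    rw [htop, Subgroup.card_top, hcard] at h2
    omega


/-- Let G be a finite group whose Sylow 2-subgroups are dihedral of order 2 ^ n with n ≥ 3, and count the conjugacy classes of involutions of G. Then exactly one of the following holds: there is one class of involutions and no normal subgroup of index 2; there are two classes of involutions, a normal subgroup of index 2 and none of index 4; there are three classes of involutions and G has a normal 2-complement. -/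
theorem result {G : Type*} [Group G] [Finite G] (P : Sylow 2 G) (n : ℕ) (hn : 3 ≤ n) (hdih : Nonempty (↥(P : Subgroup G) ≃* DihedralGroup (2 ^ (n - 1)))) : (Nat.card {C : ConjClasses G // ∃ g : G, ConjClasses.mk g = C ∧ orderOf g = 2} = 1 ∧ ∀ N : Subgroup G, N.Normal → N.index ≠ 2) ∨ (Nat.card {C : ConjClasses G // ∃ g : G, ConjClasses.mk g = C ∧ orderOf g = 2} = 2 ∧ (∃ N : Subgroup G, N.Normal ∧ N.index = 2) ∧ ∀ N : Subgroup G, N.Normal → N.index ≠ 4) ∨ (Nat.card {C : ConjClasses G // ∃ g : G, ConjClasses.mk g = C ∧ orderOf g = 2} = 3 ∧ Cfsg.HasNormalPComplement 2 G) := by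
  obtain ⟨e⟩ := hdih
  have hm : 4 ≤ 2 ^ (n - 1) := by
    calc 4 = 2 ^ 2 := by norm_num
      _ ≤ 2 ^ (n - 1) := Nat.pow_le_pow_right (by norm_num) (by omega)
  obtain ⟨k, x, y, hk, h⟩ := CfsgLib.FusionTwo.exists_isDihGen P.2 (m := 2 ^ (n - 1)) (by omega) e
  have hk2 : 2 ≤ k := by
    have := (Nat.pow_right_injective (le_refl 2)) hk
    omega
  set z := x ^ ((2 : ℤ) ^ (k - 1)) with hz
  by_cases hy : IsConj z y <;> by_cases hxy : IsConj z (x * y)
  · refine Or.inl ?_
    have hall : ∀ i : ℤ, IsConj z (x ^ i * y) := by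
      intro i
      rcases Int.even_or_odd' i with ⟨d, rfl | rfl⟩
      · have h1 := h.isConj_refl (i := 0) (i' := 2 * d) ⟨d, by ring⟩
        rw [zpow_zero, one_mul] at h1
        exact hy.trans h1
      · have h1 := h.isConj_refl (i := 1) (i' := 2 * d + 1) ⟨d, by ring⟩
        rw [zpow_one] at h1
        exact hxy.trans h1
    exact ⟨(card_classes_swap G).trans (CfsgLib.FusionTwo.card_classes_one 2 h.orderOf_z
      fun t ht => CfsgLib.FusionTwo.DihFusion.isConj_z h hall ht),
      fun N _ => CfsgLib.FusionTwo.DihFusion.no_index_two h hall N⟩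
  · refine Or.inr (Or.inl (middle_case (h.change_y 1) hk2 ?_ ?_))
    · rwa [zpow_one]
    · refine hy.trans ?_
      have h1 := h.isConj_refl (i := 0) (i' := 2) ⟨1, by ring⟩
      rw [zpow_zero, one_mul] at h1
      rwa [← mul_assoc, zpow_one, ← sq, ← zpow_natCast x 2]
  · exact Or.inr (Or.inl (middle_case h hk2 hy hxy))
  · refine Or.inr (Or.inr ?_)
    have hall : ∀ i : ℤ, ¬ IsConj z (x ^ i * y) := by
      intro i hc
      rcases Int.even_or_odd' i with ⟨d, rfl | rfl⟩
      · have h1 := h.isConj_refl (i := 2 * d) (i' := 0) ⟨-d, by ring⟩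
        rw [zpow_zero, one_mul] at h1
        exact hy (hc.trans h1)
      · have h1 := h.isConj_refl (i := 2 * d + 1) (i' := 1) ⟨-d, by ring⟩
        rw [zpow_one] at h1
        exact hxy (hc.trans h1)
    have hodd := CfsgLib.FusionTwo.DihFusion.odd_residual h hall
    haveI : Fact (Nat.Prime 2) := ⟨Nat.prime_two⟩
    refine ⟨?_, CfsgLib.Transfer.hasNormalPComplement_iff_coprime_pResidual.mpr
      (Nat.coprime_two_right.mpr hodd)⟩
    have hne : ¬ IsConj y (x * y) := by
      have h1 := CfsgLib.FusionTwo.DihFusion.not_isConj_parity h hodd (i := 0) (j := 1) (by norm_num)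
      rwa [zpow_zero, one_mul, zpow_one] at h1
    rw [card_classes_swap]
    refine CfsgLib.FusionTwo.card_classes_three 2 h.orderOf_z h.oy ?_ hy hxy hne fun t ht => ?_
    · have h1 := h.orderOf_refl 1
      rwa [zpow_one] at h1
    · obtain ⟨s, hs, hts⟩ := CfsgLib.FusionTwo.exists_isConj_mem_sylow P ⟨1, by rw [ht, pow_one]⟩
      have hso : orderOf s = 2 := by
        obtain ⟨g, rfl⟩ := isConj_iff.1 hts
        rw [CfsgLib.FusionTwo.orderOf_conj, ht]
      rcases h.mem_involution hs hso with rfl | ⟨i, rfl⟩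
      · exact Or.inl hts
      · rcases Int.even_or_odd' i with ⟨d, rfl | rfl⟩
        · refine Or.inr (Or.inl (hts.trans ?_))
          have h1 := h.isConj_refl (i := 2 * d) (i' := 0) ⟨-d, by ring⟩
          rwa [zpow_zero, one_mul] at h1
        · refine Or.inr (Or.inr (hts.trans ?_))
          have h1 := h.isConj_refl (i := 2 * d + 1) (i' := 1) ⟨-d, by ring⟩
          rwa [zpow_one] at h1

end Cfsg.Agent.S3864
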