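import Cfsg.Statements.S0976
import Cfsg.Agent.Blocks.PrimeGram.SieveTools
-- import your own Cfsg.Agent.* helpers here

set_option autoImplicit false
open Cfsg

namespace Cfsg.Agent.S0976

open CfsgLib.Chars CfsgLib.PrimeGram

/-- No finite simple group has order 4032 = 2^6 * 3^2 * 7. -/
theorem result {G : Type*} [Group G] [Finite G] [IsSimpleGroup G] : Nat.card G ≠ 4032 := by
  intro hcard
  haveI : Fact (Nat.Prime 7) := ⟨by norm_num⟩
  haveI : Fact (Nat.Prime 3) := ⟨by norm_num⟩
  haveI : Fact (Nat.Prime 2) := ⟨Nat.prime_two⟩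
  haveI := Fintype.ofFinite G
  have hG : ¬ IsMulCommutative G :=
    CfsgLib.SmallSimple.not_comm_of_card_not_prime (by rw [hcard]; norm_num)
  obtain ⟨hn, hP⟩ := CfsgLib.PrimeGram.card_sylow_mem_of_constraints hG 7 576
    (by rw [hcard]) (by norm_num)
  rw [show (Nat.divisors 576).filter (fun n => n % 7 = 1 ∧ n ≠ 1) = {8, 36, 64, 288} from by
    decide +kernel] at hn
  simp only [Finset.mem_insert, Finset.mem_singleton] at hn
  obtain ⟨P⟩ := (inferInstance : Nonempty (Sylow 7 G))
  obtain ⟨hPc, hN⟩ := hP P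
  have h8 : Nat.card (Sylow 7 G) ≠ 8 := by
    intro h
    have hd := CfsgLib.SmallSimple.two_mul_card_normalizer_dvd hG 7 (by norm_num) P hPc
      (Subgroup.normalizer ((P : Subgroup G) : Set G))
      (Or.inr ((Sylow.card_eq_index_normalizer P).symm.trans h))
    rw [h] at hN
    rw [show Nat.card (Subgroup.normalizer ((P : Subgroup G) : Set G)) = 504 by omega] at hd
    norm_num at hd
  obtain ⟨k, hk, hk'⟩ : ∃ k, Nat.card (Subgroup.normalizer ((P : Subgroup G) : Set G)) = 7 * k ∧
      (k = 16 ∨ k = 9 ∨ k = 2) := by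
    rcases hn with h | h | h | h
    · exact absurd h h8
    all_goals rw [h] at hN
    exacts [⟨16, by omega, by omega⟩, ⟨9, by omega, by omega⟩, ⟨2, by omega, by omega⟩]
  obtain ⟨e, c, he, hc, hec, he1, hed⟩ := exists_index_split hG P hPc hk
  have he23 : (e = 2 ∧ (c = 8 ∨ c = 1)) ∨ (e = 3 ∧ c = 3) := by
    have hle : e ≤ 6 := Nat.le_of_dvd (by norm_num) hed
    rcases hk' with rfl | rfl | rfl <;> interval_cases e <;> omega
  obtain ⟨he2, x, X, Y, εX, ε, hz, D⟩ := exists_blockData hG P hPc e (by omega) he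
  have two_le : ∀ χ : IrrCharacter G, χ ≠ oneChar G → 2 ≤ charDegree (χ : G → ℂ) := fun χ hχ => by
    have h1 := charDegree_pos χ
    by_contra h
    exact hχ (linear_eq_one hG χ (by omega))
  have hone : charDegree (oneChar G : G → ℂ) = 1 := charDegree_linChar 1
  obtain ⟨θ, hθ⟩ : Y.Nonempty := Finset.card_pos.mp (by
    rw [D.cardY]; rcases he23 with ⟨h, -⟩ | ⟨h, -⟩ <;> rw [h] <;> norm_num)
  have hθ1 : θ ≠ oneChar G := fun h => Finset.disjoint_left.mp D.disj D.oneX (h ▸ hθ)
  have hdeq := D.degree_eq hθ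
  have hBd : charDegree (θ : G → ℂ) ∈ Nat.divisors 4032 :=
    Nat.mem_divisors.mpr ⟨hcard ▸ charDegree_dvd_card θ, by norm_num⟩
  have hBle : charDegree (θ : G → ℂ) ∈ (Finset.range 64).filter (· ∣ 4032) := by
    refine Finset.mem_filter.mpr ⟨Finset.mem_range.mpr ?_, Nat.dvd_of_mem_divisors hBd⟩
    have h := charDegree_sq_le θ
    rw [hcard] at h
    nlinarith
  have hcY := D.congrY θ hθ
  have hmemA : ∀ χ : IrrCharacter G,
      charDegree (χ : G → ℂ) ∈ (Finset.range 64).filter (· ∣ 4032) := fun χ => by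
    refine Finset.mem_filter.mpr ⟨Finset.mem_range.mpr ?_, hcard ▸ charDegree_dvd_card χ⟩
    have h := charDegree_sq_le χ
    rw [hcard] at h
    nlinarith
  have hsum : ∀ S : Finset (IrrCharacter G),
      ∑ χ ∈ S, charDegree (χ : G → ℂ) ^ 2 ≤ 4032 := fun S =>
    hcard ▸ (sum_charDegree_sq (G := G)) ▸ Finset.sum_le_sum_of_subset (Finset.subset_univ S)
  have hY2 : ∑ χ ∈ X ∪ Y, charDegree (χ : G → ℂ) ^ 2 =
      ∑ χ ∈ X, charDegree (χ : G → ℂ) ^ 2 + (7 - 1) / e * charDegree (θ : G → ℂ) ^ 2 := by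
    rw [Finset.sum_union D.disj, Finset.sum_congr (s₁ := Y) rfl fun θ' hθ' => show
        charDegree (θ' : G → ℂ) ^ 2 = charDegree (θ : G → ℂ) ^ 2 by
      have h1 := D.degree_eq hθ'
      have h2 := D.degree_eq hθ
      rcases D.sign with hs | hs <;> rw [hs] at h1 h2 <;> congr 1 <;> omega,
      Finset.sum_const, smul_eq_mul, D.cardY]
  have hle := hY2 ▸ hsum (X ∪ Y)
  have heraseX : ∀ χ ∈ X.erase (oneChar G), χ ∈ X ∧ χ ≠ oneChar G := fun χ h =>
    ⟨Finset.mem_of_mem_erase h, Finset.ne_of_mem_erase h⟩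
  rcases he23 with ⟨rfl, hc'⟩ | ⟨rfl, rfl⟩
  · -- one nonprincipal character of degree 8
    obtain ⟨α, hα⟩ := Finset.card_eq_one.mp (show (X.erase (oneChar G)).card = 1 by
      rw [Finset.card_erase_of_mem D.oneX, D.cardX])
    obtain ⟨hαX, hα1⟩ := heraseX α (hα ▸ Finset.mem_singleton_self α)
    rw [← Finset.add_sum_erase _ _ D.oneX, hα, Finset.sum_singleton, hone] at hdeq hle
    rw [D.signOne] at hdeq
    have key : ∀ A ∈ (Finset.range 64).filter (· ∣ 4032), ∀ B ∈ (Finset.range 64).filter (· ∣ 4032),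
        ∀ a ∈ ([1, -1] : List ℤ), ∀ s ∈ ([1, -1] : List ℤ), 2 ≤ A → 2 ≤ B →
        (A : ℤ) % 7 = a % 7 → (B : ℤ) % 7 = (s * 2) % 7 → s * (B : ℤ) = 1 * 1 + a * A →
        1 ^ 2 + A ^ 2 + (7 - 1) / 2 * B ^ 2 ≤ 4032 → A = 8 ∧ a = 1 ∧ B = 9 ∧ s = 1 := by
      decide +kernel
    obtain ⟨hA, ha, hB, hs⟩ := key _ (hmemA α) _ hBle (εX α) (by simpa using D.signX α hαX) ε
      (by simpa using D.sign) (two_le α hα1) (two_le θ hθ1) (D.congrX α hαX) hcY
      (by exact_mod_cast hdeq) hle
    rcases hc' with rfl | rfl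
    · obtain ⟨u, hu, hu1, hux, -⟩ := exists_commuting_element (p := 7) hz 2 (by norm_num)
        (by rw [hc]; norm_num)
      obtain ⟨b, hb0, hbd, hbA, -⟩ := D.two_mul_lt_degree hG (by norm_num) hαX hα1 hu1
        (by rw [← pow_two, ← hu, pow_orderOf_eq_one]) hux
      have := Nat.le_of_dvd hb0 hbd
      omega
    · obtain ⟨S, hCx⟩ := setup_bot D.order hz (by rw [hc])
      obtain ⟨z, hz1, hz2, hzx⟩ := exists_inverting D.order (by norm_num) hz
        (by rw [hk]; rcases hk' with h | h | h <;> omega) (by rw [hc]; norm_num)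
      have hone' : ¬ (7 : ℕ) ∣ orderOf (1 : G) := by simp
      have hvα : ∀ i : ZMod 7, i ≠ 0 → (α : G → ℂ) (pw 7 x i) = 1 := fun i hi => by
        have h := D.valueX α hαX i hi 1 (Commute.one_left x) hone'
        rw [mul_one, ha] at h
        simpa using h
      obtain ⟨a, b, h1, h2, hb⟩ :=
        exists_even_neg (linear_trivial_of_simple hG) hz2 (isCharacter_coe α)
      have hab : a + b = 8 := by
        have := charDegree_eq_of_map_one (χ := (α : G → ℂ)) (n := a + b)
          (by rw [h1]; push_cast; ring)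
        omega
      obtain ⟨m₁, m₂, hm, hcm⟩ := mult_inverting D.order (by norm_num) hz2 hzx (isCharacter_coe α)
        (isClassFunction_coe α) 1 (fun i hi => by simpa using hvα i hi) 8
        (by rw [← coe_charDegree, hA]) ((a : ℤ) - b) (by rw [h2]; push_cast; ring)
      have hαz : (α : G → ℂ) z = 0 := by
        obtain ⟨j, hj⟩ := hb
        push_cast at hm
        have : (a : ℤ) - b = 0 := by omega
        rw [h2]; exact_mod_cast this
      have hoz : ¬ (7 : ℕ) ∣ orderOf z := by
        rw [orderOf_eq_prime (by rw [pow_two, hz2]) hz1]; norm_num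
      have hθz : ∀ θ' ∈ Y, (θ' : G → ℂ) z = 1 ∧ (θ' : G → ℂ) 1 = 9 := fun θ' hθ' => by
        have h := D.rel θ' hθ' z hoz
        have h' := D.rel θ' hθ' 1 hone'
        rw [← Finset.add_sum_erase _ _ D.oneX, hα, Finset.sum_singleton, D.signOne, hs] at h h'
        rw [oneChar_apply, hαz] at h
        rw [oneChar_apply, ha, ← coe_charDegree α, hA] at h'
        push_cast at h h'
        constructor
        · linear_combination h
        · linear_combination h'
      have hzero : ∀ χ : IrrCharacter G, χ ∉ X ∪ Y → (χ : G → ℂ) x⁻¹ = 0 := fun χ hχ => by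
        rw [Finset.mem_union, not_or] at hχ
        rw [map_inv_eq_conj (isCharacter_coe χ), D.vanish hCx χ hχ.1 hχ.2, map_zero]
      have hX : X = {oneChar G, α} := by rw [← Finset.insert_erase D.oneX, hα]
      have hne : oneChar G ≠ α := hα1.symm
      have hxi : x⁻¹ = pw 7 x (-1) := by
        refine (eq_inv_of_mul_eq_one_left ?_).symm
        conv_lhs => arg 2; rw [← pw_one (p := 7) (x := x)]
        rw [← pw_add D.order, neg_add_cancel, pw_zero]
      have hαx : (α : G → ℂ) x⁻¹ = 1 := by rw [hxi]; exact hvα _ (by simp)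
      have hα8 : (α : G → ℂ) 1 = 8 := by rw [← coe_charDegree α, hA]; norm_num
      have hx1 : x⁻¹ ≠ 1 := fun h => by
        have := D.order; rw [inv_eq_one.mp h, orderOf_one] at this; norm_num at this
      have horth := sum_irr_map_one_mul (x⁻¹)
      rw [if_neg hx1, ← Finset.sum_subset (Finset.subset_univ (X ∪ Y))
        (fun χ _ hχ => by rw [hzero χ hχ, mul_zero]), Finset.sum_union D.disj, hX,
        Finset.sum_pair hne, Finset.sum_congr (s₁ := Y) rfl fun θ' hθ' => by rw [(hθz θ' hθ').2],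
        ← Finset.mul_sum, oneChar_apply, oneChar_apply, hαx, hα8] at horth
      have hpairs := sum_pairs z x
      rw [S.card_pairs (by norm_num) hz2 hzx, ← Finset.sum_subset (Finset.subset_univ (X ∪ Y))
        (fun χ _ hχ => by rw [hzero χ hχ]; ring), Finset.sum_union D.disj, hX,
        Finset.sum_pair hne,
        Finset.sum_congr (s₁ := Y) rfl fun θ' hθ' => by rw [(hθz θ' hθ').1, (hθz θ' hθ').2],
        ← Finset.sum_mul, ← Finset.sum_mul, oneChar_apply, oneChar_apply, oneChar_apply, hαz,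
        hcard] at hpairs
      have hC : 7 * Nat.card (Subgroup.centralizer ({z} : Set G)) ^ 2 = 3584 := by
        apply Nat.cast_injective (R := ℂ)
        push_cast at hpairs ⊢
        linear_combination hpairs + (448 : ℂ) / 9 * horth
      have h22 : 22 < Nat.card (Subgroup.centralizer ({z} : Set G)) := by nlinarith
      have h23 : Nat.card (Subgroup.centralizer ({z} : Set G)) < 23 := by nlinarith
      omega
  · -- a nonprincipal character of degree 6
    obtain ⟨α, β, hαβ, hα⟩ := Finset.card_eq_two.mp (show (X.erase (oneChar G)).card = 2 by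
      rw [Finset.card_erase_of_mem D.oneX, D.cardX])
    obtain ⟨hαX, hα1⟩ := heraseX α (by rw [hα]; exact Finset.mem_insert_self _ _)
    obtain ⟨hβX, hβ1⟩ := heraseX β (by
      rw [hα]; exact Finset.mem_insert_of_mem (Finset.mem_singleton_self _))
    rw [← Finset.add_sum_erase _ _ D.oneX, hα, Finset.sum_pair hαβ, hone] at hdeq hle
    rw [D.signOne] at hdeq
    have key : ∀ A ∈ ((Finset.range 64).filter (· ∣ 4032)).filter (fun A => 7 ≤ A ∧ (A % 7 = 1 ∨ A % 7 = 6)),
        ∀ C ∈ ((Finset.range 64).filter (· ∣ 4032)).filter (fun A => 7 ≤ A ∧ (A % 7 = 1 ∨ A % 7 = 6)),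
        ∀ B ∈ (Finset.range 64).filter (· ∣ 4032),
        ∀ a ∈ ([1, -1] : List ℤ), ∀ b ∈ ([1, -1] : List ℤ), ∀ s ∈ ([1, -1] : List ℤ),
        (A : ℤ) % 7 = a % 7 → (C : ℤ) % 7 = b % 7 → (B : ℤ) % 7 = (s * 3) % 7 →
        s * (B : ℤ) = 1 * 1 + (a * A + b * C) →
        1 ^ 2 + (A ^ 2 + C ^ 2) + (7 - 1) / 3 * B ^ 2 ≤ 4032 → False := by
      decide +kernel
    obtain ⟨u, -, hu1, hux, hu⟩ := exists_commuting_element (p := 7) hz 3 (by norm_num)
      (by rw [hc]; norm_num)
    have big : ∀ χ, χ ∈ X → χ ≠ oneChar G → charDegree (χ : G → ℂ) ∈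
        ((Finset.range 64).filter (· ∣ 4032)).filter (fun A => 7 ≤ A ∧ (A % 7 = 1 ∨ A % 7 = 6)) := by
      intro χ hχ hne
      refine Finset.mem_filter.mpr ⟨hmemA χ, ?_, ?_⟩
      · by_contra h; exact hu1 (D.eq_one_of_small hχ hne (by omega) hux hu)
      · have h := D.congrX χ hχ
        rcases D.signX χ hχ with h' | h' <;> rw [h'] at h <;> push_cast at h <;> omega
    exact key _ (big α hαX hα1) _ (big β hβX hβ1) _ hBle (εX α) (by simpa using D.signX α hαX)
      (εX β) (by simpa using D.signX β hβX) ε (by simpa using D.sign) (D.congrX α hαX)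
      (D.congrX β hβX) hcY (by exact_mod_cast hdeq) hle

end Cfsg.Agent.S0976
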