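import Cfsg.Statements.S0977
import Cfsg.Agent.Blocks.PrimeGram.FiveCases
-- import your own Cfsg.Agent.* helpers here

set_option autoImplicit false
open Cfsg

namespace Cfsg.Agent.S0977

open CfsgLib.Chars CfsgLib.PrimeGram Cfsg
open scoped ComplexConjugate Classical

theorem two_facts : (2 : ZMod 5) ≠ 0 ∧ (2 : ZMod 5) ^ 4 = 1 := by decide +kernel

theorem two_pow_ne : ∀ i ∈ List.range 4, 0 < i → (2 : ZMod 5) ^ (5 * i) ≠ 1 := by decide +kernel

variable {G : Type*} [Group G] [Finite G] [IsSimpleGroup G]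

set_option maxHeartbeats 1000000 in
set_option synthInstance.maxSize 4000 in
/-- A self-centralising Sylow 5-subgroup with normaliser of order twenty. -/
theorem case_twenty (hG : ¬ IsMulCommutative G) (hcard : Nat.card G = 4320) [Fact (Nat.Prime 5)]
    (P : Sylow 5 G) (hP : Nat.card (P : Subgroup G) = 5)
    (hN : Nat.card (Subgroup.normalizer ((P : Subgroup G) : Set G)) = 20)
    (he : (Subgroup.centralizer ((P : Subgroup G) : Set G)).relIndex
      (Subgroup.normalizer ((P : Subgroup G) : Set G)) = 5 - 1)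
    (hC : Nat.card (Subgroup.centralizer ((P : Subgroup G) : Set G)) = 5) : False := by
  haveI : Fact (Nat.Prime 2) := ⟨Nat.prime_two⟩
  haveI := Fintype.ofFinite G
  obtain ⟨x, S, v, hx, hz, hS, hone, hv1, hv, hdv, hval, hvan⟩ :=
    exists_signs P hP he hC
  obtain ⟨Sx, hCx⟩ := setup_bot hx hz hC
  obtain ⟨z, hz1, hz2, hzx⟩ := exists_inverting hx (by norm_num) hz
    (by rw [hN]; norm_num) (by rw [hC]; norm_num)
  -- no member of degree four
  obtain ⟨g4, hg41, hg4⟩ : ∃ g : G, g ^ 4 = 1 ∧ ∀ i, 0 < i → i < 4 →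
      ∃ h : ZMod 5, h ≠ 1 ∧ g ^ i * x * (g ^ i)⁻¹ = pw 5 x h := by
    obtain ⟨-, -, hfus, -⟩ := CfsgLib.Blocks.OrderP.exists_local_data hx
      (hz ▸ P.not_dvd_index) (e := 4) (by rw [hz]; exact he)
    obtain ⟨g, hg⟩ := isConj_iff.mp ((hfus 1 2 one_ne_zero two_facts.1).mpr (by rw [div_one]; exact two_facts.2))
    replace hg : g * x * g⁻¹ = pw 5 x 2 := by
      rw [show CfsgLib.Blocks.OrderP.upow x (1 : ZMod 5) = pw 5 x 1 from rfl, pw_one] at hg
      exact hg
    have hm : g ∈ nset 5 x := mem_nset.mpr ⟨2, hg⟩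
    have hiter : ∀ n : ℕ, g ^ n * x * (g ^ n)⁻¹ = pw 5 x (2 ^ n) := by
      intro n
      induction n with
      | zero => simp [pw_one]
      | succ n ih =>
        obtain ⟨hm', he'⟩ := hexp_eq (g := g) (h := 2) hx hg
        rw [pow_succ', show g * g ^ n * x * (g * g ^ n)⁻¹ = g * (g ^ n * x * (g ^ n)⁻¹) * g⁻¹ by group,
          ih, conj_pw hx hm, he', ← pow_succ']
    refine ⟨g ^ 5, ?_, fun i hi hi' => ?_⟩
    · have hgN : g ∈ Subgroup.normalizer ((P : Subgroup G) : Set G) :=
        hz ▸ (mem_nset_iff_mem_normalizer hx).mp hm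
      have h20 := Subgroup.orderOf_dvd_natCard _ hgN
      rw [hN] at h20
      rw [← pow_mul]
      exact orderOf_dvd_iff_pow_eq_one.mp h20
    · refine ⟨2 ^ (5 * i), ?_, by rw [← pow_mul]; exact hiter _⟩
      exact two_pow_ne i (List.mem_range.mpr hi') hi
  have hno4 : ∀ χ ∈ S, charDegree (χ : G → ℂ) = 4 → False := by
    intro χ hχ h4
    refine false_of_free_degree (linear_trivial_of_simple hG) (by norm_num) hx hg41 hg4
      (isCharacter_coe χ) (by rw [← coe_charDegree, h4]) ?_
    have hv4 : v χ = -1 := by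
      have := hdv χ hχ
      rw [h4] at this
      rcases hv χ hχ with e | e <;> rw [e] at this <;> first | exact e | omega
    rw [← Finset.add_sum_erase _ _ (Finset.mem_univ (0 : ZMod 5)),
      Finset.sum_congr rfl fun i hi => hval χ hχ i (Finset.ne_of_mem_erase hi), Finset.sum_const,
      Finset.card_erase_of_mem (Finset.mem_univ _), Finset.card_univ, ZMod.card, hv4, pw_zero,
      ← coe_charDegree, h4]
    norm_num
  have hvx : ∀ χ ∈ S, (χ : G → ℂ) x = (v χ : ℂ) := fun χ hχ => by
    have := hval χ hχ 1 one_ne_zero; rwa [pw_one] at this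
  have hcint : ∀ χ : IrrCharacter G, ∃ c : ℤ, (χ : G → ℂ) z = (c : ℂ) := fun χ => by
    obtain ⟨a, b, -, h2, -⟩ :=
      exists_even_neg (linear_trivial_of_simple hG) hz2 (isCharacter_coe χ)
    exact ⟨(a : ℤ) - b, by rw [h2]; push_cast; ring⟩
  choose cz hcz using hcint
  let opts : List (ℤ × ℕ × ℤ) := [(1, 6, -2), (1, 6, 2), (-1, 9, 1), (1, 16, -4), (1, 16, 0), (1, 16, 4),
    (-1, 24, -4), (-1, 24, 0), (-1, 24, 4), (1, 36, -8), (1, 36, -4), (1, 36, 0), (1, 36, 4),
    (1, 36, 8), (-1, 54, -10), (-1, 54, -6), (-1, 54, -2), (-1, 54, 2), (-1, 54, 6), (-1, 54, 10)]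
  let tr : IrrCharacter G → ℤ × ℕ × ℤ := fun χ => (v χ, charDegree (χ : G → ℂ), cz χ)
  have hopt : ∀ χ ∈ S.erase (oneChar G), tr χ ∈ opts := by
    intro χ hχ
    have hχS := Finset.mem_of_mem_erase hχ
    have hne := Finset.ne_of_mem_erase hχ
    obtain ⟨a, b, h1, h2, hb⟩ :=
      exists_even_neg (linear_trivial_of_simple hG) hz2 (isCharacter_coe χ)
    have hab : charDegree (χ : G → ℂ) = a + b :=
      charDegree_eq_of_map_one (by rw [h1]; push_cast; ring)
    obtain ⟨m₁, m₂, hm, hcm⟩ := mult_inverting hx (by norm_num) hz2 hzx (isCharacter_coe χ)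
      (isClassFunction_coe χ) (v χ) (fun i hi => hval χ hχS i hi) _ (coe_charDegree χ).symm
      (cz χ) (hcz χ)
    have hcab : cz χ = (a : ℤ) - b := by
      have h := hcz χ
      rw [h2] at h
      exact_mod_cast h.symm
    have h2le : 2 ≤ charDegree (χ : G → ℂ) := by
      have := charDegree_pos χ
      by_contra h
      exact hne (linear_eq_one hG χ (by omega))
    have hlt : charDegree (χ : G → ℂ) < 66 := by
      have h := charDegree_sq_le χ
      rw [hcard] at h
      nlinarith
    have hdm := hdv χ hχS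
    have key : ∀ d ∈ Finset.range 66, d ∣ 4320 → 2 ≤ d → d % 5 = 1 ∨ d % 5 = 4 →
        d = 4 ∨ d = 6 ∨ d = 9 ∨ d = 16 ∨ d = 24 ∨ d = 36 ∨ d = 54 := by decide +kernel
    have hd6 := key _ (Finset.mem_range.mpr hlt) (hcard ▸ charDegree_dvd_card χ) h2le (by
      rcases hv χ hχS with e | e <;> rw [e] at hdm <;> push_cast at hdm <;> omega)
    obtain ⟨j, rfl⟩ := hb
    push_cast at hm hdm
    have hno := hno4 χ hχS
    rcases hd6 with e | e | e | e | e | e | e <;> rcases hv χ hχS with e' | e' <;>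
      rw [e'] at hm hdm <;> rw [e] at hm hdm hab hno <;>
      first
      | exact (hno rfl).elim
      | (exfalso; omega)
      | (simp only [tr, opts, e, e', List.mem_cons, List.not_mem_nil, Prod.mk.injEq, true_and,
          false_and, and_true, or_false, false_or, Nat.reduceEqDiff, reduceCtorEq]
         norm_num
         omega)
  let wt : ℤ × ℕ × ℤ → ℤ × ℤ × ℤ := fun o =>
    (o.1 * o.2.1, o.1 * o.2.2, o.1 * o.2.2 ^ 2 * (864 / (o.2.1 : ℤ)))
  let good : ℤ × ℤ × ℤ → Bool := fun w =>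
    decide (w.1 = 0 ∧ w.2.1 = 0) && (List.range 200).any fun k => decide ((k : ℤ) * k = w.2.2)
  set l := (S.erase (oneChar G)).toList.map tr with hl
  have hbad := noMultiset_sound good wt opts 4 ((1, 1, 864) : ℤ × ℤ × ℤ) l (by decide +kernel)
    (by rw [hl, List.length_map, Finset.length_toList, Finset.card_erase_of_mem hone, hS])
    (fun o ho => by
      obtain ⟨χ, hχ, rfl⟩ := List.mem_map.mp ho
      exact hopt χ (Finset.mem_toList.mp hχ))
  have hsum : (l.map wt).sum = ∑ χ ∈ S.erase (oneChar G), wt (tr χ) := by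
    rw [hl, List.map_map, Finset.sum_map_toList]; rfl
  rw [hsum] at hbad
  have hc1 : cz (oneChar G) = 1 := by
    have := hcz (oneChar G); rw [oneChar_apply] at this; exact_mod_cast this.symm
  have hone' : charDegree (oneChar G : G → ℂ) = 1 := charDegree_linChar 1
  have hw1 : ((1, 1, 864) : ℤ × ℤ × ℤ) = wt (tr (oneChar G)) := by
    simp [wt, tr, hv1, hc1, hone']
  rw [hw1, Finset.add_sum_erase S (fun χ => wt (tr χ)) hone] at hbad
  -- the three relations
  have hx1 : x ≠ 1 := fun h => by rw [h, orderOf_one] at hx; norm_num at hx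
  have hA : ∑ χ ∈ S, v χ * (charDegree (χ : G → ℂ) : ℤ) = 0 := by
    have h := sum_irr_map_one_mul x
    rw [if_neg hx1, ← Finset.sum_subset (Finset.subset_univ S)
      (fun χ _ hχ => by rw [hvan χ hχ, mul_zero]),
      Finset.sum_congr rfl fun (χ : IrrCharacter G) hχ => show (χ : G → ℂ) 1 * (χ : G → ℂ) x =
        ((v χ * (charDegree (χ : G → ℂ) : ℤ) : ℤ) : ℂ) by
        rw [hvx χ hχ]; push_cast; rw [coe_charDegree]; ring] at h
    exact_mod_cast h
  have hB : ∑ χ ∈ S, v χ * cz χ = 0 := by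
    have h := sum_irr_mul_conj z x
    have hnc : ¬ IsConj z x := fun hc => by
      obtain ⟨g, hg⟩ := isConj_iff.mp hc
      have hxx : x * x = 1 := by
        rw [← hg]
        calc g * z * g⁻¹ * (g * z * g⁻¹) = g * (z * z) * g⁻¹ := by group
          _ = 1 := by rw [hz2]; group
      have : orderOf x ∣ 2 := orderOf_dvd_of_pow_eq_one (by rw [pow_two, hxx])
      rw [hx] at this; norm_num at this
    rw [if_neg hnc, ← Finset.sum_subset (Finset.subset_univ S)
      (fun χ _ hχ => by rw [hvan χ hχ, map_zero, mul_zero]),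
      Finset.sum_congr rfl fun (χ : IrrCharacter G) hχ => show (χ : G → ℂ) z * (starRingEnd ℂ) ((χ : G → ℂ) x) =
        ((v χ * cz χ : ℤ) : ℂ) by
        rw [hvx χ hχ, hcz χ, map_intCast]; push_cast; ring] at h
    exact_mod_cast h
  have hCz : ∑ χ ∈ S, v χ * cz χ ^ 2 * (864 / (charDegree (χ : G → ℂ) : ℤ)) =
      (Nat.card (Subgroup.centralizer ({z} : Set G)) : ℤ) ^ 2 := by
    have h := sum_pairs z x
    rw [Sx.card_pairs (by norm_num) hz2 hzx, ← Finset.sum_subset (Finset.subset_univ S)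
      (fun χ _ hχ => by
        rw [map_inv_eq_conj (isCharacter_coe χ), hvan χ hχ, map_zero]; ring)] at h
    have hterm : ∀ χ ∈ S, (χ : G → ℂ) x⁻¹ * ((χ : G → ℂ) z * (χ : G → ℂ) z) *
        ((Nat.card G : ℂ) / (χ : G → ℂ) 1) =
        ((5 * (v χ * cz χ ^ 2 * (864 / (charDegree (χ : G → ℂ) : ℤ))) : ℤ) : ℂ) := by
      intro χ hχ
      rw [map_inv_eq_conj (isCharacter_coe χ), hvx χ hχ, hcz χ, map_intCast, hcard,
        ← coe_charDegree χ]
      have hd0 : (charDegree (χ : G → ℂ) : ℤ) ∣ 864 := by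
        by_cases h1 : χ = oneChar G
        · rw [h1, hone']; exact one_dvd _
        · have := hopt χ (Finset.mem_erase.mpr ⟨h1, hχ⟩)
          simp only [tr, opts, List.mem_cons, List.not_mem_nil, Prod.mk.injEq, or_false] at this
          rcases this with h | h | h | h | h | h | h | h | h | h | h | h | h | h | h | h | h | h | h | h <;> rw [h.2.1] <;> norm_num
      obtain ⟨q, hq⟩ := hd0
      have hdne : (charDegree (χ : G → ℂ) : ℂ) ≠ 0 := Nat.cast_ne_zero.mpr (charDegree_pos χ).ne'
      rw [hq, Int.mul_ediv_cancel_left _ (by exact_mod_cast (charDegree_pos χ).ne')]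
      have hqC : (864 : ℂ) = (charDegree (χ : G → ℂ) : ℂ) * (q : ℂ) := by exact_mod_cast hq
      push_cast
      field_simp
      linear_combination (5 * (v χ : ℂ) * (cz χ : ℂ) ^ 2) * hqC
    rw [Finset.sum_congr rfl hterm, ← Int.cast_sum, ← Finset.mul_sum] at h
    have h' : (5 : ℤ) * (Nat.card (Subgroup.centralizer ({z} : Set G)) : ℤ) ^ 2 =
        5 * ∑ χ ∈ S, v χ * cz χ ^ 2 * (864 / (charDegree (χ : G → ℂ) : ℤ)) := by
      apply Int.cast_injective (α := ℂ); push_cast at h ⊢; exact_mod_cast h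
    linarith
  have hbound : ∑ χ ∈ S, v χ * cz χ ^ 2 * (864 / (charDegree (χ : G → ℂ) : ℤ)) < 200 * 200 := by
    refine lt_of_le_of_lt (Finset.sum_le_card_nsmul S _ 1600 fun χ hχ => ?_) (by rw [hS]; norm_num)
    by_cases h1 : χ = oneChar G
    · subst h1; rw [hv1, hc1, hone']; norm_num
    · have := hopt χ (Finset.mem_erase.mpr ⟨h1, hχ⟩)
      simp only [tr, opts, List.mem_cons, List.not_mem_nil, Prod.mk.injEq, or_false] at this
      rcases this with h | h | h | h | h | h | h | h | h | h | h | h | h | h | h | h | h | h | h | h <;>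
        rw [h.1, h.2.1, h.2.2] <;> norm_num
  have hprod : ∑ χ ∈ S, wt (tr χ) = (0, 0, (Nat.card (Subgroup.centralizer ({z} : Set G)) : ℤ) ^ 2) := by
    refine Prod.ext ?_ (Prod.ext ?_ ?_)
    · rw [Prod.fst_sum]; exact hA
    · rw [Prod.snd_sum, Prod.fst_sum]; exact hB
    · rw [Prod.snd_sum, Prod.snd_sum]; exact hCz
  rw [hprod] at hbad
  simp only [good, decide_true, and_self, Bool.true_and, List.any_eq_false, List.mem_range,
    decide_eq_true_eq] at hbad
  rw [hCz] at hbound
  refine hbad (Nat.card (Subgroup.centralizer ({z} : Set G))) ?_ (by push_cast; ring)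
  have : Nat.card (Subgroup.centralizer ({z} : Set G)) ^ 2 < 200 ^ 2 := by
    rw [← Nat.cast_lt (α := ℤ)]; push_cast; linarith
  exact lt_of_pow_lt_pow_left₀ 2 (Nat.zero_le _) this

set_option synthInstance.maxSize 4000 in
/-- No finite simple group has order 4320 = 2^5 * 3^3 * 5. -/
theorem result {G : Type*} [Group G] [Finite G] [IsSimpleGroup G] : Nat.card G ≠ 4320 := by
  intro hcard
  haveI : Fact (Nat.Prime 5) := ⟨by norm_num⟩
  have hG : ¬ IsMulCommutative G :=
    CfsgLib.SmallSimple.not_comm_of_card_not_prime (by rw [hcard]; norm_num)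
  obtain ⟨hn, hP⟩ := card_sylow_mem_of_constraints hG 5 864 (by rw [hcard]) (by norm_num)
  rw [show (Nat.divisors 864).filter (fun n => n % 5 = 1 ∧ n ≠ 1) = {6, 16, 36, 96, 216} from by
    decide +kernel] at hn
  simp only [Finset.mem_insert, Finset.mem_singleton] at hn
  obtain ⟨P⟩ := (inferInstance : Nonempty (Sylow 5 G))
  obtain ⟨hPc, hN⟩ := hP P
  have h6 : Nat.card (Sylow 5 G) ≠ 6 := by
    intro h
    have hd := CfsgLib.SmallSimple.two_mul_card_normalizer_dvd hG 5 (by norm_num) P hPc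
      (Subgroup.normalizer ((P : Subgroup G) : Set G))
      (Or.inr ((Sylow.card_eq_index_normalizer P).symm.trans h))
    rw [h] at hN
    rw [show Nat.card (Subgroup.normalizer ((P : Subgroup G) : Set G)) = 720 by omega] at hd
    norm_num at hd
  obtain ⟨k, hk, hk'⟩ : ∃ k, Nat.card (Subgroup.normalizer ((P : Subgroup G) : Set G)) = 5 * k ∧
      ((k = 54 ∧ Nat.card (Sylow 5 G) = 1 + 5 * 3) ∨ k = 24 ∨ k = 9 ∨ k = 4) := by
    rcases hn with h | h | h | h | h
    · exact absurd h h6
    all_goals rw [h] at hN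
    · exact ⟨54, by omega, Or.inl ⟨rfl, h⟩⟩
    · exact ⟨24, by omega, by omega⟩
    · exact ⟨9, by omega, by omega⟩
    · exact ⟨4, by omega, by omega⟩
  obtain ⟨e, c, he, hc, hec, he1, hed⟩ := exists_index_split hG P hPc hk
  have he4 : e = 2 ∨ e = 4 := by
    have hle : e ≤ 4 := Nat.le_of_dvd (by norm_num) hed
    interval_cases e <;> omega
  rcases hk' with ⟨rfl, hn16⟩ | hk'
  · have hd' : c ∣ 24 := dvd_factorial_orbits hG P hPc hc hn16
    have : c ≤ 24 := Nat.le_of_dvd (by norm_num) hd'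
    rcases he4 with rfl | rfl <;> omega
  have htwo : e = 2 → 2 ∣ c → False := fun he' hc2 =>
    false_of_two_two hG P hPc (he.trans he') (hc ▸ dvd_mul_of_dvd_right hc2 5) hcard
      (L := 66) (by norm_num) (by decide +kernel)
  rcases he4 with rfl | rfl <;> rcases hk' with rfl | rfl | rfl
  · exact htwo rfl (by omega)
  · omega
  · exact htwo rfl (by omega)
  · exact false_of_four_two hG P hPc he (by rw [hc]; omega) hcard (L := 66) (by norm_num)
      (by decide +kernel)
  · omega
  · exact case_twenty hG hcard P hPc hk he (by rw [hc]; omega)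

end Cfsg.Agent.S0977
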