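import Cfsg.Statements.S4304
import Cfsg.Agent.SylowToolkit
import Mathlib

set_option autoImplicit false
open Cfsg

namespace Cfsg.Agent.S4304

open CfsgLib.SylowToolkit Subgroup MulAction

variable {G : Type*} [Group G] [Finite G]

local instance fact_seven : Fact (Nat.Prime 7) := ⟨by norm_num⟩

/-- Conjugation on Sylow 7-subgroups is faithful and there are 15 of them. -/
def Bad (G : Type*) [Group G] : Prop :=
  Nat.card (Sylow 7 G) = 15 ∧ Function.Injective (toPermHom G (Sylow 7 G))

theorem mem_of_smul_eq {x : G} (hx : IsPGroup 7 (zpowers x)) {Q : Sylow 7 G} (h : x • Q = Q) :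
    x ∈ (Q : Subgroup G) := by
  have hn : x ∈ normalizer ((Q : Subgroup G) : Set G) := Sylow.smul_eq_iff_mem_normalizer.mp h
  exact ((hx.inf_normalizer_sylow Q).le ⟨mem_zpowers x, hn⟩).2

theorem bad_range (h : Nat.card (Sylow 7 G) = 15) : Bad (toPermHom G (Sylow 7 G)).range := by
  refine ⟨by rw [card_sylow_range_toPermHom]; exact h, ?_⟩
  rw [injective_iff_map_eq_one]
  rintro ⟨_, g, rfl⟩ hk
  refine Subtype.ext (Equiv.ext fun P => ?_)
  let f := (toPermHom G (Sylow 7 G)).rangeRestrict
  have hs := (toPermHom G (Sylow 7 G)).rangeRestrict_surjective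
  have hbij : Function.Bijective (Sylow.mapSurjective hs : Sylow 7 G → Sylow 7 _) := by
    have := Fintype.ofFinite (Sylow 7 G)
    exact (Nat.bijective_iff_surjective_and_card _).mpr
      ⟨Sylow.mapSurjective_surjective _ 7, (card_sylow_range_toPermHom (G := G) (p := 7)).symm⟩
  change g • P = P
  apply hbij.1
  have h1 : f g • Sylow.mapSurjective hs P = Sylow.mapSurjective hs P := Equiv.congr_fun hk _
  refine Eq.trans ?_ h1
  apply Sylow.ext
  rw [Sylow.coe_subgroup_smul, Sylow.coe_mapSurjective, Sylow.coe_mapSurjective,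
    Sylow.coe_subgroup_smul]
  ext y
  rw [mem_map, mem_pointwise_smul_iff_inv_smul_mem, mem_map]
  constructor
  · rintro ⟨z, hz, rfl⟩
    rw [mem_pointwise_smul_iff_inv_smul_mem] at hz
    exact ⟨_, hz, by simp [MulAut.smul_def, f]⟩
  · rintro ⟨z, hz, hzy⟩
    refine ⟨g * z * g⁻¹, ?_, ?_⟩
    · rw [mem_pointwise_smul_iff_inv_smul_mem]
      simpa [MulAut.smul_def, mul_assoc] using hz
    · rw [map_mul, map_mul, map_inv, hzy]
      simp [MulAut.smul_def, f, mul_assoc]

theorem bad_normal (H : Subgroup G) [H.Normal] (hH : ¬ 7 ∣ H.index) (h : Bad G) : Bad H := by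
  have hle : ∀ P : Sylow 7 G, (P : Subgroup G) ≤ H := fun P => by
    intro x hx
    have h1 : orderOf (x : G ⧸ H) ∣ H.index := orderOf_dvd_natCard _
    obtain ⟨k, hk⟩ := P.isPGroup' ⟨x, hx⟩
    have h2 : orderOf (x : G ⧸ H) ∣ 7 ^ k := by
      apply orderOf_dvd_of_pow_eq_one
      rw [← QuotientGroup.mk_pow]
      have : x ^ 7 ^ k = 1 := by simpa [Subtype.ext_iff] using hk
      rw [this]; rfl
    have hcop : Nat.Coprime (7 ^ k) H.index :=
      Nat.Coprime.pow_left k ((Nat.Prime.coprime_iff_not_dvd (by norm_num)).mpr hH)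
    have := Nat.dvd_one.mp (hcop ▸ Nat.dvd_gcd h2 h1)
    rwa [orderOf_eq_one_iff, QuotientGroup.eq_one_iff] at this
  have hb : Function.Bijective (fun P : Sylow 7 G => P.subtype (hle P)) := by
    refine ⟨fun P Q h => Sylow.subtype_injective h, fun R => ?_⟩
    obtain ⟨Q, hQ⟩ := R.exists_comap_subtype_eq
    exact ⟨Q, Sylow.ext hQ⟩
  refine ⟨(Nat.card_eq_of_bijective _ hb).symm.trans h.1, ?_⟩
  rw [injective_iff_map_eq_one]
  rintro ⟨k, hk⟩ hfix
  refine Subtype.ext (h.2 ?_)
  rw [Subgroup.coe_one, map_one]
  refine Equiv.ext fun P => ?_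
  change k • P = P
  apply Sylow.subtype_injective (hP := hle _) (hQ := hle P)
  have h1 : (⟨k, hk⟩ : H) • P.subtype (hle P) = P.subtype (hle P) := Equiv.congr_fun hfix _
  rwa [Sylow.smul_subtype] at h1

/-- Burnside count on the 15 points. -/
theorem sylow_structure (h : Bad G) (P : Sylow 7 G) :
    Nat.card (P : Subgroup G) = 7 ∧
      ∀ x ∈ (P : Subgroup G), x ≠ 1 → ∀ Q : Sylow 7 G, x • Q = Q → Q = P := by
  classical
  have := Fintype.ofFinite G
  have := Fintype.ofFinite (Sylow 7 G)
  have hΩ : Fintype.card (Sylow 7 G) = 15 := by rw [← Nat.card_eq_fintype_card]; exact h.1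
  obtain ⟨a, ha⟩ := IsPGroup.iff_card.mp P.isPGroup'
  -- orbit sizes
  have horb : ∀ Q : Sylow 7 G, Q ≠ P → Nat.card (orbit (P : Subgroup G) Q) = 7 := by
    intro Q hQ
    obtain ⟨j, hj⟩ := P.isPGroup'.card_orbit Q
    have hlt : Nat.card (orbit (P : Subgroup G) Q) < 15 := by
      rw [← h.1]
      refine lt_of_le_of_ne (Nat.card_le_card_of_injective _ Subtype.val_injective) fun he => ?_
      have hb := (Nat.bijective_iff_injective_and_card _).mpr ⟨Subtype.val_injective (p := (· ∈ orbit (P : Subgroup G) Q)), he⟩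
      obtain ⟨⟨R, hP⟩, hR⟩ := hb.2 P
      change R = P at hR
      rw [hR] at hP
      obtain ⟨y, hy⟩ := hP
      apply hQ
      rw [← (MulAction.injective (β := Sylow 7 G) y).eq_iff]
      refine hy.trans ?_
      exact (Sylow.smul_eq_iff_mem_normalizer.mpr (le_normalizer y.2)).symm
    have hne : j ≠ 0 := by
      rintro rfl
      rw [card_orbit_sylow, pow_zero] at hj
      exact relIndex_sylow_ne_one hQ hj
    rw [hj] at hlt ⊢
    have : j < 2 := (Nat.pow_lt_pow_iff_right (by norm_num : 1 < 7)).mp (lt_trans hlt (by norm_num))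
    obtain rfl : j = 1 := by omega
    norm_num
  have horbP : Nat.card (orbit (P : Subgroup G) P) = 1 := by
    rw [card_orbit_sylow, relIndex_self]
  -- number of orbits
  let Ωq := Quotient (orbitRel (P : Subgroup G) (Sylow 7 G))
  have := Fintype.ofFinite Ωq
  let c₀ : Ωq := Quotient.mk'' P
  have hq : Fintype.card Ωq = 3 := by
    have hsig : Nat.card (Sylow 7 G) = ∑ c : Ωq, Nat.card (orbit (P : Subgroup G) c.out) := by
      rw [Nat.card_congr (selfEquivSigmaOrbits (P : Subgroup G) (Sylow 7 G))]
      exact Nat.card_sigma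
    have horb' : ∀ Q : Sylow 7 G, Nat.card (orbit (P : Subgroup G) (Quotient.out (Quotient.mk'' Q : Ωq))) =
        Nat.card (orbit (P : Subgroup G) Q) := fun Q => by
      have : Quotient.out (Quotient.mk'' Q : Ωq) ∈ orbit (P : Subgroup G) Q :=
        (orbitRel_apply).mp (Quotient.mk_out Q)
      rw [orbit_eq_iff.mpr this]
    rw [← Finset.add_sum_erase _ _ (Finset.mem_univ c₀), horb' P, horbP,
      Finset.sum_congr rfl (g := fun _ => 7) (fun c hc => ?_), h.1] at hsig
    · rw [Finset.sum_const, Finset.card_erase_of_mem (Finset.mem_univ _), smul_eq_mul,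
        Finset.card_univ] at hsig
      have : 1 ≤ Fintype.card Ωq := Fintype.card_pos_iff.mpr ⟨c₀⟩
      omega
    · induction c using Quotient.inductionOn' with
      | h Q =>
        rw [horb' Q]
        exact horb Q fun hQ => Finset.ne_of_mem_erase hc (by rw [hQ])
  have hburn := sum_card_fixedBy_eq_card_orbits_mul_card_group (P : Subgroup G) (Sylow 7 G)
  rw [show Fintype.card (Quotient (orbitRel (P : Subgroup G) (Sylow 7 G))) = 3 from hq,
    ← Nat.card_eq_fintype_card (α := (P : Subgroup G)), ha,
    ← Finset.add_sum_erase _ _ (Finset.mem_univ (1 : (P : Subgroup G)))] at hburn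
  have hfix1 : Fintype.card (fixedBy (Sylow 7 G) (1 : (P : Subgroup G))) = 15 := by
    rw [← hΩ]; exact Fintype.card_of_finset' _ (by simp [mem_fixedBy])
  -- every nontrivial element has 1 or 8 fixed points
  have hfix : ∀ x : (P : Subgroup G), x ≠ 1 → Fintype.card (fixedBy (Sylow 7 G) x) = 1 ∨
      Fintype.card (fixedBy (Sylow 7 G) x) = 8 := by
    intro x hx
    have hz : IsPGroup 7 (zpowers x) := P.isPGroup'.to_subgroup _
    have hmod := hz.card_modEq_card_fixedPoints (Sylow 7 G)
    have heq : fixedPoints (zpowers x) (Sylow 7 G) = fixedBy (Sylow 7 G) x := by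
      ext Q
      constructor
      · exact fun hQ => hQ ⟨x, mem_zpowers x⟩
      · rintro hQ ⟨y, hy⟩
        exact zpowers_le.mpr (show x ∈ stabilizer (P : Subgroup G) Q from hQ) hy
    rw [h.1, heq, Nat.card_eq_fintype_card] at hmod
    have hlt : Fintype.card (fixedBy (Sylow 7 G) x) < 15 := by
      rw [← hΩ]
      refine lt_of_le_of_ne (Fintype.card_subtype_le _) fun he => hx ?_
      have hall : ∀ Q : Sylow 7 G, (x : G) • Q = Q := fun Q => by
        have hb := (Fintype.bijective_iff_injective_and_card (Subtype.val : fixedBy (Sylow 7 G) x → Sylow 7 G)).mpr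
          ⟨Subtype.val_injective, he⟩
        obtain ⟨⟨R, hR⟩, rfl⟩ := hb.2 Q
        exact hR
      exact Subtype.ext (h.2 (Equiv.ext fun Q => by simpa using hall Q))
    unfold Nat.ModEq at hmod
    omega
  let T := Finset.univ.filter fun x : (P : Subgroup G) => Fintype.card (fixedBy (Sylow 7 G) x) = 8
  have hsum : ∑ x ∈ Finset.univ.erase (1 : (P : Subgroup G)), Fintype.card (fixedBy (Sylow 7 G) x) =
      7 ^ a - 1 + 7 * T.card := by
    rw [Finset.sum_congr rfl (g := fun x => 1 + 7 * (if Fintype.card (fixedBy (Sylow 7 G) x) = 8 then 1 else 0)) (fun x hx => ?_)]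
    · rw [Finset.sum_add_distrib, Finset.sum_const, ← Finset.mul_sum, Finset.sum_boole,
        Finset.card_erase_of_mem (Finset.mem_univ _), Finset.card_univ, ← Nat.card_eq_fintype_card, ha]
      have : (Finset.univ.erase (1 : (P : Subgroup G))).filter (fun x => Fintype.card (fixedBy (Sylow 7 G) x) = 8) = T := by
        ext x
        simp only [Finset.mem_filter, Finset.mem_erase, Finset.mem_univ, and_true, true_and, T]
        exact ⟨fun hh => hh.2, fun hh => ⟨fun h1 => by rw [h1, hfix1] at hh; norm_num at hh, hh⟩⟩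
      rw [this]; simp
    · rcases hfix x (Finset.ne_of_mem_erase hx) with hh | hh <;> simp [hh]
  rw [hsum, hfix1] at hburn
  -- `|P| ≤ 49`
  have ha2 : a ≤ 2 := by
    by_contra hlt
    have h1 : Nat.card (P : Subgroup G) ∣ (15).factorial := by
      have := Subgroup.card_dvd_of_injective ((toPermHom G (Sylow 7 G)).comp (P : Subgroup G).subtype)
        (h.2.comp Subtype.val_injective)
      rwa [Nat.card_perm, h.1] at this
    rw [ha] at h1
    have : 7 ^ 3 ∣ (15).factorial := (pow_dvd_pow 7 (by omega)).trans h1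
    norm_num [Nat.factorial] at this
  interval_cases a
  · omega
  · have hT : T.card = 0 := by omega
    refine ⟨by rw [ha]; norm_num, fun x hx hx1 Q hQ => ?_⟩
    have h1 : Fintype.card (fixedBy (Sylow 7 G) (⟨x, hx⟩ : (P : Subgroup G))) = 1 := by
      rcases hfix ⟨x, hx⟩ (fun hh => hx1 (congrArg Subtype.val hh)) with hh | hh
      · exact hh
      · have : (⟨x, hx⟩ : (P : Subgroup G)) ∈ T := by
          simp only [T, Finset.mem_filter, Finset.mem_univ, true_and]
          exact hh
        rw [Finset.card_eq_zero.mp hT] at this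
        simp at this
    have hs := Fintype.card_le_one_iff.mp h1.le
    exact congrArg Subtype.val (hs ⟨Q, hQ⟩ ⟨P, Sylow.smul_eq_iff_mem_normalizer.mpr (le_normalizer hx)⟩)
  · -- `|P| = 49`: the elements with 8 fixed points, each lying in 8 Sylow subgroups
    exfalso
    have hT : T.card = 12 := by omega
    let X := Finset.univ.filter fun x : G => IsPGroup 7 (zpowers x) ∧ Fintype.card (fixedBy (Sylow 7 G) x) = 8
    have hd := Finset.sum_card_bipartiteAbove_eq_sum_card_bipartiteBelow (s := X) (t := (Finset.univ : Finset (Sylow 7 G)))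
      (fun x Q => x • Q = Q)
    rw [Finset.sum_congr rfl (g := fun _ => 8) (fun x hx => ?_)] at hd
    rw [Finset.sum_congr rfl (f := fun Q => (Finset.bipartiteBelow _ X Q).card) (g := fun _ => 12) (fun Q _ => ?_)] at hd
    · simp only [Finset.sum_const, Finset.card_univ, hΩ, smul_eq_mul] at hd
      omega
    · obtain ⟨g, hg⟩ := exists_smul_eq G P Q
      rw [← hT]
      symm
      apply Finset.card_bij (fun (x : (P : Subgroup G)) _ => g * (x : G) * g⁻¹)
      · intro x hx
        simp only [T, Finset.mem_filter] at hx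
        simp only [Finset.bipartiteBelow, X, Finset.mem_filter, Finset.mem_univ, true_and]
        refine ⟨⟨?_, ?_⟩, ?_⟩
        · have hz : IsPGroup 7 (zpowers (x : G)) := P.isPGroup'.to_le (zpowers_le.mpr x.2)
          have := hz.map (MulAut.conj g).toMonoidHom
          rwa [MonoidHom.map_zpowers] at this
        · rw [← hx.2]
          symm
          refine Fintype.card_congr ((MulAction.toPerm g).subtypeEquiv fun R => ?_)
          simp only [mem_fixedBy, toPerm_apply, Subgroup.smul_def]
          rw [← smul_smul, ← smul_smul, inv_smul_smul, smul_left_cancel_iff]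
        · rw [← hg, ← smul_smul, ← smul_smul, inv_smul_smul,
            Sylow.smul_eq_iff_mem_normalizer.mpr (le_normalizer x.2)]
      · intro x _ y _ hxy
        exact Subtype.ext (mul_left_cancel (mul_right_cancel hxy))
      · intro y hy
        simp only [Finset.bipartiteBelow, X, Finset.mem_filter, Finset.mem_univ, true_and] at hy
        have hm := mem_of_smul_eq hy.1.1 hy.2
        rw [← hg, Sylow.coe_subgroup_smul, mem_pointwise_smul_iff_inv_smul_mem] at hm
        have hm' : g⁻¹ * y * g ∈ (P : Subgroup G) := by simpa [MulAut.smul_def] using hm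
        refine ⟨⟨_, hm'⟩, ?_, by simp [mul_assoc]⟩
        simp only [T, Finset.mem_filter, Finset.mem_univ, true_and]
        rw [← hy.1.2]
        refine Fintype.card_congr ((MulAction.toPerm g).subtypeEquiv fun R => ?_)
        simp only [mem_fixedBy, toPerm_apply, Subgroup.smul_def]
        rw [mul_smul, mul_smul, inv_smul_eq_iff]
    · simp only [X, Finset.mem_filter, Finset.mem_univ, true_and] at hx
      rw [← hx.2, Finset.bipartiteAbove, ← Fintype.card_subtype]
      rfl

/-- A permutation group in which everything is even: the Sylow 7-subgroup is self-centralizing. -/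
theorem centralizer_eq (h : Bad G)
    (heven : ∀ [DecidableEq (Sylow 7 G)] [Fintype (Sylow 7 G)] (g : G),
      Equiv.Perm.sign (toPermHom G (Sylow 7 G) g) = 1)
    (P : Sylow 7 G) : centralizer ((P : Subgroup G) : Set G) = (P : Subgroup G) := by
  classical
  have := Fintype.ofFinite G
  have := Fintype.ofFinite (Sylow 7 G)
  obtain ⟨hcard, hfree⟩ := sylow_structure h P
  have hΩ : Nat.card (Sylow 7 G) = 15 := h.1
  have hcyc : IsCyclic (P : Subgroup G) := isCyclic_of_prime_card hcard
  have hle : (P : Subgroup G) ≤ centralizer ((P : Subgroup G) : Set G) := fun x hx =>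
    mem_centralizer_iff.mpr fun y hy => congrArg Subtype.val (hcyc.commGroup.mul_comm ⟨y, hy⟩ ⟨x, hx⟩)
  refine le_antisymm ?_ hle
  intro c hc
  have hcn : c ∈ normalizer ((P : Subgroup G) : Set G) := centralizer_le_normalizer _ hc
  have hcP : c • P = P := Sylow.smul_eq_iff_mem_normalizer.mpr hcn
  -- fixed sets of elements centralizing `P`
  have hfixed : ∀ d ∈ centralizer ((P : Subgroup G) : Set G),
      Nat.card (fixedBy (Sylow 7 G) d) = 1 ∨ Nat.card (fixedBy (Sylow 7 G) d) = 8 ∨
        Nat.card (fixedBy (Sylow 7 G) d) = 15 := by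
    intro d hd
    let S : SubMulAction (P : Subgroup G) (Sylow 7 G) :=
      { carrier := fixedBy (Sylow 7 G) d
        smul_mem' := fun y Q hQ => by
          simp only [mem_fixedBy] at hQ ⊢
          rw [Subgroup.smul_def, smul_smul, ← mem_centralizer_iff.mp hd y y.2, ← smul_smul, hQ] }
    have hmod := P.isPGroup'.card_modEq_card_fixedPoints S
    have hdP : d • P = P := Sylow.smul_eq_iff_mem_normalizer.mpr (centralizer_le_normalizer _ hd)
    have hone : Nat.card (fixedPoints (P : Subgroup G) S) = 1 := by
      refine Nat.card_eq_one_iff_unique.mpr ⟨⟨fun Q R => ?_⟩, ⟨⟨⟨P, hdP⟩, fun y => Subtype.ext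
        (Sylow.smul_eq_iff_mem_normalizer.mpr (le_normalizer y.2))⟩⟩⟩
      have hQ : ∀ Q : fixedPoints (P : Subgroup G) S, (Q.1.1 : Sylow 7 G) = P := by
        intro Q
        have hfix : Q.1.1 ∈ fixedPoints (P : Subgroup G) (Sylow 7 G) :=
          fun y => congrArg Subtype.val (Q.2 y)
        exact Sylow.ext (P.is_maximal' Q.1.1.isPGroup' ((P.isPGroup'.sylow_mem_fixedPoints_iff).mp hfix)).symm ▸ rfl
      exact Subtype.ext (Subtype.ext ((hQ Q).trans (hQ R).symm))
    rw [hone] at hmod
    have hle15 : Nat.card S ≤ 15 := hΩ ▸ Nat.card_le_card_of_injective _ Subtype.val_injective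
    have e : Nat.card (fixedBy (Sylow 7 G) d) = Nat.card S := rfl
    unfold Nat.ModEq at hmod
    rw [e]; omega
  obtain ⟨Q, hQ⟩ : ∃ Q : Sylow 7 G, Q ≠ P := by
    have : Nontrivial (Sylow 7 G) := Finite.one_lt_card_iff_nontrivial.mp (by omega)
    exact exists_ne P
  let C := centralizer ((P : Subgroup G) : Set G)
  -- centralizing elements fixing a second point are trivial
  have hfree' : ∀ d : G, d ∈ C → d • Q = Q → d = 1 := by
    intro d hd hdQ
    by_contra hd1
    have hdP : d • P = P := Sylow.smul_eq_iff_mem_normalizer.mpr (centralizer_le_normalizer _ hd)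
    have h8 : Nat.card (fixedBy (Sylow 7 G) d) = 8 := by
      rcases hfixed d hd with hh | hh | hh
      · have := (Nat.card_eq_one_iff_unique.mp hh).1
        exact absurd (congrArg Subtype.val (Subsingleton.elim (⟨Q, hdQ⟩ : fixedBy (Sylow 7 G) d) ⟨P, hdP⟩)) hQ
      · exact hh
      · exfalso
        apply hd1
        apply h.2
        rw [map_one]
        refine Equiv.ext fun R => ?_
        have hb := (Nat.bijective_iff_injective_and_card (Subtype.val : fixedBy (Sylow 7 G) d → Sylow 7 G)).mpr
          ⟨Subtype.val_injective, hh.trans hΩ.symm⟩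
        obtain ⟨⟨R', hR'⟩, rfl⟩ := hb.2 R
        exact hR'
    -- `d` permutes the 7 remaining points and commutes with a 7-cycle there
    let M : SubMulAction (P : Subgroup G) (Sylow 7 G) :=
      { carrier := (fixedBy (Sylow 7 G) d)ᶜ
        smul_mem' := fun y R hR hh => hR (by
          simp only [mem_fixedBy] at hh ⊢
          have h2 := congrArg (fun z => (y : G)⁻¹ • z) hh
          simp only [Subgroup.smul_def, smul_smul] at h2
          rwa [← mul_assoc, mem_centralizer_iff.mp hd _ (inv_mem y.2), inv_mul_cancel_right, inv_mul_cancel, one_smul] at h2) }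
    have hM : Nat.card M = 7 := by
      have := Set.ncard_add_ncard_compl (fixedBy (Sylow 7 G) d)
      rw [hΩ, ← Nat.card_coe_set_eq, h8] at this
      change ((fixedBy (Sylow 7 G) d)ᶜ).ncard = 7
      omega
    obtain ⟨⟨R, hR⟩⟩ : Nonempty M := (Nat.card_pos_iff.mp (by omega)).1
    have hRP : R ≠ P := fun hh => hR (hh ▸ hdP)
    have hinj : Function.Injective fun y : (P : Subgroup G) => (y • (⟨R, hR⟩ : M)) := by
      intro y z hyz
      have hyz' : y • R = z • R := congrArg Subtype.val hyz
      by_contra hne
      apply hRP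
      refine hfree ((z⁻¹ * y : (P : Subgroup G)) : G) (z⁻¹ * y).2
        (fun hh => hne (inv_mul_eq_one.mp (Subtype.ext hh)).symm) R ?_
      change (z⁻¹ * y) • R = R
      rw [mul_smul, hyz', inv_smul_smul]
    have hdR : d • R ∈ M := fun hh => hR (by
      simp only [mem_fixedBy] at hh ⊢
      exact (MulAction.injective d) hh)
    obtain ⟨y, hy⟩ := ((Nat.bijective_iff_injective_and_card _).mpr ⟨hinj, hcard.trans hM.symm⟩).2 ⟨d • R, hdR⟩
    have hy' : (y : G) • R = d • R := congrArg Subtype.val hy
    have hd7 : d ^ 7 = 1 := by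
      apply h.2
      rw [map_one]
      refine Equiv.ext fun S => ?_
      change d ^ 7 • S = S
      by_cases hS : S ∈ fixedBy (Sylow 7 G) d
      · exact (stabilizer G S).pow_mem hS 7
      · obtain ⟨z, hz⟩ := ((Nat.bijective_iff_injective_and_card _).mpr ⟨hinj, hcard.trans hM.symm⟩).2 ⟨S, hS⟩
        have hz' : (z : G) • R = S := congrArg Subtype.val hz
        have hpow : ∀ n : ℕ, d ^ n • R = ((y ^ n : (P : Subgroup G)) : G) • R := by
          intro n
          induction n with
          | zero => simp
          | succ n ih =>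
            rw [pow_succ, mul_smul, ← hy', smul_smul,
              ← mem_centralizer_iff.mp ((centralizer ((P : Subgroup G) : Set G)).pow_mem hd n) y y.2,
              ← smul_smul, ih, smul_smul, ← Subgroup.coe_mul, ← pow_succ']
        have h7 : y ^ 7 = 1 :=
          orderOf_dvd_iff_pow_eq_one.mp ((orderOf_dvd_natCard y).trans hcard.dvd)
        rw [← hz', smul_smul, ← mem_centralizer_iff.mp ((centralizer ((P : Subgroup G) : Set G)).pow_mem hd 7) z z.2,
          ← smul_smul, hpow, h7]
        simp
    have hz : IsPGroup 7 (zpowers d) := by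
      rw [IsPGroup.iff_card]
      refine ⟨1, ?_⟩
      rw [Nat.card_zpowers, orderOf_eq_prime hd7 hd1, pow_one]
    exact hQ (hfree d (mem_of_smul_eq hz hdP) hd1 Q hdQ)
  -- `|C| ≤ 14`
  have hC14 : Nat.card C ≤ 14 := by
    have hi : Function.Injective (fun d : C => (⟨(d : G) • Q, fun hh => hQ ((MulAction.injective (d : G)) (hh.trans
        (Sylow.smul_eq_iff_mem_normalizer.mpr (centralizer_le_normalizer _ d.2)).symm))⟩ : {R : Sylow 7 G // R ≠ P})) := by
      intro d e hde
      have h1 : (d : G) • Q = (e : G) • Q := congrArg Subtype.val hde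
      have := hfree' ((e⁻¹ * d : C) : G) (e⁻¹ * d).2 (by
        change ((e : G)⁻¹ * (d : G)) • Q = Q
        rw [mul_smul, h1, inv_smul_smul])
      exact (inv_mul_eq_one.mp (Subtype.ext this)).symm
    have := Nat.card_le_card_of_injective _ hi
    refine this.trans ?_
    rw [Nat.card_eq_fintype_card, Fintype.card_subtype_compl, Fintype.card_subtype_eq,
      ← Nat.card_eq_fintype_card, hΩ]
  have hd7 : 7 ∣ Nat.card C := hcard ▸ card_dvd_of_le hle
  by_contra hcmem
  have hne7 : Nat.card C ≠ 7 := fun h7 => hcmem (by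
    rw [eq_of_le_of_card_ge hle (by rw [h7, hcard])]; exact hc)
  have h14 : Nat.card C = 14 := by
    have : 0 < Nat.card C := Nat.card_pos
    omega
  have : Fact (Nat.Prime 2) := ⟨Nat.prime_two⟩
  obtain ⟨t, ht⟩ := exists_prime_orderOf_dvd_card' (G := C) 2 (by omega)
  have ht2 : (t : G) ^ 2 = 1 := by rw [← ht, ← orderOf_coe, pow_orderOf_eq_one]
  have ht1 : (t : G) ≠ 1 := fun hh => by
    rw [← orderOf_coe, hh, orderOf_one] at ht; norm_num at ht
  set σ := toPermHom G (Sylow 7 G) (t : G) with hσ
  have hσ2 : σ ^ 2 = 1 := by rw [hσ, ← map_pow, ht2, map_one]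
  have hsupp : σ.support.card = 14 := by
    have : σ.support = Finset.univ.erase P := by
      ext R
      rw [Equiv.Perm.mem_support, Finset.mem_erase]
      refine ⟨fun hh => ⟨fun hRP => hh ?_, Finset.mem_univ _⟩, fun hh hfix => ?_⟩
      · subst hRP; exact Sylow.smul_eq_iff_mem_normalizer.mpr (centralizer_le_normalizer _ t.2)
      · have h1 : Nat.card (fixedBy (Sylow 7 G) (t : G)) = 1 := by
          rcases hfixed t t.2 with hh' | hh' | hh'
          · exact hh'
          · exfalso
            have hev : Equiv.Perm.sign σ = 1 := heven _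
            have hsc : σ.support.card = 7 := by
              have := Set.ncard_add_ncard_compl (fixedBy (Sylow 7 G) (t : G))
              rw [hΩ, ← Nat.card_coe_set_eq, hh'] at this
              rw [← Set.ncard_coe_finset]
              have e : (σ.support : Set (Sylow 7 G)) = (fixedBy (Sylow 7 G) (t : G))ᶜ := by
                ext S
                simp [hσ, mem_fixedBy]
              rw [e]; omega
            have := Equiv.Perm.two_dvd_card_support hσ2
            omega
          · exfalso
            apply ht1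
            apply h.2
            rw [map_one]
            refine Equiv.ext fun S => ?_
            have hb := (Nat.bijective_iff_injective_and_card (Subtype.val : fixedBy (Sylow 7 G) (t : G) → Sylow 7 G)).mpr
              ⟨Subtype.val_injective, hh'.trans hΩ.symm⟩
            obtain ⟨⟨R', hR'⟩, rfl⟩ := hb.2 S
            exact hR'
        have := (Nat.card_eq_one_iff_unique.mp h1).1
        exact hh.1 (congrArg Subtype.val (Subsingleton.elim (⟨R, hfix⟩ : fixedBy (Sylow 7 G) (t : G))
          ⟨P, Sylow.smul_eq_iff_mem_normalizer.mpr (centralizer_le_normalizer _ t.2)⟩))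
    rw [this, Finset.card_erase_of_mem (Finset.mem_univ _), Finset.card_univ, ← Nat.card_eq_fintype_card, hΩ]
  have hord : orderOf σ = 2 := by
    refine orderOf_eq_prime hσ2 fun h1 => ?_
    rw [h1] at hsupp; simp at hsupp
  obtain ⟨n, hn⟩ := Equiv.Perm.cycleType_prime_order (by rw [hord]; exact Nat.prime_two)
  rw [hord] at hn
  have hsum := Equiv.Perm.sum_cycleType σ
  rw [hsupp, hn, Multiset.sum_replicate, smul_eq_mul] at hsum
  have hev : Equiv.Perm.sign σ = 1 := heven _
  rw [Equiv.Perm.sign_of_cycleType, hn, Multiset.sum_replicate, Multiset.card_replicate] at hev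
  obtain rfl : n = 6 := by omega
  exact absurd hev (by decide)

theorem not_bad_odd (hodd : ¬ 2 ∣ Nat.card G) : ¬ Bad G := by
  intro h
  classical
  have heven : ∀ [DecidableEq (Sylow 7 G)] [Fintype (Sylow 7 G)] (g : G),
      Equiv.Perm.sign (toPermHom G (Sylow 7 G) g) = 1 := by
    intro _ _ g
    rcases Int.units_eq_one_or (Equiv.Perm.sign (toPermHom G (Sylow 7 G) g)) with hh | hh
    · exact hh
    · exfalso
      apply hodd
      have := (orderOf_map_dvd (Equiv.Perm.sign.comp (toPermHom G (Sylow 7 G))) g).trans (orderOf_dvd_natCard g)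
      rw [MonoidHom.comp_apply, hh] at this
      rwa [orderOf_eq_prime (p := 2) (by simp) (by decide)] at this
  obtain ⟨P⟩ := (inferInstance : Nonempty (Sylow 7 G))
  obtain ⟨hP7, -⟩ := sylow_structure h P
  have hC := centralizer_eq h heven P
  have hN := relIndex_centralizer_dvd_sub_one P hP7
  have hmul := card_normalizer_mul P
  rw [h.1] at hmul
  have hNcard : Nat.card (normalizer ((P : Subgroup G) : Set G)) =
      7 * (centralizer ((P : Subgroup G) : Set G)).relIndex (normalizer ((P : Subgroup G) : Set G)) := by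
    rw [hC]
    have := relIndex_mul_relIndex _ _ _ (bot_le : ⊥ ≤ (P : Subgroup G)) le_normalizer
    simp only [relIndex_bot_left] at this
    rw [← this, hP7]
  generalize he : (centralizer ((P : Subgroup G) : Set G)).relIndex (normalizer ((P : Subgroup G) : Set G)) = e at hN hNcard
  rw [hNcard] at hmul
  -- |G| = 105 e, e ∈ {1,3}
  have he3 : e = 1 ∨ e = 3 := by
    have hle : e ≤ 6 := Nat.le_of_dvd (by norm_num) hN
    have h0 : e ≠ 0 := fun h0 => by simp [h0] at hN
    by_contra hh
    apply hodd
    rw [← hmul]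
    interval_cases e <;> omega
  have : Fact (Nat.Prime 5) := ⟨by norm_num⟩
  obtain ⟨Q⟩ := (inferInstance : Nonempty (Sylow 5 G))
  have hG5 : Nat.card G = 5 * (21 * e) := by rw [← hmul]; ring
  have h5e : ¬ 5 ∣ 21 * e := by rcases he3 with rfl | rfl <;> norm_num
  have hQ : Nat.card (Q : Subgroup G) = 5 := by
    simpa using card_sylow_subgroup_eq (k := 1) (by simpa using hG5) h5e Q
  have hQN : normalizer ((Q : Subgroup G) : Set G) ≤ centralizer ((Q : Subgroup G) : Set G) := by
    rw [← relIndex_eq_one]
    have hr := relIndex_centralizer_dvd_sub_one Q hQ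
    have hr2 : (centralizer ((Q : Subgroup G) : Set G)).relIndex (normalizer ((Q : Subgroup G) : Set G)) ∣ Nat.card G :=
      (relIndex_dvd_card _ _).trans (card_subgroup_dvd_card _)
    refine Nat.eq_one_of_dvd_coprimes ?_ hr hr2
    rw [hG5]
    rcases he3 with rfl | rfl <;> norm_num
  have hK := MonoidHom.ker_transferSylow_isComplement' Q hQN
  set K := (MonoidHom.transferSylow Q hQN).ker with hKdef
  have hKi : K.index = 5 := hK.symm.index_eq_card.trans hQ
  have hbadK : Bad K := bad_normal K (by rw [hKi]; norm_num) h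
  have hKc : Nat.card K = 7 * (3 * e) := by
    have := K.index_mul_card
    rw [hKi, hG5] at this
    omega
  have hd := card_sylow_dvd (p := 7) (k := 1) (m := 3 * e) (G := K) (by simpa using hKc)
    (by rcases he3 with rfl | rfl <;> norm_num)
  rw [hbadK.1] at hd
  rcases he3 with rfl | rfl <;> norm_num at hd

theorem not_bad_even_order (h : Bad G) : False := by
  classical
  have := Fintype.ofFinite G
  have := Fintype.ofFinite (Sylow 7 G)
  -- the even permutations
  let H := (Equiv.Perm.sign.comp (toPermHom G (Sylow 7 G))).ker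
  have hi : H.index ∣ 2 := by
    rw [index_ker]
    refine (card_subgroup_dvd_card _).trans ?_
    simp
  have hH : Bad H := bad_normal H (fun h7 => by have := Nat.le_of_dvd (by norm_num) (h7.trans hi); omega) h
  have hHe : ∀ [DecidableEq (Sylow 7 H)] [Fintype (Sylow 7 H)] (g : H),
      Equiv.Perm.sign (toPermHom H (Sylow 7 H) g) = 1 := by
    intro _ _ g
    have hle : ∀ P : Sylow 7 G, (P : Subgroup G) ≤ H := fun P => by
      intro x hx
      change Equiv.Perm.sign (toPermHom G (Sylow 7 G) x) = 1
      rcases Int.units_eq_one_or (Equiv.Perm.sign (toPermHom G (Sylow 7 G) x)) with hh | hh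
      · exact hh
      · exfalso
        obtain ⟨k, hk⟩ := P.isPGroup' ⟨x, hx⟩
        have hk' : x ^ 7 ^ k = 1 := by simpa [Subtype.ext_iff] using hk
        have := congrArg (fun y => Equiv.Perm.sign (toPermHom G (Sylow 7 G) y)) hk'
        simp only [map_pow, map_one, hh] at this
        rw [Odd.neg_one_pow (Odd.pow (by decide))] at this
        exact absurd this (by decide)
    have hb : Function.Bijective (fun P : Sylow 7 G => P.subtype (hle P)) :=
      (Nat.bijective_iff_injective_and_card _).mpr
        ⟨fun P Q h => Sylow.subtype_injective h, h.1.trans hH.1.symm⟩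
    rw [← Equiv.Perm.sign_eq_sign_of_equiv (toPermHom G (Sylow 7 G) g) _ (Equiv.ofBijective _ hb)]
    · exact g.2
    · intro P
      exact (Sylow.smul_subtype (hle P) g).symm
  obtain ⟨P⟩ := (inferInstance : Nonempty (Sylow 7 H))
  obtain ⟨hP7, -⟩ := sylow_structure hH P
  have hC := centralizer_eq hH hHe P
  have hN := relIndex_centralizer_dvd_sub_one P hP7
  have hmul := card_normalizer_mul P
  rw [hH.1] at hmul
  have hNcard : Nat.card (normalizer ((P : Subgroup H) : Set H)) =
      7 * (centralizer ((P : Subgroup H) : Set H)).relIndex (normalizer ((P : Subgroup H) : Set H)) := by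
    rw [hC]
    have := relIndex_mul_relIndex _ _ _ (bot_le : ⊥ ≤ (P : Subgroup H)) le_normalizer
    simp only [relIndex_bot_left] at this
    rw [← this, hP7]
  generalize he : (centralizer ((P : Subgroup H) : Set H)).relIndex (normalizer ((P : Subgroup H) : Set H)) = e at hN hNcard
  rw [hNcard] at hmul
  by_cases h2 : 2 ∣ e
  · obtain ⟨e', rfl⟩ := h2
    have he' : Odd e' := by
      have : e' ∣ 3 := Nat.dvd_of_mul_dvd_mul_left (by norm_num : 0 < 2) hN
      exact Odd.of_dvd_nat (by decide) this
    have : Fact (Nat.Prime 2) := ⟨Nat.prime_two⟩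
    have hHc : Nat.card H = 2 * (105 * e') := by rw [← hmul]; ring
    -- a group of order twice an odd number has a normal subgroup of index two
    obtain ⟨Q⟩ := (inferInstance : Nonempty (Sylow 2 H))
    have hodd2 : ¬ 2 ∣ 105 * e' := by
      obtain ⟨j, rfl⟩ := he'; omega
    have hQ : Nat.card (Q : Subgroup H) = 2 := by
      simpa using card_sylow_subgroup_eq (k := 1) (by simpa using hHc) hodd2 Q
    have hQN : normalizer ((Q : Subgroup H) : Set H) ≤ centralizer ((Q : Subgroup H) : Set H) := by
      rw [← relIndex_eq_one]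
      simpa using relIndex_centralizer_dvd_sub_one Q hQ
    have hK := MonoidHom.ker_transferSylow_isComplement' Q hQN
    have hKi : (MonoidHom.transferSylow Q hQN).ker.index = 2 := hK.symm.index_eq_card.trans hQ
    refine not_bad_odd ?_ (bad_normal _ (by rw [hKi]; norm_num) hH)
    have := (MonoidHom.transferSylow Q hQN).ker.index_mul_card
    rw [hKi, hHc] at this
    rw [Nat.eq_of_mul_eq_mul_left (by norm_num) this]
    exact hodd2
  · refine not_bad_odd ?_ hH
    rw [← hmul]
    omega

/-- No finite group has exactly 15 Sylow 7-subgroups. -/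
theorem result {G : Type*} [Group G] [Finite G] : Nat.card (Sylow 7 G) ≠ 15 := by
  intro h
  exact not_bad_even_order (bad_range h)

end Cfsg.Agent.S4304
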