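import Cfsg.Statements.S1010
import Cfsg.Agent.SylowToolkit
import Cfsg.Agent.SylowToolkit.Faithful
import Cfsg.Agent.S4304
import Mathlib

set_option autoImplicit false
open Cfsg

namespace Cfsg.Agent.S1010

open CfsgLib.SylowToolkit Subgroup MulAction

local instance fact_five : Fact (Nat.Prime 5) := ⟨by norm_num⟩
local instance fact_seven' : Fact (Nat.Prime 7) := ⟨by norm_num⟩

variable {G : Type*} [Group G] [Finite G]

/-- The classes of Sylow 5-subgroups under conjugation by `P`. -/
abbrev Cls (P : Sylow 5 G) := Quotient (orbitRel (P : Subgroup G) (Sylow 5 G))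

theorem cls_eq_iff {P Q R : Sylow 5 G} :
    (Quotient.mk'' Q : Cls P) = Quotient.mk'' R ↔ ∃ y ∈ (P : Subgroup G), y • R = Q := by
  rw [Quotient.eq'', orbitRel_apply]
  constructor
  · rintro ⟨y, hy⟩; exact ⟨y, y.2, hy⟩
  · rintro ⟨y, hy, h⟩; exact ⟨⟨y, hy⟩, h⟩

theorem orbit_five (hn : Nat.card (Sylow 5 G) = 21) {P Q : Sylow 5 G} (hQ : Q ≠ P) :
    Nat.card (orbit (P : Subgroup G) Q) = 5 := by
  obtain ⟨j, hj⟩ := P.isPGroup'.card_orbit Q
  have hlt : Nat.card (orbit (P : Subgroup G) Q) ≤ 21 :=
    hn ▸ Nat.card_le_card_of_injective _ Subtype.val_injective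
  have hne : j ≠ 0 := by
    rintro rfl
    rw [card_orbit_sylow, pow_zero] at hj
    exact relIndex_sylow_ne_one hQ hj
  rw [hj] at hlt ⊢
  have : j < 2 := (Nat.pow_lt_pow_iff_right (by norm_num : 1 < 5)).mp (lt_of_le_of_lt hlt (by norm_num))
  obtain rfl : j = 1 := by omega
  norm_num

theorem card_cls (hn : Nat.card (Sylow 5 G) = 21) (P : Sylow 5 G) : Nat.card (Cls P) = 5 := by
  classical
  have := Fintype.ofFinite (Cls P)
  have hsig : Nat.card (Sylow 5 G) = ∑ c : Cls P, Nat.card (orbit (P : Subgroup G) c.out) := by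
    rw [Nat.card_congr (selfEquivSigmaOrbits (P : Subgroup G) (Sylow 5 G))]
    exact Nat.card_sigma
  have horb' : ∀ Q : Sylow 5 G, Nat.card (orbit (P : Subgroup G) (Quotient.out (Quotient.mk'' Q : Cls P))) =
      Nat.card (orbit (P : Subgroup G) Q) := fun Q => by
    have : Quotient.out (Quotient.mk'' Q : Cls P) ∈ orbit (P : Subgroup G) Q :=
      (orbitRel_apply).mp (Quotient.mk_out Q)
    rw [orbit_eq_iff.mpr this]
  rw [← Finset.add_sum_erase _ _ (Finset.mem_univ (Quotient.mk'' P : Cls P)), horb' P,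
    card_orbit_sylow, relIndex_self, Finset.sum_congr rfl (g := fun _ => 5) (fun c hc => ?_), hn] at hsig
  · rw [Finset.sum_const, Finset.card_erase_of_mem (Finset.mem_univ _), smul_eq_mul,
      Finset.card_univ, ← Nat.card_eq_fintype_card] at hsig
    have : 0 < Nat.card (Cls P) := Nat.card_pos_iff.mpr ⟨⟨Quotient.mk'' P⟩, inferInstance⟩
    unfold Cls at *
    omega
  · induction c using Quotient.inductionOn' with
    | h Q =>
      rw [horb' Q]
      exact orbit_five hn fun hQ => Finset.ne_of_mem_erase hc (by rw [hQ])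

theorem cls_zero {P Q : Sylow 5 G} (h : (Quotient.mk'' Q : Cls P) = Quotient.mk'' P) : Q = P := by
  obtain ⟨y, hy, h⟩ := cls_eq_iff.mp h
  rw [← h, smul_self_of_mem hy]

theorem sylow_comm (hn : Nat.card (Sylow 5 G) = 21) (hf : FaithfulSylow 5 G) (P : Sylow 5 G) :
    ∀ a ∈ (P : Subgroup G), ∀ b ∈ (P : Subgroup G), a * b = b * a := by
  intro a ha b hb
  suffices h : a * b * a⁻¹ * b⁻¹ = 1 by
    calc a * b = (a * b * a⁻¹ * b⁻¹) * (b * a) := by group
      _ = b * a := by rw [h, one_mul]
  refine hf.eq_one fun Q => ?_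
  by_cases hQ : Q = P
  · subst hQ; exact smul_self_of_mem (mul_mem (mul_mem (mul_mem ha hb) (inv_mem ha)) (inv_mem hb))
  have hi : (stabilizer (P : Subgroup G) Q).index = 5 := by
    rw [index_stabilizer, ← Nat.card_coe_set_eq]; exact orbit_five hn hQ
  have hnorm : (stabilizer (P : Subgroup G) Q).Normal := by
    apply normal_of_index_eq_minFac_card
    obtain ⟨n, hn'⟩ := IsPGroup.iff_card.mp P.isPGroup'
    rw [hi, hn', Nat.pow_minFac, (Fact.out : Nat.Prime 5).minFac_eq]
    rintro rfl
    have hd := index_dvd_card (stabilizer (P : Subgroup G) Q)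
    rw [hi, hn'] at hd
    norm_num at hd
  have hcomm : IsCyclic ((P : Subgroup G) ⧸ stabilizer (P : Subgroup G) Q) :=
    isCyclic_of_prime_card (p := 5) hi
  let cg := hcomm.commGroup
  have : ((⟨a, ha⟩ * ⟨b, hb⟩ * ⟨a, ha⟩⁻¹ * ⟨b, hb⟩⁻¹ : (P : Subgroup G)) :
      (P : Subgroup G) ⧸ stabilizer (P : Subgroup G) Q) = 1 := by
    simp only [QuotientGroup.mk_mul, QuotientGroup.mk_inv]
    rw [cg.mul_comm (⟨a, ha⟩ : (P : Subgroup G)) (⟨b, hb⟩ : (P : Subgroup G))]
    group
  rw [QuotientGroup.eq_one_iff] at this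
  exact this

/-- Index sets of the pairs in `Fin 4`. -/
def pairFst : Fin 6 → Fin 4 := ![0, 0, 0, 1, 1, 2]

/-- Index sets of the pairs in `Fin 4`. -/
def pairSnd : Fin 6 → Fin 4 := ![1, 2, 3, 2, 3, 3]

theorem fin4_cases : ∀ i : Fin 4, i = 0 ∨ i = 1 ∨ i = 2 ∨ i = 3 := by decide

theorem fin6_cases : ∀ i : Fin 6, i = 0 ∨ i = 1 ∨ i = 2 ∨ i = 3 ∨ i = 4 ∨ i = 5 := by decide

section FourSubgroups

variable {A : Type*} [Group A] [Fintype A] [DecidableEq A] (K : Fin 4 → Subgroup A)
  [∀ i, DecidablePred (· ∈ K i)]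

/-- In how many of the four subgroups does `x` lie. -/
def cntK (x : A) : ℕ := (Finset.univ.filter fun i => x ∈ K i).card

/-- Intersection of the three subgroups other than `i`. -/
def tripleK (i : Fin 4) : Subgroup A := K (i + 1) ⊓ K (i + 2) ⊓ K (i + 3)

/-- Intersection of a pair. -/
def pairK (k : Fin 6) : Subgroup A := K (pairFst k) ⊓ K (pairSnd k)

theorem sum_mem_eq (B : Subgroup A) [DecidablePred (· ∈ B)] :
    ∑ x ∈ Finset.univ.erase (1 : A), (if x ∈ B then 1 else 0 : ℕ) = Nat.card B - 1 := by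
  rw [Finset.sum_boole, Nat.cast_id, Finset.filter_erase, Finset.card_erase_of_mem (by simp [B.one_mem]),
    ← Fintype.card_subtype, Nat.card_eq_fintype_card]

theorem bool_facts : ∀ v : Fin 4 → Bool, (¬ ∀ i, v i = true) →
    ((∑ i, (if v (i+1) ∧ v (i+2) ∧ v (i+3) then 1 else 0 : ℕ)) =
        (if (Finset.univ.filter fun i => v i = true).card = 3 then 1 else 0)) ∧
    ((∑ k, (if v (pairFst k) ∧ v (pairSnd k) then 1 else 0 : ℕ)) =
        (if (Finset.univ.filter fun i => v i = true).card = 2 then 1 else 0) +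
        3 * (if (Finset.univ.filter fun i => v i = true).card = 3 then 1 else 0)) := by
  decide +kernel

theorem pairs_trivial
    (hall : ∀ x, (∀ i, x ∈ K i) → x = 1)
    (hcut : ∀ (B : Subgroup A) (i : Fin 4),
      Nat.card (B ⊓ K i : Subgroup A) * 5 = Nat.card B ∨ Nat.card (B ⊓ K i : Subgroup A) = Nat.card B)
    (h3 : 16 ∣ ((Finset.univ.erase (1 : A)).filter fun x => cntK K x = 3).card)
    (h2 : 11 ∣ ((Finset.univ.erase (1 : A)).filter fun x => cntK K x = 2).card) :
    ∀ i j, i ≠ j → K i ⊓ K j = ⊥ := by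
  classical
  have hv : ∀ x ∈ Finset.univ.erase (1 : A),
      ((∑ i, (if x ∈ tripleK K i then 1 else 0 : ℕ)) = if cntK K x = 3 then 1 else 0) ∧
      ((∑ k, (if x ∈ pairK K k then 1 else 0 : ℕ)) =
        (if cntK K x = 2 then 1 else 0) + 3 * (if cntK K x = 3 then 1 else 0)) := by
    intro x hx
    have := bool_facts (fun i => decide (x ∈ K i)) fun h =>
      Finset.ne_of_mem_erase hx (hall x fun i => by simpa using h i)
    simp only [decide_eq_true_eq] at this
    simp only [tripleK, pairK, mem_inf, and_assoc, cntK]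
    convert this
    all_goals congr!
  set t3 := ((Finset.univ.erase (1 : A)).filter fun x => cntK K x = 3).card with ht3def
  set t2 := ((Finset.univ.erase (1 : A)).filter fun x => cntK K x = 2).card with ht2def
  have ht3 : t3 = ∑ i, (Nat.card (tripleK K i) - 1) := by
    simp_rw [← sum_mem_eq]
    rw [Finset.sum_comm, Finset.sum_congr rfl fun x hx => (hv x hx).1, Finset.sum_boole, ht3def]
    rfl
  have ht2 : t2 + 3 * t3 = ∑ k, (Nat.card (pairK K k) - 1) := by
    simp_rw [← sum_mem_eq]
    rw [Finset.sum_comm, Finset.sum_congr rfl fun x hx => (hv x hx).2, Finset.sum_add_distrib,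
      ← Finset.mul_sum, Finset.sum_boole, Finset.sum_boole, ht2def, ht3def]
    rfl
  have hTr : ∀ i, Nat.card (tripleK K i) = 1 ∨ Nat.card (tripleK K i) = 5 := by
    intro i
    have hbot : tripleK K i ⊓ K i = ⊥ := by
      rw [eq_bot_iff]
      rintro x ⟨⟨⟨h1, h2⟩, h3⟩, h0⟩
      refine hall x fun j => ?_
      have : ∀ i j : Fin 4, j = i ∨ j = i + 1 ∨ j = i + 2 ∨ j = i + 3 := by decide
      rcases this i j with rfl | rfl | rfl | rfl <;> assumption
    rcases hcut (tripleK K i) i with h | h <;> rw [hbot, card_bot] at h <;> omega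
  have hsel : ∀ k : Fin 6, ∃ i l : Fin 4, ∀ x, x ∈ pairK K k → x ∈ K l → x ∈ tripleK K i := by
    intro k
    have : ∀ k : Fin 6, ∃ i l : Fin 4, ∀ v : Fin 4 → Bool, v (pairFst k) → v (pairSnd k) → v l →
        v (i + 1) ∧ v (i + 2) ∧ v (i + 3) := by decide +kernel
    obtain ⟨i, l, hi⟩ := this k
    refine ⟨i, l, fun x hx hx1 => ?_⟩
    have h' := hi (fun i => decide (x ∈ K i)) (decide_eq_true hx.1) (decide_eq_true hx.2) (decide_eq_true hx1)
    exact ⟨⟨of_decide_eq_true h'.1, of_decide_eq_true h'.2.1⟩, of_decide_eq_true h'.2.2⟩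
  have hPr : ∀ k, Nat.card (pairK K k) ≤ 25 ∧
      ((∀ i, Nat.card (tripleK K i) = 1) → Nat.card (pairK K k) = 1 ∨ Nat.card (pairK K k) = 5) := by
    intro k
    obtain ⟨i, l, hi⟩ := hsel k
    have h1 : Nat.card (pairK K k ⊓ K l : Subgroup A) ∣ Nat.card (tripleK K i) :=
      card_dvd_of_le fun x hx => hi x hx.1 hx.2
    refine ⟨?_, fun h0 => ?_⟩
    · have := Nat.le_of_dvd Nat.card_pos h1
      rcases hcut (pairK K k) l with h | h <;> rcases hTr i with h' | h' <;> omega
    · rw [h0 i, Nat.dvd_one] at h1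
      rcases hcut (pairK K k) l with h | h <;> omega
  rw [ht3, Fin.sum_univ_four] at h3 ht2
  rw [Fin.sum_univ_six] at ht2
  have hT0 : ∀ i, Nat.card (tripleK K i) = 1 := by
    by_contra hne
    have h5 : ∀ i, Nat.card (tripleK K i) = 5 := by
      obtain ⟨j, hj⟩ := not_forall.mp hne
      have hj5 := (hTr j).resolve_left hj
      have := hTr 0; have := hTr 1; have := hTr 2; have := hTr 3
      have hall5 : Nat.card (tripleK K 0) = 5 ∧ Nat.card (tripleK K 1) = 5 ∧
          Nat.card (tripleK K 2) = 5 ∧ Nat.card (tripleK K 3) = 5 := by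
        have hj0 : 0 < Nat.card (tripleK K 0) - 1 + (Nat.card (tripleK K 1) - 1) +
            (Nat.card (tripleK K 2) - 1) + (Nat.card (tripleK K 3) - 1) := by
          have : j = 0 ∨ j = 1 ∨ j = 2 ∨ j = 3 := fin4_cases j
          rcases this with rfl | rfl | rfl | rfl <;> omega
        have := Nat.le_of_dvd hj0 h3
        omega
      intro i
      have : i = 0 ∨ i = 1 ∨ i = 2 ∨ i = 3 := fin4_cases i
      rcases this with rfl | rfl | rfl | rfl <;> omega
    have hP25 : ∀ k, Nat.card (pairK K k) = 25 := by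
      intro k
      have : ∀ k : Fin 6, ∃ a b : Fin 4, ∀ v : Fin 4 → Bool,
          ((v (a+1) ∧ v (a+2) ∧ v (a+3)) → v (pairFst k) ∧ v (pairSnd k)) ∧
          ((v (b+1) ∧ v (b+2) ∧ v (b+3)) → v (pairFst k) ∧ v (pairSnd k)) ∧
          ((v (a+1) ∧ v (a+2) ∧ v (a+3)) → (v (b+1) ∧ v (b+2) ∧ v (b+3)) → ∀ i, v i) := by decide +kernel
      obtain ⟨a, b, hv'⟩ := this k
      have key := fun x => hv' fun i => decide (x ∈ K i)
      simp only [decide_eq_true_eq] at key
      have ha : tripleK K a ≤ pairK K k := fun x hx => (key x).1 ⟨hx.1.1, hx.1.2, hx.2⟩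
      have hb : tripleK K b ≤ pairK K k := fun x hx => (key x).2.1 ⟨hx.1.1, hx.1.2, hx.2⟩
      have hbot : Disjoint (tripleK K a) (tripleK K b) := by
        rw [disjoint_iff, eq_bot_iff]
        intro x hx
        exact hall x ((key x).2.2 ⟨hx.1.1.1, hx.1.1.2, hx.1.2⟩ ⟨hx.2.1.1, hx.2.1.2, hx.2.2⟩)
      have hinj : Function.Injective fun z : tripleK K a × tripleK K b =>
          (⟨(z.1 : A) * z.2, (pairK K k).mul_mem (ha z.1.2) (hb z.2.2)⟩ : pairK K k) :=
        fun z z' h => mul_injective_of_disjoint hbot (congrArg Subtype.val h)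
      have := Nat.card_le_card_of_injective _ hinj
      rw [Nat.card_prod, h5, h5] at this
      have := (hPr k).1
      omega
    simp only [h5, hP25] at ht2
    omega
  simp only [hT0] at ht2
  have hP5 := fun k => (hPr k).2 hT0
  have hP1 : ∀ k, Nat.card (pairK K k) = 1 := by
    have := hP5 0; have := hP5 1; have := hP5 2; have := hP5 3; have := hP5 4; have := hP5 5
    intro k
    have : k = 0 ∨ k = 1 ∨ k = 2 ∨ k = 3 ∨ k = 4 ∨ k = 5 := fin6_cases k
    rcases this with rfl | rfl | rfl | rfl | rfl | rfl <;> omega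
  intro i j hij
  have : ∀ i j : Fin 4, i ≠ j → ∃ k : Fin 6,
      (pairFst k = i ∧ pairSnd k = j) ∨ (pairFst k = j ∧ pairSnd k = i) := by decide
  obtain ⟨k, ⟨h1, h2⟩ | ⟨h1, h2⟩⟩ := this i j hij
  · rw [← h1, ← h2]; exact card_eq_one.mp (hP1 k)
  · rw [inf_comm, ← h1, ← h2]; exact card_eq_one.mp (hP1 k)

omit [DecidableEq A] [Fintype A] in
theorem cntK_one : cntK K (1 : A) = 4 := by simp [cntK]

end FourSubgroups

/-- Six Sylow subgroups of order 25 through an element leave too many elements. -/
theorem not_card_twentyfive (hn : Nat.card (Sylow 5 G) = 21) (P : Sylow 5 G)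
    (hP : Nat.card (P : Subgroup G) = 25)
    (h16 : Nat.card {x : (P : Subgroup G) // fixCount 5 (x : G) = 6} = 16) : False := by
  classical
  have := Fintype.ofFinite G
  have := Fintype.ofFinite (Sylow 5 G)
  let T := {x : G | IsPGroup 5 (zpowers x) ∧ fixCount 5 x = 6}
  have hT : Nat.card T = 56 := by
    have hd1 := fixCount_double_count P 6
    rw [hn, h16] at hd1
    change Nat.card {x : G // IsPGroup 5 (zpowers x) ∧ fixCount 5 x = 6} = 56
    omega
  obtain ⟨⟨x, hx⟩⟩ : Nonempty T := (Nat.card_pos_iff.mp (by omega)).1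
  have hP25 : ∀ Q : Sylow 5 G, Nat.card (Q : Subgroup G) = 25 := fun Q => by
    rw [card_sylow_subgroup_congr Q P, hP]
  have hxo : Nat.card (zpowers x) = 5 := by
    have hx1 : x ≠ 1 := fun h => by
      have := hx.2; rw [h, fixCount_one, hn] at this; norm_num at this
    obtain ⟨Q, hQ⟩ := hx.1.exists_le_sylow
    have hd := card_dvd_of_le hQ
    rw [hP25 Q] at hd
    obtain ⟨j, hj, hj'⟩ := (Nat.dvd_prime_pow (Fact.out : Nat.Prime 5)).mp (show Nat.card (zpowers x) ∣ 5 ^ 2 from hd)
    interval_cases j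
    · exact absurd (orderOf_eq_one_iff.mp ((Nat.card_zpowers x).symm.trans hj')) hx1
    · simpa using hj'
    · exfalso
      have hQx : zpowers x = (Q : Subgroup G) := eq_of_le_of_card_ge hQ (by rw [hP25 Q, hj']; norm_num)
      have h1 : fixCount 5 x ≤ 1 := by
        rw [fixCount, Finite.card_le_one_iff_subsingleton]
        refine ⟨fun ⟨A, hA⟩ ⟨B, hB⟩ => Subtype.ext ?_⟩
        have : ∀ A : Sylow 5 G, x • A = A → A = Q := fun A hA => by
          refine Sylow.ext (Q.is_maximal' A.isPGroup' ?_)
          rw [← hQx, zpowers_le]; exact mem_of_smul_eq hx.1 hA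
        exact (this A hA).trans (this B hB).symm
      have := hx.2
      omega
  have hQT : ∀ Q : Sylow 5 G, Nat.card {y : G // y ∈ (Q : Subgroup G) ∧ y ∈ T} = 16 := by
    intro Q
    obtain ⟨g, rfl⟩ := exists_smul_eq G P Q
    rw [← h16]
    refine Nat.card_congr (Equiv.ofBijective (fun y => ⟨⟨g⁻¹ * y.1 * g, ?_⟩, ?_⟩) ⟨?_, ?_⟩)
    · have hy : (y : G) ∈ ((g • P : Sylow 5 G) : Subgroup G) := y.2.1
      generalize hz : (y : G) = z at hy ⊢
      rw [Sylow.coe_subgroup_smul] at hy
      rw [mem_pointwise_smul_iff_inv_smul_mem] at hy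
      simpa [MulAut.smul_def] using hy
    · rw [← fixCount_conj g, show g * (g⁻¹ * (y : G) * g) * g⁻¹ = y by group]
      exact y.2.2.2
    · intro y z h
      exact Subtype.ext (mul_left_cancel (mul_right_cancel
        (congrArg (fun w => ((w.1 : (P : Subgroup G)) : G)) h)))
    · rintro ⟨⟨y, hy⟩, hy'⟩
      refine ⟨⟨g * y * g⁻¹, ?_, ?_, by rw [fixCount_conj]; exact hy'⟩, by simp [mul_assoc]⟩
      · rw [Sylow.coe_subgroup_smul, mem_pointwise_smul_iff_inv_smul_mem]
        simpa [MulAut.smul_def, mul_assoc] using hy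
      · have := (isPGroup_zpowers_of_mem hy).map (MulAut.conj g).toMonoidHom
        rwa [MonoidHom.map_zpowers] at this
  have key : ∀ A : Sylow 5 G, x • A = A → ∀ y, y ∈ (A : Subgroup G) → y ∉ zpowers x →
      (A : Subgroup G) = zpowers x ⊔ zpowers y := by
    intro A hA y hyA hyx
    have hle := sup_le (zpowers_le.mpr (mem_of_smul_eq hx.1 hA)) (zpowers_le.mpr hyA)
    refine (eq_of_le_of_card_ge hle ?_).symm
    rw [hP25 A]
    by_contra hlt
    have hd := card_dvd_of_le hle
    rw [hP25 A] at hd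
    obtain ⟨j, hj, hj'⟩ := (Nat.dvd_prime_pow (Fact.out : Nat.Prime 5)).mp (show _ ∣ 5 ^ 2 from hd)
    have heq := eq_of_le_of_card_ge (le_sup_left : zpowers x ≤ zpowers x ⊔ zpowers y) (by
      rw [hxo, hj']; interval_cases j <;> omega)
    exact hyx (heq ▸ mem_sup_right (mem_zpowers y))
  have h6 : Nat.card (fixedBy (Sylow 5 G) x) = 6 := hx.2
  let Z := Σ Q : fixedBy (Sylow 5 G) x, {y : {y : G // y ∈ (Q.1 : Subgroup G) ∧ y ∈ T} // y.1 ∉ zpowers x}
  have hZle : Nat.card Z ≤ Nat.card T := by
    refine Nat.card_le_card_of_injective (fun z => (⟨z.2.1.1, z.2.1.2.2⟩ : T)) ?_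
    rintro ⟨⟨Q, hQ⟩, ⟨⟨y, hy⟩, hyx⟩⟩ ⟨⟨Q', hQ'⟩, ⟨⟨y', hy'⟩, hyx'⟩⟩ h
    obtain rfl : y = y' := congrArg Subtype.val h
    obtain rfl : Q = Q' := Sylow.ext ((key Q hQ y hy.1 hyx).trans (key Q' hQ' y hy'.1 hyx).symm)
    rfl
  have hZge : 72 ≤ Nat.card Z := by
    rw [Nat.card_sigma]
    refine le_trans ?_ (Finset.card_nsmul_le_sum Finset.univ _ 12 fun Q _ => ?_)
    · rw [Finset.card_univ, ← Nat.card_eq_fintype_card, smul_eq_mul, h6]
    · rw [Nat.card_eq_fintype_card, Fintype.card_subtype_compl, ← Nat.card_eq_fintype_card, hQT Q.1]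
      suffices Fintype.card {y : {y : G // y ∈ (Q.1 : Subgroup G) ∧ y ∈ T} // y.1 ∈ zpowers x} ≤ 4 by omega
      rw [← Nat.card_eq_fintype_card]
      have h5 : Nat.card {z : zpowers x // z ≠ 1} = 4 := by
        rw [Nat.card_eq_fintype_card, Fintype.card_subtype_compl, Fintype.card_subtype_eq,
          ← Nat.card_eq_fintype_card, hxo]
      rw [← h5]
      refine Nat.card_le_card_of_injective (fun z => ⟨⟨z.1.1, z.2⟩, fun h1 => ?_⟩)
        (fun a b h => Subtype.ext (Subtype.ext (congrArg (fun w => ((w.1 : zpowers x) : G)) h)))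
      have h1' : (z.1.1 : G) = 1 := congrArg Subtype.val h1
      have := z.1.2.2.2
      rw [h1', fixCount_one, hn] at this
      norm_num at this
  omega

theorem fixCount_formula (hn : Nat.card (Sylow 5 G) = 21) (hf : FaithfulSylow 5 G) (P : Sylow 5 G) :
    ∃ (K : Fin 4 → Subgroup (P : Subgroup G)) (_ : ∀ i, DecidablePred (· ∈ K i)),
      (∀ i, (K i).index = 5) ∧
      (∀ x : (P : Subgroup G), fixCount 5 (x : G) = 1 + 5 * cntK K x) ∧
      ∀ x : (P : Subgroup G), (∀ i, x ∈ K i) → x = 1 := by
  classical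
  have := Fintype.ofFinite (Sylow 5 G)
  have hcls : Fintype.card {c : Cls P // c ≠ Quotient.mk'' P} = 4 := by
    rw [Fintype.card_subtype_compl, Fintype.card_subtype_eq, ← Nat.card_eq_fintype_card, card_cls hn P]
  let e := (Fintype.equivFinOfCardEq hcls).symm
  let R : Fin 4 → Sylow 5 G := fun i => (e i).1.out
  let K : Fin 4 → Subgroup (P : Subgroup G) := fun i => stabilizer (P : Subgroup G) (R i)
  have hRne : ∀ i, R i ≠ P := fun i h => (e i).2 (by
    rw [← Quotient.out_eq' (e i).1, show (e i).1.out = P from h])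
  have hKi : ∀ i, (K i).index = 5 := fun i => by
    rw [index_stabilizer, ← Nat.card_coe_set_eq]; exact orbit_five hn (hRne i)
  have hcomm := sylow_comm hn hf P
  have hKmem : ∀ i (x : (P : Subgroup G)), x ∈ K i ↔ (x : G) • R i = R i := fun i x => Iff.rfl
  have hfixcls : ∀ (x : (P : Subgroup G)) (i : Fin 4) (Q : Sylow 5 G),
      (Quotient.mk'' Q : Cls P) = (e i).1 → ((x : G) • Q = Q ↔ x ∈ K i) := by
    intro x i Q hQ
    rw [← Quotient.out_eq' (e i).1] at hQ
    obtain ⟨y, hy, rfl⟩ := cls_eq_iff.mp hQ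
    rw [hKmem, smul_smul, hcomm _ x.2 y hy, ← smul_smul, smul_left_cancel_iff]
  refine ⟨K, fun i => Classical.decPred _, hKi, fun x => ?_, fun x hx => ?_⟩
  · rw [cntK, fixCount, Nat.card_eq_fintype_card, Fintype.card_subtype,
      Finset.card_eq_sum_card_fiberwise (f := fun Q => (Quotient.mk'' Q : Cls P)) (t := Finset.univ)
        (fun _ _ => Finset.mem_univ _),
      ← Finset.add_sum_erase _ _ (Finset.mem_univ (Quotient.mk'' P : Cls P))]
    congr 1
    · rw [Finset.card_eq_one]
      refine ⟨P, ?_⟩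
      ext Q
      simp only [Finset.mem_filter, Finset.mem_univ, true_and, Finset.mem_singleton, mem_fixedBy]
      exact ⟨fun h => cls_zero h.2, fun h => by rw [h]; exact ⟨smul_self_of_mem x.2, rfl⟩⟩
    · rw [Finset.sum_subtype (p := fun c => c ≠ (Quotient.mk'' P : Cls P)) _ (fun c => by simp),
        ← e.sum_comp, mul_comm, Finset.card_filter, Finset.sum_mul]
      refine Finset.sum_congr rfl fun i _ => ?_
      by_cases hx : x ∈ K i
      · rw [if_pos hx, one_mul]
        refine Eq.trans ?_ (orbit_five hn (hRne i))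
        rw [Nat.card_eq_fintype_card, ← Set.toFinset_card]
        congr 1
        ext Q
        simp only [Finset.mem_filter, Finset.mem_univ, true_and, Set.mem_toFinset, mem_fixedBy]
        rw [and_iff_right_of_imp fun h => (hfixcls x i Q h).mpr hx]
        conv_lhs => rw [← Quotient.out_eq' (e i).1]
        rw [Quotient.eq'', orbitRel_apply]
      · rw [if_neg hx, zero_mul, Finset.card_eq_zero, Finset.filter_eq_empty_iff]
        intro Q hQ hc
        simp only [Finset.mem_filter, Finset.mem_univ, true_and, mem_fixedBy] at hQ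
        exact hx ((hfixcls x i Q hc).mp hQ)
  · refine Subtype.ext (hf.eq_one fun Q => ?_)
    by_cases hQ : Q = P
    · rw [hQ]; exact smul_self_of_mem x.2
    · let c : {c : Cls P // c ≠ Quotient.mk'' P} := ⟨Quotient.mk'' Q, fun h => hQ (cls_zero h)⟩
      have hc : (Quotient.mk'' Q : Cls P) = (e (e.symm c)).1 := by rw [e.apply_symm_apply]
      exact (hfixcls x _ Q hc).mpr (hx _)

/-- Sylow 5-subgroups have order 5. -/
theorem card_sylow_five (hn : Nat.card (Sylow 5 G) = 21) (hf : FaithfulSylow 5 G) (P : Sylow 5 G) :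
    Nat.card (P : Subgroup G) = 5 := by
  classical
  have := Fintype.ofFinite G
  obtain ⟨K, _, hKi, hfix, hall⟩ := fixCount_formula hn hf P
  have hcomm := sylow_comm hn hf P
  have hcut : ∀ (A : Subgroup (P : Subgroup G)) (i : Fin 4),
      Nat.card (A ⊓ K i : Subgroup (P : Subgroup G)) * 5 = Nat.card A ∨
        Nat.card (A ⊓ K i : Subgroup (P : Subgroup G)) = Nat.card A := by
    intro A i
    have : (K i).Normal := ⟨fun a ha b => by
      have : b * a * b⁻¹ = a := by
        rw [show b * a = a * b from Subtype.ext (hcomm _ b.2 _ a.2), mul_inv_cancel_right]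
      rwa [this]⟩
    have h1 := relIndex_mul_relIndex _ _ _ (bot_le : ⊥ ≤ A ⊓ K i) inf_le_left
    rw [relIndex_bot_left, relIndex_bot_left, inf_relIndex_left] at h1
    rcases (Fact.out : Nat.Prime 5).eq_one_or_self_of_dvd _ (hKi i ▸ relIndex_dvd_index_of_normal (K i) A) with h | h
    · rw [h, mul_one] at h1; exact Or.inr h1
    · rw [h] at h1; exact Or.inl h1
  have ht : ∀ k, k ≠ 4 → Nat.card {x : (P : Subgroup G) // fixCount 5 (x : G) = 1 + 5 * k} =
      ((Finset.univ.erase (1 : (P : Subgroup G))).filter fun x => cntK K x = k).card := by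
    intro k hk
    rw [Nat.card_eq_fintype_card, Fintype.card_subtype]
    congr 1
    ext x
    simp only [Finset.mem_filter, Finset.mem_univ, true_and, Finset.mem_erase, and_true, hfix]
    refine ⟨fun h => ⟨fun h1 => ?_, by omega⟩, fun h => by rw [h.2]⟩
    subst h1
    rw [cntK_one] at h
    omega
  have hd3 := fixCount_double_count P (1 + 5 * 3)
  rw [ht 3 (by norm_num), hn] at hd3
  have hd2 := fixCount_double_count P (1 + 5 * 2)
  rw [ht 2 (by norm_num), hn] at hd2
  have hpair := pairs_trivial K hall hcut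
    ((Nat.Coprime.dvd_mul_left (by norm_num : Nat.Coprime 16 21)).mp ⟨_, hd3.symm⟩)
    ((Nat.Coprime.dvd_mul_left (by norm_num : Nat.Coprime 11 21)).mp ⟨_, hd2.symm⟩)
  have hP' := (K 0).card_mul_index
  rw [hKi 0] at hP'
  have hK5 : Nat.card (K 0) = 1 ∨ Nat.card (K 0) = 5 := by
    rcases hcut (K 0) 1 with h | h <;> rw [hpair 0 1 (by decide), card_bot] at h <;> omega
  rcases hK5 with h | h25
  · rw [h] at hP'
    exact hP'.symm
  exfalso
  rw [h25] at hP'
  have hK : ∀ i, Nat.card (K i) = 5 := fun i => by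
    have := (K i).card_mul_index
    rw [hKi i, ← hP'] at this
    omega
  have hone : ∀ x : (P : Subgroup G), x ≠ 1 → ∀ i j, x ∈ K i → x ∈ K j → i = j := by
    intro x hx i j hi hj
    by_contra hij
    exact hx (by rw [← mem_bot (G := (P : Subgroup G)), ← hpair i j hij]; exact ⟨hi, hj⟩)
  have hv1 : ∀ x ∈ Finset.univ.erase (1 : (P : Subgroup G)),
      (∑ i, (if x ∈ K i then 1 else 0 : ℕ)) = if cntK K x = 1 then 1 else 0 := by
    intro x hx
    rw [← Finset.card_filter]
    have hle : cntK K x ≤ 1 := Finset.card_le_one.mpr fun i hi j hj =>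
      hone x (Finset.ne_of_mem_erase hx) i j (Finset.mem_filter.mp hi).2 (Finset.mem_filter.mp hj).2
    change cntK K x = _
    split_ifs <;> omega
  have ht1 : ((Finset.univ.erase (1 : (P : Subgroup G))).filter fun x => cntK K x = 1).card =
      ∑ i, (Nat.card (K i) - 1) := by
    simp_rw [← sum_mem_eq]
    rw [Finset.sum_comm, Finset.sum_congr rfl hv1, Finset.sum_boole]
    rfl
  refine not_card_twentyfive hn P hP'.symm ?_
  rw [show (6 : ℕ) = 1 + 5 * 1 from rfl, ht 1 (by norm_num), ht1]
  simp_rw [hK]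
  simp

/-- A group with 21 Sylow 5-subgroups permuted faithfully. -/
def Bad (G : Type*) [Group G] : Prop :=
  Nat.card (Sylow 5 G) = 21 ∧ FaithfulSylow 5 G

theorem eq_of_mem_smul_eq (h : Bad G) {P Q : Sylow 5 G} {y : G} (hy : y ∈ (P : Subgroup G))
    (hy1 : y ≠ 1) (hQ : y • Q = Q) : Q = P := by
  refine eq_of_forall_smul_eq fun x hx => ?_
  have hz : zpowers y = (P : Subgroup G) := by
    refine eq_of_le_of_card_ge (zpowers_le.mpr hy) ?_
    rw [card_sylow_five h.1 h.2 P, Nat.card_zpowers]
    have hd := Subgroup.orderOf_dvd_natCard (s := (P : Subgroup G)) hy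
    rw [card_sylow_five h.1 h.2 P] at hd
    rcases (Fact.out : Nat.Prime 5).eq_one_or_self_of_dvd _ hd with h' | h'
    · exact absurd (orderOf_eq_one_iff.mp h') hy1
    · omega
  rw [← hz] at hx
  exact (zpowers_le.mpr (show y ∈ stabilizer G Q from hQ)) hx

omit [Finite G] in
theorem exists_lt_pow_of_mem [Finite G] (z : G) {y : G} (hy : y ∈ zpowers z) :
    ∃ n < orderOf z, z ^ n = y := by
  obtain ⟨n, rfl⟩ := (mem_powers_iff_mem_zpowers).mpr hy
  exact ⟨n % orderOf z, Nat.mod_lt _ (orderOf_pos z), pow_mod_orderOf z n⟩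

/-- Conjugation by `g ∈ N(P)` permutes the classes. -/
noncomputable def clsPerm (P : Sylow 5 G) :
    normalizer ((P : Subgroup G) : Set G) →* Equiv.Perm (Cls P) :=
  letI : MulAction (normalizer ((P : Subgroup G) : Set G)) (Cls P) :=
    { smul := fun g => Quotient.map' (fun Q => (g : G) • Q) (fun Q R hQR => by
        change (orbitRel (P : Subgroup G) (Sylow 5 G)).r Q R at hQR
        change (orbitRel (P : Subgroup G) (Sylow 5 G)).r ((g : G) • Q) ((g : G) • R)
        rw [orbitRel_apply] at hQR ⊢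
        obtain ⟨y, hy⟩ := hQR
        refine ⟨⟨(g : G) * y * (g : G)⁻¹, (mem_normalizer_iff.mp g.2 _).mp y.2⟩, ?_⟩
        change ((g : G) * y * (g : G)⁻¹) • (g : G) • R = (g : G) • Q
        rw [smul_smul, inv_mul_cancel_right, ← smul_smul]
        exact congrArg _ hy)
      one_smul := fun c => by
        induction c using Quotient.inductionOn' with
        | h Q => exact congrArg Quotient.mk'' (one_smul G Q)
      mul_smul := fun a b c => by
        induction c using Quotient.inductionOn' with
        | h Q => exact congrArg Quotient.mk'' (mul_smul (a : G) (b : G) Q) }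
  MulAction.toPermHom _ _

theorem clsPerm_mk (P : Sylow 5 G) (g : normalizer ((P : Subgroup G) : Set G)) (Q : Sylow 5 G) :
    clsPerm P g (Quotient.mk'' Q) = Quotient.mk'' ((g : G) • Q) := rfl

theorem clsPerm_self (P : Sylow 5 G) (g : normalizer ((P : Subgroup G) : Set G)) :
    clsPerm P g (Quotient.mk'' P) = Quotient.mk'' P := by
  rw [clsPerm_mk, Sylow.smul_eq_iff_mem_normalizer.mpr g.2]

theorem mem_of_centralize_of_cls (h : Bad G) (P : Sylow 5 G)
    {g : normalizer ((P : Subgroup G) : Set G)} (hg : (g : G) ∈ centralizer ((P : Subgroup G) : Set G))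
    (hc : clsPerm P g = 1) : (g : G) ∈ (P : Subgroup G) := by
  have h5 : (g : G) ^ 5 = 1 := by
    refine h.2.eq_one fun R => ?_
    have hR : (Quotient.mk'' ((g : G) • R) : Cls P) = Quotient.mk'' R := by
      rw [← clsPerm_mk, hc]; rfl
    obtain ⟨y, hy, hyR⟩ := cls_eq_iff.mp hR
    have hpow : ∀ n : ℕ, (g : G) ^ n • R = y ^ n • R := by
      intro n
      induction n with
      | zero => simp
      | succ n ih =>
        rw [pow_succ, mul_smul, ← hyR, smul_smul,
          ← mem_centralizer_iff.mp ((centralizer ((P : Subgroup G) : Set G)).pow_mem hg n) y hy,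
          ← smul_smul, ih, smul_smul, ← pow_succ']
    have hy5 : y ^ 5 = 1 := orderOf_dvd_iff_pow_eq_one.mp
      ((Subgroup.orderOf_dvd_natCard (s := (P : Subgroup G)) hy).trans (card_sylow_five h.1 h.2 P).dvd)
    rw [hpow, hy5, one_smul]
  apply mem_of_smul_eq
  · obtain ⟨j, -, hj⟩ := (Nat.dvd_prime_pow (Fact.out : Nat.Prime 5)).mp
      (show orderOf (g : G) ∣ 5 ^ 1 by rw [pow_one]; exact orderOf_dvd_of_pow_eq_one h5)
    exact IsPGroup.of_card (n := j) (by rw [Nat.card_zpowers, hj])
  · exact Sylow.smul_eq_iff_mem_normalizer.mpr g.2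

theorem card_stab (hn : Nat.card (Sylow 5 G) = 21) (P : Sylow 5 G) :
    Nat.card (stabilizer (Equiv.Perm (Cls P)) (Quotient.mk'' P : Cls P)) = 24 := by
  have h1 := (stabilizer (Equiv.Perm (Cls P)) (Quotient.mk'' P : Cls P)).card_mul_index
  rw [index_stabilizer_of_transitive, Nat.card_perm, card_cls hn P] at h1
  rw [show (5 : ℕ).factorial = 120 by decide] at h1
  omega

theorem card_centralizer_dvd (h : Bad G) (P : Sylow 5 G) :
    Nat.card (centralizer ((P : Subgroup G) : Set G)) ∣ 120 := by
  let C := centralizer ((P : Subgroup G) : Set G)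
  let f : C →* stabilizer (Equiv.Perm (Cls P)) (Quotient.mk'' P : Cls P) :=
    ((clsPerm P).comp (inclusion (centralizer_le_normalizer _))).codRestrict _ fun g => clsPerm_self P _
  have h1 := f.ker.card_mul_index
  rw [index_ker] at h1
  have hk : Nat.card f.ker ∣ 5 := by
    refine (Subgroup.card_dvd_of_injective
      (((C.subtype).comp f.ker.subtype).codRestrict (P : Subgroup G) fun g => ?_) ?_).trans
      (card_sylow_five h.1 h.2 P).dvd
    · exact mem_of_centralize_of_cls h P (g := inclusion (centralizer_le_normalizer _) g.1) g.1.2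
        (congrArg Subtype.val g.2)
    · intro a b hab
      have h2 : ((a.1 : C) : G) = ((b.1 : C) : G) := congrArg (fun z : (P : Subgroup G) => (z : G)) hab
      exact Subtype.ext (Subtype.ext h2)
  have hr : Nat.card f.range ∣ 24 := card_stab h.1 P ▸ card_subgroup_dvd_card _
  rw [← h1]
  exact (Nat.mul_dvd_mul hk hr).trans (by norm_num)

theorem card_normalizer_dvd (h : Bad G) (P : Sylow 5 G) :
    Nat.card (normalizer ((P : Subgroup G) : Set G)) ∣ 480 := by
  have h1 := relIndex_mul_relIndex _ _ _ (bot_le : ⊥ ≤ centralizer ((P : Subgroup G) : Set G))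
    (centralizer_le_normalizer _)
  simp only [relIndex_bot_left] at h1
  rw [← h1]
  exact (Nat.mul_dvd_mul (card_centralizer_dvd h P)
    (relIndex_centralizer_dvd_sub_one P (card_sylow_five h.1 h.2 P))).trans (by norm_num)

theorem not_bad_of_simple [IsSimpleGroup G] (h : Bad G) : False := by
  classical
  have := Fintype.ofFinite G
  have := Fintype.ofFinite (Sylow 5 G)
  have : Fact (Nat.Prime 2) := ⟨Nat.prime_two⟩
  obtain ⟨P⟩ := (inferInstance : Nonempty (Sylow 5 G))
  have hP := card_sylow_five h.1 h.2 P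
  have hmulN := card_normalizer_mul P
  rw [h.1] at hmulN
  set N := normalizer ((P : Subgroup G) : Set G) with hNdef
  have h5G : 5 ∣ Nat.card G := hP ▸ card_subgroup_dvd_card _
  have h5N : 5 ∣ Nat.card N := hP ▸ card_dvd_of_le le_normalizer
  have hc : ¬ IsMulCommutative G := not_isMulCommutative_of_not_prime fun hp => by
    have := (Nat.prime_dvd_prime_iff_eq (by norm_num) hp).mp h5G
    omega
  have heven : ∀ [DecidableEq (Sylow 5 G)] [Fintype (Sylow 5 G)] (g : G),
      Equiv.Perm.sign (toPermHom G (Sylow 5 G) g) = 1 := fun g => sign_eq_one hc _ g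
  have hcyc : IsCyclic (P : Subgroup G) := isCyclic_of_prime_card hP
  -- involutions in `N`
  have hinv : ∀ w ∈ N, orderOf w = 2 → fixCount 5 w = 1 ∨ fixCount 5 w = 5 ∧
      (∀ y ∈ (P : Subgroup G), w * y * w⁻¹ = y⁻¹) ∧
      ∀ hw : w ∈ N, clsPerm P ⟨w, hw⟩ = 1 := by
    intro w hw hw2
    have hmod := fixCount_involution_modEq h.2 heven hw2
    rw [h.1] at hmod
    have hlt := fixCount_lt h.2 (g := w) fun h1 => by rw [h1, orderOf_one] at hw2; norm_num at hw2
    rw [h.1] at hlt
    have hwP : w • P = P := Sylow.smul_eq_iff_mem_normalizer.mpr hw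
    have hww : w * w = 1 := by rw [← sq, ← hw2, pow_orderOf_eq_one]
    obtain ⟨z, hzP, hz1⟩ := (Subgroup.bot_or_exists_ne_one (P : Subgroup G)).resolve_left
      (P.ne_bot_of_dvd_card h5G)
    have hzo : orderOf z = 5 := by
      have hd := Subgroup.orderOf_dvd_natCard (s := (P : Subgroup G)) hzP
      rw [hP] at hd
      exact ((Fact.out : Nat.Prime 5).eq_one_or_self_of_dvd _ hd).resolve_left
        (fun h' => hz1 (orderOf_eq_one_iff.mp h'))
    have hgen : zpowers z = (P : Subgroup G) :=
      eq_of_le_of_card_ge (zpowers_le.mpr hzP) (by rw [hP, Nat.card_zpowers, hzo])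
    have hcz : w * z * w⁻¹ ∈ zpowers z := by
      rw [hgen]; exact (mem_normalizer_iff.mp hw z).mp hzP
    obtain ⟨k, hk, hkz⟩ := exists_lt_pow_of_mem z hcz
    have hkk : z ^ (k * k) = z := by
      rw [pow_mul, hkz, conj_pow, hkz]
      rw [inv_eq_of_mul_eq_one_right hww, ← mul_assoc, ← mul_assoc, hww, one_mul, mul_assoc, hww, mul_one]
    rw [hzo] at hk
    have hk' : k = 1 ∨ k = 4 := by
      have h1 : (k * k) % 5 = 1 := by
        have := pow_inj_mod (x := z) (m := k * k) (n := 1)
        rw [hzo, pow_one] at this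
        exact (this.mp hkk.symm).symm
      interval_cases k <;> omega
    have hpowz : ∀ y ∈ (P : Subgroup G), ∃ n : ℤ, z ^ n = y := fun y hy => by rwa [← mem_zpowers_iff, hgen]
    rcases hk' with rfl | rfl
    · left
      -- centralizing
      have hcent : ∀ y ∈ (P : Subgroup G), w * y * w⁻¹ = y := fun y hy => by
        obtain ⟨n, rfl⟩ := hpowz y hy
        rw [← conj_zpow, ← hkz, pow_one]
      let S : SubMulAction (P : Subgroup G) (Sylow 5 G) :=
        { carrier := fixedBy (Sylow 5 G) w
          smul_mem' := fun y Q hQ => by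
            simp only [mem_fixedBy] at hQ ⊢
            rw [Subgroup.smul_def, smul_smul]
            conv_lhs => rw [← inv_mul_cancel_right (w * (y : G)) w, hcent y y.2, ← smul_smul, hQ] }
      have hmod5 := P.isPGroup'.card_modEq_card_fixedPoints S
      have hone : Nat.card (fixedPoints (P : Subgroup G) S) = 1 := by
        refine Nat.card_eq_one_iff_unique.mpr ⟨⟨fun Q R => ?_⟩, ⟨⟨⟨P, hwP⟩, fun y => Subtype.ext
          (smul_self_of_mem y.2)⟩⟩⟩
        have hQ : ∀ Q : fixedPoints (P : Subgroup G) S, (Q.1.1 : Sylow 5 G) = P := fun Q =>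
          eq_of_forall_smul_eq fun x hx => congrArg Subtype.val (Q.2 ⟨x, hx⟩)
        exact Subtype.ext (Subtype.ext ((hQ Q).trans (hQ R).symm))
      rw [hone] at hmod5
      have e : fixCount 5 w = Nat.card S := rfl
      unfold Nat.ModEq at hmod hmod5
      omega
    · have hinvert : ∀ y ∈ (P : Subgroup G), w * y * w⁻¹ = y⁻¹ := fun y hy => by
        obtain ⟨n, rfl⟩ := hpowz y hy
        rw [← conj_zpow, ← hkz, show z ^ 4 = z⁻¹ from eq_inv_of_mul_eq_one_left (by
          rw [← pow_succ, show (4 + 1) = orderOf z from hzo.symm, pow_orderOf_eq_one]), inv_zpow]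
      -- fixed points inject into the classes
      have hinj : Function.Injective fun Q : fixedBy (Sylow 5 G) w => (Quotient.mk'' Q.1 : Cls P) := by
        rintro ⟨A, hA⟩ ⟨B, hB⟩ hAB
        obtain ⟨y, hy, hyB⟩ := cls_eq_iff.mp hAB
        change y • B = A at hyB
        simp only [mem_fixedBy] at hA hB
        have h2 : y⁻¹ • B = y • B := by
          rw [← hinvert y hy, ← smul_smul, inv_eq_of_mul_eq_one_right hww, hB, ← smul_smul, hyB, hA]
        have h3 : (y * y) • B = B := by rw [mul_smul, ← h2, smul_inv_smul]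
        refine Subtype.ext ?_
        change A = B
        by_cases hBP : B = P
        · rw [← hyB, hBP, smul_self_of_mem hy]
        by_cases hy2 : y * y = 1
        · have hy1 : y = 1 := by
            have := (Subgroup.orderOf_dvd_natCard (s := (P : Subgroup G)) hy).trans hP.dvd
            rcases (Fact.out : Nat.Prime 5).eq_one_or_self_of_dvd _ this with h' | h'
            · exact orderOf_eq_one_iff.mp h'
            · have := orderOf_dvd_of_pow_eq_one (show y ^ 2 = 1 by rw [sq, hy2])
              rw [h'] at this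
              norm_num at this
          rw [← hyB, hy1, one_smul]
        · exact absurd (eq_of_mem_smul_eq h (mul_mem hy hy) hy2 h3) hBP
      have hle : fixCount 5 w ≤ 5 := (Nat.card_le_card_of_injective _ hinj).trans (card_cls h.1 P).le
      by_cases h1 : fixCount 5 w = 1
      · exact Or.inl h1
      have h5 : fixCount 5 w = 5 := by unfold Nat.ModEq at hmod; omega
      refine Or.inr ⟨h5, hinvert, fun hw => Equiv.ext fun c => ?_⟩
      obtain ⟨⟨Q, hQ⟩, rfl⟩ := ((Nat.bijective_iff_injective_and_card _).mpr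
        ⟨hinj, h5.trans (card_cls h.1 P).symm⟩).2 c
      rw [clsPerm_mk]
      exact congrArg Quotient.mk'' hQ
  -- an involution fixing every class fixes 5 points
  have hker : ∀ w (hw : w ∈ N), orderOf w = 2 → ∀ s : Finset (Cls P),
      (∀ c ∈ s, clsPerm P ⟨w, hw⟩ c = c) → s.card ≤ fixCount 5 w := by
    intro w hw hw2 s hs
    have hww : w * w = 1 := by rw [← sq, ← hw2, pow_orderOf_eq_one]
    have hsel : ∀ c ∈ s, ∃ Q : Sylow 5 G, (Quotient.mk'' Q : Cls P) = c ∧ w • Q = Q := by
      intro c hc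
      by_cases hc0 : c = Quotient.mk'' P
      · exact ⟨P, hc0.symm, Sylow.smul_eq_iff_mem_normalizer.mpr hw⟩
      let S : SubMulAction (zpowers w) (Sylow 5 G) :=
        { carrier := {Q | (Quotient.mk'' Q : Cls P) = c}
          smul_mem' := fun g Q hQ => by
            rcases g with ⟨g, hg⟩
            obtain ⟨n, hn, rfl⟩ := exists_lt_pow_of_mem w hg
            rw [hw2] at hn
            change (Quotient.mk'' (w ^ n • Q) : Cls P) = c
            interval_cases n
            · rw [pow_zero, one_smul]; exact hQ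
            · rw [pow_one, ← clsPerm_mk P ⟨w, hw⟩, show (Quotient.mk'' Q : Cls P) = c from hQ]
              exact hs c hc }
      have hScard : Nat.card S = 5 := by
        refine Eq.trans ?_ (orbit_five h.1 (P := P) (Q := c.out) fun hh => hc0 (by
          rw [← Quotient.out_eq' c, show c.out = P from hh]))
        refine Nat.card_congr (Equiv.subtypeEquivRight fun Q => ?_)
        change (Quotient.mk'' Q : Cls P) = c ↔ _
        conv_lhs => rw [← Quotient.out_eq' c]
        rw [Quotient.eq'', orbitRel_apply]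
      have hp2 : IsPGroup 2 (zpowers w) := IsPGroup.of_card (n := 1) (by rw [Nat.card_zpowers, hw2, pow_one])
      obtain ⟨Q, hQ⟩ := hp2.nonempty_fixed_point_of_prime_not_dvd_card S (by rw [hScard]; norm_num)
      exact ⟨Q.1, Q.2, congrArg Subtype.val (hQ ⟨w, mem_zpowers w⟩)⟩
    choose f hf1 hf2 using hsel
    rw [← Nat.card_eq_finsetCard s]
    exact Nat.card_le_card_of_injective (fun c : s => (⟨f c.1 c.2, hf2 c.1 c.2⟩ : fixedBy (Sylow 5 G) w))
      fun a b hab => Subtype.ext ((hf1 a.1 a.2).symm.trans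
        ((congrArg (fun z => (Quotient.mk'' z.1 : Cls P)) hab).trans (hf1 b.1 b.2)))
  -- a 2-subgroup of `N` of odd index in `G`
  obtain ⟨T⟩ := (inferInstance : Nonempty (Sylow 2 N))
  set S := (T : Subgroup N).map N.subtype with hSdef
  have hSN : S ≤ N := map_subtype_le _
  have hS2 : IsPGroup 2 S := T.isPGroup'.map _
  have hSodd : ¬ 2 ∣ S.index := by
    rw [hSdef, index_map_subtype]
    intro h2
    rcases (Nat.Prime.dvd_mul Nat.prime_two).mp h2 with h2 | h2
    · exact T.not_dvd_index h2
    · have hN := N.card_mul_index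
      rw [← hmulN] at hN
      rw [Nat.eq_of_mul_eq_mul_left Nat.card_pos hN] at h2
      norm_num at h2
  by_cases hex : ∃ u ∈ S, orderOf u = 2 ∧ fixCount 5 u = 5
  · -- transfer
    obtain ⟨u, huS, hu2, hu5⟩ := hex
    obtain ⟨-, huinv, hucls⟩ := (hinv u (hSN huS) hu2).resolve_left (by omega)
    have huniq : ∀ v ∈ S, orderOf v = 2 → fixCount 5 v = 5 → v = u := by
      intro v hv hv2 hv5
      obtain ⟨-, hvinv, hvcls⟩ := (hinv v (hSN hv) hv2).resolve_left (by omega)
      have hm : v * u ∈ (P : Subgroup G) := by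
        refine mem_of_centralize_of_cls h P (g := ⟨v * u, N.mul_mem (hSN hv) (hSN huS)⟩) ?_ ?_
        · rw [mem_centralizer_iff]
          intro y hy
          have h1 : v * u * y * (v * u)⁻¹ = y := by
            rw [show v * u * y * (v * u)⁻¹ = v * (u * y * u⁻¹) * v⁻¹ by group, huinv y hy,
              hvinv _ (inv_mem hy), inv_inv]
          calc y * (v * u) = v * u * y * (v * u)⁻¹ * (v * u) := by rw [h1]
            _ = v * u * y := by group
        · rw [show (⟨v * u, N.mul_mem (hSN hv) (hSN huS)⟩ : N) = ⟨v, hSN hv⟩ * ⟨u, hSN huS⟩ from rfl,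
            map_mul, hvcls, hucls, one_mul]
      have hvu : v * u = 1 := by
        have hbot : S ⊓ (P : Subgroup G) = ⊥ :=
          disjoint_iff.mp (IsPGroup.disjoint_of_ne 2 5 (by norm_num) S (P : Subgroup G) hS2 P.isPGroup')
        rw [← mem_bot (G := G), ← hbot]
        exact ⟨S.mul_mem hv huS, hm⟩
      rw [eq_comm, ← inv_eq_of_mul_eq_one_right hvu]
      exact inv_eq_of_mul_eq_one_right (by rw [← sq, ← hv2, pow_orderOf_eq_one])
    let φ : S →* (ZMod (Nat.card (P : Subgroup G)))ˣ :=
      (IsCyclic.mulAutMulEquiv (P : Subgroup G)).toMonoidHom.comp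
        ((P : Subgroup G).normalizerMonoidHom.comp (inclusion hSN))
    have hφu : φ ⟨u, huS⟩ ≠ 1 := by
      intro h1
      have h1' := (IsCyclic.mulAutMulEquiv (P : Subgroup G)).injective (h1.trans (map_one _).symm)
      obtain ⟨z, hzP, hz1⟩ := (Subgroup.bot_or_exists_ne_one (P : Subgroup G)).resolve_left
        (P.ne_bot_of_dvd_card h5G)
      have h2 : u * z * u⁻¹ = z := congrArg Subtype.val (DFunLike.congr_fun h1' (⟨z, hzP⟩ : (P : Subgroup G)))
      rw [huinv z hzP] at h2
      apply hz1
      have h3 : z ^ 2 = 1 := by rw [sq]; nth_rewrite 1 [← h2]; group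
      have hd : orderOf z ∣ 5 := hP ▸ Subgroup.orderOf_dvd_natCard (s := (P : Subgroup G)) hzP
      exact orderOf_eq_one_iff.mp (Nat.eq_one_of_dvd_coprimes (by norm_num : Nat.Coprime 2 5)
        (orderOf_dvd_of_pow_eq_one h3) hd)
    have huu : u * u = 1 := by rw [← sq, ← hu2, pow_orderOf_eq_one]
    have key : ∀ (k : ℕ) (g₀ : G), g₀⁻¹ * u ^ k * g₀ ∈ S → g₀⁻¹ * u ^ k * g₀ = u ^ k := by
      intro k g₀ hk
      rcases Nat.even_or_odd' k with ⟨j, rfl | rfl⟩
      · rw [pow_mul, sq, huu, one_pow]; group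
      · rw [pow_succ, pow_mul, sq, huu, one_pow, one_mul] at hk ⊢
        refine huniq _ hk ?_ ?_
        · rw [← hu2]
          conv_rhs => rw [← (MulAut.conj g₀⁻¹).orderOf_eq u]
          simp
        · refine Eq.trans ?_ hu5
          simpa using fixCount_conj (p := 5) g₀⁻¹ u
    have hV := MonoidHom.transfer_eq_pow φ u key
    have hidx : u ^ S.index = u := by
      have : S.index % 2 = 1 := by omega
      rw [← Nat.div_add_mod S.index 2, this, pow_succ, pow_mul, sq, huu, one_pow, one_mul]
    have hVu : MonoidHom.transfer φ u ≠ 1 := by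
      rw [hV]
      intro hh
      apply hφu
      rw [← hh]
      exact congrArg φ (Subtype.ext hidx.symm)
    rcases IsSimpleGroup.eq_bot_or_eq_top_of_normal (MonoidHom.transfer φ).ker inferInstance with hk | hk
    · exact hc ⟨⟨fun a b => (MonoidHom.ker_eq_bot_iff _).mp hk (by rw [map_mul, map_mul, mul_comm])⟩⟩
    · have : u ∈ (MonoidHom.transfer φ).ker := hk ▸ mem_top u
      exact hVu this
  · -- small Sylow 2-subgroup
    let f : S →* stabilizer (Equiv.Perm (Cls P)) (Quotient.mk'' P : Cls P) :=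
      ((clsPerm P).comp (inclusion hSN)).codRestrict _ fun g => clsPerm_self P _
    have hfinj : Function.Injective f := by
      rw [← MonoidHom.ker_eq_bot_iff]
      by_contra hne
      have hne' : Nat.card f.ker ≠ 1 := fun h1 => hne (card_eq_one.mp h1)
      obtain ⟨j, hj⟩ := IsPGroup.iff_card.mp (hS2.to_subgroup f.ker)
      have h2 : 2 ∣ Nat.card f.ker := hj ▸ dvd_pow_self 2 (fun h0 => hne' (by rw [hj, h0, pow_zero]))
      obtain ⟨w, hw⟩ := exists_prime_orderOf_dvd_card' (G := f.ker) 2 h2
      have hwG : orderOf ((w : S) : G) = 2 := by rw [orderOf_coe, orderOf_coe]; exact hw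
      have hle := hker _ (hSN (w : S).2) hwG Finset.univ fun c _ => by
        have := congrArg Subtype.val w.2
        exact Equiv.congr_fun this c
      rw [Finset.card_univ, ← Nat.card_eq_fintype_card, card_cls h.1 P] at hle
      rcases hinv _ (hSN (w : S).2) hwG with h1 | ⟨h5, -⟩
      · omega
      · exact hex ⟨_, (w : S).2, hwG, h5⟩
    obtain ⟨k, hk⟩ := IsPGroup.iff_card.mp hS2
    have hk3 : k ≤ 3 := by
      have hd := Subgroup.card_dvd_of_injective f hfinj
      rw [card_stab h.1 P, hk] at hd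
      by_contra hgt
      have := (pow_dvd_pow 2 (show 4 ≤ k by omega)).trans hd
      norm_num at this
    have hk2 : k ≤ 2 := by
      by_contra hgt
      obtain rfl : k = 3 := by omega
      let R := f.range.map (stabilizer (Equiv.Perm (Cls P)) (Quotient.mk'' P : Cls P)).subtype
      have hR : Nat.card R = 8 := by
        rw [card_map_of_injective (subtype_injective _), ← Nat.card_congr (MonoidHom.ofInjective hfinj).toEquiv, hk]
        norm_num
      have : Fintype (Cls P) := Fintype.ofFinite _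
      let RS : Sylow 2 (Equiv.Perm (Cls P)) := Sylow.ofCard R (by
        rw [hR, Nat.card_perm, card_cls h.1 P]
        have h120 : (5 : ℕ).factorial = 2 ^ 3 * 15 := by norm_num [Nat.factorial]
        rw [h120, Nat.factorization_mul (by norm_num) (by norm_num), Finsupp.add_apply,
          Nat.factorization_pow_self Nat.prime_two,
          Nat.factorization_eq_zero_of_not_dvd (show ¬ 2 ∣ 15 by norm_num)]
        rfl)
      obtain ⟨a, b, hab⟩ : ∃ a b : Cls P, a ≠ b := by
        have : Nontrivial (Cls P) := Finite.one_lt_card_iff_nontrivial.mp (by rw [card_cls h.1 P]; norm_num)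
        exact exists_pair_ne _
      obtain ⟨A, hA⟩ := (IsPGroup.of_card (n := 1) (show Nat.card (zpowers (Equiv.swap a b)) = 2 ^ 1 by
        rw [Nat.card_zpowers, pow_one]
        exact orderOf_eq_prime (by rw [sq, Equiv.swap_mul_self]) (fun h1 => hab (Equiv.swap_eq_one_iff.mp h1)))).exists_le_sylow
      obtain ⟨g, hg⟩ := exists_smul_eq (Equiv.Perm (Cls P)) A RS
      have hsw : g * Equiv.swap a b * g⁻¹ ∈ R := by
        have := smul_mem_pointwise_smul _ (MulAut.conj g) (A : Subgroup (Equiv.Perm (Cls P))) (hA (mem_zpowers _))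
        rw [← Sylow.coe_subgroup_smul, hg] at this
        exact this
      rw [← Equiv.swap_apply_apply] at hsw
      obtain ⟨_, ⟨s, rfl⟩, hs⟩ := hsw
      have hsw2 : orderOf (Equiv.swap (g a) (g b)) = 2 :=
        orderOf_eq_prime (by rw [sq, Equiv.swap_mul_self]) (fun h1 => hab (g.injective (Equiv.swap_eq_one_iff.mp h1)))
      have hs2 : orderOf (s : G) = 2 := by
        rw [← hsw2, ← hs, orderOf_coe, ← orderOf_injective f hfinj s]
        exact (orderOf_coe _).symm
      have hfix : ∀ c ∈ ((Finset.univ.erase (g a)).erase (g b)), clsPerm P ⟨s, hSN s.2⟩ c = c := by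
        intro c hc
        simp only [Finset.mem_erase, Finset.mem_univ, and_true] at hc
        change ((stabilizer (Equiv.Perm (Cls P)) (Quotient.mk'' P : Cls P)).subtype (f s)) c = c
        rw [hs, Equiv.swap_apply_of_ne_of_ne hc.2 hc.1]
      have hle := hker _ (hSN s.2) hs2 _ hfix
      rw [Finset.card_erase_of_mem (Finset.mem_erase.mpr ⟨fun h' => hab (g.injective h'.symm), Finset.mem_univ _⟩),
        Finset.card_erase_of_mem (Finset.mem_univ _), Finset.card_univ, ← Nat.card_eq_fintype_card, card_cls h.1 P] at hle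
      rcases hinv _ (hSN s.2) hs2 with h1 | ⟨h5, -⟩
      · omega
      · exact hex ⟨_, s.2, hs2, h5⟩
    -- `|N| ∈ {20, 60}`
    have hN480 := card_normalizer_dvd h P
    have hSN' := S.card_mul_index
    rw [hk, ← hmulN] at hSN'
    have h8 : ¬ 8 ∣ Nat.card N := by
      intro h8
      have h8' : 2 ^ 3 ∣ 2 ^ k * S.index := by rw [hSN']; exact dvd_mul_of_dvd_left h8 _
      have hco : Nat.Coprime (2 ^ 3) S.index :=
        Nat.Coprime.pow_left 3 ((Nat.prime_two.coprime_iff_not_dvd).mpr hSodd)
      have := Nat.le_of_dvd (by positivity) (hco.dvd_of_dvd_mul_right h8')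
      have := Nat.pow_le_pow_right (show 0 < 2 by norm_num) hk2
      omega
    have h60 : Nat.card N ∣ 60 := by
      have hg : Nat.card N ∣ Nat.gcd 480 (Nat.card N) := Nat.dvd_gcd hN480 dvd_rfl
      have hle : Nat.card N ≤ 480 := Nat.le_of_dvd (by norm_num) hN480
      have hdiv : Nat.card N ∈ (480 : ℕ).divisors := Nat.mem_divisors.mpr ⟨hN480, by norm_num⟩
      have key : ∀ x ∈ (480 : ℕ).divisors, 5 ∣ x → ¬ 8 ∣ x → x ∣ 60 := by decide +kernel
      exact key _ hdiv h5N h8
    have hG1 : ∀ m, Nat.card G = 2 * m → Odd m → 1 < m → False := fun m hm ho h1 =>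
      not_isSimpleGroup_of_two_mul_odd hm ho h1 inferInstance
    have hgcd : ∀ m, Nat.card G = 5 * m → ¬ 5 ∣ m → Nat.gcd (m / 21) 4 ≠ 1 := fun m hm hm5 => by
      have := gcd_normalizer_sub_one_ne_one (p := 5) hc hm hm5
      rwa [h.1] at this
    have hcases : Nat.card N = 5 ∨ Nat.card N = 10 ∨ Nat.card N = 15 ∨ Nat.card N = 20 ∨
        Nat.card N = 30 ∨ Nat.card N = 60 := by
      have hdiv : Nat.card N ∈ (60 : ℕ).divisors := Nat.mem_divisors.mpr ⟨h60, by norm_num⟩
      have key : ∀ x ∈ (60 : ℕ).divisors, 5 ∣ x →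
          x = 5 ∨ x = 10 ∨ x = 15 ∨ x = 20 ∨ x = 30 ∨ x = 60 := by decide +kernel
      exact key _ hdiv h5N
    have h7 : ∀ m, Nat.card G = 7 * m → ¬ 7 ∣ m →
        (∀ n ∈ m.divisors.filter (fun n => n % 7 = 1), n = 1 ∨ n = 15 ∨ Nat.gcd (m / n) 6 = 1) → False := by
      intro m hm hm7 hall
      have hmem := card_sylow_mem_candidates (p := 7) (k := 1) (show Nat.card G = 7 ^ 1 * m by rw [pow_one]; exact hm) hm7
      rcases hall _ hmem with h1 | h1 | h1
      · have := one_lt_card_sylow (p := 7) hc (hm ▸ dvd_mul_right 7 m); omega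
      · exact Cfsg.Agent.S4304.result h1
      · exact gcd_normalizer_sub_one_ne_one (p := 7) hc hm hm7 h1
    rcases hcases with hh | hh | hh | hh | hh | hh <;> rw [hh] at hmulN
    · exact hgcd 21 (by omega) (by norm_num) (by norm_num)
    · exact hG1 105 (by omega) (by decide) (by norm_num)
    · exact hgcd 63 (by omega) (by norm_num) (by norm_num)
    · exact h7 60 (by omega) (by norm_num) (by decide +kernel)
    · exact hG1 315 (by omega) (by decide) (by norm_num)
    · exact h7 180 (by omega) (by norm_num) (by decide +kernel)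

theorem not_bad.{u} : ∀ (N : ℕ) (G : Type u) [Group G] [Finite G], Nat.card G = N → ¬ Bad G := by
  intro N
  induction N using Nat.strong_induction_on with
  | _ N ih =>
    intro G _ _ hN h
    have : Nontrivial G := by
      rw [← Finite.one_lt_card_iff_nontrivial]
      obtain ⟨P⟩ := (inferInstance : Nonempty (Sylow 5 G))
      have h1 := card_sylow_five h.1 h.2 P
      have h2 := Subgroup.card_le_card_group (P : Subgroup G)
      omega
    suffices IsSimpleGroup G from not_bad_of_simple h
    refine ⟨fun H hH => ?_⟩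
    by_cases hbot : H = ⊥
    · exact Or.inl hbot
    right
    by_contra htop
    obtain ⟨P⟩ := (inferInstance : Nonempty (Sylow 5 G))
    have hP := card_sylow_five h.1 h.2 P
    have hsmall : Nat.card H < N := by
      rw [← hN]
      exact lt_of_le_of_ne (Subgroup.card_le_card_group H) fun he => htop (eq_top_of_card_eq H he)
    have hmulN := card_normalizer_mul P
    rw [h.1] at hmulN
    have hN480 := card_normalizer_dvd h P
    have h25 : ¬ 25 ∣ Nat.card G := by
      rw [← hmulN]
      intro h25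
      have h25' : 25 ∣ 480 * 21 := h25.trans (Nat.mul_dvd_mul_right hN480 21)
      norm_num at h25'
    by_cases h5 : 5 ∣ Nat.card H
    · have hidx : ¬ 5 ∣ H.index := fun h5' => h25 (by
        rw [← H.card_mul_index]; exact Nat.mul_dvd_mul h5 h5')
      exact ih _ hsmall H rfl ⟨(card_sylow_normal H hidx).trans h.1, faithfulSylow_normal H hidx h.2⟩
    · -- `H` is transitive, so `7 ∣ |H|`
      have hprim : IsPreprimitive G (Sylow 5 G) := by
        refine isPreprimitive_sylow (by rw [h.1]; norm_num) fun d hd hd1 => ?_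
        rw [h.1] at hd ⊢
        have hd' : d ∈ (21 : ℕ).divisors := Nat.mem_divisors.mpr ⟨hd, by norm_num⟩
        rw [show (21 : ℕ).divisors = {1, 3, 7, 21} by decide] at hd'
        simp only [Finset.mem_insert, Finset.mem_singleton] at hd'
        rcases hd' with rfl | rfl | rfl | rfl <;> simp_all
      have htr : IsPretransitive H (Sylow 5 G) := by
        apply MulAction.IsQuasiPreprimitive.isPretransitive_of_normal
        intro hfix
        apply hbot
        rw [eq_bot_iff]
        intro g hg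
        rw [mem_bot]
        refine h.2.eq_one fun Q => ?_
        have : Q ∈ fixedPoints H (Sylow 5 G) := by rw [hfix]; trivial
        exact this ⟨g, hg⟩
      have h21 : 21 ∣ Nat.card H := by
        rw [← h.1, ← index_stabilizer_of_transitive H P]
        exact index_dvd_card _
      -- `|H|_7 = 7`
      obtain ⟨m, hm⟩ : 7 ∣ Nat.card H := dvd_trans (by norm_num) h21
      have hHd : Nat.card H ∣ 480 * 21 :=
        ((card_subgroup_dvd_card H).trans hmulN.symm.dvd).trans (Nat.mul_dvd_mul_right hN480 21)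
      have hm7 : ¬ 7 ∣ m := by
        intro h7
        have : 7 * 7 ∣ 480 * 21 := (Nat.mul_dvd_mul_left 7 h7).trans (hm ▸ hHd)
        norm_num at this
      obtain ⟨R⟩ := (inferInstance : Nonempty (Sylow 7 H))
      set RG := (R : Subgroup H).map H.subtype with hRG
      have hR : Nat.card RG = 7 := by
        rw [card_map_of_injective H.subtype_injective]
        simpa using card_sylow_subgroup_eq (G := H) (k := 1) (show Nat.card H = 7 ^ 1 * m by rw [pow_one]; exact hm) hm7 R
      have hfr : normalizer (RG : Set G) ⊔ H = ⊤ := R.normalizer_sup_eq_top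
      have h5N : 5 ∣ Nat.card (normalizer (RG : Set G)) := by
        have hh := relIndex_sup_right (K := H) (H := normalizer (RG : Set G))
        rw [hfr, relIndex_top_right] at hh
        have hidx : 5 ∣ H.index := by
          have h5G : 5 ∣ Nat.card H * H.index := by
            rw [H.card_mul_index]; exact hP ▸ card_subgroup_dvd_card _
          exact ((Fact.out : Nat.Prime 5).dvd_mul.mp h5G).resolve_left h5
        rw [hh] at hidx
        exact hidx.trans (relIndex_dvd_card _ _)
      obtain ⟨z, hz⟩ := exists_prime_orderOf_dvd_card' (G := normalizer (RG : Set G)) 5 h5N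
      have hzG : orderOf (z : G) = 5 := by rw [orderOf_coe]; exact hz
      -- `z` centralizes `RG`
      have hcycR : IsCyclic RG := isCyclic_of_prime_card hR
      have hzc : RG.normalizerMonoidHom z = 1 := by
        rw [← orderOf_eq_one_iff]
        have hR' := IsCyclic.card_mulAut (G := RG)
        rw [hR, Nat.totient_prime (by norm_num)] at hR'
        exact Nat.eq_one_of_dvd_coprimes (by norm_num : Nat.Coprime 5 6) (hz ▸ orderOf_map_dvd _ z)
          ((orderOf_dvd_natCard (RG.normalizerMonoidHom z)).trans hR'.dvd)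
      have hzP : Nat.card (zpowers (z : G)) = 5 ^ 1 := by rw [Nat.card_zpowers, hzG, pow_one]
      obtain ⟨Q, hQ⟩ := (IsPGroup.of_card hzP).exists_le_sylow
      have hQeq : zpowers (z : G) = (Q : Subgroup G) :=
        eq_of_le_of_card_ge hQ (by rw [card_sylow_five h.1 h.2 Q, hzP, pow_one])
      have hRle : RG ≤ centralizer ((Q : Subgroup G) : Set G) := by
        intro r hr
        rw [← hQeq, mem_centralizer_iff]
        intro y hy
        have h1 : (z : G) * r * (z : G)⁻¹ = r := congrArg Subtype.val (DFunLike.congr_fun hzc (⟨r, hr⟩ : RG))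
        have hcomm : Commute (z : G) r := by
          change (z : G) * r = r * z
          conv_rhs => rw [← h1]
          group
        obtain ⟨n, rfl⟩ := mem_zpowers_iff.mp hy
        exact (hcomm.zpow_left n).eq
      have := (card_dvd_of_le hRle).trans (card_centralizer_dvd h Q)
      rw [hR] at this
      norm_num at this

/-- No finite group has exactly twenty-one Sylow 5-subgroups. -/
theorem result {G : Type*} [Group G] [Finite G] : Nat.card (Sylow 5 G) ≠ 21 := by
  intro h
  exact not_bad _ _ rfl ⟨card_sylow_range_toPermHom.trans h, faithfulSylow_range⟩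

end Cfsg.Agent.S1010
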