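import Cfsg.Statements.S0978
import Cfsg.Agent.Blocks.PrimeGram.FullAutomizer
import Cfsg.Agent.S1010
-- import your own Cfsg.Agent.* helpers here

set_option autoImplicit false
open Cfsg

namespace Cfsg.Agent.S0978

open CfsgLib.Chars CfsgLib.PrimeGram Cfsg

variable {G : Type*} [Group G] [Finite G] [IsSimpleGroup G]

/-- An element of order `3` centralising a Sylow `7`-subgroup with normaliser of order `42`. -/
theorem case_three (hG : ¬ IsMulCommutative G) (hcard : Nat.card G = 5040) [Fact (Nat.Prime 7)]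
    (P : Sylow 7 G) (hP : Nat.card (P : Subgroup G) = 7)
    (hN : Nat.card (Subgroup.normalizer ((P : Subgroup G) : Set G)) = 42)
    (hC : Nat.card (Subgroup.centralizer ((P : Subgroup G) : Set G)) = 21) : False := by
  haveI : Fact (Nat.Prime 3) := ⟨by norm_num⟩
  haveI : Fact (Nat.Prime 5) := ⟨by norm_num⟩
  haveI := Fintype.ofFinite G
  obtain ⟨x, hx, hz, -⟩ := CfsgLib.Blocks.OrderP.exists_generator_sylow P hP
  obtain ⟨u, hu, hu1, hux, -⟩ := exists_commuting_element (p := 7) hz 3 (by norm_num)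
    (by rw [hC]; norm_num)
  set H := Subgroup.centralizer ({u} : Set G) with hH
  have hxH : x ∈ H := Subgroup.mem_centralizer_singleton_iff.mpr hux.eq
  have hPH : (P : Subgroup G) ≤ H := hz ▸ Subgroup.zpowers_le.mpr hxH
  have huH : u ∈ H := Subgroup.mem_centralizer_singleton_iff.mpr rfl
  -- a Sylow 3-subgroup through `u` is abelian
  have h9 : 9 ∣ Nat.card H := by
    obtain ⟨T, hT⟩ :=
      (IsPGroup.of_card (n := 1) (by rw [Nat.card_zpowers, hu, pow_one]) :
        IsPGroup 3 (Subgroup.zpowers u)).exists_le_sylow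
    have hTc : Nat.card (T : Subgroup G) = 3 ^ 2 :=
      ((CfsgLib.SmallSimple.card_sylow_constraints (G := G) 3 560 (k := 2)
        (by rw [hcard]; norm_num) (by norm_num)).2.2 T).1
    refine hTc.symm.dvd.trans (Subgroup.card_dvd_of_le fun t ht => ?_)
    letI := IsPGroup.commGroupOfCardEqPrimeSq hTc
    exact Subgroup.mem_centralizer_singleton_iff.mpr (congrArg Subtype.val
      (mul_comm (⟨t, ht⟩ : (T : Subgroup G)) ⟨u, hT (Subgroup.mem_zpowers u)⟩))
  have hHG : Nat.card H ∣ 5040 := hcard ▸ Subgroup.card_subgroup_dvd_card H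
  set Q := P.subtype hPH with hQ
  obtain ⟨m, hm⟩ : 7 ∣ Nat.card H := hP.symm.dvd.trans (Subgroup.card_dvd_of_le hPH)
  have hm7 : ¬ 7 ∣ m := fun hd => by
    have h49 : 7 * 7 ∣ 5040 := (Nat.mul_dvd_mul_left 7 hd).trans (hm ▸ hHG)
    norm_num at h49
  obtain ⟨hn1, hn2, hn3⟩ := CfsgLib.SmallSimple.card_sylow_constraints (G := H) 7 m (k := 1)
    (by rw [pow_one, hm]) hm7
  obtain ⟨-, hNH⟩ := hn3 Q
  rw [pow_one, ← hm] at hNH
  have hNQ : ∃ j, Nat.card (Subgroup.normalizer ((Q : Subgroup H) : Set H)) = 21 * j ∧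
      (j = 1 ∨ j = 2) := by
    have hQP : ((Q : Subgroup H)) = (P : Subgroup G).subgroupOf H := rfl
    set M := Subgroup.normalizer ((Q : Subgroup H) : Set H)
    have hle : M.map H.subtype ≤ Subgroup.normalizer ((P : Subgroup G) : Set G) := by
      have h := Subgroup.le_normalizer_map (H := (Q : Subgroup H)) H.subtype
      rwa [hQP, Subgroup.map_subgroupOf_eq_of_le hPH] at h
    have h42 : Nat.card M ∣ 42 := by
      rw [Nat.card_congr (M.equivMapOfInjective _ H.subtype_injective).toEquiv, ← hN]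
      exact Subgroup.card_dvd_of_le hle
    have h7 : 7 ∣ Nat.card M :=
      ((Nat.card_congr (Subgroup.subgroupOfEquivOfLe hPH).toEquiv).trans hP).symm.dvd.trans
        (Subgroup.card_dvd_of_le (hQP ▸ Subgroup.le_normalizer))
    have h3 : 3 ∣ Nat.card M := by
      have hmem : (⟨u, huH⟩ : H) ∈ M := by
        refine Subgroup.centralizer_le_normalizer _ (fun q hq => ?_)
        apply Subtype.ext
        have hq' : (q : G) ∈ (P : Subgroup G) := hq
        rw [← hz] at hq'
        obtain ⟨i, hi⟩ := Subgroup.mem_zpowers_iff.mp hq'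
        show (q : G) * u = u * (q : G)
        rw [← hi]
        exact (hux.zpow_left i).eq
      have := Subgroup.orderOf_dvd_natCard _ hmem
      rwa [Subgroup.orderOf_mk, hu] at this
    obtain ⟨j, hj⟩ : 21 ∣ Nat.card M := Nat.Coprime.mul_dvd_of_dvd_of_dvd (m := 7) (n := 3)
      (by norm_num) h7 h3
    refine ⟨j, hj, ?_⟩
    rw [hj] at h42
    have := Nat.le_of_dvd (by norm_num) h42
    have : 0 < 21 * j := hj ▸ Nat.card_pos
    omega
  obtain ⟨j, hj, hj'⟩ := hNQ
  rw [hj] at hNH
  set n := Nat.card (Sylow 7 H) with hndef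
  have hcases : Nat.card H = 315 ∨ Nat.card H = 630 ∨ Nat.card H = 2520 ∨ Nat.card H = 5040 := by
    have hnd : n ∣ 5040 := (Dvd.intro _ hNH).trans hHG
    have key : ∀ n ∈ Nat.divisors 5040, n % 7 = 1 → ∀ j ∈ ([1, 2] : List ℕ),
        n * (21 * j) % 9 = 0 → 5040 % (n * (21 * j)) = 0 →
        n * (21 * j) = 315 ∨ n * (21 * j) = 630 ∨ n * (21 * j) = 2520 ∨ n * (21 * j) = 5040 := by
      decide +kernel
    rw [← hNH]
    exact key n (Nat.mem_divisors.mpr ⟨hnd, by norm_num⟩) hn2 j (by simpa using hj')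
      (Nat.mod_eq_zero_of_dvd (hNH ▸ h9)) (Nat.mod_eq_zero_of_dvd (hNH ▸ hHG))
  have hHne : H ≠ ⊤ := fun h => by
    have hu' : u ∈ Subgroup.center G := Subgroup.mem_center_iff.mpr fun g =>
      Subgroup.mem_centralizer_singleton_iff.mp (h.symm ▸ Subgroup.mem_top g : g ∈ H)
    rcases (Subgroup.center G).normal_of_characteristic.eq_bot_or_eq_top with e | e
    · exact hu1 (Subgroup.mem_bot.mp (e ▸ hu'))
    · exact hG ⟨⟨fun a b => (Subgroup.mem_center_iff.1 (e ▸ Subgroup.mem_top b) a)⟩⟩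
  have hidx := H.card_mul_index
  rw [hcard] at hidx
  rcases hcases with h | h | h | h
  · -- a normal subgroup of order 5 would be centralised by `x`
    have h5 := CfsgLib.SmallSimple.card_sylow_constraints (G := H) 5 63 (k := 1)
      (by rw [h]; norm_num) (by norm_num)
    obtain ⟨F⟩ := (inferInstance : Nonempty (Sylow 5 H))
    have hn5 : Nat.card (Sylow 5 H) = 1 := by
      have hne : Nat.card (Sylow 5 H) ≠ 21 := Cfsg.Agent.S1010.result
      have hd : Nat.card (Sylow 5 H) ∈ Nat.divisors 63 :=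
        Nat.mem_divisors.mpr ⟨h5.1, by norm_num⟩
      have key : ∀ n ∈ Nat.divisors 63, n % 5 = 1 → n ≠ 21 → n = 1 := by decide +kernel
      exact key _ hd h5.2.1 hne
    haveI : Subsingleton (Sylow 5 H) := (Nat.card_eq_one_iff_unique.1 hn5).1
    haveI hFn : (F : Subgroup H).Normal := F.normal_of_subsingleton
    obtain ⟨hFc, -⟩ := h5.2.2 F
    rw [pow_one] at hFc
    haveI := isCyclic_of_prime_card hFc
    set α := MulAut.conjNormal (H := (F : Subgroup H)) (⟨x, hxH⟩ : H)
    have hα : α = 1 := by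
      refine orderOf_eq_one_iff.mp (Nat.dvd_one.mp ?_)
      have h1 : orderOf α ∣ 7 :=
        (orderOf_map_dvd _ _).trans (by rw [Subgroup.orderOf_mk, hx])
      have h2 : orderOf α ∣ 4 := by
        have := orderOf_dvd_natCard α
        rwa [IsCyclic.card_mulAut, hFc, Nat.totient_prime (by norm_num)] at this
      exact (Nat.dvd_gcd h1 h2).trans (by norm_num : Nat.gcd 7 4 ∣ 1)
    haveI : Nontrivial (F : Subgroup H) := Finite.one_lt_card_iff_nontrivial.mp (by rw [hFc]; norm_num)
    obtain ⟨y, hy⟩ := exists_ne (1 : (F : Subgroup H))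
    have hcom : x * ((y : H) : G) * x⁻¹ = ((y : H) : G) :=
      congrArg (fun w : (F : Subgroup H) => ((w : H) : G)) (MulEquiv.congr_fun hα y)
    have hyC : ((y : H) : G) ∈ Subgroup.centralizer ((P : Subgroup G) : Set G) := by
      rw [← hz, Subgroup.zpowers_eq_closure, Subgroup.centralizer_closure,
        Subgroup.mem_centralizer_singleton_iff]
      exact (mul_inv_eq_iff_eq_mul.mp hcom).symm
    have h21 := Subgroup.orderOf_dvd_natCard _ hyC
    rw [hC, Subgroup.orderOf_coe, Subgroup.orderOf_coe] at h21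
    have h5' : orderOf y ∣ 5 := (orderOf_dvd_natCard y).trans hFc.dvd
    have : orderOf y ∣ 1 := (Nat.dvd_gcd h5' h21).trans (by norm_num : Nat.gcd 5 21 ∣ 1)
    exact hy (orderOf_eq_one_iff.mp (Nat.dvd_one.mp this))
  · rw [h] at hidx
    have hd := CfsgLib.SmallSimple.two_mul_card_normalizer_dvd hG 7 (by norm_num) P hP H
      (Or.inr (by omega))
    rw [hN] at hd
    norm_num at hd
  all_goals
    rw [h] at hidx
    have hd := CfsgLib.SmallSimple.card_dvd_factorial_index hG H hHne
    rcases (show H.index = 1 ∨ H.index = 2 by omega) with e | e <;> rw [e, hcard] at hd <;>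
      norm_num [Nat.factorial] at hd

set_option synthInstance.maxSize 4000 in
set_option maxHeartbeats 1000000 in
/-- No finite simple group has order 5040 = 2^4 * 3^2 * 5 * 7. -/
theorem result {G : Type*} [Group G] [Finite G] [IsSimpleGroup G] : Nat.card G ≠ 5040 := by
  intro hcard
  haveI : Fact (Nat.Prime 7) := ⟨by norm_num⟩
  haveI : Fact (Nat.Prime 2) := ⟨Nat.prime_two⟩
  haveI := Fintype.ofFinite G
  have hG : ¬ IsMulCommutative G :=
    CfsgLib.SmallSimple.not_comm_of_card_not_prime (by rw [hcard]; norm_num)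
  obtain ⟨hn, hP⟩ := CfsgLib.PrimeGram.card_sylow_mem_of_constraints hG 7 720
    (by rw [hcard]) (by norm_num)
  rw [show (Nat.divisors 720).filter (fun n => n % 7 = 1 ∧ n ≠ 1) = {8, 15, 36, 120} from by
    decide +kernel] at hn
  simp only [Finset.mem_insert, Finset.mem_singleton] at hn
  obtain ⟨P⟩ := (inferInstance : Nonempty (Sylow 7 G))
  obtain ⟨hPc, hN⟩ := hP P
  have h8 : Nat.card (Sylow 7 G) ≠ 8 := by
    intro h
    have hd := CfsgLib.SmallSimple.two_mul_card_normalizer_dvd hG 7 (by norm_num) P hPc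
      (Subgroup.normalizer ((P : Subgroup G) : Set G))
      (Or.inr ((Sylow.card_eq_index_normalizer P).symm.trans h))
    rw [h] at hN
    rw [show Nat.card (Subgroup.normalizer ((P : Subgroup G) : Set G)) = 630 by omega] at hd
    norm_num at hd
  obtain ⟨k, hk, hk'⟩ : ∃ k, Nat.card (Subgroup.normalizer ((P : Subgroup G) : Set G)) = 7 * k ∧
      ((k = 48 ∧ Nat.card (Sylow 7 G) = 1 + 7 * 2) ∨ k = 20 ∨ k = 6) := by
    rcases hn with h | h | h | h
    · exact absurd h h8
    all_goals rw [h] at hN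
    · exact ⟨48, by omega, Or.inl ⟨rfl, h⟩⟩
    · exact ⟨20, by omega, by omega⟩
    · exact ⟨6, by omega, by omega⟩
  obtain ⟨e, c, he, hc, hec, he1, hed⟩ := exists_index_split hG P hPc hk
  have he6 : e = 2 ∨ e = 3 ∨ e = 6 := by
    have hle : e ≤ 6 := Nat.le_of_dvd (by norm_num) hed
    interval_cases e <;> omega
  rcases hk' with ⟨rfl, hn15⟩ | hk'
  · have hd := dvd_factorial_orbits hG P hPc hc hn15
    have : c ≤ 6 := Nat.le_of_dvd (by decide) hd
    rcases he6 with rfl | rfl | rfl <;> omega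
  have hsplit : (e = 2 ∧ c = 10) ∨ (e = 2 ∧ c = 3) ∨ (e = 3 ∧ c = 2) ∨ (e = 6 ∧ c = 1) := by
    rcases hk' with rfl | rfl <;> rcases he6 with rfl | rfl | rfl <;> omega
  rcases hsplit with ⟨rfl, rfl⟩ | ⟨rfl, rfl⟩ | ⟨rfl, rfl⟩ | ⟨rfl, rfl⟩
  rotate_left 1
  · exact case_three hG hcard P hPc (by rw [hk]; omega) (by rw [hc])
  rotate_left 1
  · -- a self-centralising Sylow 7-subgroup
    obtain ⟨x, S, v, hx, hz, hS, hone, hv1, hv, hdv, hval, hvan⟩ :=
      exists_signs P hPc he (by rw [hc])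
    obtain ⟨Sx, hCx⟩ := setup_bot hx hz (by rw [hc])
    obtain ⟨z, hz1, hz2, hzx⟩ := exists_inverting hx (by norm_num) hz
      (by rw [hk]; omega) (by rw [hc]; norm_num)
    have hvx : ∀ χ ∈ S, (χ : G → ℂ) x = (v χ : ℂ) := fun χ hχ => by
      have := hval χ hχ 1 one_ne_zero; rwa [pw_one] at this
    have hcint : ∀ χ : IrrCharacter G, ∃ c : ℤ, (χ : G → ℂ) z = (c : ℂ) := fun χ => by
      obtain ⟨a, b, -, h2, -⟩ :=
        exists_even_neg (linear_trivial_of_simple hG) hz2 (isCharacter_coe χ)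
      exact ⟨(a : ℤ) - b, by rw [h2]; push_cast; ring⟩
    choose cz hcz using hcint
    let opts : List (ℤ × ℕ × ℤ) := [(1, 8, 0), (1, 15, -1), (1, 15, 3), (-1, 20, 0), (1, 36, -4),
      (1, 36, 0), (1, 36, 4), (-1, 48, -4), (-1, 48, 0), (-1, 48, 4)]
    let tr : IrrCharacter G → ℤ × ℕ × ℤ := fun χ => (v χ, charDegree (χ : G → ℂ), cz χ)
    have hopt : ∀ χ ∈ S.erase (oneChar G), tr χ ∈ opts := by
      intro χ hχ
      have hχS := Finset.mem_of_mem_erase hχ
      have hne := Finset.ne_of_mem_erase hχ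
      obtain ⟨a, b, h1, h2, hb⟩ :=
        exists_even_neg (linear_trivial_of_simple hG) hz2 (isCharacter_coe χ)
      have hab : charDegree (χ : G → ℂ) = a + b :=
        charDegree_eq_of_map_one (by rw [h1]; push_cast; ring)
      obtain ⟨m₁, m₂, hm, hcm⟩ := mult_inverting hx (by norm_num) hz2 hzx (isCharacter_coe χ)
        (isClassFunction_coe χ) (v χ) (fun i hi => hval χ hχS i hi) _ (coe_charDegree χ).symm
        (cz χ) (hcz χ)
      have hcab : cz χ = (a : ℤ) - b := by
        have h := hcz χ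
        rw [h2] at h
        exact_mod_cast h.symm
      have h2le : 2 ≤ charDegree (χ : G → ℂ) := by
        have := charDegree_pos χ
        by_contra h
        exact hne (linear_eq_one hG χ (by omega))
      have hlt : charDegree (χ : G → ℂ) < 71 := by
        have h := charDegree_sq_le χ
        rw [hcard] at h
        nlinarith
      have hdm := hdv χ hχS
      have key : ∀ d ∈ Finset.range 71, d ∣ 5040 → 2 ≤ d → d % 7 = 1 ∨ d % 7 = 6 →
          d = 6 ∨ d = 8 ∨ d = 15 ∨ d = 20 ∨ d = 36 ∨ d = 48 := by decide +kernel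
      have hd6 := key _ (Finset.mem_range.mpr hlt) (hcard ▸ charDegree_dvd_card χ) h2le (by
        rcases hv χ hχS with e | e <;> rw [e] at hdm <;> push_cast at hdm <;> omega)
      obtain ⟨j, rfl⟩ := hb
      push_cast at hm hdm
      rcases hd6 with e | e | e | e | e | e <;> rcases hv χ hχS with e' | e' <;>
        rw [e'] at hm hdm <;> rw [e] at hm hdm hab <;>
        first
        | (exfalso; omega)
        | (simp only [tr, opts, e, e', List.mem_cons, List.not_mem_nil, Prod.mk.injEq, true_and,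
            false_and, and_true, or_false, false_or, Nat.reduceEqDiff, reduceCtorEq]
           norm_num
           omega)
    let wt : ℤ × ℕ × ℤ → ℤ × ℤ × ℤ := fun o =>
      (o.1 * o.2.1, o.1 * o.2.2, o.1 * o.2.2 ^ 2 * (720 / (o.2.1 : ℤ)))
    let good : ℤ × ℤ × ℤ → Bool := fun w =>
      decide (w.1 = 0 ∧ w.2.1 = 0) && (List.range 100).any fun k => decide ((k : ℤ) * k = w.2.2)
    set l := (S.erase (oneChar G)).toList.map tr with hl
    have hbad := noMultiset_sound good wt opts 6 ((1, 1, 720) : ℤ × ℤ × ℤ) l (by decide +kernel)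
      (by rw [hl, List.length_map, Finset.length_toList, Finset.card_erase_of_mem hone, hS])
      (fun o ho => by
        obtain ⟨χ, hχ, rfl⟩ := List.mem_map.mp ho
        exact hopt χ (Finset.mem_toList.mp hχ))
    have hsum : (l.map wt).sum = ∑ χ ∈ S.erase (oneChar G), wt (tr χ) := by
      rw [hl, List.map_map, Finset.sum_map_toList]; rfl
    rw [hsum] at hbad
    have hc1 : cz (oneChar G) = 1 := by
      have := hcz (oneChar G); rw [oneChar_apply] at this; exact_mod_cast this.symm
    have hone' : charDegree (oneChar G : G → ℂ) = 1 := charDegree_linChar 1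
    have hw1 : ((1, 1, 720) : ℤ × ℤ × ℤ) = wt (tr (oneChar G)) := by
      simp [wt, tr, hv1, hc1, hone']
    rw [hw1, Finset.add_sum_erase S (fun χ => wt (tr χ)) hone] at hbad
    -- the three relations
    have hx1 : x ≠ 1 := fun h => by rw [h, orderOf_one] at hx; norm_num at hx
    have hA : ∑ χ ∈ S, v χ * (charDegree (χ : G → ℂ) : ℤ) = 0 := by
      have h := sum_irr_map_one_mul x
      rw [if_neg hx1, ← Finset.sum_subset (Finset.subset_univ S)
        (fun χ _ hχ => by rw [hvan χ hχ, mul_zero]),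
        Finset.sum_congr rfl fun (χ : IrrCharacter G) hχ => show (χ : G → ℂ) 1 * (χ : G → ℂ) x =
          ((v χ * (charDegree (χ : G → ℂ) : ℤ) : ℤ) : ℂ) by
          rw [hvx χ hχ]; push_cast; rw [coe_charDegree]; ring] at h
      exact_mod_cast h
    have hB : ∑ χ ∈ S, v χ * cz χ = 0 := by
      have h := sum_irr_mul_conj z x
      have hnc : ¬ IsConj z x := fun hc => by
        obtain ⟨g, hg⟩ := isConj_iff.mp hc
        have hxx : x * x = 1 := by
          rw [← hg]
          calc g * z * g⁻¹ * (g * z * g⁻¹) = g * (z * z) * g⁻¹ := by group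
            _ = 1 := by rw [hz2]; group
        have : orderOf x ∣ 2 := orderOf_dvd_of_pow_eq_one (by rw [pow_two, hxx])
        rw [hx] at this; norm_num at this
      rw [if_neg hnc, ← Finset.sum_subset (Finset.subset_univ S)
        (fun χ _ hχ => by rw [hvan χ hχ, map_zero, mul_zero]),
        Finset.sum_congr rfl fun (χ : IrrCharacter G) hχ => show (χ : G → ℂ) z * (starRingEnd ℂ) ((χ : G → ℂ) x) =
          ((v χ * cz χ : ℤ) : ℂ) by
          rw [hvx χ hχ, hcz χ, map_intCast]; push_cast; ring] at h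
      exact_mod_cast h
    have hCz : ∑ χ ∈ S, v χ * cz χ ^ 2 * (720 / (charDegree (χ : G → ℂ) : ℤ)) =
        (Nat.card (Subgroup.centralizer ({z} : Set G)) : ℤ) ^ 2 := by
      have h := sum_pairs z x
      rw [Sx.card_pairs (by norm_num) hz2 hzx, ← Finset.sum_subset (Finset.subset_univ S)
        (fun χ _ hχ => by
          rw [map_inv_eq_conj (isCharacter_coe χ), hvan χ hχ, map_zero]; ring)] at h
      have hterm : ∀ χ ∈ S, (χ : G → ℂ) x⁻¹ * ((χ : G → ℂ) z * (χ : G → ℂ) z) *
          ((Nat.card G : ℂ) / (χ : G → ℂ) 1) =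
          ((7 * (v χ * cz χ ^ 2 * (720 / (charDegree (χ : G → ℂ) : ℤ))) : ℤ) : ℂ) := by
        intro χ hχ
        rw [map_inv_eq_conj (isCharacter_coe χ), hvx χ hχ, hcz χ, map_intCast, hcard,
          ← coe_charDegree χ]
        have hd0 : (charDegree (χ : G → ℂ) : ℤ) ∣ 720 := by
          by_cases h1 : χ = oneChar G
          · rw [h1, hone']; exact one_dvd _
          · have := hopt χ (Finset.mem_erase.mpr ⟨h1, hχ⟩)
            simp only [tr, opts, List.mem_cons, List.not_mem_nil, Prod.mk.injEq, or_false] at this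
            rcases this with h | h | h | h | h | h | h | h | h | h <;> rw [h.2.1] <;> norm_num
        obtain ⟨q, hq⟩ := hd0
        have hdne : (charDegree (χ : G → ℂ) : ℂ) ≠ 0 := Nat.cast_ne_zero.mpr (charDegree_pos χ).ne'
        rw [hq, Int.mul_ediv_cancel_left _ (by exact_mod_cast (charDegree_pos χ).ne')]
        have hqC : (720 : ℂ) = (charDegree (χ : G → ℂ) : ℂ) * (q : ℂ) := by exact_mod_cast hq
        push_cast
        field_simp
        linear_combination (7 * (v χ : ℂ) * (cz χ : ℂ) ^ 2) * hqC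
      rw [Finset.sum_congr rfl hterm, ← Int.cast_sum, ← Finset.mul_sum] at h
      have h' : (7 : ℤ) * (Nat.card (Subgroup.centralizer ({z} : Set G)) : ℤ) ^ 2 =
          7 * ∑ χ ∈ S, v χ * cz χ ^ 2 * (720 / (charDegree (χ : G → ℂ) : ℤ)) := by
        apply Int.cast_injective (α := ℂ); push_cast at h ⊢; exact_mod_cast h
      linarith
    have hbound : ∑ χ ∈ S, v χ * cz χ ^ 2 * (720 / (charDegree (χ : G → ℂ) : ℤ)) < 100 * 100 := by
      refine lt_of_le_of_lt (Finset.sum_le_card_nsmul S _ 720 fun χ hχ => ?_) (by rw [hS]; norm_num)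
      by_cases h1 : χ = oneChar G
      · subst h1; rw [hv1, hc1, hone']; norm_num
      · have := hopt χ (Finset.mem_erase.mpr ⟨h1, hχ⟩)
        simp only [tr, opts, List.mem_cons, List.not_mem_nil, Prod.mk.injEq, or_false] at this
        rcases this with h | h | h | h | h | h | h | h | h | h <;>
          rw [h.1, h.2.1, h.2.2] <;> norm_num
    have hprod : ∑ χ ∈ S, wt (tr χ) = (0, 0, (Nat.card (Subgroup.centralizer ({z} : Set G)) : ℤ) ^ 2) := by
      refine Prod.ext ?_ (Prod.ext ?_ ?_)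
      · rw [Prod.fst_sum]; exact hA
      · rw [Prod.snd_sum, Prod.fst_sum]; exact hB
      · rw [Prod.snd_sum, Prod.snd_sum]; exact hCz
    rw [hprod] at hbad
    simp only [good, decide_true, and_self, Bool.true_and, List.any_eq_false, List.mem_range,
      decide_eq_true_eq] at hbad
    rw [hCz] at hbound
    refine hbad (Nat.card (Subgroup.centralizer ({z} : Set G))) ?_ (by push_cast; ring)
    have : Nat.card (Subgroup.centralizer ({z} : Set G)) ^ 2 < 100 ^ 2 := by
      norm_num; exact_mod_cast hbound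
    exact lt_of_pow_lt_pow_left₀ 2 (Nat.zero_le _) this
  all_goals
    obtain ⟨-, x, X, Y, εX, ε, hz, D⟩ := exists_blockData hG P hPc _ (by norm_num) he
    obtain ⟨u, hu, hu1, hux, hu7⟩ := exists_commuting_element (p := 7) hz 2 (by norm_num)
      (by rw [hc]; norm_num)
    have hu2 : u * u = 1 := by rw [← pow_two, ← hu, pow_orderOf_eq_one]
    have hone : charDegree (oneChar G : G → ℂ) = 1 := charDegree_linChar 1
    obtain ⟨θ, hθ⟩ : Y.Nonempty := Finset.card_pos.mp (by rw [D.cardY]; norm_num)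
    have hθ1 : θ ≠ oneChar G := fun h => Finset.disjoint_left.mp D.disj D.oneX (h ▸ hθ)
    have hlt : ∀ χ : IrrCharacter G, charDegree (χ : G → ℂ) < 71 := fun χ => by
      have h := charDegree_sq_le χ
      rw [hcard] at h
      nlinarith
    have hmem : ∀ χ : IrrCharacter G,
        charDegree (χ : G → ℂ) ∈ (Finset.range 71).filter (fun d => d ∣ 5040 ∧ 2 ≤ d) ∨
          χ = oneChar G := fun χ => by
      by_cases h : χ = oneChar G
      · exact Or.inr h
      · refine Or.inl (Finset.mem_filter.mpr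
          ⟨Finset.mem_range.mpr (hlt χ), hcard ▸ charDegree_dvd_card χ, ?_⟩)
        have h1 := charDegree_pos χ
        by_contra h2
        exact h (linear_eq_one hG χ (by omega))
    have hBmem := (hmem θ).resolve_right hθ1
    have hX : ∀ χ ∈ X.erase (oneChar G),
        charDegree (χ : G → ℂ) ∈ ((Finset.range 71).filter (fun d => d ∣ 5040 ∧ 2 ≤ d)).filter
          (fun d => 14 < d ∧ (d % 7 = 1 ∨ d % 7 = 6)) ∧
        ∃ b : ℕ, 0 < b ∧ 14 ∣ b ∧ b < charDegree (χ : G → ℂ) ∧
          (χ : G → ℂ) u = (charDegree (χ : G → ℂ) : ℂ) - 2 * b := fun χ hχ => by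
      have hχX := Finset.mem_of_mem_erase hχ
      have hne := Finset.ne_of_mem_erase hχ
      obtain ⟨b, hb0, hbd, hblt, hval⟩ := D.two_mul_lt_degree hG (by norm_num) hχX hne hu1 hu2 hux
      have h14 : 14 ≤ b := Nat.le_of_dvd hb0 hbd
      refine ⟨Finset.mem_filter.mpr ⟨(hmem χ).resolve_right hne, by omega, ?_⟩,
        b, hb0, hbd, hblt, hval⟩
      have hcg := D.congrX χ hχX
      rcases D.signX χ hχX with h | h <;> rw [h] at hcg <;> push_cast at hcg <;> omega
    have hcY := D.congrY θ hθ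
    have hdeq := D.degree_eq hθ
    rw [← Finset.add_sum_erase _ _ D.oneX, D.signOne, hone] at hdeq
    have hrel := D.rel θ hθ u hu7
    rw [← Finset.add_sum_erase _ _ D.oneX, D.signOne, oneChar_apply] at hrel
  · -- degrees 15 and 16
    obtain ⟨α, hα⟩ := Finset.card_eq_one.mp (show (X.erase (oneChar G)).card = 1 by
      rw [Finset.card_erase_of_mem D.oneX, D.cardX])
    obtain ⟨hαA, b, hb0, hbd, hblt, hval⟩ := hX α (hα ▸ Finset.mem_singleton_self α)
    have hαX : α ∈ X := Finset.mem_of_mem_erase (hα ▸ Finset.mem_singleton_self α)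
    rw [hα, Finset.sum_singleton] at hdeq hrel
    have key : ∀ A ∈ ((Finset.range 71).filter (fun d => d ∣ 5040 ∧ 2 ≤ d)).filter
          (fun d => 14 < d ∧ (d % 7 = 1 ∨ d % 7 = 6)),
        ∀ B ∈ (Finset.range 71).filter (fun d => d ∣ 5040 ∧ 2 ≤ d),
        ∀ a ∈ ([1, -1] : List ℤ), ∀ s ∈ ([1, -1] : List ℤ),
        (A : ℤ) % 7 = a % 7 → (B : ℤ) % 7 = (s * 2) % 7 → s * (B : ℤ) = 1 * 1 + a * A →
        A = 15 ∧ B = 16 ∧ a = 1 ∧ s = 1 := by decide +kernel
    obtain ⟨hA, hB, ha, hs⟩ := key _ hαA _ hBmem (εX α) (by simpa using D.signX α hαX) ε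
      (by simpa using D.sign) (D.congrX α hαX) hcY (by exact_mod_cast hdeq)
    rw [hA] at hblt
    have hb : b = 14 := by obtain ⟨j, rfl⟩ := hbd; omega
    have hαu : (α : G → ℂ) u = ((-13 : ℤ) : ℂ) := by rw [hval, hA, hb]; norm_num
    obtain ⟨K, hK, hKd⟩ := charDegree_dvd_class α u (-13) hαu
    rw [hA] at hKd
    norm_num at hKd
    have hθu : ∀ θ' ∈ Y, (θ' : G → ℂ) u = ((-12 : ℤ) : ℂ) := fun θ' hθ' => by
      have h := D.rel θ' hθ' u hu7
      rw [← Finset.add_sum_erase _ _ D.oneX, D.signOne, oneChar_apply, hα, Finset.sum_singleton,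
        hαu, hs, ha] at h
      push_cast at h ⊢
      linear_combination h
    let V : IrrCharacter G → ℤ := fun χ => if χ = oneChar G then 1 else if χ = α then -13 else -12
    have hle := sum_sq_le_centralizer (X ∪ Y) u V fun χ hχ => by
      rcases Finset.mem_union.mp hχ with h | h
      · rw [← Finset.insert_erase D.oneX, hα, Finset.mem_insert, Finset.mem_singleton] at h
        rcases h with h | h
        · subst h; simp [V]
        · have : α ≠ oneChar G := Finset.ne_of_mem_erase (hα ▸ Finset.mem_singleton_self α)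
          rw [h]; simp [V, this, hαu]
      · have h1 : χ ≠ oneChar G := fun e => Finset.disjoint_left.mp D.disj D.oneX (e ▸ h)
        have h2 : χ ≠ α := fun e => Finset.disjoint_left.mp D.disj hαX (e ▸ h)
        simp [V, h1, h2, hθu χ h]
    rw [Finset.sum_union D.disj, ← Finset.add_sum_erase _ _ D.oneX, hα, Finset.sum_singleton,
      Finset.sum_congr (s₁ := Y) rfl (fun χ h => show V χ ^ 2 = 144 by
        have h1 : χ ≠ oneChar G := fun e => Finset.disjoint_left.mp D.disj D.oneX (e ▸ h)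
        have h2 : χ ≠ α := fun e => Finset.disjoint_left.mp D.disj hαX (e ▸ h)
        simp [V, h1, h2]),
      Finset.sum_const, D.cardY] at hle
    have hV1 : V (oneChar G) = 1 := by simp [V]
    have hV2 : V α = -13 := by
      have : α ≠ oneChar G := Finset.ne_of_mem_erase (hα ▸ Finset.mem_singleton_self α)
      simp [V, this]
    rw [hV1, hV2] at hle
    norm_num at hle
    have h15 : 15 ∣ K := (Nat.Coprime.dvd_of_dvd_mul_right (by norm_num) hKd)
    obtain ⟨m, rfl⟩ := h15
    rw [hcard, mul_assoc] at hK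
    have hm : 0 < m := Nat.pos_of_ne_zero fun h => by simp [h] at hK
    have := Nat.le_mul_of_pos_left (Nat.card (Subgroup.centralizer ({u} : Set G))) hm
    omega
  · -- degrees 15, 20 and 4
    obtain ⟨α, β, hαβ, hα⟩ := Finset.card_eq_two.mp (show (X.erase (oneChar G)).card = 2 by
      rw [Finset.card_erase_of_mem D.oneX, D.cardX])
    have hmα : α ∈ X.erase (oneChar G) := by rw [hα]; exact Finset.mem_insert_self _ _
    have hmβ : β ∈ X.erase (oneChar G) := by
      rw [hα]; exact Finset.mem_insert_of_mem (Finset.mem_singleton_self _)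
    obtain ⟨hαA, a, ha0, had, halt, hva⟩ := hX α hmα
    obtain ⟨hβA, b, hb0, hbd, hblt, hvb⟩ := hX β hmβ
    rw [hα, Finset.sum_pair hαβ] at hdeq hrel
    have key : ∀ A ∈ ((Finset.range 71).filter (fun d => d ∣ 5040 ∧ 2 ≤ d)).filter
          (fun d => 14 < d ∧ (d % 7 = 1 ∨ d % 7 = 6)),
        ∀ C ∈ ((Finset.range 71).filter (fun d => d ∣ 5040 ∧ 2 ≤ d)).filter
          (fun d => 14 < d ∧ (d % 7 = 1 ∨ d % 7 = 6)),
        ∀ B ∈ (Finset.range 71).filter (fun d => d ∣ 5040 ∧ 2 ≤ d),
        ∀ i ∈ ([1, -1] : List ℤ), ∀ j ∈ ([1, -1] : List ℤ), ∀ s ∈ ([1, -1] : List ℤ),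
        (A : ℤ) % 7 = i % 7 → (C : ℤ) % 7 = j % 7 → (B : ℤ) % 7 = (s * 3) % 7 →
        s * (B : ℤ) = 1 * 1 + (i * A + j * C) →
        B = 4 ∧ s = -1 ∧ ((A = 15 ∧ C = 20 ∧ i = 1 ∧ j = -1) ∨ (A = 20 ∧ C = 15 ∧ i = -1 ∧ j = 1)) := by
      decide +kernel
    obtain ⟨hB, hs, hcase⟩ := key _ hαA _ hβA _ hBmem (εX α)
      (by simpa using D.signX α (Finset.mem_of_mem_erase hmα)) (εX β)
      (by simpa using D.signX β (Finset.mem_of_mem_erase hmβ)) ε (by simpa using D.sign)
      (D.congrX α (Finset.mem_of_mem_erase hmα)) (D.congrX β (Finset.mem_of_mem_erase hmβ)) hcY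
      (by exact_mod_cast hdeq)
    refine hu1 (eq_one_of_value_eq_degree hθ1 ?_)
    rw [← coe_charDegree θ, hB]
    rw [hva, hvb, hs] at hrel
    rcases hcase with ⟨hA, hC', hi, hj⟩ | ⟨hA, hC', hi, hj⟩ <;>
      rw [hA] at halt <;> rw [hC'] at hblt <;>
      rw [hA, hC', hi, hj, show a = 14 by obtain ⟨t, rfl⟩ := had; omega,
        show b = 14 by obtain ⟨t, rfl⟩ := hbd; omega] at hrel <;>
      push_cast at hrel ⊢ <;> linear_combination -hrel

end Cfsg.Agent.S0978
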