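import Cfsg.Statements.S0983
import Cfsg.Agent.OrderSieve.Survivors
import Cfsg.Agent.OrderSieve.SylowTwentyFive
import Cfsg.Agent.OrderSieve.CommutingBound
import Cfsg.Agent.S0976
import Cfsg.Agent.S0977
import Cfsg.Agent.S0978
import Cfsg.Agent.S0980
-- import your own Cfsg.Agent.* helpers here

set_option autoImplicit false
open Cfsg

namespace Cfsg.Agent.S0983

open CfsgLib.OrderSieve CfsgLib.Sieve.PrimeLocal CfsgLib.PrimeGram

universe u

variable {G : Type u} [Group G] [Finite G] [IsSimpleGroup G]

/-- The data of the surviving options of a prime of exponent one. -/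
theorem option_data (hG : ¬ IsMulCommutative G) {N : ℕ} (hN : Nat.card G = N) (hlt : N < 6400)
    (p m : ℕ) [Fact p.Prime] (hv : validPart N (p, 1, m) = true) :
    ∃ o ∈ goodOptions N p m, ∀ P : Sylow p G, Nat.card (P : Subgroup G) = p ∧
      Nat.card (Subgroup.centralizer ((P : Subgroup G) : Set G)) = p * o.2.2 ∧
      (Subgroup.centralizer ((P : Subgroup G) : Set G)).relIndex
          (Subgroup.normalizer ((P : Subgroup G) : Set G)) * (o.1 * o.2.2) = m := by
  obtain ⟨o, ho, hn, hloc⟩ := exists_goodOption hG hN hlt hv rfl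
  refine ⟨o, ho, fun P => ⟨(hloc P).1, (hloc P).2, ?_⟩⟩
  have hp : p.Prime := Fact.out
  obtain ⟨-, -, hNe, hpm⟩ := validPart_sound hv
  simp only [pow_one] at hNe hpm
  obtain ⟨-, -, hall⟩ := CfsgLib.SmallSimple.card_sylow_constraints (G := G) p m (k := 1)
    (by rw [pow_one, hN, hNe]) hpm
  obtain ⟨-, hnorm⟩ := hall P
  have h := relIndex_mul_centralizer (P : Subgroup G)
  rw [(hloc P).2] at h
  rw [hn, ← h, pow_one] at hnorm
  refine Nat.eq_of_mul_eq_mul_left hp.pos ?_
  rw [← hnorm]; ring

theorem false_4536 (hG : ¬ IsMulCommutative G) (hN : Nat.card G = 4536) : False := by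
  haveI : Fact (Nat.Prime 7) := ⟨by norm_num⟩
  haveI : Fact (Nat.Prime 3) := ⟨by norm_num⟩
  obtain ⟨o, ho, hP⟩ := option_data hG hN (by norm_num) 7 648 (by decide +kernel)
  rw [show goodOptions 4536 7 648 = [(36, 2, 9), (36, 6, 3)] from by decide +kernel] at ho
  obtain ⟨P⟩ := (inferInstance : Nonempty (Sylow 7 G))
  obtain ⟨hPc, hC, he⟩ := hP P
  simp only [List.mem_cons, List.not_mem_nil, or_false] at ho
  rcases ho with rfl | rfl
  · exact false_of_index_two hG (by norm_num) P hPc (by simp only at he; omega) (q := 3) (Or.inr rfl)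
      (by rw [hC]; norm_num) hN (L := 68) (by norm_num) (by decide +kernel)
  · exact false_of_fullCheck hG (by norm_num) P hPc (by simp only at he; omega) (q := 3) (Or.inr rfl)
      (by rw [hC]; norm_num) hN (L := 68) (by norm_num) (by decide +kernel)

theorem false_5376 (hG : ¬ IsMulCommutative G) (hN : Nat.card G = 5376) : False := by
  haveI : Fact (Nat.Prime 7) := ⟨by norm_num⟩
  haveI : Fact (Nat.Prime 2) := ⟨Nat.prime_two⟩
  obtain ⟨o, ho, hP⟩ := option_data hG hN (by norm_num) 7 768 (by decide +kernel)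
  rw [show goodOptions 5376 7 768 = [(64, 6, 2)] from by decide +kernel, List.mem_singleton] at ho
  subst ho
  obtain ⟨P⟩ := (inferInstance : Nonempty (Sylow 7 G))
  obtain ⟨hPc, hC, he⟩ := hP P
  exact false_of_fullCheck hG (by norm_num) P hPc (by simp only at he; omega) (q := 2) (Or.inl rfl)
    (by rw [hC]; norm_num) hN (L := 74) (by norm_num) (by decide +kernel)

theorem false_5880 (hG : ¬ IsMulCommutative G) (hN : Nat.card G = 5880) : False := by
  haveI : Fact (Nat.Prime 5) := ⟨by norm_num⟩
  haveI : Fact (Nat.Prime 3) := ⟨by norm_num⟩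
  obtain ⟨o, ho, hP⟩ := option_data hG hN (by norm_num) 5 1176 (by decide +kernel)
  rw [show goodOptions 5880 5 1176 = [(196, 2, 3)] from by decide +kernel, List.mem_singleton] at ho
  subst ho
  obtain ⟨P⟩ := (inferInstance : Nonempty (Sylow 5 G))
  obtain ⟨hPc, hC, he⟩ := hP P
  exact false_of_index_two hG (by norm_num) P hPc (by simp only at he; omega) (q := 3) (Or.inr rfl)
    (by rw [hC]; norm_num) hN (L := 77) (by norm_num) (by decide +kernel)

/-- A non-abelian finite simple group of order greater than 3640 and at most 6232 has order 4080, 5616, 6048 or 6072. -/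
theorem result {G : Type*} [Group G] [Finite G] [IsSimpleGroup G] (hG : ¬ IsMulCommutative G) (h1 : 3640 < Nat.card G) (h2 : Nat.card G ≤ 6232) : Nat.card G = 4080 ∨ Nat.card G = 5616 ∨ Nat.card G = 6048 ∨ Nat.card G = 6072 := by
  haveI : Fact (Nat.Prime 5) := ⟨by norm_num⟩
  have h := mem_leftover hG h1 h2
  simp only [leftover, List.mem_cons, List.not_mem_nil, or_false] at h
  rcases h with h | h | h | h | h | h | h | h | h | h | h | h | h | h
  · exact absurd h Cfsg.Agent.S0976.result
  · exact Or.inl h
  · exact (false_of_fiveCheck hG h (M := 168) (by norm_num) (by norm_num) (by decide +kernel)).elim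
  · exact absurd h Cfsg.Agent.S0977.result
  · exact (false_4536 hG h).elim
  · exact (false_of_fiveCheck hG h (M := 192) (by norm_num) (by norm_num) (by decide +kernel)).elim
  · exact absurd h Cfsg.Agent.S0978.result
  · exact (false_5376 hG h).elim
  · exact (false_of_fiveCheck hG h (M := 216) (by norm_num) (by norm_num) (by decide +kernel)).elim
  · exact Or.inr (Or.inl h)
  · exact absurd h Cfsg.Agent.S0980.result
  · exact (false_5880 hG h).elim
  · exact Or.inr (Or.inr (Or.inl h))
  · exact Or.inr (Or.inr (Or.inr h))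

end Cfsg.Agent.S0983
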