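import Cfsg.Statements.S0944
import Cfsg.Agent.Eq.Def_Blocks

set_option autoImplicit false
open Cfsg

namespace Cfsg.Agent.S0944

/-- Let χ be an irreducible character of the finite group G and u an involution. Then χ u is a rational integer n with n ≡ χ 1 (mod 2). -/
theorem result {G : Type*} [Group G] [Finite G] (χ : Cfsg.IrrCharacter G) (u : G) (hu : orderOf u = 2) : ∃ n : ℤ, (χ : G → ℂ) u = (n : ℂ) ∧ (2 : ℤ) ∣ (Cfsg.charDegree (χ : G → ℂ) : ℤ) - n := by
  obtain ⟨χ, n, ρ, hρ, rfl⟩ := χ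
  have hu2 : u * u = 1 := by rw [← pow_two, ← hu]; exact pow_orderOf_eq_one u
  have hA : ρ u * ρ u = 1 := by rw [← map_mul, hu2, map_one]
  set P : (Fin n → ℂ) →ₗ[ℂ] (Fin n → ℂ) := (1/2 : ℂ) • (1 - ρ u) with hP
  have hPP : P * P = P := by
    rw [hP, smul_mul_smul_comm, sub_mul, mul_sub, mul_sub, hA]
    simp only [one_mul, mul_one]
    module
  have hproj : LinearMap.IsProj (LinearMap.range P) P := by
    refine ⟨fun x => LinearMap.mem_range_self P x, ?_⟩
    rintro _ ⟨y, rfl⟩
    exact LinearMap.congr_fun hPP y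
  have htr := hproj.trace
  have htrP : LinearMap.trace ℂ (Fin n → ℂ) P = (1/2 : ℂ) * ((n : ℂ) - ρ.character u) := by
    simp [hP, Representation.character]
  rw [htrP] at htr
  refine ⟨(n : ℤ) - 2 * (Module.finrank ℂ (LinearMap.range P) : ℤ), ?_, ?_⟩
  · simp only [Int.cast_sub, Int.cast_mul, Int.cast_ofNat, Int.cast_natCast]
    linear_combination (-2 : ℂ) * htr
  · have : Cfsg.charDegree ρ.character = n := by
      simp [Cfsg.charDegree]
    rw [this]
    exact ⟨_, sub_sub_cancel _ _⟩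

end Cfsg.Agent.S0944
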