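import Cfsg.Statements.S0947
import Cfsg.Agent.Eq.Def_Blocks
import Cfsg.Agent.Blocks.HeightZero.PrincipalSection
import Cfsg.Agent.Constrained.Basic

set_option autoImplicit false
open Cfsg

namespace Cfsg.Agent.S0947

/-- Let z ≠ 1 be a p-element of the finite group G with centralizer H, and fix a maximal ideal M of the algebraic integers containing p. (i) For every y ∈ H of order prime to p, the sum over ζ in the principal block of G of |ζ (z * y)|² equals the sum over χ in the principal block of H of |χ y|². (ii) If moreover H has a normal p-complement (its largest normal subgroup of order prime to p has p-power index), that common value is the largest power of p dividing the order of H. -/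
theorem result {G : Type*} [Group G] [Finite G] (p : ℕ) [Fact p.Prime] (M : Ideal Cfsg.AlgInt) (hM : Cfsg.IsPModular p M) (z : G) (hz : ∃ k : ℕ, orderOf z = p ^ k) (hz1 : z ≠ 1) (y : Subgroup.centralizer ({z} : Set G)) (hy : ¬ p ∣ orderOf y) : (∑ᶠ ζ ∈ Cfsg.principalBlock M G, ‖(ζ : G → ℂ) (z * (y : G))‖ ^ 2 = ∑ᶠ χ ∈ Cfsg.principalBlock M (Subgroup.centralizer ({z} : Set G)), ‖(χ : Subgroup.centralizer ({z} : Set G) → ℂ) y‖ ^ 2) ∧ ((∃ k : ℕ, (Cfsg.pPrimeCore p (Subgroup.centralizer ({z} : Set G))).index = p ^ k) → ∑ᶠ ζ ∈ Cfsg.principalBlock M G, ‖(ζ : G → ℂ) (z * (y : G))‖ ^ 2 = ((p ^ (Nat.card (Subgroup.centralizer ({z} : Set G))).factorization p : ℕ) : ℝ)) := by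
  classical
  have := Fintype.ofFinite G
  have := CfsgLib.Blocks.isMaximal_of_isPModular hM
  have h1 : ∑ᶠ ζ ∈ Cfsg.principalBlock M G, ‖(ζ : G → ℂ) (z * (y : G))‖ ^ 2 =
      ∑ᶠ χ ∈ Cfsg.principalBlock M (Subgroup.centralizer ({z} : Set G)),
        ‖(χ : Subgroup.centralizer ({z} : Set G) → ℂ) y‖ ^ 2 := by
    rw [CfsgLib.Blocks.finsum_block_eq_sum, CfsgLib.Blocks.finsum_block_eq_sum]
    have e := CfsgLib.Blocks.HeightZero.sum_principal_section hM hz hy
    simp only [Complex.mul_conj, Complex.normSq_eq_norm_sq] at e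
    exact_mod_cast e
  refine ⟨h1, fun hidx => ?_⟩
  rw [h1, CfsgLib.Blocks.finsum_block_eq_sum]
  set K := Cfsg.pPrimeCore p (Subgroup.centralizer ({z} : Set G))
  have hK : ¬ p ∣ Nat.card K := CfsgLib.Constrained.pPrimeCore_not_dvd
  have hKidx : K.index = p ^ (Nat.card (Subgroup.centralizer ({z} : Set G))).factorization p := by
    obtain ⟨k, hk⟩ := hidx
    have h2 := congrArg (fun n => n.factorization p) K.card_mul_index
    simp only [Nat.factorization_mul Nat.card_pos.ne' Subgroup.index_ne_zero_of_finite,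
      Finsupp.add_apply, Nat.factorization_eq_zero_of_not_dvd hK, zero_add] at h2
    rw [← h2]
    change K.index = _
    conv_rhs => rw [show K.index = p ^ k from hk]
    rw [Nat.factorization_pow, Finsupp.smul_apply, hM.1.factorization_self, smul_eq_mul, mul_one]
    exact hk
  have hyK : y ∈ K := by
    have hy' : orderOf (QuotientGroup.mk' K y) = 1 := by
      refine Nat.eq_one_of_dvd_coprimes (k := orderOf (QuotientGroup.mk' K y))
        ((hM.1.coprime_iff_not_dvd.2 hy).pow_left
          ((Nat.card (Subgroup.centralizer ({z} : Set G))).factorization p)) ?_ (orderOf_map_dvd _ y)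
      rw [← hKidx, Subgroup.index_eq_card]
      exact orderOf_dvd_natCard _
    rwa [orderOf_eq_one_iff, QuotientGroup.mk'_apply, QuotientGroup.eq_one_iff] at hy'
  have hset : (Cfsg.principalBlock M (Subgroup.centralizer ({z} : Set G))).toFinite.toFinset =
      Finset.univ.filter (fun χ : Cfsg.IrrCharacter (Subgroup.centralizer ({z} : Set G)) =>
        K ≤ CfsgLib.Chars.charKer (χ : Subgroup.centralizer ({z} : Set G) → ℂ)) := by
    ext χ
    simp only [Set.Finite.mem_toFinset, Finset.mem_filter, Finset.mem_univ, true_and]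
    exact ⟨CfsgLib.Blocks.le_charKer_of_mem_principalBlock K hM hK,
      CfsgLib.Blocks.mem_principalBlock_of_le_charKer hM K hidx⟩
  rw [hset, ← hKidx, ← CfsgLib.Chars.sum_charDegree_sq_of_le_charKer K, Nat.cast_sum]
  refine Finset.sum_congr rfl fun χ hχ => ?_
  rw [CfsgLib.Chars.map_eq_map_one_of_mem_charKer ((Finset.mem_filter.1 hχ).2 hyK),
    ← CfsgLib.Chars.coe_charDegree, Complex.norm_natCast, Nat.cast_pow]

end Cfsg.Agent.S0947
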