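import Cfsg.Statements.S3020
import Mathlib.GroupTheory.Nilpotent
import Mathlib.GroupTheory.Transfer

set_option autoImplicit false
open Cfsg

namespace Cfsg.Agent.S3020


/-- Let G be a finite group, p a prime and H an abelian p-subgroup of G that is extremely closed (for every g, the subgroup generated by H and g H g⁻¹ meets N_G(H) exactly in H). Then for every g ∈ G, the subgroup T generated by H and g H g⁻¹ is the product of H with O_{p'}(T), and H meets O_{p'}(T) trivially; that is, O_{p'}(T) is a normal p-complement of H in T. -/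
theorem result {G : Type*} [Group G] [Finite G] {p : ℕ} [Fact p.Prime] (H : Subgroup G) (hHp : IsPGroup p H) (hHab : IsMulCommutative H) (hcl : Cfsg.IsExtremelyClosed H) (g : G) (T : Subgroup G) (hT : T = H ⊔ H.map (MulAut.conj g).toMonoidHom) : H ⊔ (Cfsg.pPrimeCore p ↥T).map T.subtype = T ∧ H ⊓ (Cfsg.pPrimeCore p ↥T).map T.subtype = ⊥ := by
  classical
  subst hT
  set T := H ⊔ H.map (MulAut.conj g).toMonoidHom with hTdef
  have hHT : H ≤ T := le_sup_left
  set Hs := H.subgroupOf T with hHs
  have hHsp : IsPGroup p Hs := hHp.of_equiv (Subgroup.subgroupOfEquivOfLe hHT).symm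
  have hn : Subgroup.normalizer (Hs : Set ↥T) = Hs := by
    rw [hHs, ← Subgroup.subgroupOf_normalizer_eq hHT, ← Subgroup.inf_subgroupOf_left,
      show T ⊓ Subgroup.normalizer (H : Set G) = H from hcl g]
  obtain ⟨P, hP⟩ := hHsp.exists_le_sylow
  have hnil : Group.IsNilpotent ↥(P : Subgroup ↥T) := P.isPGroup'.isNilpotent
  have hPH : (P : Subgroup ↥T) = Hs := by
    refine le_antisymm (Subgroup.subgroupOf_eq_top.mp ?_) hP
    refine normalizerCondition_iff_only_full_group_self_normalizing.mp
      Group.normalizerCondition_of_isNilpotent _ ?_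
    rw [← Subgroup.subgroupOf_normalizer_eq hP, hn]
  have hb : Subgroup.normalizer ((P : Subgroup ↥T) : Set ↥T) ≤
      Subgroup.centralizer ((P : Subgroup ↥T) : Set ↥T) := by
    rw [hPH, hn, hHs]
    intro a ha b hb
    rw [SetLike.mem_coe, Subgroup.mem_subgroupOf] at hb
    rw [Subgroup.mem_subgroupOf] at ha
    have := hHab
    exact Subtype.ext (show (b : G) * (a : G) = (a : G) * (b : G) from congrArg Subtype.val (mul_comm' (⟨b, hb⟩ : H) ⟨a, ha⟩))
  set K := (MonoidHom.transferSylow P hb).ker with hK
  have hc : K.IsComplement' (P : Subgroup ↥T) := MonoidHom.ker_transferSylow_isComplement' P hb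
  have hcore : Cfsg.pPrimeCore p ↥T = K := by
    refine le_antisymm (sSup_le ?_) (le_sSup ⟨inferInstance, ?_⟩)
    · rintro N ⟨-, hNc⟩ a ha
      rw [hK, MonoidHom.mem_ker]
      obtain ⟨k, hk⟩ := P.isPGroup' (MonoidHom.transferSylow P hb a)
      have h1 : orderOf (MonoidHom.transferSylow P hb a) ∣ p ^ k := orderOf_dvd_of_pow_eq_one hk
      have h2 : orderOf (MonoidHom.transferSylow P hb a) ∣ Nat.card N :=
        (orderOf_map_dvd _ a).trans (N.orderOf_dvd_natCard ha)
      rw [← orderOf_eq_one_iff]
      exact Nat.eq_one_of_dvd_coprimes (hNc.pow_right k) h2 h1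
    · exact (((Fact.out : p.Prime).coprime_iff_not_dvd).mpr
        (MonoidHom.not_dvd_card_ker_transferSylow P hb)).symm
  have hHmap : (P : Subgroup ↥T).map T.subtype = H := by
    rw [hPH, hHs, Subgroup.map_subgroupOf_eq_of_le hHT]
  rw [hcore]
  constructor
  · conv_lhs => rw [← hHmap]
    rw [← Subgroup.map_sup, sup_comm, hc.sup_eq_top, ← MonoidHom.range_eq_map, Subgroup.range_subtype]
  · conv_lhs => rw [← hHmap]
    rw [← Subgroup.map_inf _ _ _ T.subtype_injective, inf_comm, hc.disjoint.eq_bot, Subgroup.map_bot]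

end Cfsg.Agent.S3020
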