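import Cfsg.Statements.S3021
import Mathlib.GroupTheory.Nilpotent

set_option autoImplicit false
open Cfsg

namespace Cfsg.Agent.S3021


/-- Let G be a finite group, p a prime and H a p-subgroup of G that is extremely closed (for every g, the subgroup generated by H and g H g⁻¹ meets N_G(H) exactly in H). Then every p-subgroup Q of G containing H has N_G(Q) ≤ N_G(H); in particular every Sylow p-subgroup P of G containing H normalizes H, and H is strongly closed in P with respect to G. -/
theorem result {G : Type*} [Group G] [Finite G] {p : ℕ} [Fact p.Prime] (H : Subgroup G) (hHp : IsPGroup p H) (hcl : Cfsg.IsExtremelyClosed H) : (∀ Q : Subgroup G, IsPGroup p Q → H ≤ Q → Subgroup.normalizer (Q : Set G) ≤ Subgroup.normalizer (H : Set G)) ∧ ∀ P : Sylow p G, H ≤ (P : Subgroup G) → (P : Subgroup G) ≤ Subgroup.normalizer (H : Set G) ∧ Cfsg.IsStronglyClosed H (P : Subgroup G) := by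
  have key : ∀ Q : Subgroup G, IsPGroup p Q → H ≤ Q →
      Subgroup.normalizer (Q : Set G) ≤ Subgroup.normalizer (H : Set G) := by
    intro Q hQ hHQ g hg
    set X := H ⊔ H.map (MulAut.conj g).toMonoidHom with hX
    have h1 : H ≤ X := le_sup_left
    have hXQ : X ≤ Q := by
      refine sup_le hHQ ?_
      rintro _ ⟨h, hh, rfl⟩
      exact (Subgroup.mem_normalizer_iff.mp hg h).mp (hHQ hh)
    have hnil : Group.IsNilpotent ↥X := (hQ.to_le hXQ).isNilpotent
    have hHX : H.subgroupOf X = ⊤ := by
      refine normalizerCondition_iff_only_full_group_self_normalizing.mp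
        normalizerCondition_of_isNilpotent _ ?_
      rw [← Subgroup.subgroupOf_normalizer_eq h1]
      have h3 : X ⊓ Subgroup.normalizer (H : Set G) = H := hcl g
      rw [← Subgroup.inf_subgroupOf_left, h3]
    have h4 : X ≤ H := Subgroup.subgroupOf_eq_top.mp hHX
    have h5 : H.map (MulAut.conj g).toMonoidHom = H := by
      refine Subgroup.eq_of_le_of_card_ge (le_sup_right.trans h4) ?_
      rw [Subgroup.card_map_of_injective (MulAut.conj g).injective]
    exact Subgroup.mem_normalizer_iff_map_conj_eq.mpr h5
  refine ⟨key, fun P hHP => ?_⟩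
  have hP : (P : Subgroup G) ≤ Subgroup.normalizer (H : Set G) :=
    le_trans Subgroup.le_normalizer (key _ P.isPGroup' hHP)
  refine ⟨hP, hHP, fun x hx g hgx => ?_⟩
  rw [← hcl g]
  exact ⟨Subgroup.mem_sup_right ⟨x, hx, rfl⟩, hP hgx⟩

end Cfsg.Agent.S3021
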