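import Cfsg.Statements.S0191
import Cfsg.Agent.Chars.Basic
import Cfsg.Agent.Chars.GaloisSum.Basic
import Cfsg.Agent.Eq.Def_Characters

set_option autoImplicit false
open Cfsg

namespace Cfsg.Agent.S0191

open CfsgLib.Chars

/-- An irreducible complex representation of a finite group of degree greater than 1 has a character that vanishes somewhere. -/
theorem result {G : Type*} [Group G] [Finite G] {V : Type*} [AddCommGroup V] [Module ℂ V] [FiniteDimensional ℂ V] (ρ : Representation ℂ G V) [ρ.IsIrreducible] (hdeg : 1 < Module.finrank ℂ V) : ∃ g : G, ρ.character g = 0 := by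
  classical
  cases nonempty_fintype G
  by_contra! hne
  have hirr := isIrrCharacter_character ρ ‹_›
  have hch := isCharacter_character ρ
  have h1 := CfsgLib.Chars.GaloisSum.sum_norm_sq_of_isIrrCharacter hirr
  have h2 := CfsgLib.Chars.GaloisSum.card_le_sum_norm_sq_char hch (Finset.univ.erase (1 : G))
    (fun x hx k hk => Finset.mem_erase.2 ⟨fun he => (Finset.mem_erase.1 hx).1 (by
      have h3 : orderOf x ∣ k := orderOf_dvd_of_pow_eq_one he
      exact orderOf_eq_one_iff.1 (Nat.eq_one_of_dvd_coprimes hk h3 (orderOf_dvd_natCard x))),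
      Finset.mem_univ _⟩) (fun x _ => hne x)
  rw [← Finset.add_sum_erase _ _ (Finset.mem_univ (1 : G))] at h1
  rw [Finset.card_erase_of_mem (Finset.mem_univ _), Finset.card_univ, Nat.cast_sub Fintype.card_pos,
    Nat.cast_one] at h2
  simp only [Representation.char_one, Complex.norm_natCast, Nat.card_eq_fintype_card] at h1
  have h4 : (2 : ℝ) ≤ (Module.finrank ℂ V : ℝ) := by exact_mod_cast hdeg
  nlinarith

end Cfsg.Agent.S0191
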