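import Cfsg.Statements.S4558
import Cfsg.Agent.Eq.Def_Characters
import Cfsg.Agent.Eq.Def_Blocks
import Mathlib.Analysis.Complex.Polynomial.Basic
import Mathlib.LinearAlgebra.Eigenspace.Charpoly
import Mathlib.RingTheory.Polynomial.Cyclotomic.Roots
import Mathlib.RingTheory.Polynomial.Cyclotomic.Eval
import Mathlib.RingTheory.RootsOfUnity.Complex
-- import your own Cfsg.Agent.* helpers here

set_option autoImplicit false
open Cfsg

namespace Cfsg.Agent.S4558

/-- Let χ be a character of the finite group G and g an element of p-power order for the prime p. If χ g = 0, then p divides the degree of χ. -/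
theorem result {G : Type*} [Group G] [Finite G] (p : ℕ) [Fact p.Prime] (χ : G → ℂ) (hχ : Cfsg.IsCharacter G χ) (g : G) (hg : ∃ j : ℕ, orderOf g = p ^ j) (h0 : χ g = 0) : p ∣ Cfsg.charDegree χ := by
  classical
  obtain ⟨d, ρ, rfl⟩ := hχ
  obtain ⟨j, hj⟩ := hg
  have hdeg : Cfsg.charDegree ρ.character = d := by
    simp [Cfsg.charDegree]
  rw [hdeg]
  rcases Nat.eq_zero_or_pos j with rfl | hjpos
  · have : g = 1 := by rwa [pow_zero, orderOf_eq_one_iff] at hj
    subst this
    rw [Representation.char_one] at h0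
    simp only [Module.finrank_fintype_fun_eq_card, Fintype.card_fin, Nat.cast_eq_zero] at h0
    simp [h0]
  set N := p ^ j with hN
  have hp : 0 < p := (Fact.out : p.Prime).pos
  have hN0 : N ≠ 0 := (pow_pos hp j).ne'
  haveI : NeZero N := ⟨hN0⟩
  obtain ⟨ζ, hζ⟩ : ∃ ζ : ℂ, IsPrimitiveRoot ζ N := ⟨_, Complex.isPrimitiveRoot_exp N hN0⟩
  have hsplit : (ρ g).charpoly.Splits := IsAlgClosed.splits _
  have hcard : (ρ g).charpoly.roots.card = d := by
    rw [← hsplit.natDegree_eq_card_roots, LinearMap.charpoly_natDegree]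
    simp
  have htr : ((ρ g).charpoly.roots).sum = 0 := by
    rw [← Module.End.trace_eq_sum_roots_charpoly_of_splits hsplit]; exact h0
  have hpow : (ρ g) ^ N = 1 := by rw [← map_pow, ← hj, pow_orderOf_eq_one, map_one]
  have hroot : ∀ μ ∈ (ρ g).charpoly.roots, ∃ a : ℕ, ζ ^ a = μ := by
    intro μ hμ
    have h1 : Module.End.HasEigenvalue (ρ g) μ :=
      (Module.End.hasEigenvalue_iff_isRoot_charpoly _ _).mpr (Polynomial.isRoot_of_mem_roots hμ)
    obtain ⟨v, hv⟩ := h1.exists_hasEigenvector
    have h2 := hv.pow_apply N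
    rw [hpow, Module.End.one_apply] at h2
    have h3 : μ ^ N = 1 := by
      have : (μ ^ N - 1) • v = 0 := by rw [sub_smul, one_smul, ← h2, sub_self]
      exact sub_eq_zero.mp ((smul_eq_zero.mp this).resolve_right hv.2)
    obtain ⟨a, -, ha⟩ := hζ.eq_pow_of_pow_eq_one h3
    exact ⟨a, ha⟩
  choose! a ha using hroot
  let P : Polynomial ℤ := ((ρ g).charpoly.roots.map fun μ => (Polynomial.X : Polynomial ℤ) ^ a μ).sum
  have hPζ : Polynomial.aeval ζ P = 0 := by
    rw [← htr]
    simp only [P, map_multiset_sum, Multiset.map_map, Function.comp_def, map_pow, Polynomial.aeval_X]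
    conv_rhs => rw [← Multiset.map_id' (ρ g).charpoly.roots]
    rw [Multiset.map_congr rfl ha]
  have hint : IsIntegral ℤ ζ := hζ.isIntegral (Nat.pos_of_ne_zero hN0)
  have hdvd : Polynomial.cyclotomic N ℤ ∣ P := by
    rw [Polynomial.cyclotomic_eq_minpoly hζ (Nat.pos_of_ne_zero hN0)]
    exact minpoly.isIntegrallyClosed_dvd hint hPζ
  have he := Polynomial.eval_dvd (x := (1 : ℤ)) hdvd
  obtain ⟨k, hk⟩ : ∃ k, j = k + 1 := ⟨j - 1, by omega⟩
  rw [hN, hk, Polynomial.eval_one_cyclotomic_prime_pow k] at he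
  have hP1 : P.eval 1 = (d : ℤ) := by
    simp only [P, Polynomial.eval_multisetSum, Multiset.map_map, Function.comp_def,
      Polynomial.eval_pow, Polynomial.eval_X, one_pow, Multiset.map_const', Multiset.sum_replicate,
      hcard]
    simp
  rw [hP1] at he
  exact_mod_cast he

end Cfsg.Agent.S4558
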