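import Cfsg.Statements.S5098
import Cfsg.Agent.Fus.KNormalizer

set_option autoImplicit false
open Cfsg

namespace Cfsg.Agent.S5098

/-- If F is a saturated fusion system over a finite p-group S and Q is fully normalized in F, then the normalizer system N_F(Q) is a saturated fusion system over N_S(Q). -/
theorem result {Ω : Type*} [Group Ω] {S : Subgroup Ω} [Finite S] (p : ℕ) [Fact p.Prime] (hS : IsPGroup p S) (F : Cfsg.FusionSystem S) (hF : F.IsSaturated p) (Q : Subgroup Ω) (hQ : F.IsFullyNormalized Q) (E : Cfsg.FusionSystem (Cfsg.FusionSystem.normalizerIn S Q)) (hE : F.IsNormalizerSystem Q E) : E.IsSaturated p := by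
  have hfn := CfsgLib.Fus.fullyNormalized_props hS hF hQ
  have := CfsgLib.Fus.finite_of_le hQ.1
  refine CfsgLib.Fus.isSaturated_kNormalizer hS hF hfn.2 (K := ⊤) (fun X hX hXp => ?_)
    (CfsgLib.Fus.kNormalizer_top Q).symm E fun P φ => ?_
  · obtain ⟨a, ha, haX⟩ :=
      CfsgLib.Fus.exists_conj_into_autS hfn.1 (hX.trans inf_le_left) hXp
    exact ⟨a, ⟨ha, Subgroup.mem_top _⟩, haX⟩
  rw [hE P]
  constructor
  · rintro ⟨hφ, hP, hφN, ψ, hψ, hext, hψQ⟩
    have hr : (ψ.comp (Subgroup.inclusion (le_sup_right : Q ≤ P ⊔ Q))).range = Q := by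
      ext z
      constructor
      · rintro ⟨x, rfl⟩
        exact hψQ.le ⟨Subgroup.inclusion le_sup_right x, x.2, rfl⟩
      · intro hz
        obtain ⟨x, hx, rfl⟩ := hψQ.ge hz
        exact ⟨⟨x, hx⟩, rfl⟩
    exact ⟨hφ, hP, hφN, ψ, hψ, hext,
      CfsgLib.Fus.isoOf (CfsgLib.Fus.restrict_mem F hψ le_sup_right) hr, Subgroup.mem_top _,
      fun x => rfl⟩
  · rintro ⟨hφ, hP, hφN, ψ, hψ, hext, α, -, hα⟩
    refine ⟨hφ, hP, hφN, ψ, hψ, hext, ?_⟩
    ext z
    constructor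
    · rintro ⟨x, hx, rfl⟩
      show ψ x ∈ Q
      rw [show ψ x = ((α ⟨x, hx⟩ : Q) : Ω) from hα ⟨x, hx⟩]
      exact (α ⟨x, hx⟩).2
    · intro hz
      refine ⟨Subgroup.inclusion le_sup_right (α⁻¹ ⟨z, hz⟩), (α⁻¹ ⟨z, hz⟩).2, ?_⟩
      rw [hα]
      simp

end Cfsg.Agent.S5098
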