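import Cfsg.Statements.S5145
import Cfsg.Agent.Eq.Def_FusionComponents

set_option autoImplicit false
open Cfsg

namespace Cfsg.Agent.S5145

theorem map_subgroupOf_incl {Ω : Type*} [Group Ω] {R R' Q : Subgroup Ω} (hR : R ≤ R') (hQ : Q ≤ R)
    (ψ : R →* Ω) (χ : R' →* Ω) (h : ∀ x : R, χ (Subgroup.inclusion hR x) = ψ x) :
    (Q.subgroupOf R').map χ = (Q.subgroupOf R).map ψ := by
  ext y; constructor
  · rintro ⟨x, hx, rfl⟩
    exact ⟨⟨x, hQ hx⟩, hx, (h ⟨x, hQ hx⟩).symm⟩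
  · rintro ⟨x, hx, rfl⟩
    exact ⟨Subgroup.inclusion hR x, hx, h x⟩

theorem normal_bot {Ω : Type*} [Group Ω] {S : Subgroup Ω} (F : Cfsg.FusionSystem S) :
    F.IsNormal ⊥ := by
  refine ⟨bot_le, fun P φ hφ => ?_⟩
  suffices h : ∀ R : Subgroup Ω, R = P → ∀ hR : P ≤ R, ∃ ψ ∈ F.Hom R,
      ∀ x : P, ψ (Subgroup.inclusion hR x) = φ x by
    obtain ⟨ψ, h1, h2⟩ := h (P ⊔ ⊥) (sup_bot_eq P) le_sup_left
    exact ⟨ψ, h1, h2, by simp⟩
  rintro R rfl hR
  exact ⟨φ, hφ, fun x => rfl⟩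

theorem normal_sup {Ω : Type*} [Group Ω] {S : Subgroup Ω} (F : Cfsg.FusionSystem S)
    {A B : Subgroup Ω} (hA : F.IsNormal A) (hB : F.IsNormal B) : F.IsNormal (A ⊔ B) := by
  refine ⟨sup_le hA.1 hB.1, fun P φ hφ => ?_⟩
  obtain ⟨ψ, hψ, hψ1, hψ2⟩ := hA.2 P φ hφ
  obtain ⟨χ, hχ, hχ1, hχ2⟩ := hB.2 (P ⊔ A) ψ hψ
  suffices h : ∀ R : Subgroup Ω, R = P ⊔ A ⊔ B → ∀ (hR : P ≤ R) (_ : A ≤ R) (_ : B ≤ R),
      ∃ θ ∈ F.Hom R, (∀ x : P, θ (Subgroup.inclusion hR x) = φ x) ∧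
        (A.subgroupOf R).map θ = A ∧ (B.subgroupOf R).map θ = B by
    have hA' : A ≤ P ⊔ (A ⊔ B) := le_sup_left.trans le_sup_right
    have hB' : B ≤ P ⊔ (A ⊔ B) := le_sup_right.trans le_sup_right
    obtain ⟨θ, hθ, h1, h2, h3⟩ := h (P ⊔ (A ⊔ B)) (sup_assoc P A B).symm le_sup_left hA' hB'
    refine ⟨θ, hθ, h1, ?_⟩
    rw [Subgroup.subgroupOf_sup hA' hB', Subgroup.map_sup, h2, h3]
  rintro R rfl hR hA' hB'
  refine ⟨χ, hχ, fun x => ?_, ?_, hχ2⟩
  · exact (hχ1 (Subgroup.inclusion le_sup_left x)).trans (hψ1 x)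
  · rw [map_subgroupOf_incl le_sup_left le_sup_right ψ χ hχ1, hψ2]


/-- For a fusion system over a finite subgroup S, the join of all subgroups normal in the system is itself normal in the system, hence its largest normal subgroup. -/
theorem result {Ω : Type*} [Group Ω] {S : Subgroup Ω} [Finite S] (F : Cfsg.FusionSystem S) : F.IsNormal F.core := by
  classical
  have hfin : {Q : Subgroup Ω | F.IsNormal Q}.Finite := by
    refine Set.Finite.of_finite_image (f := fun Q => Q.subgroupOf S) (Set.toFinite _) ?_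
    intro A hA B hB h
    simpa [inf_eq_left.mpr hA.1, inf_eq_left.mpr hB.1] using Subgroup.subgroupOf_inj.mp h
  suffices h : ∀ s : Finset (Subgroup Ω), (∀ Q ∈ s, F.IsNormal Q) → F.IsNormal (s.sup id) by
    have h2 := h hfin.toFinset (fun Q hQ => by simpa using hQ)
    rw [Finset.sup_id_eq_sSup, Set.Finite.coe_toFinset] at h2
    exact h2
  intro s hs
  induction s using Finset.induction_on with
  | empty => exact normal_bot F
  | insert a s ha ih =>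
    rw [Finset.sup_insert]
    exact normal_sup F (hs a (Finset.mem_insert_self a s)) (ih fun Q hQ => hs Q (Finset.mem_insert_of_mem hQ))

end Cfsg.Agent.S5145
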