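import Cfsg.Statements.S5136
import Cfsg.Agent.Eq.Def_FusionComponents

set_option autoImplicit false
open Cfsg

namespace Cfsg.Agent.S5136

/-- the maps of the product system -/
def prodHom {Ω₁ Ω₂ : Type*} [Group Ω₁] [Group Ω₂] {S₁ : Subgroup Ω₁} {S₂ : Subgroup Ω₂}
    (F₁ : Cfsg.FusionSystem S₁) (F₂ : Cfsg.FusionSystem S₂) (P : Subgroup (Ω₁ × Ω₂)) :
    Set (P →* Ω₁ × Ω₂) :=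
  {φ | P ≤ S₁.prod S₂ ∧
      ∃ φ₁ ∈ F₁.Hom (P.map (MonoidHom.fst Ω₁ Ω₂)), ∃ φ₂ ∈ F₂.Hom (P.map (MonoidHom.snd Ω₁ Ω₂)),
        ∀ (x : P) (h₁ : (x : Ω₁ × Ω₂).1 ∈ P.map (MonoidHom.fst Ω₁ Ω₂))
          (h₂ : (x : Ω₁ × Ω₂).2 ∈ P.map (MonoidHom.snd Ω₁ Ω₂)),
          φ x = (φ₁ ⟨(x : Ω₁ × Ω₂).1, h₁⟩, φ₂ ⟨(x : Ω₁ × Ω₂).2, h₂⟩)}

theorem exists_inv {Ω : Type*} [Group Ω] {S : Subgroup Ω} (F : Cfsg.FusionSystem S) {P R : Subgroup Ω}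
    {φ : P →* Ω} (hφ : φ ∈ F.Hom P) (hR : R = φ.range) :
    ∃ ψ ∈ F.Hom R, ∀ (x : P) (h : φ x ∈ R), ψ ⟨φ x, h⟩ = (x : Ω) := by
  subst hR
  obtain ⟨ψ, hψ, h⟩ := F.inv_mem hφ
  exact ⟨ψ, hψ, fun x _ => h x⟩


/-- Let F₁ and F₂ be fusion systems over finite p-groups S₁ and S₂ (inside ambient groups Ω₁ and Ω₂). Then their direct product exists: there is a fusion system over S₁ × S₂ inside Ω₁ × Ω₂ whose maps with source P ≤ S₁ × S₂ are exactly the restrictions to P of the homomorphisms (x₁, x₂) ↦ (φ₁ x₁, φ₂ x₂) with φ₁ a map of F₁ on the first projection of P and φ₂ a map of F₂ on the second projection. -/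
theorem result {Ω₁ Ω₂ : Type*} [Group Ω₁] [Group Ω₂] {S₁ : Subgroup Ω₁} {S₂ : Subgroup Ω₂} [Finite S₁] [Finite S₂] (p : ℕ) [Fact p.Prime] (h₁ : IsPGroup p S₁) (h₂ : IsPGroup p S₂) (F₁ : Cfsg.FusionSystem S₁) (F₂ : Cfsg.FusionSystem S₂) : ∃ E : Cfsg.FusionSystem (S₁.prod S₂), Cfsg.FusionSystem.IsProductSystem F₁ F₂ E := by
  refine ⟨{
    Hom := prodHom F₁ F₂
    le_of_mem := ?_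
    injective_of_mem := ?_
    conj_mem := ?_
    comp_mem := ?_
    inv_mem := ?_ }, fun P φ => Iff.rfl⟩
  · rintro P φ ⟨hP, φ₁, hφ₁, φ₂, hφ₂, h⟩
    refine ⟨hP, fun x => ?_⟩
    rw [h x ⟨x, x.2, rfl⟩ ⟨x, x.2, rfl⟩]
    exact ⟨(F₁.le_of_mem hφ₁).2 _, (F₂.le_of_mem hφ₂).2 _⟩
  · rintro P φ ⟨-, φ₁, hφ₁, φ₂, hφ₂, h⟩ a b hab
    rw [h a ⟨a, a.2, rfl⟩ ⟨a, a.2, rfl⟩, h b ⟨b, b.2, rfl⟩ ⟨b, b.2, rfl⟩, Prod.mk.injEq] at hab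
    exact Subtype.ext (Prod.ext (congrArg Subtype.val (F₁.injective_of_mem hφ₁ hab.1))
      (congrArg Subtype.val (F₂.injective_of_mem hφ₂ hab.2)))
  · intro P g hP hg
    refine ⟨hP, _, F₁.conj_mem ?_ hg.1, _, F₂.conj_mem ?_ hg.2, fun x h1 h2 => rfl⟩
    · rintro _ ⟨y, hy, rfl⟩; exact (hP hy).1
    · rintro _ ⟨y, hy, rfl⟩; exact (hP hy).2
  · rintro P Q φ ψ ⟨hP, φ₁, hφ₁, φ₂, hφ₂, hφ⟩ ⟨-, ψ₁, hψ₁, ψ₂, hψ₂, hψ⟩ h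
    have k1 : ∀ z, φ₁ z ∈ Q.map (MonoidHom.fst Ω₁ Ω₂) := by
      rintro ⟨_, x, hx, rfl⟩
      exact ⟨φ ⟨x, hx⟩, h _, congrArg Prod.fst (hφ ⟨x, hx⟩ ⟨x, hx, rfl⟩ ⟨x, hx, rfl⟩)⟩
    have k2 : ∀ z, φ₂ z ∈ Q.map (MonoidHom.snd Ω₁ Ω₂) := by
      rintro ⟨_, x, hx, rfl⟩
      exact ⟨φ ⟨x, hx⟩, h _, congrArg Prod.snd (hφ ⟨x, hx⟩ ⟨x, hx, rfl⟩ ⟨x, hx, rfl⟩)⟩
    refine ⟨hP, _, F₁.comp_mem hφ₁ hψ₁ k1, _, F₂.comp_mem hφ₂ hψ₂ k2, fun x h1 h2 => ?_⟩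
    show ψ ⟨φ x, h x⟩ = (ψ₁ ⟨φ₁ _, _⟩, ψ₂ ⟨φ₂ _, _⟩)
    rw [hψ ⟨φ x, h x⟩ ⟨φ x, h x, rfl⟩ ⟨φ x, h x, rfl⟩]
    exact Prod.ext (congrArg ψ₁ (Subtype.ext (congrArg Prod.fst (hφ x h1 h2))))
      (congrArg ψ₂ (Subtype.ext (congrArg Prod.snd (hφ x h1 h2))))
  · rintro P φ ⟨hP, φ₁, hφ₁, φ₂, hφ₂, h⟩
    have e1 : φ.range.map (MonoidHom.fst Ω₁ Ω₂) = φ₁.range := by
      ext z; constructor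
      · rintro ⟨_, ⟨x, rfl⟩, rfl⟩
        exact ⟨_, (congrArg Prod.fst (h x ⟨x, x.2, rfl⟩ ⟨x, x.2, rfl⟩)).symm⟩
      · rintro ⟨⟨_, x, hx, rfl⟩, rfl⟩
        exact ⟨_, ⟨⟨x, hx⟩, rfl⟩, congrArg Prod.fst (h ⟨x, hx⟩ ⟨x, hx, rfl⟩ ⟨x, hx, rfl⟩)⟩
    have e2 : φ.range.map (MonoidHom.snd Ω₁ Ω₂) = φ₂.range := by
      ext z; constructor
      · rintro ⟨_, ⟨x, rfl⟩, rfl⟩
        exact ⟨_, (congrArg Prod.snd (h x ⟨x, x.2, rfl⟩ ⟨x, x.2, rfl⟩)).symm⟩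
      · rintro ⟨⟨_, x, hx, rfl⟩, rfl⟩
        exact ⟨_, ⟨⟨x, hx⟩, rfl⟩, congrArg Prod.snd (h ⟨x, hx⟩ ⟨x, hx, rfl⟩ ⟨x, hx, rfl⟩)⟩
    obtain ⟨ψ₁, hψ₁, hi1⟩ := exists_inv F₁ hφ₁ e1
    obtain ⟨ψ₂, hψ₂, hi2⟩ := exists_inv F₂ hφ₂ e2
    let a : φ.range →* φ.range.map (MonoidHom.fst Ω₁ Ω₂) :=
      (((MonoidHom.fst Ω₁ Ω₂).comp φ.range.subtype)).codRestrict _ fun z => ⟨z, z.2, rfl⟩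
    let b : φ.range →* φ.range.map (MonoidHom.snd Ω₁ Ω₂) :=
      (((MonoidHom.snd Ω₁ Ω₂).comp φ.range.subtype)).codRestrict _ fun z => ⟨z, z.2, rfl⟩
    refine ⟨(ψ₁.comp a).prod (ψ₂.comp b), ⟨?_, ψ₁, hψ₁, ψ₂, hψ₂, fun z _ _ => rfl⟩, fun x => ?_⟩
    · rintro _ ⟨x, rfl⟩
      rw [h x ⟨x, x.2, rfl⟩ ⟨x, x.2, rfl⟩]
      exact ⟨(F₁.le_of_mem hφ₁).2 _, (F₂.le_of_mem hφ₂).2 _⟩
    · have hx1 := congrArg Prod.fst (h x ⟨x, x.2, rfl⟩ ⟨x, x.2, rfl⟩)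
      have hx2 := congrArg Prod.snd (h x ⟨x, x.2, rfl⟩ ⟨x, x.2, rfl⟩)
      have hm1 : φ₁ ⟨(x : Ω₁ × Ω₂).1, ⟨x, x.2, rfl⟩⟩ ∈ φ.range.map (MonoidHom.fst Ω₁ Ω₂) :=
        e1 ▸ ⟨_, rfl⟩
      have hm2 : φ₂ ⟨(x : Ω₁ × Ω₂).2, ⟨x, x.2, rfl⟩⟩ ∈ φ.range.map (MonoidHom.snd Ω₁ Ω₂) :=
        e2 ▸ ⟨_, rfl⟩
      exact Prod.ext ((congrArg ψ₁ (Subtype.ext hx1)).trans (hi1 _ hm1))
        ((congrArg ψ₂ (Subtype.ext hx2)).trans (hi2 _ hm2))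

end Cfsg.Agent.S5136
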