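import Cfsg.Statements.S5128
import Cfsg.Agent.Fusion.Alperin.Puig

set_option autoImplicit false
open Cfsg

namespace Cfsg.Agent.S5128

/-- In a saturated fusion system over a finite p-group S, the product of two strongly closed subgroups is strongly closed. -/
theorem result {Ω : Type*} [Group Ω] {S : Subgroup Ω} [Finite S] (p : ℕ) [Fact p.Prime] (hS : IsPGroup p S) (F : Cfsg.FusionSystem S) (hF : F.IsSaturated p) (T₁ T₂ : Subgroup Ω) (h₁ : F.StronglyClosed T₁) (h₂ : F.StronglyClosed T₂) : F.StronglyClosed (T₁ ⊔ T₂) := by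
  refine ⟨sup_le h₁.1 h₂.1, fun R hR φ hφ x => ?_⟩
  obtain ⟨ψ, hψ, he⟩ := CfsgLib.Fusion.Alperin.exists_extend_mod hS hF h₁ hφ
  have hN : T₂ ≤ Subgroup.normalizer (T₁ : Set Ω) :=
    h₂.1.trans (CfsgLib.Fusion.Alperin.le_normalizer_of_stronglyClosed h₁)
  have hx : (x : Ω) ∈ ((T₁ ⊔ T₂ : Subgroup Ω) : Set Ω) := hR x.2
  rw [Subgroup.coe_mul_of_right_le_normalizer_left T₁ T₂ hN] at hx
  obtain ⟨a, ha, b, hb, hab⟩ := Set.mem_mul.1 hx
  have hb' : b ∈ R ⊔ T₁ := by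
    have e : b = a⁻¹ * (x : Ω) := by rw [← hab]; group
    rw [e]
    exact mul_mem (inv_mem (Subgroup.mem_sup_right ha)) (Subgroup.mem_sup_left x.2)
  have e2 : Subgroup.inclusion le_sup_left x =
      (⟨a, Subgroup.mem_sup_right ha⟩ : (R ⊔ T₁ : Subgroup Ω)) * ⟨b, hb'⟩ :=
    Subtype.ext hab.symm
  have e3 : φ x = ψ (Subgroup.inclusion le_sup_left x) *
      ((φ x)⁻¹ * ψ (Subgroup.inclusion le_sup_left x))⁻¹ := by group
  rw [e3]
  refine mul_mem ?_ (inv_mem (Subgroup.mem_sup_left (he x)))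
  rw [e2, map_mul]
  exact mul_mem
    (Subgroup.mem_sup_left (CfsgLib.Fusion.Alperin.map_mem_of_stronglyClosed h₁ hψ ha))
    (Subgroup.mem_sup_right (CfsgLib.Fusion.Alperin.map_mem_of_stronglyClosed h₂ hψ hb))

end Cfsg.Agent.S5128
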