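import Cfsg.Statements.S5316
import Cfsg.Agent.Fus.EssentialElemCube.Chain
import Cfsg.Agent.Fus.EssentialCube
import Cfsg.Agent.Fus.EssentialRankTwo
import Cfsg.Agent.Fus.Transport
import Cfsg.Agent.LocalCharP.StronglyEmbedded

set_option autoImplicit false
open Cfsg

namespace Cfsg.Agent.S5316

open Cfsg.FusionSystem CfsgLib.Fus CfsgLib.Fus.EssentialElemCube

/-- The automorphisms of an abelian essential subgroup have the trivial-intersection property. -/
theorem hasTI_of_essential {Ω : Type*} [Group Ω] {S : Subgroup Ω} [Finite S] {p : ℕ} [Fact p.Prime]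
    {F : Cfsg.FusionSystem S} {H : Subgroup Ω} (hH : F.IsEssential p H)
    (hcomm : ∀ x y : H, x * y = y * x) : HasTI p (F.autGroup H) := by
  haveI : Finite H := finite_of_le hH.1.1
  haveI : Finite (MulAut H) := finite_mulAut H
  obtain ⟨hn, Y, hY⟩ := hH.2.2
  set K := (Inn H).subgroupOf (F.autGroup H)
  haveI : K.Normal := hn
  let π := QuotientGroup.mk' K
  have hπ : Function.Injective π := by
    rw [← MonoidHom.ker_eq_bot_iff, QuotientGroup.ker_mk', Subgroup.eq_bot_iff_forall]
    intro a ha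
    obtain ⟨h, hh⟩ := Subgroup.mem_subgroupOf.1 ha
    refine Subtype.ext (MulEquiv.ext fun x => ?_)
    rw [← hh]
    show h * x * h⁻¹ = x
    rw [hcomm h x, mul_inv_cancel_right]
  intro X hX
  obtain ⟨P, hPY, -⟩ := CfsgLib.LocalCharP.exists_sylow_le hY
  obtain ⟨Q, hQ⟩ := (hX.map π).exists_le_sylow
  obtain ⟨c, hc⟩ := MulAction.exists_smul_eq (F.autGroup H ⧸ K) P Q
  refine ⟨(Y.map (MulAut.conj c).toMonoidHom).comap π, ⟨fun htop => hY.2.1 ?_, fun {x g} hx hxp hg => ?_⟩,
    fun x hx => ?_⟩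
  · refine (Subgroup.eq_top_iff' _).2 fun y => ?_
    obtain ⟨a, ha⟩ := QuotientGroup.mk'_surjective K (MulAut.conj c y)
    have h1 : π a ∈ Y.map (MulAut.conj c).toMonoidHom := Subgroup.mem_comap.1 (htop.ge (Subgroup.mem_top a))
    rwa [show π a = MulAut.conj c y from ha, Subgroup.mem_map_equiv, MulEquiv.symm_apply_apply] at h1
  · rw [Subgroup.mem_comap, Subgroup.mem_map_equiv] at hx hg ⊢
    refine CfsgLib.LocalCharP.mem_of_conj_mem hY hx ?_ (by simpa only [map_mul, map_inv] using hg)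
    rw [MulEquiv.orderOf_eq, orderOf_injective π hπ, hxp]
  · rw [Subgroup.mem_comap]
    have h1 : π x ∈ (Q : Subgroup (F.autGroup H ⧸ K)) := hQ (Subgroup.mem_map_of_mem π hx)
    rw [← hc, Sylow.coe_subgroup_smul] at h1
    exact Subgroup.map_mono hPY h1

/-- No elementary abelian essential subgroup of order `p ^ 3`. -/
theorem false_of_elementary {Ω : Type*} [Group Ω] {S : Subgroup Ω} [Finite S] (p : ℕ) [Fact p.Prime]
    (hp : 5 ≤ p) (hS : IsPGroup p ↥S) (n : ℕ) (hn : Nat.card S = p ^ n) (h5 : 5 ≤ n)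
    (hmax : Subgroup.lowerCentralSeries S (n - 2) ≠ ⊥) (F : Cfsg.FusionSystem S) (hF : F.IsSaturated p)
    (E : Subgroup Ω) (hE : F.IsEssential p E) (hcard : Nat.card E = p ^ 3)
    (hcomm : ∀ x y : E, x * y = y * x) (hexp : ∀ x : E, x ^ p = 1) : False := by
  have hl : Subgroup.lowerCentralSeries (⊤ : Subgroup S) (n - 2) ≠ ⊥ := by
    intro h
    apply hmax
    rw [← Subgroup.top_subtype_lowerCentralSeries S (n - 2), h, Subgroup.map_bot]
  have hmc := CfsgLib.PGroup.MaxClass.isMaxCl_of_ne_bot hn (by omega) hl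
  let e : S ≃* (⊤ : Subgroup S) := Subgroup.topEquiv.symm
  let F' : Cfsg.FusionSystem (⊤ : Subgroup S) :=
    { Hom := (Transport.push e F le_rfl).Hom
      le_of_mem := fun _ => ⟨le_top, fun _ => Subgroup.mem_top _⟩
      injective_of_mem := (Transport.push e F le_rfl).injective_of_mem
      conj_mem := fun {P g} _ _ => (Transport.push e F le_rfl).conj_mem
        (le_top.trans (Transport.sub_top_eq (e := e)).ge)
        ((Transport.sub_top_eq (e := e)).ge (Subgroup.mem_top g))
      comp_mem := (Transport.push e F le_rfl).comp_mem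
      inv_mem := (Transport.push e F le_rfl).inv_mem }
  have hC : Transport.Corr e F F' :=
    ⟨le_rfl, (Transport.sub_top_eq (e := e)).symm, (Transport.corr_push e F le_rfl).iff⟩
  have hES := hE.1.1
  set e' := Transport.isoTo (e := e) hES rfl with he'
  refine false_of_start (F := F') (E0 := Transport.sub e E) ⟨?_, fun x hx => ?_, fun x hx y hy => ?_, ?_,
    hC.fullyNormalized hE.2.1, ?_⟩ hmc hp h5 (hC.saturated hS hF)
  · rw [Transport.card_sub hES, hcard]
  · obtain ⟨u, hu⟩ := e'.surjective ⟨x, hx⟩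
    have h1 : (⟨x, hx⟩ : Transport.sub e E) ^ p = 1 := by rw [← hu, ← map_pow, hexp, map_one]
    exact congrArg Subtype.val h1
  · obtain ⟨u, hu⟩ := e'.surjective ⟨x, hx⟩
    obtain ⟨v, hv⟩ := e'.surjective ⟨y, hy⟩
    have h1 : (⟨x, hx⟩ : Transport.sub e E) * ⟨y, hy⟩ = ⟨y, hy⟩ * ⟨x, hx⟩ := by
      rw [← hu, ← hv, ← map_mul, ← map_mul, hcomm]
    exact congrArg Subtype.val h1
  · refine ⟨le_top, fun Q' hQ' => ?_⟩
    obtain ⟨Q, hQS, rfl⟩ := Transport.exists_sub (le_refl S) (hC.eq.le.trans' (isConj_le_right hQ'))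
    have hconj := (hC.isConj_iff hES hQS).1 hQ'
    rw [show centralizerIn (⊤ : Subgroup S) (Transport.sub e Q) =
      centralizerIn (Transport.sub e S) (Transport.sub e Q) by rw [Transport.sub_top_eq],
      ← Transport.sub_centralizerIn le_rfl hQS]
    exact Transport.sub_mono (hE.1.2 Q hconj)
  · set c := (MulAut.congr e').symm
    have hc : ∀ β : F'.autGroup (Transport.sub e E), c β ∈ F.autGroup E := fun β =>
      (hC.autGroup_iff hES hES rfl).1 (((MulAut.congr e').apply_symm_apply (β : MulAut _)).symm ▸ β.2)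
    refine HasTI.comap ((c.toMonoidHom.comp (F'.autGroup (Transport.sub e E)).subtype).codRestrict
      (F.autGroup E) hc) ⟨fun a b hab => ?_, fun β => ?_⟩ (hasTI_of_essential hE hcomm)
    · exact Subtype.ext (c.injective (congrArg Subtype.val hab))
    · exact ⟨⟨MulAut.congr e' β, (hC.autGroup_iff hES hES rfl).2 β.2⟩,
        Subtype.ext ((MulAut.congr e').symm_apply_apply (β : MulAut E))⟩

/-- Let p ≥ 5 be a prime, S a finite p-group of maximal class of order p^n with n ≥ 5 (nilpotency class n − 1), F a saturated fusion system over S, and E an F-essential subgroup that is not a pearl (not elementary abelian of order p² and not extraspecial of order p³ and exponent p). Then E has order at least p⁴. -/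
theorem result {Ω : Type*} [Group Ω] {S : Subgroup Ω} [Finite S] (p : ℕ) [Fact p.Prime] (hp : 5 ≤ p) (hS : IsPGroup p ↥S) (n : ℕ) (hn : Nat.card S = p ^ n) (h5 : 5 ≤ n)
    (hmax : Subgroup.lowerCentralSeries S (n - 2) ≠ ⊥) (F : Cfsg.FusionSystem S) (hF : F.IsSaturated p)
    (E : Subgroup Ω) (hE : F.IsEssential p E)
    (hnp : ¬ ((Nat.card ↥E = p ^ 2 ∧ Cfsg.IsElementaryAbelian p E) ∨ (Nat.card ↥E = p ^ 3 ∧ Cfsg.IsExtraspecial p ↥E ∧ Monoid.exponent ↥E = p))) :
    p ^ 4 ≤ Nat.card ↥E := by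
  have hpp : p.Prime := Fact.out
  haveI : Finite E := finite_of_le hE.1.1
  obtain ⟨i, hin, hi⟩ := (Nat.dvd_prime_pow hpp).1 (hn ▸ Subgroup.card_dvd_of_le hE.1.1)
  rw [hi]
  refine Nat.pow_le_pow_right hpp.pos ?_
  by_contra hlt
  rcases (show i ≤ 1 ∨ i = 2 ∨ i = 3 by omega) with h1 | rfl | rfl
  · refine EssentialSmall.false_of_series hS hE 1 (fun k => if k = 0 then ⊥ else ⊤) (if_pos rfl)
      (if_neg one_ne_zero) (monotone_nat_of_le_succ fun k => ?_) (fun k => ?_) fun k hk => ?_
    · by_cases hk : k = 0 <;> simp [hk]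
    · by_cases hk : k = 0 <;> simp only [hk, ↓reduceIte] <;> infer_instance
    · obtain rfl : k = 0 := by omega
      rw [if_pos rfl, if_neg (Nat.succ_ne_zero 0), Subgroup.relIndex_bot_left, Subgroup.card_top, hi]
      exact (Nat.pow_dvd_pow p h1).trans (pow_one p).dvd
  · refine hnp (Or.inl ⟨hi, ⟨IsPGroup.isMulCommutative_of_card_eq_prime_sq hi, fun x hx => ?_⟩⟩)
    exact congrArg Subtype.val (EssentialRankTwo.pow_eq_one_of_card_sq hS hE hi ⟨x, hx⟩)
  · rcases EssentialCube.classify hS hE hi with ⟨hcomm, hexp⟩ | ⟨-, hes, hexp⟩ | ⟨hp2, -⟩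
    · exact false_of_elementary p hp hS n hn h5 hmax F hF E hE hi hcomm hexp
    · refine hnp (Or.inr ⟨hi, hes, ?_⟩)
      rcases (Nat.dvd_prime hpp).1 (Monoid.exponent_dvd_of_forall_pow_eq_one hexp) with h1 | h1
      · rw [Monoid.exp_eq_one_iff] at h1
        rw [Nat.card_eq_one_iff_unique.2 ⟨h1, inferInstance⟩] at hi
        exact absurd hi (Nat.one_lt_pow three_ne_zero hpp.one_lt).ne
      · exact h1
    · omega

end Cfsg.Agent.S5316
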