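import Cfsg.Statements.S0662
import Cfsg.Agent.PGroup.Small
open scoped commutatorElement

set_option autoImplicit false
open Cfsg

namespace Cfsg.Agent.S0662


/-- In a p-group of maximal class of order at least p³ the normal subgroups of index at least p² are exactly the terms of the lower central series, and there are exactly p + 1 normal subgroups of index p. -/
theorem result {G : Type*} [Group G] [Finite G] {p : ℕ} [Fact p.Prime] (n : ℕ) (hG : Nat.card G = p ^ n) (hcl : Group.nilpotencyClass G = n - 1) (hn : 3 ≤ n) : (∀ (N : Subgroup G) [N.Normal] (r : ℕ), 2 ≤ r → N.index = p ^ r → N = (⊤ : Subgroup G).lowerCentralSeries (r - 1)) ∧ Nat.card {N : Subgroup G // N.Normal ∧ N.index = p} = p + 1 := by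
  classical
  have hp : p.Prime := Fact.out
  have hP : IsPGroup p G := IsPGroup.of_card hG
  haveI : Group.IsNilpotent G := hP.isNilpotent
  -- the lower central series has the largest possible terms
  have hne : ∀ k, k < n - 1 → Subgroup.lowerCentralSeries (⊤ : Subgroup G) k ≠ ⊥ := by
    intro k hk h
    have : Group.nilpotencyClass G ≤ k := by
      rw [← Subgroup.lowerCentralSeries_length_eq_nilpotencyClass]
      exact Nat.find_le h
    omega
  have hlow : ∀ j k, k + j = n - 1 →
      p ^ j ≤ Nat.card (Subgroup.lowerCentralSeries (⊤ : Subgroup G) k) := by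
    intro j
    induction j with
    | zero => intro k _; rw [pow_zero]; exact Nat.card_pos
    | succ j ih =>
      intro k hk
      have h1 := ih (k + 1) (by omega)
      have hlt := CfsgLib.PGroup.lowerCentralSeries_succ_lt hP (hne k (by omega))
      obtain ⟨i, hi⟩ := IsPGroup.iff_card.1
        (hP.to_subgroup (Subgroup.lowerCentralSeries (⊤ : Subgroup G) k))
      have h2 : Nat.card (Subgroup.lowerCentralSeries (⊤ : Subgroup G) (k + 1)) <
          Nat.card (Subgroup.lowerCentralSeries (⊤ : Subgroup G) k) :=
        lt_of_le_of_ne (Subgroup.card_le_of_le hlt.le)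
          fun he => hlt.ne (Subgroup.eq_of_le_of_card_ge hlt.le he.ge)
      rw [hi] at h2 ⊢
      have h3 := lt_of_le_of_lt h1 h2
      rw [Nat.pow_lt_pow_iff_right hp.one_lt] at h3
      exact Nat.pow_le_pow_right hp.pos (by omega)
  have hcard : ∀ k, 1 ≤ k → k ≤ n - 1 →
      Nat.card (Subgroup.lowerCentralSeries (⊤ : Subgroup G) k) = p ^ (n - 1 - k) := by
    intro k hk hk'
    refine le_antisymm ?_ (hlow _ k (by omega))
    obtain ⟨j, rfl⟩ := Nat.exists_eq_add_of_le' hk
    refine (CfsgLib.PGroup.card_lowerCentralSeries_le hG j).trans ?_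
    exact Nat.pow_le_pow_right hp.pos (by omega)
  refine ⟨fun N _ r hr hN => ?_, ?_⟩
  · have hrn : r ≤ n := (Nat.pow_dvd_pow_iff_le_right hp.one_lt).1 (hG ▸ hN ▸ N.index_dvd_card)
    have hQ : Nat.card (G ⧸ N) = p ^ r := by rw [← Subgroup.index_eq_card, hN]
    have hbot : Subgroup.lowerCentralSeries (⊤ : Subgroup (G ⧸ N)) (r - 1) = ⊥ := by
      refine Subgroup.eq_bot_of_card_le _ ?_
      have := CfsgLib.PGroup.card_lowerCentralSeries_le hQ (r - 2)
      rw [show r - 2 + 1 = r - 1 by omega, show r - (r - 2 + 2) = 0 by omega, pow_zero] at this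
      exact this
    have hle : Subgroup.lowerCentralSeries (⊤ : Subgroup G) (r - 1) ≤ N := by
      have h := Subgroup.lowerCentralSeries.map (QuotientGroup.mk' N) (r - 1)
      rw [hbot, le_bot_iff, Subgroup.map_eq_bot_iff, QuotientGroup.ker_mk'] at h
      exact h
    refine (Subgroup.eq_of_le_of_card_ge hle ?_).symm
    rw [hcard (r - 1) (by omega) (by omega)]
    have h := N.card_mul_index
    rw [hN, hG] at h
    refine le_of_eq (Nat.eq_of_mul_eq_mul_right (pow_pos hp.pos r) ?_)
    rw [h, ← pow_add]
    congr 1; omega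
  · set D := Subgroup.lowerCentralSeries (⊤ : Subgroup G) 1 with hD
    have hDΦ : D ≤ frattini G := by
      rw [hD, Subgroup.lowerCentralSeries_succ, Subgroup.lowerCentralSeries_zero]
      exact CfsgLib.PGroup.commutator_le_frattini hP
    have hDidx : D.index = p ^ 2 := by
      have h := D.card_mul_index
      rw [hcard 1 le_rfl (by omega), hG] at h
      refine Nat.eq_of_mul_eq_mul_left (pow_pos hp.pos (n - 1 - 1)) ?_
      rw [h, ← pow_add]
      congr 1; omega
    have hnc : ¬ IsCyclic G := by
      intro hc
      refine hne 1 (by omega) ?_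
      rw [Subgroup.lowerCentralSeries_succ, Subgroup.lowerCentralSeries_zero, eq_bot_iff,
        Subgroup.commutator_le]
      exact fun a _ b _ => Subgroup.mem_bot.2
        (commutatorElement_eq_one_iff_mul_comm.2 (IsMulCommutative.is_comm.comm a b))
    have hΦ : frattini G = D := by
      refine (Subgroup.eq_of_le_of_card_ge hDΦ ?_).symm
      obtain ⟨s, -, hs⟩ := (Nat.dvd_prime_pow hp).1 (hG ▸ (frattini G).index_dvd_card)
      have hs2 : 2 ≤ s := by
        by_contra h
        refine hnc (CfsgLib.PGroup.isCyclic_of_frattini_index (p := p) ?_)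
        rw [hs]
        exact (pow_dvd_pow p (show s ≤ 1 by omega)).trans (by rw [pow_one])
      have h1 := (frattini G).card_mul_index
      rw [← D.card_mul_index, hDidx, hs] at h1
      refine Nat.le_of_mul_le_mul_right ?_ (pow_pos hp.pos 2)
      rw [← h1]
      exact Nat.mul_le_mul_left _ (Nat.pow_le_pow_right hp.pos hs2)
    haveI : D.Normal := hΦ ▸ inferInstance
    have hexp : ∀ v : G ⧸ D, v ^ p = 1 := by
      intro v
      induction v using QuotientGroup.induction_on with
      | H g =>
        rw [← QuotientGroup.mk_pow, QuotientGroup.eq_one_iff, ← hΦ]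
        exact CfsgLib.PGroup.pow_prime_mem_frattini hP g
    rw [← CfsgLib.PGroup.card_index_prime_over D hDidx hexp]
    refine Nat.card_congr (Equiv.subtypeEquivRight fun N => ⟨fun h => ⟨?_, h.2⟩, fun h => ⟨?_, h.2⟩⟩)
    · rw [← hΦ]
      exact frattini_le_coatom (CfsgLib.PGroup.isCoatom_of_index_eq h.2)
    · exact CfsgLib.PGroup.normal_of_coatom hP (CfsgLib.PGroup.isCoatom_of_index_eq h.2)

end Cfsg.Agent.S0662
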