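import Cfsg.Statements.S5270
import Cfsg.Agent.S0662
import Cfsg.Agent.PGroup.Small
import Cfsg.Agent.Fus.Extension
import Cfsg.Agent.LocalCharP.StronglyEmbedded

/-!
Maximal class: a map of `Z₂(S)` moving `Z(S)` extends to `C_S(Z₂(S))`, whose outer automizer then has a
non-normal Sylow `p`-subgroup of order `p`.
-/

set_option autoImplicit false
open Cfsg Cfsg.FusionSystem
open scoped commutatorElement

namespace Cfsg.Agent.S5270

/-- An element whose commutators with a subgroup `N` of prime index and with itself lie in a normal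
subgroup `Z` commutes modulo `Z` with everything. -/
theorem comm_mem_of_coatom {G : Type*} [Group G] (Z N : Subgroup G) [Z.Normal] (hN : IsCoatom N) {g : G}
    (hg : g ∉ N) (h : ∀ x ∈ N, ⁅g, x⁆ ∈ Z) (y : G) : ⁅g, y⁆ ∈ Z := by
  have key : ∀ x : G, x ∈ (Subgroup.centralizer ({QuotientGroup.mk' Z g} : Set (G ⧸ Z))).comap
      (QuotientGroup.mk' Z) ↔ ⁅g, x⁆ ∈ Z := by
    intro x
    rw [Subgroup.mem_comap, Subgroup.mem_centralizer_singleton_iff,
      ← QuotientGroup.eq_one_iff (N := Z), ← QuotientGroup.mk'_apply, map_commutatorElement,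
      commutatorElement_eq_one_iff_mul_comm]
    exact ⟨fun e => e.symm, fun e => e.symm⟩
  rw [← key]
  have htop : N ⊔ Subgroup.zpowers g = ⊤ :=
    hN.2 _ (left_lt_sup.2 fun hle => hg (hle (Subgroup.mem_zpowers g)))
  have hle : N ⊔ Subgroup.zpowers g ≤
      (Subgroup.centralizer ({QuotientGroup.mk' Z g} : Set (G ⧸ Z))).comap (QuotientGroup.mk' Z) :=
    sup_le (fun x hx => (key x).2 (h x hx))
      (Subgroup.zpowers_le.2 ((key g).2 (by rw [commutatorElement_self]; exact Z.one_mem)))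
  exact hle (htop ▸ Subgroup.mem_top y)

/-- The top of a `p`-group of maximal class. -/
theorem maxClass_facts {G : Type*} [Group G] [Finite G] {p : ℕ} [Fact p.Prime] {n : ℕ}
    (hG : Nat.card G = p ^ n) (h4 : 4 ≤ n)
    (hl : Subgroup.lowerCentralSeries (⊤ : Subgroup G) (n - 2) ≠ ⊥) :
    Nat.card (Subgroup.center G) = p ∧ Nat.card (Subgroup.upperCentralSeries G 2) = p ^ 2 ∧
      Subgroup.upperCentralSeries G 2 ≤
        Subgroup.centralizer (Subgroup.upperCentralSeries G 2 : Set G) ∧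
      (Subgroup.centralizer (Subgroup.upperCentralSeries G 2 : Set G)).index = p := by
  have hp : p.Prime := Fact.out
  have hP : IsPGroup p G := IsPGroup.of_card hG
  haveI : Group.IsNilpotent G := hP.isNilpotent
  have hbot : Subgroup.lowerCentralSeries (⊤ : Subgroup G) (n - 1) = ⊥ := by
    refine Subgroup.eq_bot_of_card_le _ ?_
    have h := CfsgLib.PGroup.card_lowerCentralSeries_le hG (n - 2)
    rw [show n - 2 + 1 = n - 1 by omega, show n - (n - 2 + 2) = 0 by omega, pow_zero] at h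
    exact h
  have hcl : Group.nilpotencyClass G = n - 1 := by
    have h1 := Subgroup.lowerCentralSeries_eq_bot_iff_nilpotencyClass_le.1 hbot
    have h2 : ¬ Group.nilpotencyClass G ≤ n - 2 :=
      fun h => hl (Subgroup.lowerCentralSeries_eq_bot_iff_nilpotencyClass_le.2 h)
    omega
  have hdesc := (S0662.result n hG hcl (by omega)).1
  have hne : ∀ k, k ≤ n - 2 → Subgroup.lowerCentralSeries (⊤ : Subgroup G) k ≠ ⊥ := fun k hk h =>
    hl (le_bot_iff.1 (h ▸ Subgroup.lowerCentralSeries_antitone _ hk))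
  have hu1 : Subgroup.upperCentralSeries G 1 = Subgroup.center G := Subgroup.upperCentralSeries_one G
  -- a normal subgroup with `[N, G] ≤ M` pushes the lower series down
  have hstep : ∀ (k : ℕ) (M : Subgroup G),
      (∀ a ∈ Subgroup.lowerCentralSeries (⊤ : Subgroup G) k, ∀ y : G, ⁅a, y⁆ ∈ M) →
      Subgroup.lowerCentralSeries (⊤ : Subgroup G) (k + 1) ≤ M := by
    intro k M h
    rw [Subgroup.lowerCentralSeries_succ, Subgroup.commutator_le]
    exact fun a ha y _ => h a ha y
  have hcent : ∀ a ∈ Subgroup.center G, ∀ y : G, ⁅a, y⁆ ∈ (⊥ : Subgroup G) := fun a ha y =>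
    Subgroup.mem_bot.2 (commutatorElement_eq_one_iff_mul_comm.2 (Subgroup.mem_center_iff.1 ha y).symm)
  have hidx : ∀ k, k < 2 → (Subgroup.upperCentralSeries G (k + 1)).index ≠ 1 ∧
      (Subgroup.upperCentralSeries G (k + 1)).index ≠ p := by
    intro k hk
    refine ⟨fun h => ?_, fun h => ?_⟩
    · exact hne (k + 1) (by omega) (Subgroup.lowerCentralSeries_eq_bot_iff_upperCentralSeries_eq_top.2
        (Subgroup.index_eq_one.1 h))
    · have hco := CfsgLib.PGroup.isCoatom_of_index_eq h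
      obtain ⟨g, hg⟩ : ∃ g : G, g ∉ Subgroup.upperCentralSeries G (k + 1) := by
        by_contra hall
        push Not at hall
        exact hco.1 ((Subgroup.eq_top_iff' _).2 hall)
      refine hg (Subgroup.mem_upperCentralSeries_succ_iff.2 fun y => ?_)
      refine comm_mem_of_coatom _ _ hco hg (fun x hx => ?_) y
      rw [← commutatorElement_inv]
      exact inv_mem (Subgroup.mem_upperCentralSeries_succ_iff.1 hx g)
  have hexp : ∀ k, k < 2 → ∃ r, 2 ≤ r ∧ r ≤ n ∧ (Subgroup.upperCentralSeries G (k + 1)).index = p ^ r ∧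
      Subgroup.upperCentralSeries G (k + 1) = Subgroup.lowerCentralSeries (⊤ : Subgroup G) (r - 1) := by
    intro k hk
    obtain ⟨r, hrn, hr⟩ := (Nat.dvd_prime_pow hp).1 (hG ▸ (Subgroup.upperCentralSeries G (k + 1)).index_dvd_card)
    obtain ⟨h1, h2⟩ := hidx k hk
    have hr2 : 2 ≤ r := by
      by_contra h
      rcases (show r = 0 ∨ r = 1 by omega) with rfl | rfl
      · exact h1 (by rw [hr, pow_zero])
      · exact h2 (by rw [hr, pow_one])
    exact ⟨r, hr2, hrn, hr, hdesc _ r hr2 hr⟩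
  have hcardN : ∀ (N : Subgroup G) (r : ℕ), r ≤ n → N.index = p ^ r → Nat.card N = p ^ (n - r) := by
    intro N r hrn hr
    have h := N.card_mul_index
    rw [hr, hG] at h
    refine Nat.eq_of_mul_eq_mul_right (pow_pos hp.pos r) ?_
    rw [h, ← pow_add]
    congr 1; omega
  have hnt : Nontrivial G := by
    refine (Finite.one_lt_card_iff_nontrivial).1 ?_
    rw [hG]
    exact Nat.one_lt_pow (by omega) hp.one_lt
  -- the centre
  obtain ⟨r, hr2, hrn, hri, hre⟩ := hexp 0 (by omega)
  rw [zero_add, hu1] at hri hre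
  have hZcard : Nat.card (Subgroup.center G) = p := by
    have hlow : n - 1 ≤ r := by
      by_contra h
      refine hne r (by omega) (le_bot_iff.1 ?_)
      have := hstep (r - 1) ⊥ (fun a ha y => hcent a (hre ▸ ha) y)
      rwa [show r - 1 + 1 = r by omega] at this
    have hlt : r ≠ n := by
      intro h
      apply Group.IsNilpotent.center_ne_bot (G := G)
      apply Subgroup.card_eq_one.1
      rw [hcardN _ r hrn hri, h, Nat.sub_self, pow_zero]
    rw [hcardN _ r hrn hri, show n - r = 1 by omega, pow_one]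
  -- the second centre
  obtain ⟨s, hs2, hsn, hsi, hse⟩ := hexp 1 (by omega)
  have hlt12 : Subgroup.center G < Subgroup.upperCentralSeries G 2 := by
    rw [← hu1]
    exact upperCentralSeries.StrictMonoOn (G := G) (by simp [hcl]; omega) (by simp [hcl]; omega) (by norm_num)
  have hZ2card : Nat.card (Subgroup.upperCentralSeries G 2) = p ^ 2 := by
    have hlow : n - 2 ≤ s := by
      by_contra h
      refine hne (s + 1) (by omega) (le_bot_iff.1 (hstep s ⊥ fun a ha y => hcent a ?_ y))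
      have := hstep (s - 1) (Subgroup.center G) (fun a ha y => by
        rw [← hu1]
        exact Subgroup.mem_upperCentralSeries_succ_iff.1 (hse ▸ ha) y)
      rw [show s - 1 + 1 = s by omega] at this
      exact this ha
    have hc := hcardN _ s hsn hsi
    have h1 : p ^ 1 < p ^ (n - s) := by
      rw [← hc, pow_one, ← hZcard]
      exact lt_of_le_of_ne (Subgroup.card_le_of_le hlt12.le)
        fun he => hlt12.ne (Subgroup.eq_of_le_of_card_ge hlt12.le he.ge)
    rw [Nat.pow_lt_pow_iff_right hp.one_lt] at h1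
    rw [hc]
    congr 1; omega
  obtain ⟨a, ha, haZ⟩ := SetLike.exists_of_lt hlt12
  have haC : ∀ x : G, ⁅x, a⁆ ∈ Subgroup.center G := fun x => by
    rw [← commutatorElement_inv, ← hu1]
    exact inv_mem (Subgroup.mem_upperCentralSeries_succ_iff.1 ha x)
  have hgen : Subgroup.center G ⊔ Subgroup.zpowers a = Subgroup.upperCentralSeries G 2 := by
    have hle : Subgroup.center G ⊔ Subgroup.zpowers a ≤ Subgroup.upperCentralSeries G 2 :=
      sup_le hlt12.le (Subgroup.zpowers_le.2 ha)
    refine Subgroup.eq_of_le_of_card_ge hle ?_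
    obtain ⟨j, -, hj⟩ := (Nat.dvd_prime_pow hp).1
      (hG ▸ (Subgroup.center G ⊔ Subgroup.zpowers a).card_subgroup_dvd_card)
    have h1 : p ^ 1 < p ^ j := by
      rw [← hj, pow_one, ← hZcard]
      exact lt_of_le_of_ne (Subgroup.card_le_of_le le_sup_left) fun he => haZ
        ((Subgroup.eq_of_le_of_card_ge le_sup_left he.ge).symm ▸
          (le_sup_right : Subgroup.zpowers a ≤ Subgroup.center G ⊔ Subgroup.zpowers a) (Subgroup.mem_zpowers a))
    rw [Nat.pow_lt_pow_iff_right hp.one_lt] at h1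
    rw [hZ2card, hj]
    exact Nat.pow_le_pow_right hp.pos h1
  let f : G →* Subgroup.center G :=
    { toFun := fun x => ⟨⁅x, a⁆, haC x⟩
      map_one' := Subtype.ext (commutatorElement_one_left a)
      map_mul' := fun x y => Subtype.ext (by
        show ⁅x * y, a⁆ = ⁅x, a⁆ * ⁅y, a⁆
        have h1 : x * ⁅y, a⁆ = ⁅y, a⁆ * x := Subgroup.mem_center_iff.1 (haC y) x
        have h2 : ⁅x, a⁆ * ⁅y, a⁆ = ⁅y, a⁆ * ⁅x, a⁆ := Subgroup.mem_center_iff.1 (haC y) _
        rw [h2]
        calc ⁅x * y, a⁆ = x * ⁅y, a⁆ * x⁻¹ * ⁅x, a⁆ := by simp only [commutatorElement_def]; group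
          _ = ⁅y, a⁆ * ⁅x, a⁆ := by rw [h1, mul_inv_cancel_right]) }
  have hker : f.ker = Subgroup.centralizer (Subgroup.upperCentralSeries G 2 : Set G) := by
    rw [← hgen]
    apply le_antisymm
    · intro x hx
      have hxa : x * a = a * x :=
        commutatorElement_eq_one_iff_mul_comm.1 (congrArg Subtype.val (MonoidHom.mem_ker.1 hx))
      have hle : Subgroup.center G ⊔ Subgroup.zpowers a ≤ Subgroup.centralizer ({x} : Set G) :=
        sup_le (Subgroup.center_le_centralizer _)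
          (Subgroup.zpowers_le.2 (Subgroup.mem_centralizer_singleton_iff.2 hxa.symm))
      exact Subgroup.mem_centralizer_iff.2 fun z hz => Subgroup.mem_centralizer_singleton_iff.1 (hle hz)
    · intro x hx
      refine MonoidHom.mem_ker.2 (Subtype.ext ?_)
      show ⁅x, a⁆ = 1
      exact commutatorElement_eq_one_iff_mul_comm.2 (Subgroup.mem_centralizer_iff.1 hx a
        ((le_sup_right : Subgroup.zpowers a ≤ Subgroup.center G ⊔ Subgroup.zpowers a)
          (Subgroup.mem_zpowers a))).symm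
  refine ⟨hZcard, hZ2card, fun x hx => Subgroup.mem_centralizer_iff.2 fun y hy => ?_, ?_⟩
  · exact congrArg Subtype.val ((IsPGroup.commutative_of_card_eq_prime_sq hZ2card) ⟨y, hy⟩ ⟨x, hx⟩)
  · rw [← hker, Subgroup.index_ker]
    have hd : Nat.card f.range ∣ p := hZcard ▸ Subgroup.card_subgroup_dvd_card f.range
    rcases (Nat.dvd_prime hp).1 hd with h1 | h1
    · exfalso
      refine haZ (Subgroup.mem_center_iff.2 fun x => ?_)
      have : f x ∈ f.range := ⟨x, rfl⟩
      rw [Subgroup.card_eq_one.1 h1, Subgroup.mem_bot] at this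
      exact commutatorElement_eq_one_iff_mul_comm.1 (congrArg Subtype.val this)
    · exact h1

open CfsgLib.Fus in
theorem isEssential {Ω : Type*} [Group Ω] {S : Subgroup Ω} [Finite S] (p : ℕ) [Fact p.Prime] (hS : IsPGroup p ↥S) (n : ℕ) (hn : Nat.card S = p ^ n) (h4 : 4 ≤ n) (hmax : Subgroup.lowerCentralSeries S (n - 2) ≠ ⊥) (F : Cfsg.FusionSystem S) (hF : F.IsSaturated p) {Z2 : Subgroup Ω} (hZ2 : Z2 = (Subgroup.upperCentralSeries ↥S 2).map S.subtype) (φ : ↥Z2 →* Ω) (hφ : φ ∈ F.Hom Z2) (hφZ : φ.range = Z2) (hmove : ∃ (z : Ω) (hz : z ∈ Z2), z ∈ ((Subgroup.center ↥S).map S.subtype) ∧ φ ⟨z, hz⟩ ∉ ((Subgroup.center ↥S).map S.subtype)) : F.IsEssential p (S ⊓ Subgroup.centralizer (Z2 : Set Ω)) := by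
  classical
  have hl : Subgroup.lowerCentralSeries (⊤ : Subgroup S) (n - 2) ≠ ⊥ := by
    intro h
    apply hmax
    rw [← Subgroup.top_subtype_lowerCentralSeries S (n - 2)]
    rw [h, Subgroup.map_bot]
  obtain ⟨hZcard, hZ2card, hZ2C, hCidx⟩ := maxClass_facts (G := S) hn h4 hl
  set C : Subgroup Ω := S ⊓ Subgroup.centralizer (Z2 : Set Ω) with hC
  have hZ2S : Z2 ≤ S := hZ2 ▸ Subgroup.map_subtype_le _
  have hCS : C ≤ S := inf_le_left
  have hCG : C.subgroupOf S = Subgroup.centralizer (Subgroup.upperCentralSeries ↥S 2 : Set S) := by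
    ext x
    simp only [Subgroup.mem_subgroupOf, hC, Subgroup.mem_inf, SetLike.coe_mem, true_and,
      Subgroup.mem_centralizer_iff, hZ2, Subgroup.coe_map, Set.mem_image, SetLike.mem_coe]
    constructor
    · intro h y hy
      exact Subtype.ext (h _ ⟨y, hy, rfl⟩)
    · rintro h _ ⟨y, hy, rfl⟩
      exact congrArg Subtype.val (h y hy)
  have hCidx' : (C.subgroupOf S).index = p := by rw [hCG]; exact hCidx
  have hZ2leC : Z2 ≤ C := by
    rw [hZ2]
    rintro _ ⟨y, hy, rfl⟩
    have h1 : y ∈ C.subgroupOf S := by rw [hCG]; exact hZ2C hy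
    exact Subgroup.mem_subgroupOf.1 h1
  have hZsub : ∀ {z : Ω}, z ∈ (Subgroup.center ↥S).map S.subtype → ∀ x ∈ S, x * z = z * x := by
    rintro _ ⟨y, hy, rfl⟩ x hx
    exact congrArg Subtype.val (Subgroup.mem_center_iff.1 hy ⟨x, hx⟩)
  have hnS : ∀ {P : Subgroup Ω}, P ≤ S → (P.subgroupOf S).Normal →
      normalizerIn S P = S := by
    intro P hPS hP
    refine le_antisymm (normalizerIn_le P) fun g hg => ⟨hg, Subgroup.mem_normalizer_iff.2 fun x => ⟨fun hx => ?_, fun hx => ?_⟩⟩
    · exact Subgroup.mem_subgroupOf.1 (hP.conj_mem ⟨x, hPS hx⟩ (Subgroup.mem_subgroupOf.2 hx) ⟨g, hg⟩)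
    · have h := Subgroup.mem_subgroupOf.1 (hP.conj_mem ⟨g * x * g⁻¹, hPS hx⟩ (Subgroup.mem_subgroupOf.2 hx) ⟨g⁻¹, inv_mem hg⟩)
      simpa [mul_assoc] using h
  have hfn : ∀ {P : Subgroup Ω}, P ≤ S → (P.subgroupOf S).Normal → F.IsFullyNormalized P := by
    intro P hPS hP
    refine ⟨hPS, fun Q hQ => ?_⟩
    rw [hnS hPS hP]
    exact Subgroup.card_le_of_le (normalizerIn_le Q)
  have hCn : (C.subgroupOf S).Normal :=
    CfsgLib.PGroup.normal_of_coatom hS (CfsgLib.PGroup.isCoatom_of_index_eq hCidx')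
  have hZ2n : (Z2.subgroupOf S).Normal := by
    have : Z2.subgroupOf S = Subgroup.upperCentralSeries ↥S 2 := by
      rw [hZ2]
      exact Subgroup.comap_map_eq_self_of_injective (Subgroup.subtype_injective S) _
    rw [this]; infer_instance
  have hCfn := hfn hCS hCn
  have hCc : F.IsCentric C := by
    refine ⟨hCS, fun Q hQ => ?_⟩
    rintro x ⟨hxS, hx⟩
    by_contra hxQ
    have hQS := isConj_le_right hQ
    have hQidx : (Q.subgroupOf S).index = p := by
      rw [← hCidx']
      have h1 := (Q.subgroupOf S).card_mul_index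
      have h2 := (C.subgroupOf S).card_mul_index
      have e : Nat.card (Q.subgroupOf S) = Nat.card (C.subgroupOf S) := by
        rw [Nat.card_congr (Subgroup.subgroupOfEquivOfLe hQS).toEquiv,
          Nat.card_congr (Subgroup.subgroupOfEquivOfLe hCS).toEquiv]
        exact (isConj_card hQ).symm
      rw [e, ← h2] at h1
      exact Nat.eq_of_mul_eq_mul_left Nat.card_pos h1
    have hco := CfsgLib.PGroup.isCoatom_of_index_eq hQidx
    have hQn := CfsgLib.PGroup.normal_of_coatom hS hco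
    have hxc : (⟨x, hxS⟩ : S) ∈ Subgroup.center S := by
      refine Subgroup.mem_center_iff.2 fun y => ?_
      have h := comm_mem_of_coatom (⊥ : Subgroup S) _ hco (g := ⟨x, hxS⟩) (fun h => hxQ (Subgroup.mem_subgroupOf.1 h))
        (fun w hw => Subgroup.mem_bot.2 (commutatorElement_eq_one_iff_mul_comm.2
          (Subtype.ext ((Subgroup.mem_centralizer_iff.1 hx _ (Subgroup.mem_subgroupOf.1 hw)).symm)))) y
      exact (commutatorElement_eq_one_iff_mul_comm.1 (Subgroup.mem_bot.1 h)).symm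
    refine hxQ (Subgroup.mem_subgroupOf.1 ((?_ : Subgroup.center S ≤ Q.subgroupOf S) hxc))
    haveI : Group.IsNilpotent S := hS.isNilpotent
    have hne : (Q.subgroupOf S) ≠ ⊥ := by
      intro h
      rw [h, Subgroup.index_bot, hn] at hQidx
      have := Nat.pow_right_injective (Fact.out : p.Prime).two_le (hQidx.trans (pow_one p).symm)
      omega
    have hinf : Q.subgroupOf S ⊓ Subgroup.center S ≠ ⊥ := by
      haveI := hQn
      exact CfsgLib.PGroup.inf_center_ne_bot hS _ hne
    rcases (Nat.dvd_prime (Fact.out : p.Prime)).1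
      (hZcard ▸ Subgroup.card_dvd_of_le (inf_le_right : Q.subgroupOf S ⊓ Subgroup.center S ≤ _)) with h | h
    · exact absurd (Subgroup.card_eq_one.1 h) hinf
    · exact inf_eq_right.1 (Subgroup.eq_of_le_of_card_ge inf_le_right (by rw [h, hZcard]))
  -- the map extends to `C`
  obtain ⟨-, hrec⟩ := fullyNormalized_props hS hF (hfn hZ2S hZ2n)
  have hCext : C ≤ extender S Z2 φ := centralizerIn_le_extender
  obtain ⟨ψ, hψ, hψext⟩ := exists_ext hrec hφ hφZ hZ2leC hCext
  have hψrange : ψ.range = C := by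
    haveI : Finite C := finite_of_le hCS
    refine Subgroup.eq_of_le_of_card_ge ?_ ?_
    · rintro _ ⟨c, rfl⟩
      refine ⟨hom_mem F hψ c, Subgroup.mem_centralizer_iff.2 fun w hw => ?_⟩
      obtain ⟨v, rfl⟩ : w ∈ φ.range := hφZ.symm ▸ hw
      rw [← hψext v, ← map_mul, ← map_mul]
      exact congrArg ψ (Subtype.ext ((Subgroup.mem_centralizer_iff.1 c.2.2 _ v.2)))
    · exact (Nat.card_congr (MonoidHom.ofInjective (F.injective_of_mem hψ)).toEquiv).le
  let α : MulAut C := isoOf hψ hψrange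
  have hα : α ∈ F.autGroup C := isoOf_mem_autGroup hψ hψrange
  obtain ⟨⟨-, P0, hP0⟩, -⟩ := fullyNormalized_props hS hF hCfn
  haveI : Finite C := finite_of_le hCS
  haveI : Finite (MulAut C) := finite_mulAut C
  haveI hInn : ((Inn C).subgroupOf (F.autGroup C)).Normal := by
    refine ⟨fun x hx g => ?_⟩
    obtain ⟨y, hy⟩ := Subgroup.mem_subgroupOf.1 hx
    refine Subgroup.mem_subgroupOf.2 ⟨(g : MulAut C) y, MulEquiv.ext fun w => ?_⟩
    have hy' : MulAut.conj y = (x : MulAut C) := hy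
    simp [← hy']
  refine ⟨hCc, hCfn, hInn, ?_⟩
  -- the Sylow subgroup is not normal
  have hnot : ¬ (P0 : Subgroup (F.autGroup C)).Normal := by
    intro hP
    obtain ⟨z, hz, hzZ, hzm⟩ := hmove
    apply hzm
    have hzC : z ∈ C := hZ2leC hz
    have hw : φ ⟨z, hz⟩ ∈ C := hψrange ▸ ⟨⟨z, hzC⟩, hψext ⟨z, hz⟩⟩
    refine ⟨⟨φ ⟨z, hz⟩, hCS hw⟩, Subgroup.mem_center_iff.2 fun x => Subtype.ext ?_, rfl⟩
    show (x : Ω) * φ ⟨z, hz⟩ = φ ⟨z, hz⟩ * x
    have hxN : (x : Ω) ∈ Subgroup.normalizer (C : Set Ω) := ((hnS hCS hCn).ge x.2).2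
    let b : F.autGroup C := ⟨conjAut hxN, autInducedBy_le_autGroup F hCS (conjAut_mem_autInducedBy hxN x.2)⟩
    have hb : b ∈ (P0 : Subgroup (F.autGroup C)) := by
      rw [hP0]; exact conjAut_mem_autInducedBy hxN x.2
    have hconj := hP.conj_mem b hb (⟨α, hα⟩⁻¹)
    rw [hP0, Subgroup.mem_subgroupOf] at hconj
    obtain ⟨y, hyS, hy⟩ := mem_autInducedBy_iff.1 hconj
    have h := hy ⟨z, hzC⟩
    rw [show y * z * y⁻¹ = z by rw [hZsub hzZ y hyS, mul_inv_cancel_right]] at h
    have h2 : α.symm (conjAut hxN (α ⟨z, hzC⟩)) = (⟨z, hzC⟩ : C) := by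
      apply Subtype.ext
      simpa using h
    have h3 := congrArg (fun c : C => ((α c : C) : Ω)) h2
    simp only [MulEquiv.apply_symm_apply, conjAut_apply] at h3
    have hαz : ((α ⟨z, hzC⟩ : C) : Ω) = φ ⟨z, hz⟩ :=
      (isoOf_apply hψ hψrange _).trans (hψext ⟨z, hz⟩)
    rw [hαz] at h3
    calc (x : Ω) * φ ⟨z, hz⟩ = (x : Ω) * φ ⟨z, hz⟩ * (x : Ω)⁻¹ * x := by group
      _ = _ := by rw [h3]
  set K := (Inn C).subgroupOf (F.autGroup C) with hK
  have hKP0 : K ≤ (P0 : Subgroup (F.autGroup C)) := by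
    intro g hg
    rw [hP0]
    exact inn_le_autInducedBy hCS (Subgroup.mem_subgroupOf.1 hg)
  let π := QuotientGroup.mk' K
  have hπ : Function.Surjective π := QuotientGroup.mk'_surjective K
  let Pb : Sylow p (F.autGroup C ⧸ K) := P0.mapSurjective hπ
  have hSN : S ≤ Subgroup.normalizer (C : Set Ω) := fun g hg => ((hnS hCS hCn).ge hg).2
  let c : S →* F.autGroup C := (C.normalizerMonoidHom.comp (Subgroup.inclusion hSN)).codRestrict _
    fun x => autInducedBy_le_autGroup F hCS (conjAut_mem_autInducedBy (hSN x.2) x.2)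
  have hrange : (π.comp c).range = (Pb : Subgroup (F.autGroup C ⧸ K)) := by
    rw [MonoidHom.range_comp, Sylow.coe_mapSurjective]
    congr 1
    refine le_antisymm ?_ ?_
    · rintro _ ⟨x, rfl⟩
      rw [hP0]
      exact conjAut_mem_autInducedBy (hSN x.2) x.2
    · intro g hg
      rw [hP0, Subgroup.mem_subgroupOf] at hg
      obtain ⟨x, hx, hgx⟩ := mem_autInducedBy_iff.1 hg
      exact ⟨⟨x, hx⟩, Subtype.ext (MulEquiv.ext fun w => Subtype.ext (hgx w).symm)⟩
  have hPdvd : Nat.card (Pb : Subgroup (F.autGroup C ⧸ K)) ∣ p := by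
    rw [← hrange, ← Subgroup.index_ker, ← hCidx']
    refine Subgroup.index_dvd_of_le fun x hx => ?_
    refine MonoidHom.mem_ker.2 ((QuotientGroup.eq_one_iff _).2 (Subgroup.mem_subgroupOf.2 ?_))
    exact ⟨⟨x, Subgroup.mem_subgroupOf.1 hx⟩, MulEquiv.ext fun w => Subtype.ext rfl⟩
  have hPne : (Pb : Subgroup (F.autGroup C ⧸ K)) ≠ ⊥ := by
    intro h
    apply hnot
    have : (P0 : Subgroup (F.autGroup C)) = K := by
      refine le_antisymm ?_ hKP0
      rw [Sylow.coe_mapSurjective, Subgroup.map_eq_bot_iff, QuotientGroup.ker_mk'] at h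
      exact h
    rw [this]
    exact hInn
  have hPcard : Nat.card (Pb : Subgroup (F.autGroup C ⧸ K)) = p :=
    ((Nat.dvd_prime (Fact.out : p.Prime)).1 hPdvd).resolve_left fun h => hPne (Subgroup.card_eq_one.1 h)
  refine ⟨Subgroup.normalizer ((Pb : Subgroup (F.autGroup C ⧸ K)) : Set _),
    CfsgLib.LocalCharP.isStronglyPEmbedded_intro ?_ ?_ Pb ?_⟩
  · exact hPcard ▸ Subgroup.card_subgroup_dvd_card _
  · intro h
    apply hnot
    have hn' : (Pb : Subgroup (F.autGroup C ⧸ K)).Normal := Subgroup.normalizer_eq_top_iff.1 h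
    have e : (P0 : Subgroup (F.autGroup C)) = (Pb : Subgroup (F.autGroup C ⧸ K)).comap π := by
      rw [Sylow.coe_mapSurjective, Subgroup.comap_map_eq_self]
      rw [QuotientGroup.ker_mk']
      exact hKP0
    rw [e]
    exact hn'.comap π
  · intro Q hQ hQne
    have : Q = (Pb : Subgroup (F.autGroup C ⧸ K)) := by
      refine Subgroup.eq_of_le_of_card_ge hQ ?_
      rw [hPcard]
      rcases (Nat.dvd_prime (Fact.out : p.Prime)).1 (hPcard ▸ Subgroup.card_dvd_of_le hQ) with h | h
      · exact absurd (Subgroup.card_eq_one.1 h) hQne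
      · exact h.ge
    rw [this]


/-- Let p ≥ 5 be a prime, S a finite p-group of maximal class of order p^n with n ≥ 4, and F a saturated fusion system over S. If some map of F defined on the second centre Z₂(S) with image Z₂(S) does not carry Z(S) into itself, then the centralizer C_S(Z₂(S)) is an F-essential subgroup. -/
theorem result {Ω : Type*} [Group Ω] {S : Subgroup Ω} [Finite S] (p : ℕ) [Fact p.Prime] (hS : IsPGroup p ↥S) (n : ℕ) (hn : Nat.card S = p ^ n) (h4 : 4 ≤ n) (hmax : Subgroup.lowerCentralSeries S (n - 2) ≠ ⊥) (F : Cfsg.FusionSystem S) (hF : F.IsSaturated p) (hp : 5 ≤ p) (φ : ↥((Subgroup.upperCentralSeries ↥S 2).map S.subtype) →* Ω) (hφ : φ ∈ F.Hom ((Subgroup.upperCentralSeries ↥S 2).map S.subtype)) (hφZ : φ.range = ((Subgroup.upperCentralSeries ↥S 2).map S.subtype)) (hmove : ∃ (z : Ω) (hz : z ∈ ((Subgroup.upperCentralSeries ↥S 2).map S.subtype)), z ∈ ((Subgroup.center ↥S).map S.subtype) ∧ φ ⟨z, hz⟩ ∉ ((Subgroup.center ↥S).map S.subtype)) : F.IsEssential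 p (S ⊓ Subgroup.centralizer (((Subgroup.upperCentralSeries ↥S 2).map S.subtype) : Set Ω)) :=
  isEssential p hS n hn h4 hmax F hF rfl φ hφ hφZ hmove

end Cfsg.Agent.S5270
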