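import Cfsg.Statements.S4189
import Cfsg.Agent.PGroup.Aut
import Cfsg.Agent.TwoGroup.Frame
-- import your own Cfsg.Agent.* helpers here

set_option autoImplicit false
open Cfsg

namespace Cfsg.Agent.S4189

open scoped commutatorElement

variable {P : Type*} [Group P]

theorem eq_bot_of_le_commutator_top [Finite P] (hP : IsPGroup 2 P) (N : Subgroup P)
    (h : N ≤ ⁅N, (⊤ : Subgroup P)⁆) : N = ⊥ := by
  haveI : Fact (Nat.Prime 2) := ⟨Nat.prime_two⟩
  obtain ⟨k, hk⟩ := (Subgroup.isNilpotent_iff_lowerCentralSeries (⊤ : Subgroup P)).1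
    (hP.to_subgroup ⊤).isNilpotent
  have key : ∀ i, N ≤ (⊤ : Subgroup P).lowerCentralSeries i := by
    intro i
    induction i with
    | zero => simp
    | succ i ih =>
      rw [Subgroup.lowerCentralSeries_succ]
      exact h.trans (Subgroup.commutator_mono ih le_rfl)
  exact le_bot_iff.1 (hk ▸ key k)

theorem central_of_gens {Q : Type*} [Group Q] {a b u : Q}
    (hgen : Subgroup.closure ({a, b} : Set Q) = ⊤) (ha : Commute u a) (hb : Commute u b) :
    u ∈ Subgroup.center Q := by
  rw [Subgroup.mem_center_iff]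
  intro g
  have hle : Subgroup.closure ({a, b} : Set Q) ≤ Subgroup.centralizer ({u} : Set Q) := by
    rw [Subgroup.closure_le]
    rintro w (rfl | rfl)
    · exact Subgroup.mem_centralizer_singleton_iff.2 ha.symm
    · exact Subgroup.mem_centralizer_singleton_iff.2 hb.symm
  exact Subgroup.mem_centralizer_singleton_iff.1 (hle (hgen ▸ Subgroup.mem_top g))

theorem map_gen {x y : P} (hxy : Subgroup.closure ({x, y} : Set P) = ⊤) (T : Subgroup P) [T.Normal] :
    Subgroup.closure ({(x : P ⧸ T), (y : P ⧸ T)} : Set (P ⧸ T)) = ⊤ := by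
  have h := congrArg (Subgroup.map (QuotientGroup.mk' T)) hxy
  rwa [MonoidHom.map_closure, Set.image_pair,
    Subgroup.map_top_of_surjective _ (QuotientGroup.mk'_surjective T)] at h

theorem mk_mem_center {A T : Subgroup P} [T.Normal] (h : ⁅A, (⊤ : Subgroup P)⁆ ≤ T) {a : P}
    (ha : a ∈ A) : (a : P ⧸ T) ∈ Subgroup.center (P ⧸ T) := by
  rw [Subgroup.mem_center_iff]
  intro g
  obtain ⟨g, rfl⟩ := QuotientGroup.mk_surjective g
  have h1 := (QuotientGroup.eq_one_iff _).2 (h (Subgroup.commutator_mem_commutator ha (Subgroup.mem_top g)))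
  rw [commutatorElement_def, QuotientGroup.mk_mul, QuotientGroup.mk_mul, QuotientGroup.mk_mul,
    QuotientGroup.mk_inv, QuotientGroup.mk_inv, mul_inv_eq_one, mul_inv_eq_iff_eq_mul] at h1
  exact h1.symm

theorem quaternion_of_aut [Finite P] (hP : IsPGroup 2 P) (hna : ¬ IsMulCommutative P)
    (h4 : (commutator P).index = 4) (haut : ¬ IsPGroup 2 (MulAut P)) :
    Nonempty (P ≃* QuaternionGroup 2) := by
  classical
  haveI : Fact (Nat.Prime 2) := ⟨Nat.prime_two⟩
  haveI : Finite (MulAut P) := Finite.of_injective (fun s : MulAut P => (s : P → P)) DFunLike.coe_injective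
  -- an automorphism of odd prime order
  obtain ⟨r, hr, hr2, hrd⟩ : ∃ r : ℕ, r.Prime ∧ r ≠ 2 ∧ r ∣ Nat.card (MulAut P) := by
    by_contra hall
    simp only [not_exists, not_and] at hall
    have hpow : Nat.card (MulAut P) = 2 ^ (Nat.card (MulAut P)).primeFactorsList.length :=
      Nat.eq_prime_pow_of_unique_prime_dvd Nat.card_pos.ne' (fun hd hdd => by
        by_contra h
        exact hall _ hd h hdd)
    exact haut (IsPGroup.of_card hpow)
  haveI : Fact r.Prime := ⟨hr⟩
  obtain ⟨σ, hσ⟩ := exists_prime_orderOf_dvd_card' (G := MulAut P) r hrd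
  have hσ1 : σ ≠ 1 := fun h => hr.one_lt.ne' (by rw [← hσ, h, orderOf_one])
  obtain ⟨x, hx⟩ : ∃ x : P, σ x * x⁻¹ ∉ frattini P := by
    by_contra hall
    simp only [not_exists, not_not] at hall
    exact hσ1 (CfsgLib.PGroup.aut_eq_one_of_trivial_frattini hP
      (by rw [hσ]; exact (Nat.coprime_primes hr Nat.prime_two).2 hr2) hall)
  have hPΦ : commutator P ≤ frattini P := CfsgLib.PGroup.commutator_le_frattini hP
  -- the action on the abelianisation
  set D := commutator P with hD
  have hDσ : ∀ d ∈ D, σ d ∈ D := fun d hd => by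
    have h : D.map (σ : P ≃* P).toMonoidHom = D :=
      Subgroup.characteristic_iff_map_eq.1 inferInstance σ
    rw [← h]
    exact Subgroup.mem_map_of_mem _ hd
  let τ : Equiv.Perm (P ⧸ D) :=
    (QuotientGroup.congr D D σ (Subgroup.characteristic_iff_map_eq.1 inferInstance σ)).toEquiv
  have hτmk : ∀ a : P, τ (a : P ⧸ D) = ((σ a : P) : P ⧸ D) := fun a => rfl
  have hτne : τ ((x : P ⧸ D)) ≠ x := fun h => by
    rw [hτmk, QuotientGroup.eq] at h
    apply hx
    have h' : (σ x)⁻¹ * x ∈ frattini P := hPΦ h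
    have h'' := (frattini P).inv_mem h'
    rw [mul_inv_rev, inv_inv] at h''
    exact Subgroup.Normal.mem_comm inferInstance h''
  have hτpow : ∀ n : ℕ, ∀ a : P, (τ ^ n) (a : P ⧸ D) = (((σ ^ n) a : P) : P ⧸ D) := by
    intro n
    induction n with
    | zero => intro a; simp
    | succ n ih => intro a; rw [pow_succ, pow_succ, Equiv.Perm.mul_apply, MulAut.mul_apply, hτmk, ih]
  have hτr : τ ^ r = 1 := by
    ext a
    obtain ⟨a, rfl⟩ := QuotientGroup.mk_surjective a
    rw [hτpow, ← hσ, pow_orderOf_eq_one]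
    simp
  have hτo : orderOf τ = r := orderOf_eq_prime hτr (fun h => hτne (by rw [h]; rfl))
  haveI : Fintype (P ⧸ D) := Fintype.ofFinite _
  have hcard4 : Fintype.card (P ⧸ D) = 4 := by
    rw [← Nat.card_eq_fintype_card, ← Subgroup.index_eq_card, h4]
  have hτ1 : τ 1 = 1 := map_one (QuotientGroup.congr D D σ _)
  obtain rfl : r = 3 := by
    have h := orderOf_dvd_natCard τ
    rw [hτo, Nat.card_perm, Nat.card_eq_fintype_card, hcard4,
      show Nat.factorial 4 = 2 ^ 3 * 3 from rfl] at h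
    rcases hr.dvd_mul.1 h with h | h
    · exact absurd ((Nat.prime_dvd_prime_iff_eq hr Nat.prime_two).1 (hr.dvd_of_dvd_pow h)) hr2
    · exact (Nat.prime_dvd_prime_iff_eq hr Nat.prime_three).1 h
  have hsub : τ.support ⊆ Finset.univ.erase 1 := fun a ha =>
    Finset.mem_erase.2 ⟨fun e => Equiv.Perm.mem_support.1 ha (e ▸ hτ1), Finset.mem_univ a⟩
  have hs3 : τ.support.card ≤ 3 := by
    refine (Finset.card_le_card hsub).trans ?_
    rw [Finset.card_erase_of_mem (Finset.mem_univ _), Finset.card_univ, hcard4]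
  have hτc : τ.IsCycle := Equiv.Perm.isCycle_of_prime_order (by rw [hτo]; exact hr) (by omega)
  have hsupp : τ.support = Finset.univ.erase 1 := by
    refine Finset.eq_of_subset_of_card_le hsub ?_
    rw [Finset.card_erase_of_mem (Finset.mem_univ _), Finset.card_univ, hcard4, ← hτc.orderOf, hτo]
  have hmove : ∀ a : P ⧸ D, a ≠ 1 → τ a ≠ a := fun a ha =>
    Equiv.Perm.mem_support.1 (hsupp ▸ Finset.mem_erase.2 ⟨ha, Finset.mem_univ a⟩)
  have hxD : (x : P ⧸ D) ≠ 1 := fun h => hτne (by rw [h, hτ1])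
  -- squares lie in the derived subgroup
  have hsq : ∀ a : P ⧸ D, a * a = 1 := by
    intro a
    haveI : IsMulCommutative (P ⧸ D) := Subgroup.Normal.quotient_commutative_iff_commutator_le.2 le_rfl
    haveI : Fact (Nat.Prime 2) := ⟨Nat.prime_two⟩
    obtain ⟨t, ht⟩ := exists_prime_orderOf_dvd_card' (G := P ⧸ D) 2
      (by rw [Nat.card_eq_fintype_card, hcard4]; norm_num)
    have ht1 : t ≠ 1 := fun h => by rw [h, orderOf_one] at ht; omega
    by_cases ha : a = 1
    · rw [ha, mul_one]
    have htsq : t * t = 1 := by rw [← pow_two, ← ht]; exact pow_orderOf_eq_one t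
    obtain ⟨k, hk⟩ := hτc.exists_pow_eq (hmove t ht1) (hmove a ha)
    obtain ⟨t0, rfl⟩ := QuotientGroup.mk_surjective t
    rw [← hk, hτpow, ← QuotientGroup.mk_mul, ← map_mul, ← hτpow, QuotientGroup.mk_mul, htsq]
    have : (τ ^ k) 1 = 1 := Equiv.Perm.pow_apply_eq_self_of_apply_eq_self hτ1 k
    exact this
  set y := σ x with hy
  set z := σ y with hz
  have hxy : (x : P ⧸ D) ≠ (y : P ⧸ D) := fun h => hτne (by rw [hτmk]; exact h.symm)
  have hyD : (y : P ⧸ D) ≠ 1 := fun h => hxD (τ.injective (by rw [hτmk, hτ1]; exact h))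
  have hzD : (z : P ⧸ D) ≠ 1 := fun h => hyD (τ.injective (by rw [hτmk, hτ1]; exact h))
  have hyz : (y : P ⧸ D) ≠ (z : P ⧸ D) := fun h => hmove _ hyD (by rw [hτmk]; exact h.symm)
  have hxz : (x : P ⧸ D) ≠ (z : P ⧸ D) := by
    intro h
    have h2 : (τ ^ 2) (x : P ⧸ D) = x := by
      rw [pow_two, Equiv.Perm.mul_apply, hτmk, hτmk, ← hy, ← hz, ← h]
    have h3 : (τ ^ 3) (x : P ⧸ D) = x := by rw [hτr]; rfl
    rw [pow_succ', Equiv.Perm.mul_apply, h2] at h3
    exact hτne h3
  have hzeq : (z : P ⧸ D) = (x : P ⧸ D) * (y : P ⧸ D) := by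
    by_contra hne
    have hne2 : (x : P ⧸ D) * (y : P ⧸ D) ≠ 1 := fun h =>
      hxy ((eq_inv_of_mul_eq_one_left h).trans (inv_eq_of_mul_eq_one_left (hsq _)))
    have hne3 : (x : P ⧸ D) * (y : P ⧸ D) ≠ x := fun h => hyD (mul_eq_left.1 h)
    have hne4 : (x : P ⧸ D) * (y : P ⧸ D) ≠ y := fun h => hxD (mul_eq_right.1 h)
    have h5 : ({1, (x : P ⧸ D), (y : P ⧸ D), (z : P ⧸ D), (x : P ⧸ D) * (y : P ⧸ D)} : Finset (P ⧸ D)).card = 5 := by
      rw [Finset.card_insert_of_notMem (by simp [hxD.symm, hyD.symm, hzD.symm, hne2.symm]),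
        Finset.card_insert_of_notMem (by simp [hxy, hxz, hne3.symm]),
        Finset.card_insert_of_notMem (by simp [hyz, hne4.symm]),
        Finset.card_insert_of_notMem (by simp [hne]), Finset.card_singleton]
    have h6 := Finset.card_le_univ ({1, (x : P ⧸ D), (y : P ⧸ D), (z : P ⧸ D), (x : P ⧸ D) * (y : P ⧸ D)} : Finset (P ⧸ D))
    omega
  have hgen : Subgroup.closure ({x, y} : Set P) = ⊤ := by
    refine frattini_nongenerating ?_
    rw [eq_top_iff]
    intro g _
    have hxm : x ∈ Subgroup.closure ({x, y} : Set P) := Subgroup.subset_closure (by simp)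
    have hym : y ∈ Subgroup.closure ({x, y} : Set P) := Subgroup.subset_closure (by simp)
    set M := Subgroup.closure ({x, y} : Set P) ⊔ frattini P with hM
    have hin : ∀ a b : P, (a : P ⧸ D) = (b : P ⧸ D) → b ∈ M → a ∈ M := fun a b h hb => by
      have h1 : a⁻¹ * b ∈ D := QuotientGroup.eq.1 h
      have e : a = b * (a⁻¹ * b)⁻¹ := by group
      rw [e]
      exact mul_mem hb (inv_mem (Subgroup.mem_sup_right (hPΦ h1)))
    have h5 : ({1, (x : P ⧸ D), (y : P ⧸ D), (z : P ⧸ D)} : Finset (P ⧸ D)) = Finset.univ := by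
      refine Finset.eq_univ_of_card _ ?_
      rw [Finset.card_insert_of_notMem (by simp [hxD.symm, hyD.symm, hzD.symm]),
        Finset.card_insert_of_notMem (by simp [hxy, hxz]),
        Finset.card_insert_of_notMem (by simp [hyz]), Finset.card_singleton, hcard4]
    have hg : (g : P ⧸ D) ∈ ({1, (x : P ⧸ D), (y : P ⧸ D), (z : P ⧸ D)} : Finset (P ⧸ D)) := by
      rw [h5]; exact Finset.mem_univ _
    simp only [Finset.mem_insert, Finset.mem_singleton] at hg
    rcases hg with hg | hg | hg | hg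
    · exact hin g 1 (by rw [QuotientGroup.mk_one]; exact hg) M.one_mem
    · exact hin g x hg (Subgroup.mem_sup_left hxm)
    · exact hin g y hg (Subgroup.mem_sup_left hym)
    · exact hin g (x * y) (by rw [QuotientGroup.mk_mul, hg, hzeq])
        (Subgroup.mem_sup_left (mul_mem hxm hym))
  -- the quotient modulo the third term
  set T := ⁅D, (⊤ : Subgroup P)⁆ with hT
  have hDc : ∀ a ∈ D, (a : P ⧸ T) ∈ Subgroup.center (P ⧸ T) := fun a ha => mk_mem_center le_rfl ha
  have hgen3 := map_gen hgen T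
  set c := ⁅x, y⁆ with hc
  have hcD : c ∈ D := Subgroup.commutator_mem_commutator (Subgroup.mem_top _) (Subgroup.mem_top _)
  have hsqD : ∀ a : P, a * a ∈ D := fun a => by
    rw [← QuotientGroup.eq_one_iff, QuotientGroup.mk_mul]; exact hsq _
  have hmkc : (c : P ⧸ T) = (x : P ⧸ T) * y * (x : P ⧸ T)⁻¹ * (y : P ⧸ T)⁻¹ := rfl
  have hccen := Subgroup.mem_center_iff.1 (hDc c hcD)
  haveI hnc : (Subgroup.zpowers (c : P ⧸ T)).Normal := ⟨fun n hn g => by
    rwa [Subgroup.mem_center_iff.1 (Subgroup.zpowers_le.2 (hDc c hcD) hn) g, mul_inv_cancel_right]⟩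
  have hc2 : (c : P ⧸ T) * c = 1 := by
    have hx2 := Subgroup.mem_center_iff.1 (hDc _ (hsqD x)) (y : P ⧸ T)
    rw [QuotientGroup.mk_mul] at hx2
    have e1 : (x : P ⧸ T) * y = c * ((y : P ⧸ T) * x) := by rw [hmkc]; group
    have e2 : (x : P ⧸ T) * x * y = c * c * ((y : P ⧸ T) * x * x) := by
      rw [mul_assoc, e1, ← mul_assoc, hccen, mul_assoc, ← mul_assoc (x : P ⧸ T) (y : P ⧸ T), e1]
      simp only [mul_assoc]
    rw [mul_assoc (y : P ⧸ T), hx2] at e2
    exact mul_eq_right.1 e2.symm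
  have hDT : ∀ a ∈ D, (a : P ⧸ T) = 1 ∨ (a : P ⧸ T) = c := by
    intro a ha
    have hmem : (a : P ⧸ T) ∈ Subgroup.zpowers (c : P ⧸ T) := by
      have hcomm : IsMulCommutative ((P ⧸ T) ⧸ Subgroup.zpowers (c : P ⧸ T)) := by
        have hg := map_gen hgen3 (Subgroup.zpowers (c : P ⧸ T))
        have hc' : Commute ((x : P ⧸ T) : (P ⧸ T) ⧸ Subgroup.zpowers (c : P ⧸ T))
            ((y : P ⧸ T) : (P ⧸ T) ⧸ Subgroup.zpowers (c : P ⧸ T)) := by
          rw [← commutatorElement_eq_one_iff_commute]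
          exact (map_commutatorElement (QuotientGroup.mk' (Subgroup.zpowers (c : P ⧸ T))) _ _).symm.trans
            ((QuotientGroup.eq_one_iff _).2 (Subgroup.mem_zpowers _))
        refine ⟨⟨fun u v => ?_⟩⟩
        have hall : ∀ w, w ∈ Subgroup.center ((P ⧸ T) ⧸ Subgroup.zpowers (c : P ⧸ T)) := by
          have hle : Subgroup.closure ({((x : P ⧸ T) : (P ⧸ T) ⧸ Subgroup.zpowers (c : P ⧸ T)),
              ((y : P ⧸ T) : (P ⧸ T) ⧸ Subgroup.zpowers (c : P ⧸ T))} : Set _) ≤ Subgroup.center _ := by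
            rw [Subgroup.closure_le]
            rintro w (rfl | rfl)
            · exact central_of_gens hg (Commute.refl _) hc'
            · exact central_of_gens hg hc'.symm (Commute.refl _)
          exact fun w => hle (hg ▸ Subgroup.mem_top w)
        exact (Subgroup.mem_center_iff.1 (hall v) u)
      have h1 := (Subgroup.Normal.quotient_commutative_iff_commutator_le
        (N := Subgroup.zpowers (c : P ⧸ T))).1 hcomm
      apply h1
      have h2 : D.map (QuotientGroup.mk' T) ≤ commutator (P ⧸ T) := by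
        exact (Subgroup.map_commutator _ _ _).le.trans (Subgroup.commutator_mono le_top le_top)
      exact h2 (Subgroup.mem_map_of_mem _ ha)
    obtain ⟨k, hk⟩ := Subgroup.mem_zpowers_iff.1 hmem
    rcases Int.even_or_odd' k with ⟨j, rfl | rfl⟩
    · left
      rw [← hk, zpow_mul, zpow_two, hc2, one_zpow]
    · right
      rw [← hk, zpow_add, zpow_mul, zpow_two, hc2, one_zpow, one_mul, zpow_one]
  have hcne : (c : P ⧸ T) ≠ 1 := by
    intro h
    have hbot : D = ⊥ := eq_bot_of_le_commutator_top hP D fun a ha =>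
      (QuotientGroup.eq_one_iff a).1 ((hDT a ha).elim id (fun e => e.trans h))
    exact hna ⟨⟨fun a b => by
      have h1 : ⁅a, b⁆ ∈ D := Subgroup.commutator_mem_commutator (Subgroup.mem_top _) (Subgroup.mem_top _)
      rw [hbot, Subgroup.mem_bot, commutatorElement_eq_one_iff_mul_comm] at h1
      exact h1⟩⟩
  have hTσ : T.map (σ : P ≃* P).toMonoidHom = T := by
    rw [hT, Subgroup.map_commutator, Subgroup.characteristic_iff_map_eq.1 inferInstance σ,
      Subgroup.map_top_of_surjective _ σ.surjective]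
  let σ3 : (P ⧸ T) ≃* (P ⧸ T) := QuotientGroup.congr T T σ hTσ
  have hσ3 : ∀ a : P, σ3 (a : P ⧸ T) = ((σ a : P) : P ⧸ T) := fun a => rfl
  have hxsq : (x : P ⧸ T) * x = c := by
    rcases hDT _ (hsqD x) with h | h
    · exfalso
      rw [QuotientGroup.mk_mul] at h
      have hy2 : (y : P ⧸ T) * y = 1 := by
        rw [hy, ← hσ3, ← map_mul, h, map_one]
      have hz2 : (z : P ⧸ T) * z = 1 := by
        rw [hz, ← hσ3, ← map_mul, hy2, map_one]
      have hw : (x * y)⁻¹ * z ∈ D := QuotientGroup.eq.1 (by rw [QuotientGroup.mk_mul]; exact hzeq.symm)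
      have hwc := Subgroup.mem_center_iff.1 (hDc _ hw)
      set w := (((x * y)⁻¹ * z : P) : P ⧸ T) with hwdef
      have hw2 : w * w = 1 := by
        rcases hDT _ hw with e | e <;> rw [hwdef, e]
        · exact mul_one 1
        · exact hc2
      have hzw : (z : P ⧸ T) = (x : P ⧸ T) * y * w := by
        rw [hwdef, QuotientGroup.mk_mul, QuotientGroup.mk_inv, QuotientGroup.mk_mul, mul_inv_cancel_left]
      have hxy2 : (x : P ⧸ T) * y * ((x : P ⧸ T) * y) = 1 := by
        calc (x : P ⧸ T) * y * ((x : P ⧸ T) * y) = (x : P ⧸ T) * y * ((x : P ⧸ T) * y) * (w * w) := by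
              rw [hw2, mul_one]
          _ = (x : P ⧸ T) * y * (((x : P ⧸ T) * y) * w) * w := by simp only [mul_assoc]
          _ = (x : P ⧸ T) * y * (w * ((x : P ⧸ T) * y)) * w := by rw [hwc ((x : P ⧸ T) * y)]
          _ = (z : P ⧸ T) * z := by rw [hzw]; simp only [mul_assoc]
          _ = 1 := hz2
      apply hcne
      rw [hmkc, inv_eq_of_mul_eq_one_left h, inv_eq_of_mul_eq_one_left hy2, mul_assoc _ (x : P ⧸ T), hxy2]
    · rw [← QuotientGroup.mk_mul]; exact h
  have hysq : (y : P ⧸ T) * y = c := by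
    have h1 : (y : P ⧸ T) * y = σ3 c := by rw [← hxsq, map_mul, hσ3, ← hy]
    rcases hDT _ (hsqD y) with h | h
    · exfalso
      rw [QuotientGroup.mk_mul, h1] at h
      exact hcne (σ3.injective (h.trans (map_one σ3).symm))
    · rw [← QuotientGroup.mk_mul]; exact h
  -- the fourth term equals the third, so the third is trivial
  have hTbot : T = ⊥ := by
    refine eq_bot_of_le_commutator_top hP T ?_
    set U := ⁅T, (⊤ : Subgroup P)⁆ with hU
    have hTc : ∀ a ∈ T, (a : P ⧸ U) ∈ Subgroup.center (P ⧸ U) := fun a ha => mk_mem_center le_rfl ha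
    have hgenU := map_gen hgen U
    have hcomm : ∀ u : P, (u : P ⧸ T) * u = c → Commute (c : P ⧸ U) (u : P ⧸ U) := by
      intro u hu
      rw [← QuotientGroup.mk_mul, QuotientGroup.eq] at hu
      have e : (c : P ⧸ U) = (u : P ⧸ U) * u * (((u * u)⁻¹ * c : P) : P ⧸ U) := by
        rw [← QuotientGroup.mk_mul, ← QuotientGroup.mk_mul, mul_inv_cancel_left]
      rw [e]
      exact (((Commute.refl _).mul_left (Commute.refl _))).mul_left
        (Subgroup.mem_center_iff.1 (hTc _ hu) _).symm
    have hccU : (c : P ⧸ U) ∈ Subgroup.center (P ⧸ U) :=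
      central_of_gens hgenU (hcomm x hxsq) (hcomm y hysq)
    rw [hT, Subgroup.commutator_le]
    intro a ha g _
    have haU : (a : P ⧸ U) ∈ Subgroup.center (P ⧸ U) := by
      rcases hDT a ha with h | h
      · exact hTc a ((QuotientGroup.eq_one_iff a).1 h)
      · rw [QuotientGroup.eq] at h
        have e : (a : P ⧸ U) = (c : P ⧸ U) * (((a⁻¹ * c)⁻¹ : P) : P ⧸ U) := by
          rw [← QuotientGroup.mk_mul]; congr 1; group
        rw [e]
        exact mul_mem hccU (hTc _ (inv_mem h))
    rw [← QuotientGroup.eq_one_iff, ← QuotientGroup.mk'_apply, map_commutatorElement,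
      commutatorElement_eq_one_iff_mul_comm]
    exact (Subgroup.mem_center_iff.1 haU _).symm
  have hinj : Function.Injective (QuotientGroup.mk : P → P ⧸ T) := fun a b h => by
    rw [QuotientGroup.eq, hTbot, Subgroup.mem_bot, inv_mul_eq_one] at h
    exact h
  have hxx : x * x = c := hinj (by rw [QuotientGroup.mk_mul]; exact hxsq)
  have hyy : y * y = c := hinj (by rw [QuotientGroup.mk_mul]; exact hysq)
  have hcc : c * c = 1 := hinj (by rw [QuotientGroup.mk_mul, hc2, QuotientGroup.mk_one])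
  have hc1 : c ≠ 1 := fun h => hcne (by rw [h, QuotientGroup.mk_one])
  have hDcard : Nat.card D ≤ 2 := by
    rw [← Nat.card_fin 2]
    refine Nat.card_le_card_of_injective (fun a : D => if (a : P) = 1 then (0 : Fin 2) else 1) ?_
    intro a b h
    have key : ∀ a : D, (a : P) = 1 ∨ (a : P) = c := fun a => (hDT a a.2).imp
      (fun e => hinj (e.trans (QuotientGroup.mk_one T).symm)) (fun e => hinj e)
    apply Subtype.ext
    rcases key a with ea | ea <;> rcases key b with eb | eb <;>
      simp_all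
  have hDne : D ≠ ⊥ := fun h => hc1 (by rw [← Subgroup.mem_bot, ← h]; exact hcD)
  have hD2 : Nat.card D = 2 := by
    have := (Subgroup.one_lt_card_iff_ne_bot D).2 hDne
    omega
  have hP8 : Nat.card P = 2 * 4 := by
    rw [← D.card_mul_index, hD2, h4]
  have hx4 : orderOf x = 4 := by
    refine orderOf_eq_prime_pow (p := 2) (n := 1) ?_ ?_
    · rw [pow_one, pow_two, hxx]; exact hc1
    · rw [show 2 ^ (1 + 1) = 2 * 2 from rfl, pow_mul, pow_two, pow_two, hxx, hcc]
  have hxym : ¬ Commute x y := fun h => hc1 (commutatorElement_eq_one_iff_commute.2 h)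
  have hyx : y ∉ Subgroup.zpowers x := fun h => by
    obtain ⟨k, hk⟩ := Subgroup.mem_zpowers_iff.1 h
    exact hxym (hk ▸ (Commute.refl x).zpow_right k)
  haveI : NeZero 4 := ⟨by norm_num⟩
  have hrel : y * x * y⁻¹ = x ^ (-1 : ℤ) := by
    have hci : c⁻¹ = c := inv_eq_of_mul_eq_one_left hcc
    calc y * x * y⁻¹ = c⁻¹ * x := by
          have : c⁻¹ = y * x * y⁻¹ * x⁻¹ := by rw [hc, commutatorElement_def]; group
          rw [this]; group
      _ = x ^ (-1 : ℤ) := by
          rw [zpow_neg_one, eq_inv_iff_mul_eq_one, mul_assoc, hxx, inv_mul_cancel]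
  let F := CfsgLib.TwoGroup.Frame.ofGen x y 4 hx4 hP8 hyx (-1 : ℤ) 2 hrel
    (by rw [zpow_two, hyy, hxx])
  exact CfsgLib.TwoGroup.Frame.nonempty_mulEquiv_quaternion (N := 4) (m := 2) rfl rfl
    (CfsgLib.TwoGroup.Frame.congr F (Int.cast_neg 1 |>.trans (by rw [Int.cast_one])) (Int.cast_ofNat 2))

/-- Let P be a finite non-abelian 2-group whose commutator subgroup has index 4 and whose automorphism group is not a 2-group (some automorphism has order that is not a power of 2). Then P is isomorphic to the quaternion group of order 8. -/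
theorem result {P : Type*} [Group P] [Finite P] (hP : IsPGroup 2 P) (hna : ¬ IsMulCommutative P) (h4 : (commutator P).index = 4) (haut : ¬ IsPGroup 2 (MulAut P)) : Nonempty (P ≃* QuaternionGroup 2) := by
  
  exact quaternion_of_aut hP hna h4 haut

end Cfsg.Agent.S4189
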