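import Cfsg.Statements.S0888
import Cfsg.Agent.Eq.Def_Characters
import Cfsg.Agent.CharExtend.Basic

set_option autoImplicit false
open Cfsg

namespace Cfsg.Agent.S0888

open CfsgLib.CharExtend in
theorem exists_extension {G : Type*} [Group G] [Finite G] {n : ℕ} (N : Subgroup G) [N.Normal]
    (ρ : Representation ℂ N (Fin n → ℂ)) (hρ : ρ.IsIrreducible)
    (hinv : ∀ (g : G) (x : N), ρ.character (MulAut.conjNormal g x) = ρ.character x)
    (hsyl : ∀ p : ℕ, p.Prime → ∃ (P : Subgroup G) (hNP : N ≤ P) (s : P →* Lin n),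
      Nat.Coprime P.index p ∧ ∀ x : N, s ⟨(x : G), hNP x.2⟩ = rhoU N ρ x) :
    ∃ F : Representation ℂ G (Fin n → ℂ), ∀ x : N, F x = ρ x := by
  have hsurj := proj_surjective N ρ hρ hinv
  have hn := pos_of_irreducible hρ
  let T : AddSubgroup ℤ :=
    { carrier := {k | ∃ δ : ext N ρ →* ℂˣ,
        (∀ c, δ (zeta N ρ c) = c ^ k) ∧ ∀ x, δ (iota N ρ x) = 1}
      zero_mem' := ⟨1, fun c => by simp, fun x => rfl⟩
      add_mem' := by
        rintro a b ⟨δ, h1, h2⟩ ⟨δ', h1', h2'⟩
        exact ⟨δ * δ', fun c => by simp [h1, h1', zpow_add], fun x => by simp [h2, h2']⟩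
      neg_mem' := by
        rintro a ⟨δ, h1, h2⟩
        exact ⟨δ⁻¹, fun c => by simp [h1], fun x => by simp [h2]⟩ }
  have hindex : ∀ p : ℕ, p.Prime → ∃ r : ℕ, Nat.Coprime r p ∧ (r : ℤ) ∈ T := by
    intro p hp
    obtain ⟨P, hNP, s, hcop, hs⟩ := hsyl p hp
    set E := P.comap (proj N ρ) with hE
    let sE : E →* Lin n := s.comp ((proj N ρ).subgroupComap P)
    have hex : ∀ e : E, ∃ c : ℂˣ, scal n c = (sE e)⁻¹ * lin N ρ e := by
      intro e
      refine exists_scal_of_commute hρ _ fun x => congrArg Units.val (?_ :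
        (sE e)⁻¹ * lin N ρ e * rhoU N ρ x = rhoU N ρ x * ((sE e)⁻¹ * lin N ρ e))
      have h1 : lin N ρ e * rhoU N ρ x =
          rhoU N ρ (MulAut.conjNormal (proj N ρ e) x) * lin N ρ e := e.1.2 x
      have h2 : rhoU N ρ (MulAut.conjNormal (proj N ρ e) x) = sE e * rhoU N ρ x * (sE e)⁻¹ := by
        rw [← hs, ← hs x, ← map_inv, MonoidHom.comp_apply, MonoidHom.comp_apply, ← map_mul,
          ← map_mul]
        rfl
      rw [mul_assoc, h1, h2]
      group
    choose φ hφ using hex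
    let φ' : E →* ℂˣ := MonoidHom.mk' φ fun a b => scal_injective hn (by
      rw [map_mul (scal n), hφ (a * b), hφ a, hφ b, map_mul sE, Subgroup.coe_mul, map_mul (lin N ρ), mul_inv_rev]
      have hcm := scal_comm (φ a) ((sE b)⁻¹)
      rw [hφ] at hcm
      calc (sE b)⁻¹ * (sE a)⁻¹ * (lin N ρ a * lin N ρ b)
          = ((sE b)⁻¹ * ((sE a)⁻¹ * lin N ρ a)) * lin N ρ b := by simp only [mul_assoc]
        _ = (((sE a)⁻¹ * lin N ρ a) * (sE b)⁻¹) * lin N ρ b := by rw [hcm]
        _ = _ := by simp only [mul_assoc])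
    have hidx : E.index = P.index := P.index_comap_of_surjective hsurj
    haveI : E.FiniteIndex := ⟨by rw [hidx]; exact P.index_ne_zero_of_finite⟩
    refine ⟨P.index, hcop, MonoidHom.transfer φ', fun c => ?_, fun x => ?_⟩
    · have key : ∀ (k : ℕ) (e : ext N ρ), e⁻¹ * zeta N ρ c ^ k * e ∈ E →
          e⁻¹ * zeta N ρ c ^ k * e = zeta N ρ c ^ k := fun k e _ => by
        rw [← map_pow, mul_assoc, zeta_comm, inv_mul_cancel_left]
      rw [MonoidHom.transfer_eq_pow φ' _ key, zpow_natCast, hidx.symm]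
      apply scal_injective hn
      change scal n (φ ⟨_, _⟩) = _
      rw [hφ]
      have : sE ⟨zeta N ρ c ^ E.index, MonoidHom.transfer_eq_pow_aux _ key⟩ = 1 := by
        rw [MonoidHom.comp_apply, ← map_one s]
        congr 1
        apply Subtype.ext
        change proj N ρ (zeta N ρ c ^ E.index) = 1
        rw [map_pow, proj_zeta, one_pow]
      rw [this, inv_one, one_mul]
      change lin N ρ (zeta N ρ c ^ E.index) = _
      rw [← map_pow (zeta N ρ), lin_zeta]
    · haveI : Fintype (ext N ρ ⧸ E) := E.fintypeQuotientOfFiniteIndex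
      haveI := Fintype.ofFinite
        (Quotient (MulAction.orbitRel (Subgroup.zpowers (iota N ρ x)) (ext N ρ ⧸ E)))
      rw [MonoidHom.transfer_eq_prod_quotient_orbitRel_zpowers_quot]
      refine Finset.prod_eq_one fun q _ => scal_injective hn ?_
      change scal n (φ ⟨_, _⟩) = _
      rw [hφ, map_one, inv_mul_eq_one]
      set k := Function.minimalPeriod (iota N ρ x • ·) q.out
      set e := q.out.out
      have hconj : e⁻¹ * iota N ρ x ^ k * e =
          iota N ρ (MulAut.conjNormal (proj N ρ e)⁻¹ (x ^ k)) := by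
        apply ext_ext N ρ
        · rw [map_mul, map_mul, map_inv, map_pow, proj_iota, proj_iota, MulAut.conjNormal_apply,
            inv_inv]
          rfl
        · rw [map_mul, map_mul, map_inv, map_pow, lin_iota, lin_iota, ← map_pow, mul_assoc,
            inv_mul_eq_iff_eq_mul]
          have := (e.2 (MulAut.conjNormal (proj N ρ e)⁻¹ (x ^ k)))
          change lin N ρ e * _ = rhoU N ρ (MulAut.conjNormal (proj N ρ e) _) * lin N ρ e at this
          rw [this, ← MulAut.mul_apply, ← map_mul, mul_inv_cancel, map_one]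
          rfl
      refine Eq.trans ?_ (congrArg (lin N ρ) hconj).symm
      rw [lin_iota, ← hs]
      exact congrArg s (Subtype.ext ((congrArg (proj N ρ) hconj).trans (proj_iota N ρ _)))
  obtain ⟨d, hd⟩ := Int.subgroup_cyclic T
  have hd1 : (1 : ℤ) ∈ T := by
    have hdvd : ∀ r : ℤ, r ∈ T → d ∣ r := fun r hr => by
      rw [hd, AddSubgroup.mem_closure_singleton] at hr
      obtain ⟨k, rfl⟩ := hr
      exact ⟨k, by rw [smul_eq_mul, mul_comm]⟩
    have habs : d.natAbs = 1 := by
      by_contra hne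
      obtain ⟨p, hp, hpd⟩ := Nat.exists_prime_and_dvd hne
      obtain ⟨r, hr, hrT⟩ := hindex p hp
      have hpr : p ∣ r := hpd.trans (Int.natAbs_dvd_natAbs.mpr (hdvd r hrT))
      exact hp.ne_one (Nat.eq_one_of_dvd_coprimes hr hpr dvd_rfl)
    have hdm : d ∈ T := by rw [hd]; exact AddSubgroup.subset_closure rfl
    rcases Int.natAbs_eq d with h | h <;> rw [habs] at h <;> subst h
    · exact hdm
    · simpa using T.neg_mem hdm
  obtain ⟨δ, hδc, hδN⟩ := hd1
  choose e he using hsurj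
  let F : G → Lin n := fun g => lin N ρ (e g) * (scal n (δ (e g)))⁻¹
  have hwd : ∀ (g : G) (y : ext N ρ), proj N ρ y = g →
      F g = lin N ρ y * (scal n (δ y))⁻¹ := by
    intro g y hy
    obtain ⟨c, rfl⟩ := exists_zeta_of_proj_eq N ρ hρ ((he g).trans hy.symm)
    simp only [F, map_mul, hδc, zpow_one, lin_zeta, mul_inv_rev]
    rw [mul_assoc, mul_inv_cancel_left]
  have hmul : ∀ g h, F (g * h) = F g * F h := by
    intro g h
    rw [hwd (g * h) (e g * e h) (by rw [map_mul, he, he])]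
    simp only [F, map_mul, mul_inv_rev, ← map_inv (scal n)]
    generalize (δ (e g))⁻¹ = a
    generalize (δ (e h))⁻¹ = b
    rw [mul_assoc (lin N ρ (e g)), mul_assoc (lin N ρ (e g)), ← mul_assoc (scal n a),
      scal_comm a (lin N ρ (e h)), mul_assoc (lin N ρ (e h)), ← map_mul, ← map_mul, mul_comm b a]
  refine ⟨(Units.coeHom _).comp (MonoidHom.mk' F hmul), fun x => ?_⟩
  change ((F (x : G) : Lin n) : (Fin n → ℂ) →ₗ[ℂ] (Fin n → ℂ)) = ρ x
  rw [hwd (x : G) (iota N ρ x) (proj_iota N ρ x), hδN, lin_iota]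
  simp [rhoU_val]

/-- Let N be a normal subgroup of the finite group G and ϑ an irreducible character of N invariant under conjugation by G. Suppose that for every prime p there are a subgroup P containing N, of index prime to p and with the index of N in P a power of p, and an irreducible character of P restricting to ϑ. Then ϑ is the restriction of an irreducible character of G. -/
theorem result {G : Type*} [Group G] [Finite G] (N : Subgroup G) [hN : N.Normal] (ϑ : N → ℂ) (hϑ : Cfsg.IsIrrCharacter N ϑ) (hinv : ∀ (g : G) (n : N), ϑ ⟨g * n * g⁻¹, hN.conj_mem (n : G) n.2 g⟩ = ϑ n) (hsyl : ∀ p : ℕ, p.Prime → ∃ (P : Subgroup G) (hNP : N ≤ P) (η : P → ℂ), Nat.Coprime P.index p ∧ (∃ k : ℕ, N.relIndex P = p ^ k) ∧ Cfsg.IsIrrCharacter P η ∧ ∀ n : N, η ⟨(n : G), hNP n.2⟩ = ϑ n) : ∃ χ : G → ℂ, Cfsg.IsIrrCharacter G χ ∧ ∀ n : N, χ n = ϑ n := by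
  obtain ⟨n, ρ, hρ, rfl⟩ := hϑ
  have hinv' : ∀ (g : G) (x : N), ρ.character (MulAut.conjNormal g x) = ρ.character x := by
    intro g x
    exact (congrArg ρ.character (Subtype.ext (MulAut.conjNormal_apply g x))).trans (hinv g x)
  obtain ⟨F, hF⟩ := exists_extension N ρ hρ hinv' fun p hp => by
    obtain ⟨P, hNP, η, hcop, _, ⟨m, σ, _, rfl⟩, hη⟩ := hsyl p hp
    obtain ⟨hm, T, hT⟩ := CfsgLib.CharExtend.exists_conj_of_char_eq ρ hρ
      (σ.comp (Subgroup.inclusion hNP)) (funext fun x => hη x)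
    subst hm
    refine ⟨P, hNP, (MulAut.conj T⁻¹).toMonoidHom.comp (MonoidHom.toHomUnits σ), hcop, fun x => ?_⟩
    change T⁻¹ * MonoidHom.toHomUnits σ ⟨(x : G), hNP x.2⟩ * (T⁻¹)⁻¹ = _
    rw [inv_inv, mul_assoc, inv_mul_eq_iff_eq_mul]
    exact (Units.ext (hT x)).symm
  refine ⟨F.character, ⟨n, F,
    CfsgLib.CharExtend.irreducible_of_restrict N.subtype F ρ hρ hF, rfl⟩, fun x => ?_⟩
  simp only [Representation.character, hF]

end Cfsg.Agent.S0888
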