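import Cfsg.Statements.S0428
import Cfsg.Agent.Steiner.Disjoint322

set_option autoImplicit false
open Cfsg

namespace Cfsg.Agent.S0428

open CfsgLib.Steiner Finset

/-- The description of a vertex set by a flag for the extra vertex, a set of points and a set of blocks. -/
theorem card_vertices {α : Type*} [Fintype α] [DecidableEq α] {B : Set (Finset α)} [Fintype B]
    (S : Set (Option (α ⊕ B))) [Fintype S] (e : ℕ) (A : Finset α) (C : Finset (Finset α))
    (hC : ∀ d ∈ C, d ∈ B) (he : (none ∈ S ∧ e = 1) ∨ (none ∉ S ∧ e = 0))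
    (hA : ∀ a, some (Sum.inl a) ∈ S ↔ a ∈ A) (hCS : ∀ d : B, some (Sum.inr d) ∈ S ↔ (d : Finset α) ∈ C) :
    Fintype.card S = e + A.card + C.card := by
  classical
  have hcard : (univ.filter fun d : B => (d : Finset α) ∈ C).card = C.card :=
    card_bij (fun d _ => (d : Finset α)) (fun d hd => (mem_filter.1 hd).2) (fun x _ y _ h => Subtype.ext h)
      (fun d hd => ⟨⟨d, hC d hd⟩, by simpa using hd, rfl⟩)
  have hset : S.toFinset = (if (none : Option (α ⊕ B)) ∈ S then {none} else ∅) ∪
      (A.image (fun a => (some (Sum.inl a) : Option (α ⊕ B))) ∪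
        (univ.filter fun d : B => (d : Finset α) ∈ C).image (fun d => (some (Sum.inr d) : Option (α ⊕ B)))) := by
    ext v
    rcases v with _ | a | d
    · by_cases h : (none : Option (α ⊕ B)) ∈ S <;> simp [h]
    · by_cases h : (none : Option (α ⊕ B)) ∈ S <;> simp [h, hA]
    · by_cases h : (none : Option (α ⊕ B)) ∈ S <;> simp [h, hCS]
  rw [← Set.toFinset_card, hset, card_union_of_disjoint, card_union_of_disjoint,
    card_image_of_injective _ (fun a b h => Sum.inl.inj (Option.some.inj h)),
    card_image_of_injective _ (fun a b h => Sum.inr.inj (Option.some.inj h)), hcard, ← add_assoc]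
  · rcases he with ⟨h, rfl⟩ | ⟨h, rfl⟩ <;> simp [h]
  · simp [disjoint_left]
  · by_cases h : (none : Option (α ⊕ B)) ∈ S <;> simp [h]

/-- The point-block graph of an S(3, 6, 22) is strongly regular with parameters (100, 22, 0, 6). -/
theorem result {α : Type*} [Fintype α] (hα : Fintype.card α = 22) {B : Set (Finset α)} (hB : Cfsg.IsSteinerSystem 3 6 B) [Fintype B] [DecidableRel (Cfsg.pointBlockGraph B).Adj] : (Cfsg.pointBlockGraph B).IsSRGWith 100 22 0 6 := by
  classical
  have had : ∀ (a : α) (b : B), (pointBlockGraph B).Adj (some (Sum.inl a)) (some (Sum.inr b)) ↔ a ∈ (b : Finset α) := by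
    intro a b; simp [pointBlockGraph, SimpleGraph.fromRel_adj, pointBlockRel]
  have had' : ∀ (a : α) (b : B), (pointBlockGraph B).Adj (some (Sum.inr b)) (some (Sum.inl a)) ↔ a ∈ (b : Finset α) :=
    fun a b => ((pointBlockGraph B).adj_comm _ _).trans (had a b)
  have hnp : ∀ a : α, (pointBlockGraph B).Adj none (some (Sum.inl a)) := by
    intro a; simp [pointBlockGraph, SimpleGraph.fromRel_adj, pointBlockRel]
  have hpn : ∀ a : α, (pointBlockGraph B).Adj (some (Sum.inl a)) none := fun a => (hnp a).symm
  have hnb : ∀ b : B, ¬ (pointBlockGraph B).Adj none (some (Sum.inr b)) := by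
    intro b; simp [pointBlockGraph, SimpleGraph.fromRel_adj, pointBlockRel]
  have hbn : ∀ b : B, ¬ (pointBlockGraph B).Adj (some (Sum.inr b)) none := fun b h => hnb b h.symm
  have hpp : ∀ a a' : α, ¬ (pointBlockGraph B).Adj (some (Sum.inl a)) (some (Sum.inl a')) := by
    intro a a'; simp [pointBlockGraph, SimpleGraph.fromRel_adj, pointBlockRel]
  have hnn : ¬ (pointBlockGraph B).Adj none none := SimpleGraph.irrefl _
  have hbb : ∀ b c : B, (pointBlockGraph B).Adj (some (Sum.inr b)) (some (Sum.inr c)) ↔ Disjoint (b : Finset α) (c : Finset α) := by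
    intro b c
    rw [pointBlockGraph, SimpleGraph.fromRel_adj]
    constructor
    · rintro ⟨-, h | h⟩
      · exact h
      · exact (show Disjoint (c : Finset α) (b : Finset α) from h).symm
    · intro h
      refine ⟨fun e => ?_, Or.inl h⟩
      have : b = c := Sum.inr.inj (Option.some.inj e)
      subst this
      have h' := disjoint_self.mp h
      have h6 := hB.1 _ b.2
      rw [h'] at h6
      simp at h6
  have hav : ∀ b : B, ∀ d ∈ avoiding B (b : Finset α), d ∈ B := fun b d hd => (mem_avoiding.1 hd).1
  refine ⟨?_, ?_, ?_, ?_⟩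
  · rw [Fintype.card_option, Fintype.card_sum, hα, ← Nat.card_eq_fintype_card (α := B), Nat.card_coe_set_eq,
      ncard_eq_card_blocks]
    have h := blocksThrough_card_mul hB (s := (∅ : Finset α)) (by simp)
    have he : blocksThrough B (∅ : Finset α) = blocks B := by simp [blocksThrough]
    rw [he, hα, card_empty, show Nat.choose (6 - 0) (3 - 0) = 20 by decide,
      show Nat.choose (22 - 0) (3 - 0) = 1540 by decide] at h
    omega
  · intro v
    rw [← SimpleGraph.card_neighborSet_eq_degree]
    rcases v with _ | a | b
    · rw [card_vertices _ 0 univ ∅ (by simp) (Or.inr ⟨hnn, rfl⟩) (fun a => by simp [hnp]) (fun d => by simp [hnb]),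
        card_univ, hα, card_empty]
    · rw [card_vertices _ 1 ∅ (blocksThrough B {a}) (fun d hd => (mem_blocksThrough.1 hd).1) (Or.inl ⟨hpn a, rfl⟩)
        (fun x => by simp [hpp]) (fun d => by simp [had, mem_blocksThrough]), lambda_one_322 hα hB, card_empty]
    · rw [card_vertices _ 0 (b : Finset α) (avoiding B b) (hav b) (Or.inr ⟨hbn b, rfl⟩) (fun x => by simp [had'])
        (fun d => by simp [hbb, mem_avoiding]), card_avoiding_322 hα hB b.2, hB.1 _ b.2]
  · have key1 : ∀ a : α, Fintype.card ((pointBlockGraph B).commonNeighbors none (some (Sum.inl a))) = 0 := fun a =>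
      card_vertices _ 0 ∅ ∅ (by simp) (Or.inr ⟨by simp [SimpleGraph.mem_commonNeighbors, hnn], rfl⟩)
        (fun x => by simp [SimpleGraph.mem_commonNeighbors, hpp]) (fun d => by simp [SimpleGraph.mem_commonNeighbors, hnb])
    have key2 : ∀ (a : α) (b : B), a ∈ (b : Finset α) →
        Fintype.card ((pointBlockGraph B).commonNeighbors (some (Sum.inl a)) (some (Sum.inr b))) = 0 := fun a b hab =>
      card_vertices _ 0 ∅ ∅ (by simp) (Or.inr ⟨by simp [SimpleGraph.mem_commonNeighbors, hbn], rfl⟩)
        (fun x => by simp [SimpleGraph.mem_commonNeighbors, hpp])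
        (fun d => by
          simp only [SimpleGraph.mem_commonNeighbors, had, hbb, notMem_empty, iff_false, not_and]
          exact fun h1 h2 => disjoint_left.1 h2 hab h1)
    have key3 : ∀ b c : B, Disjoint (b : Finset α) (c : Finset α) →
        Fintype.card ((pointBlockGraph B).commonNeighbors (some (Sum.inr b)) (some (Sum.inr c))) = 0 := fun b c hbc =>
      card_vertices _ 0 ∅ ∅ (by simp) (Or.inr ⟨by simp [SimpleGraph.mem_commonNeighbors, hbn], rfl⟩)
        (fun x => by
          simp only [SimpleGraph.mem_commonNeighbors, had', notMem_empty, iff_false, not_and]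
          exact fun h1 => disjoint_left.1 hbc h1)
        (fun d => by
          simp only [SimpleGraph.mem_commonNeighbors, hbb, notMem_empty, iff_false, not_and]
          intro h1 h2
          have he := avoiding_inter_of_disjoint hα hB b.2 c.2 hbc
          rw [filter_eq_empty_iff] at he
          exact he (mem_avoiding.2 ⟨d.2, h1⟩) h2)
    intro v w h
    rcases v with _ | a | b <;> rcases w with _ | a' | c
    · exact absurd h hnn
    · exact key1 a'
    · exact absurd h (hnb c)
    · simp only [SimpleGraph.commonNeighbors_symm _ (some (Sum.inl a)) none]; exact key1 a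
    · exact absurd h (hpp a a')
    · exact key2 a c ((had a c).1 h)
    · exact absurd h (hbn b)
    · simp only [SimpleGraph.commonNeighbors_symm _ (some (Sum.inr b)) (some (Sum.inl a'))]
      exact key2 a' b ((had' a' b).1 h)
    · exact key3 b c ((hbb b c).1 h)
  · have key1 : ∀ b : B, Fintype.card ((pointBlockGraph B).commonNeighbors none (some (Sum.inr b))) = 6 := fun b => by
      rw [card_vertices _ 0 (b : Finset α) ∅ (by simp) (Or.inr ⟨by simp [SimpleGraph.mem_commonNeighbors, hnn], rfl⟩)
        (fun x => by simp [SimpleGraph.mem_commonNeighbors, hnp, had'])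
        (fun d => by simp [SimpleGraph.mem_commonNeighbors, hnb]), hB.1 _ b.2, card_empty]
    have key2 : ∀ a a' : α, a ≠ a' →
        Fintype.card ((pointBlockGraph B).commonNeighbors (some (Sum.inl a)) (some (Sum.inl a'))) = 6 := fun a a' hne => by
      rw [card_vertices _ 1 ∅ (blocksThrough B {a, a'}) (fun d hd => (mem_blocksThrough.1 hd).1)
        (Or.inl ⟨by simp [SimpleGraph.mem_commonNeighbors, hpn], rfl⟩)
        (fun x => by simp [SimpleGraph.mem_commonNeighbors, hpp])
        (fun d => by simp [SimpleGraph.mem_commonNeighbors, had, mem_blocksThrough, insert_subset_iff]),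
        lambda_two_322 hα hB hne, card_empty]
    have key3 : ∀ (a : α) (b : B), a ∉ (b : Finset α) →
        Fintype.card ((pointBlockGraph B).commonNeighbors (some (Sum.inl a)) (some (Sum.inr b))) = 6 := fun a b hab => by
      rw [card_vertices _ 0 ∅ ((avoiding B (b : Finset α)).filter (a ∈ ·)) (fun d hd => hav b d (mem_filter.1 hd).1)
        (Or.inr ⟨by simp [SimpleGraph.mem_commonNeighbors, hbn], rfl⟩)
        (fun x => by simp [SimpleGraph.mem_commonNeighbors, hpp])
        (fun d => by simp [SimpleGraph.mem_commonNeighbors, had, hbb, mem_avoiding, and_comm]),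
        avoiding_through_322 hα hB b.2 hab, card_empty]
    have key4 : ∀ b c : B, b ≠ c → ¬ Disjoint (b : Finset α) (c : Finset α) →
        Fintype.card ((pointBlockGraph B).commonNeighbors (some (Sum.inr b)) (some (Sum.inr c))) = 6 := fun b c hne hbc => by
      rw [card_vertices _ 0 ((b : Finset α) ∩ (c : Finset α)) ((avoiding B (b : Finset α)).filter (Disjoint (c : Finset α) ·))
        (fun d hd => hav b d (mem_filter.1 hd).1) (Or.inr ⟨by simp [SimpleGraph.mem_commonNeighbors, hbn], rfl⟩)
        (fun x => by simp [SimpleGraph.mem_commonNeighbors, had'])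
        (fun d => by simp [SimpleGraph.mem_commonNeighbors, hbb, mem_avoiding]),
        avoiding_inter_of_meet hα hB b.2 c.2 (fun e => hne (Subtype.ext e)) hbc,
        (inter_zero_or_two_322 hα hB b.2 c.2 (fun e => hne (Subtype.ext e))).resolve_left
          (fun h0 => hbc (disjoint_iff_inter_eq_empty.2 (card_eq_zero.1 h0)))]
    intro v w hne h
    rcases v with _ | a | b <;> rcases w with _ | a' | c
    · exact absurd rfl hne
    · exact absurd (hnp a') h
    · exact key1 c
    · exact absurd (hpn a) h
    · exact key2 a a' (fun e => hne (by rw [e]))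
    · exact key3 a c (fun e => h ((had a c).2 e))
    · simp only [SimpleGraph.commonNeighbors_symm _ (some (Sum.inr b)) none]; exact key1 b
    · simp only [SimpleGraph.commonNeighbors_symm _ (some (Sum.inr b)) (some (Sum.inl a'))]
      exact key3 a' b (fun e => h ((had' a' b).2 e))
    · exact key4 b c (fun e => hne (by rw [e])) (fun hd => h ((hbb b c).2 hd))

end Cfsg.Agent.S0428
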