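import Cfsg.Statements.S5604
import Cfsg.Agent.Eq.Def_SporadicCombinatorics
import Cfsg.Agent.M24Orbits.ClassFix
import Cfsg.Agent.M24Orbits.Data.Seven
import Cfsg.Agent.Mathieu.Subgroups

set_option autoImplicit false
open scoped Pointwise
open Cfsg

open CfsgLib.Golay CfsgLib.Mathieu CfsgLib.M24Orbits CfsgLib.M24Orbits.Data

namespace Cfsg.Agent.S5604

/-- The candidates for elements of the normaliser fixing the point `0`. -/
def stab0 : List (List ℕ) :=
  (sevenMoves.zip [1, 2, 3, 4, 5, 6]).flatMap fun hj =>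
    (fixList5.map (compTab hj.1)).filter fun t =>
      compTab t sevenRep == compTab (CfsgLib.M24Orbits.powTab sevenRep hj.2) t

theorem stab0_facts : stab0.length = 6 ∧
    (stab0.filter fun t => compTab t sevenRep == compTab sevenRep t).length = 2 ∧
    sevenMoves.all autoOK = true ∧
    ((List.range 6).all fun n => (List.range 5).all fun i =>
      app (sevenMoves.getD n []) i == app (CfsgLib.M24Orbits.powTab sevenRep (i * (n + 1) % 7)) 0) = true := by
  decide +kernel

theorem rep_facts : autoOK sevenRep = true ∧ CfsgLib.M24Orbits.powTab sevenRep 7 = idTab ∧ sevenRep ≠ idTab ∧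
    fixCount sevenRep = 3 ∧ (∀ i < 5, app (CfsgLib.M24Orbits.powTab sevenRep i) 0 = i) := by
  decide +kernel

theorem fixed_by_rho {ρ : Equiv.Perm GolayPt} (hρ : toTab ρ = sevenRep) {n : Equiv.Perm GolayPt}
    (hn : n ∈ M24) {j : ℕ} (hj : n * ρ = ρ ^ j * n) (h0 : n (i2p 0) = i2p 0) (hj7 : j < 7) :
    toTab n ∈ stab0 := by
  have hne : j ≠ 0 := by
    intro e; subst e
    rw [pow_zero, one_mul, mul_eq_left] at hj
    exact rep_facts.2.2.1 (by rw [← hρ, hj, toTab_one])
  obtain ⟨a, rfl⟩ : ∃ a, j = a + 1 := ⟨j - 1, by omega⟩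
  have ha : a < 6 := by omega
  obtain ⟨-, -, hmoves, himg⟩ := stab0_facts
  simp only [List.all_eq_true, List.mem_range, beq_iff_eq] at hmoves himg
  have hlen : sevenMoves.length = 6 := by decide +kernel
  have hget : sevenMoves.getD a [] = sevenMoves[a]'(by omega) := by
    rw [List.getD_eq_getElem?_getD, List.getElem?_eq_getElem (by omega), Option.getD_some]
  obtain ⟨h, hh, hht⟩ := rep_of_autoOK (hmoves _ (List.getElem_mem (show a < _ by omega)))
  have hpowj : ∀ i, n * ρ ^ i = ρ ^ ((a + 1) * i) * n := by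
    intro i
    induction i with
    | zero => simp
    | succ i ih => rw [pow_succ, ← mul_assoc, ih, mul_assoc, hj, ← mul_assoc, ← pow_add]; ring_nf
  have hρ7 : ρ ^ 7 = 1 := toTab_injective (by rw [CfsgLib.M24Orbits.toTab_pow, hρ, rep_facts.2.1, toTab_one])
  have hmem : h⁻¹ * n ∈ base7Fix 5 := by
    refine mem_base7Fix.2 ⟨M24.mul_mem (M24.inv_mem hh) hn, fun i hi => ?_⟩
    have hi5 : i < 5 := by revert i; decide +kernel
    have e1 : (ρ ^ i) (i2p 0) = i2p i := by
      apply p2i_injective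
      rw [p2i_i2p i (by omega), ← app_toTab (ρ ^ i) 0 (by norm_num), CfsgLib.M24Orbits.toTab_pow, hρ]
      exact rep_facts.2.2.2.2 i hi5
    have e2 : n (i2p i) = h (i2p i) := by
      rw [← e1, ← Equiv.Perm.mul_apply, hpowj, Equiv.Perm.mul_apply, h0, e1]
      apply p2i_injective
      rw [← app_toTab h i (by omega), hht, ← hget, himg a ha i hi5,
        ← app_toTab (ρ ^ ((a + 1) * i)) 0 (by norm_num), CfsgLib.M24Orbits.toTab_pow, hρ, mul_comm]
      rw [← hρ, ← CfsgLib.M24Orbits.toTab_pow, ← CfsgLib.M24Orbits.toTab_pow, ← pow_eq_pow_mod _ hρ7]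
    rw [Equiv.Perm.mul_apply, e2, ← Equiv.Perm.mul_apply, inv_mul_cancel, Equiv.Perm.one_apply]
  simp only [stab0, List.mem_flatMap, List.mem_filter, List.mem_map, beq_iff_eq]
  refine ⟨(sevenMoves[a]'(by omega), a + 1), ?_, ⟨_, toTab_mem_fixList5 hmem, ?_⟩, ?_⟩
  · rw [List.mem_iff_getElem]
    refine ⟨a, by simp; omega, ?_⟩
    rw [List.getElem_zip]
    refine Prod.ext rfl ?_
    show [1, 2, 3, 4, 5, 6][a] = a + 1
    interval_cases a <;> rfl
  · rw [← hht, ← toTab_mul, mul_inv_cancel_left]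
  · rw [← hρ, ← toTab_mul, ← CfsgLib.M24Orbits.toTab_pow, ← toTab_mul, hj]

theorem zpow_cases {G : Type*} [Group G] {r x : G} (hr : r ^ 7 = 1)
    (hx : x ∈ Subgroup.zpowers r) : ∃ j < 7, x = r ^ j := by
  obtain ⟨z, rfl⟩ := Subgroup.mem_zpowers_iff.1 hx
  refine ⟨(z % 7).toNat, by omega, ?_⟩
  rw [← zpow_natCast, Int.toNat_of_nonneg (Int.emod_nonneg z (by norm_num))]
  conv_lhs => rw [← Int.mul_ediv_add_emod z 7, zpow_add, zpow_mul,
    show r ^ (7 : ℤ) = 1 from (zpow_natCast r 7).trans hr, one_zpow, one_mul]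

theorem card_ge_of_tables {K : Subgroup M24} (L : List (List ℕ)) (hnd : L.Nodup)
    (hm : ∀ t ∈ L, ∃ x ∈ K, toTab (x : Equiv.Perm GolayPt) = t) : L.length ≤ Nat.card K := by
  choose f hfK hft using fun j : Fin L.length => hm _ (List.getElem_mem j.2)
  have hinj : Function.Injective fun j => (⟨f j, hfK j⟩ : K) := fun a b e => by
    have e' : f a = f b := congrArg Subtype.val e
    have : L[a.1] = L[b.1] := by rw [← hft a, ← hft b, e']
    exact Fin.ext ((hnd.getElem_inj_iff (hi := a.2) (hj := b.2)).1 this)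
  simpa using Nat.card_le_card_of_injective _ hinj

theorem centralizer_map {G : Type*} [Group G] (e : G ≃* G) (P : Subgroup G) :
    (Subgroup.centralizer (P : Set G)).map e.toMonoidHom =
      Subgroup.centralizer ((P.map e.toMonoidHom : Subgroup G) : Set G) := by
  ext x
  simp only [Subgroup.mem_map, Subgroup.mem_centralizer_iff, SetLike.mem_coe,
    MulEquiv.coe_toMonoidHom]
  constructor
  · rintro ⟨y, hy, rfl⟩ z ⟨w, hw, rfl⟩
    rw [← map_mul, hy w hw, map_mul]
  · intro hx
    refine ⟨e.symm x, fun w hw => e.injective ?_, e.apply_symm_apply x⟩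
    rw [map_mul, map_mul, e.apply_symm_apply]
    exact hx _ ⟨w, hw, rfl⟩

theorem step_bound {K : Subgroup M24} {ρ : M24} (hρ : toTab (ρ : Equiv.Perm GolayPt) = sevenRep)
    (hρ7 : ρ ^ 7 = 1) (hK : ∀ x ∈ K, ∃ j < 7, x * ρ = ρ ^ j * x) (S : List (List ℕ))
    (hS : ∀ x ∈ K, toTab (x : Equiv.Perm GolayPt) ∈ stab0 →
      toTab (x : Equiv.Perm GolayPt) ∈ S) : Nat.card K ≤ 21 * S.length := by
  have e : Nat.card (K.map M24.subtype) = Nat.card K :=
    Subgroup.card_map_of_injective M24.subtype_injective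
  rw [← e]
  have hcomm : ∀ g ∈ K.map M24.subtype, g ∈ M24 ∧ ∃ j < 7,
      g * (ρ : Equiv.Perm GolayPt) = (ρ : Equiv.Perm GolayPt) ^ j * g := by
    rintro _ ⟨x, hx, rfl⟩
    obtain ⟨j, hj, ej⟩ := hK x hx
    refine ⟨x.2, j, hj, ?_⟩
    simpa using congrArg (fun y : M24 => (y : Equiv.Perm GolayPt)) ej
  have horb : ∀ g ∈ K.map M24.subtype,
      p2i (g (i2p 0)) ∈ (List.range 24).filter fun i => app sevenRep i != i := by
    intro g hg
    obtain ⟨hgM, j, hj, ej⟩ := hcomm g hg
    rw [List.mem_filter, List.mem_range, bne_iff_ne, ne_eq]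
    refine ⟨p2i_lt _, fun e0 => ?_⟩
    rw [← hρ, app_toTab _ _ (p2i_lt _), i2p_p2i] at e0
    have e1 := p2i_injective e0
    have h7 : ∀ i, ((ρ : Equiv.Perm GolayPt) ^ i) (g (i2p 0)) = g (i2p 0) := fun i => by
      induction i with
      | zero => rfl
      | succ i ih => rw [pow_succ, Equiv.Perm.mul_apply, e1, ih]
    have h2 : g ((ρ : Equiv.Perm GolayPt) (i2p 0)) = g (i2p 0) := by
      rw [← Equiv.Perm.mul_apply, ej, Equiv.Perm.mul_apply, h7]
    have h3 := g.injective h2
    have := rep_facts.2.2.2.2 1 (by norm_num)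
    rw [show CfsgLib.M24Orbits.powTab sevenRep 1 = toTab ((ρ : Equiv.Perm GolayPt) ^ 1) by rw [CfsgLib.M24Orbits.toTab_pow, hρ],
      pow_one, app_toTab _ 0 (by norm_num), h3, p2i_i2p 0 (by norm_num)] at this
    norm_num at this
  refine (card_le_step _ 0 _ horb).trans (Nat.mul_le_mul (le_of_eq (by decide +kernel)) ?_)
  classical
  have hsub : ∀ g : fixPt (K.map M24.subtype) (i2p 0), toTab (g : Equiv.Perm GolayPt) ∈ S := by
    rintro ⟨g, hg, hg0⟩
    obtain ⟨hgM, j, hj, ej⟩ := hcomm g hg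
    obtain ⟨x, hx, rfl⟩ := hg
    exact hS x hx (fixed_by_rho hρ hgM ej hg0 hj)
  have := Nat.card_le_card_of_injective
    (fun g : fixPt (K.map M24.subtype) (i2p 0) => (⟨toTab (g : Equiv.Perm GolayPt),
      List.mem_toFinset.2 (hsub g)⟩ : ↥S.toFinset))
    (fun a b e => Subtype.ext (toTab_injective (congrArg Subtype.val e)))
  refine this.trans ?_
  rw [Nat.card_eq_fintype_card, Fintype.card_coe]
  exact S.toFinset_card_le

theorem base_case : ∃ P : Subgroup M24, Nat.card P = 7 ∧
    Nat.card ↥(Subgroup.normalizer (P : Set M24)) = 126 ∧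
    Nat.card ↥(Subgroup.centralizer (P : Set M24)) = 42 ∧
    (∃ x ∈ Subgroup.centralizer (P : Set M24), ∃ y ∈ Subgroup.centralizer (P : Set M24),
      x * y ≠ y * x) ∧
    ∃ T ∈ trios, ∀ n ∈ Subgroup.normalizer (P : Set M24), (n : Equiv.Perm GolayPt) • T = T := by
  obtain ⟨r, hr, hrt⟩ := rep_of_autoOK rep_facts.1
  set ρ : M24 := ⟨r, hr⟩ with hρdef
  have hρt : toTab (ρ : Equiv.Perm GolayPt) = sevenRep := hrt
  have h7 : ρ ^ 7 = 1 := Subtype.ext (toTab_injective (by
    show toTab (r ^ 7) = toTab 1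
    rw [CfsgLib.M24Orbits.toTab_pow, hrt, rep_facts.2.1, toTab_one]))
  haveI : Fact (Nat.Prime 7) := ⟨by norm_num⟩
  have hord : orderOf ρ = 7 := orderOf_eq_prime h7 fun e => rep_facts.2.2.1 (by
    rw [← hρt, e]; exact toTab_one)
  have hcardP : Nat.card (Subgroup.zpowers ρ) = 7 := by rw [Nat.card_zpowers, hord]
  have hnorm : ∀ x ∈ Subgroup.normalizer ((Subgroup.zpowers ρ : Subgroup M24) : Set M24),
      ∃ j < 7, x * ρ = ρ ^ j * x := by
    intro x hx
    obtain ⟨j, hj, e⟩ := zpow_cases h7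
      ((Subgroup.mem_normalizer_iff.1 hx ρ).1 (Subgroup.mem_zpowers ρ))
    exact ⟨j, hj, by rw [← e]; group⟩
  have hcen : ∀ x, x ∈ Subgroup.centralizer ((Subgroup.zpowers ρ : Subgroup M24) : Set M24) ↔
      x * ρ = ρ * x := by
    intro x
    rw [Subgroup.mem_centralizer_iff]
    refine ⟨fun h => (h ρ (Subgroup.mem_zpowers ρ)).symm, fun h z hz => ?_⟩
    obtain ⟨k, rfl⟩ := Subgroup.mem_zpowers_iff.1 hz
    exact ((show Commute x ρ from h).zpow_right k).symm.eq
  have htabs : sevenNorm.all (fun t => autoOK t && (List.range 7).any fun j =>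
      compTab t sevenRep == compTab (CfsgLib.M24Orbits.powTab sevenRep j) t) = true ∧
      sevenCent.all (fun t => autoOK t && compTab t sevenRep == compTab sevenRep t) = true ∧
      sevenNorm.Nodup ∧ sevenCent.Nodup ∧ sevenNorm.length = 126 ∧ sevenCent.length = 42 := by
    decide +kernel
  obtain ⟨tn, tc, ndn, ndc, ln, lc⟩ := htabs
  simp only [List.all_eq_true, Bool.and_eq_true, List.any_eq_true, beq_iff_eq] at tn tc
  have hinN : ∀ x : M24, (∃ j, x * ρ = ρ ^ j * x) →
      x ∈ Subgroup.normalizer ((Subgroup.zpowers ρ : Subgroup M24) : Set M24) := by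
    intro x ⟨j, hj⟩
    have e : x * ρ * x⁻¹ = ρ ^ j := by rw [hj]; group
    have hsub : (Subgroup.zpowers ρ).map (MulAut.conj x).toMonoidHom ≤ Subgroup.zpowers ρ := by
      rw [MonoidHom.map_zpowers, Subgroup.zpowers_le]
      show x * ρ * x⁻¹ ∈ _
      rw [e]; exact Subgroup.pow_mem _ (Subgroup.mem_zpowers ρ) j
    have heq := Subgroup.eq_of_le_of_card_ge hsub
      (le_of_eq (Subgroup.card_map_of_injective (MulAut.conj x).injective).symm)
    rw [Subgroup.mem_normalizer_iff]
    intro h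
    conv_rhs => rw [← heq]
    exact ⟨fun hh => ⟨h, hh, rfl⟩, fun ⟨y, hy, ey⟩ => by
      rwa [← (MulAut.conj x).injective (ey.trans rfl : MulAut.conj x y = MulAut.conj x h)]⟩
  have hNge : 126 ≤ Nat.card
      (Subgroup.normalizer ((Subgroup.zpowers ρ : Subgroup M24) : Set M24)) := by
    rw [← ln]
    refine card_ge_of_tables _ ndn fun t ht => ?_
    obtain ⟨h1, j, -, h2⟩ := tn t ht
    obtain ⟨g, hg, rfl⟩ := rep_of_autoOK h1
    refine ⟨⟨g, hg⟩, hinN _ ⟨j, Subtype.ext (toTab_injective ?_)⟩, rfl⟩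
    show toTab (g * r) = toTab (r ^ j * g)
    rw [toTab_mul, toTab_mul, CfsgLib.M24Orbits.toTab_pow, hrt, h2]
  have hNle := step_bound hρt h7 hnorm stab0 fun _ _ h => h
  have hCle := step_bound hρt h7
    (K := Subgroup.centralizer ((Subgroup.zpowers ρ : Subgroup M24) : Set M24))
    (fun x hx => ⟨1, by norm_num, by rw [pow_one]; exact (hcen x).1 hx⟩)
    (stab0.filter fun t => compTab t sevenRep == compTab sevenRep t) fun x hx h => by
      rw [List.mem_filter, beq_iff_eq, ← hρt, ← toTab_mul, ← toTab_mul]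
      exact ⟨h, congrArg (fun y : M24 => toTab (y : Equiv.Perm GolayPt)) ((hcen x).1 hx)⟩
  have hCge : 42 ≤ Nat.card
      (Subgroup.centralizer ((Subgroup.zpowers ρ : Subgroup M24) : Set M24)) := by
    rw [← lc]
    refine card_ge_of_tables _ ndc fun t ht => ?_
    obtain ⟨h1, h2⟩ := tc t ht
    obtain ⟨g, hg, rfl⟩ := rep_of_autoOK h1
    refine ⟨⟨g, hg⟩, (hcen _).2 (Subtype.ext (toTab_injective ?_)), rfl⟩
    show toTab (g * r) = toTab (r * g)
    rw [toTab_mul, toTab_mul, hrt, h2]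
  rw [stab0_facts.1] at hNle
  rw [stab0_facts.2.1] at hCle
  refine ⟨Subgroup.zpowers ρ, hcardP, le_antisymm hNle hNge, le_antisymm hCle hCge, ?_, ?_⟩
  · have hget : ∀ i < sevenCent.length, ∃ x ∈
        Subgroup.centralizer ((Subgroup.zpowers ρ : Subgroup M24) : Set M24),
        toTab (x : Equiv.Perm GolayPt) = sevenCent.getD i [] := by
      intro i hi
      obtain ⟨h1, h2⟩ := tc _ (List.getElem_mem hi)
      obtain ⟨g, hg, hgt⟩ := rep_of_autoOK h1
      refine ⟨⟨g, hg⟩, (hcen _).2 (Subtype.ext (toTab_injective ?_)), ?_⟩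
      · show toTab (g * r) = toTab (r * g)
        rw [toTab_mul, toTab_mul, hrt, hgt, h2]
      · rw [List.getD_eq_getElem?_getD, List.getElem?_eq_getElem hi]
        exact hgt
    obtain ⟨x, hx, hxt⟩ := hget 1 (by omega)
    obtain ⟨y, hy, hyt⟩ := hget 10 (by omega)
    refine ⟨x, hx, y, hy, fun e => ?_⟩
    have hne : compTab (sevenCent.getD 1 []) (sevenCent.getD 10 []) ≠
        compTab (sevenCent.getD 10 []) (sevenCent.getD 1 []) := by decide +kernel
    apply hne
    rw [← hxt, ← hyt, ← toTab_mul, ← toTab_mul]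
    exact congrArg (fun z : M24 => toTab (z : Equiv.Perm GolayPt)) e
  · refine ⟨famOf [5279, 5621792, 11150144], famOf_mem_trios (by decide +kernel), fun n hn => ?_⟩
    have hfix : r • famOf [5279, 5621792, 11150144] = famOf [5279, 5621792, 11150144] := by
      apply encF_injective
      rw [encF_smul, encF_famOf (by decide +kernel), hrt]
      decide +kernel
    obtain ⟨j, hj, ej⟩ := hnorm _
      ((Subgroup.normalizer ((Subgroup.zpowers ρ : Subgroup M24) : Set M24)).inv_mem hn)
    have hn2 : r • ((n : Equiv.Perm GolayPt) • famOf [5279, 5621792, 11150144]) =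
        (n : Equiv.Perm GolayPt) • famOf [5279, 5621792, 11150144] := by
      have e' : (n : Equiv.Perm GolayPt)⁻¹ * r = r ^ j * (n : Equiv.Perm GolayPt)⁻¹ :=
        congrArg (fun y : M24 => (y : Equiv.Perm GolayPt)) ej
      have hp : r ^ j • famOf [5279, 5621792, 11150144] = famOf [5279, 5621792, 11150144] := by
        clear ej e' hj
        induction j with
        | zero => rw [pow_zero, one_smul]
        | succ j ih => rw [pow_succ, mul_smul, hfix, ih]
      rw [← inv_smul_eq_iff, ← mul_smul, ← mul_smul, e', mul_assoc, inv_mul_cancel, mul_one]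
      exact hp
    have h1 : {T | T ∈ trios ∧ r • T = T}.ncard = 1 := by
      rw [ncard_fixed octTrio_setup encF_injective r, hrt]; decide +kernel
    obtain ⟨a, ha⟩ := Set.ncard_eq_one.1 h1
    have m1 : (n : Equiv.Perm GolayPt) • famOf [5279, 5621792, 11150144] ∈
        {T | T ∈ trios ∧ r • T = T} :=
      ⟨smul_mem_trios n.2 (famOf_mem_trios (by decide +kernel)), hn2⟩
    have m2 : famOf [5279, 5621792, 11150144] ∈ {T | T ∈ trios ∧ r • T = T} :=
      ⟨famOf_mem_trios (by decide +kernel), hfix⟩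
    rw [ha, Set.mem_singleton_iff] at m1 m2
    exact m1.trans m2.symm


/-- For a subgroup S of order 7 of the group of the length-24 code (a Sylow 7-subgroup): the normaliser of S has order 126, the centraliser of S has order 42 and is non-abelian, and the whole normaliser leaves some trio invariant. (These are the orders of a Frobenius group of order 21 times a symmetric group of degree 3; the isomorphism type itself is not asserted here.) -/
theorem result (S : Subgroup ↥Cfsg.M24) (hS : Nat.card S = 7) : Nat.card ↥(Subgroup.normalizer (S : Set ↥Cfsg.M24)) = 126 ∧ Nat.card ↥(Subgroup.centralizer (S : Set ↥Cfsg.M24)) = 42 ∧ (∃ x ∈ Subgroup.centralizer (S : Set ↥Cfsg.M24), ∃ y ∈ Subgroup.centralizer (S : Set ↥Cfsg.M24), x * y ≠ y * x) ∧ ∃ T ∈ Cfsg.trios, ∀ n ∈ Subgroup.normalizer (S : Set ↥Cfsg.M24), ((n : ↥Cfsg.M24) : Equiv.Perm Cfsg.GolayPt) • T = T := by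
  obtain ⟨P, hP, hN, hC, ⟨x, hx, y, hy, hxy⟩, T, hT, hfix⟩ := base_case
  haveI : Fact (Nat.Prime 7) := ⟨by norm_num⟩
  have hfac : (Nat.card M24).factorization 7 = 1 := by
    rw [card_M24, show (244823040 : ℕ) = 7 * 34974720 by norm_num,
      Nat.factorization_mul (by norm_num) (by norm_num), Finsupp.add_apply,
      Nat.Prime.factorization_self (by norm_num), Nat.factorization_eq_zero_of_not_dvd (by norm_num)]
  obtain ⟨g, hg⟩ := MulAction.exists_smul_eq M24
    (Sylow.ofCard P (by rw [hP, hfac, pow_one]) : Sylow 7 M24)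
    (Sylow.ofCard S (by rw [hS, hfac, pow_one]))
  have e : P.map (MulAut.conj g).toMonoidHom = S := congrArg Sylow.toSubgroup hg
  have hNe : (Subgroup.normalizer (P : Set M24)).map (MulAut.conj g).toMonoidHom =
      Subgroup.normalizer (S : Set M24) := by
    rw [← e]; exact Subgroup.map_equiv_normalizer_eq P (MulAut.conj g)
  have hCe : (Subgroup.centralizer (P : Set M24)).map (MulAut.conj g).toMonoidHom =
      Subgroup.centralizer (S : Set M24) := by
    rw [centralizer_map, e]
  refine ⟨?_, ?_, ⟨MulAut.conj g x, hCe ▸ ⟨x, hx, rfl⟩, MulAut.conj g y, hCe ▸ ⟨y, hy, rfl⟩,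
    fun h => hxy ((MulAut.conj g).injective (by rw [map_mul, map_mul, h]))⟩,
    (g : Equiv.Perm GolayPt) • T, smul_mem_trios g.2 hT, fun n hn => ?_⟩
  · rw [← hNe, Subgroup.card_map_of_injective (MulAut.conj g).injective, hN]
  · rw [← hCe, Subgroup.card_map_of_injective (MulAut.conj g).injective, hC]
  · rw [← hNe] at hn
    obtain ⟨m, hm, rfl⟩ := hn
    show ((g : Equiv.Perm GolayPt) * (m : Equiv.Perm GolayPt) * (g : Equiv.Perm GolayPt)⁻¹) •
      (g : Equiv.Perm GolayPt) • T = _
    rw [mul_smul, mul_smul, inv_smul_smul, hfix m hm]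

end Cfsg.Agent.S5604
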