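import Cfsg.Statements.S1606
import Cfsg.Agent.Eq.Def_SporadicCombinatorics
import Cfsg.Agent.M24Orbits.IndexSub23

set_option autoImplicit false
open scoped Pointwise
open Cfsg

open CfsgLib.Golay CfsgLib.Mathieu CfsgLib.M24Orbits

namespace Cfsg.Agent.S1606

/-- An element of order five fixing four base points. -/
def tabFive : List ℕ := [0,1,2,3,5,6,16,23,20,15,14,19,17,10,11,18,21,9,12,13,7,4,8,22]

/-- An element of order eleven fixing two base points, normalised by `tabFive`. -/
def tabEleven : List ℕ := [0,1,22,19,21,23,7,16,20,3,18,13,11,10,9,17,2,14,15,12,4,6,5,8]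

/-- An element normalising `tabFive` and moving the third base point. -/
def tabSwap : List ℕ := [0,1,3,2,10,19,14,7,20,17,4,5,12,6,16,18,13,15,9,21,22,11,23,8]

theorem card_normalizer_eleven {L : Subgroup (Equiv.Perm GolayPt)} {p q : GolayPt} (hpq : p ≠ q)
    (hL : L ≤ fixPt (fixPt M24 p) q) (hfac : (Nat.card L).factorization 11 = 1) {c : L}
    (hc : orderOf c = 11) : ∃ n, Nat.card (Subgroup.normalizer
      ((Subgroup.zpowers c : Subgroup L) : Set L)) ∣ 220 ∧ Nat.card (Subgroup.normalizer
      ((Subgroup.zpowers c : Subgroup L) : Set L)) * n = Nat.card L ∧ n % 11 = 1 := by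
  haveI : Fact (Nat.Prime 11) := ⟨by norm_num⟩
  have hZc : Nat.card (Subgroup.zpowers c) = 11 := by rw [Nat.card_zpowers, hc]
  obtain ⟨P, hP⟩ := (IsPGroup.of_card (n := 1) (by rw [hZc, pow_one]) :
    IsPGroup 11 (Subgroup.zpowers c)).exists_le_sylow
  have hPcard : Nat.card P = 11 := by
    rw [P.card_eq_multiplicity, hfac, pow_one]
  have hPeq : (P : Subgroup L) = Subgroup.zpowers c :=
    (Subgroup.eq_of_le_of_card_ge hP (by rw [hPcard, hZc])).symm
  set g : Equiv.Perm GolayPt := (c : Equiv.Perm GolayPt) with hg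
  have hgord : orderOf g = 11 := (Subgroup.orderOf_coe c).trans hc
  have hgp : g p = p := (hL c.2).1.2
  have hgq : g q = q := (hL c.2).2
  have hfix : fixedPts g = {p, q} := by
    refine (Finset.eq_of_subset_of_card_le ?_ ?_).symm
    · intro x hx
      simp only [Finset.mem_insert, Finset.mem_singleton] at hx
      rcases hx with rfl | rfl <;> simp [hgp, hgq]
    · rw [fixedPts_eleven (hL c.2).1.1 hgord, Finset.card_pair hpq]
  set C := Subgroup.centralizer ((P : Subgroup L) : Set L) with hC
  have hCc : ∀ z ∈ C, ∀ y, g ((z : Equiv.Perm GolayPt) y) = (z : Equiv.Perm GolayPt) (g y) := by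
    intro z hz y
    have h1 : c * z = z * c := hz c (hPeq ▸ Subgroup.mem_zpowers c)
    exact Equiv.Perm.congr_fun (congrArg Subtype.val h1) y
  obtain ⟨x, -, hx⟩ := Finset.exists_mem_notMem_of_card_lt_card
    (show (fixedPts g).card < (Finset.univ : Finset GolayPt).card by
      rw [hfix, Finset.card_pair hpq]; decide)
  rw [mem_fixedPts] at hx
  have hCle : Nat.card C ≤ 22 := by
    let f : C → {y : GolayPt // y ∉ fixedPts g} := fun z => ⟨(z.1 : Equiv.Perm GolayPt) x, by
      rw [mem_fixedPts, hCc z.1 z.2]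
      exact fun h => hx ((z.1 : Equiv.Perm GolayPt).injective h)⟩
    have hf : Function.Injective f := by
      intro z z' h
      have hzx : (z.1 : Equiv.Perm GolayPt) x = (z'.1 : Equiv.Perm GolayPt) x :=
        congrArg Subtype.val h
      set w : Equiv.Perm GolayPt := ((z⁻¹ * z' : C).1 : Equiv.Perm GolayPt) with hw
      have hwx : w x = x := by simp [hw, ← hzx]
      have hwL : w ∈ L := ((z⁻¹ * z' : C).1).2
      have hsub : {p, q} ∪ (orbSet (Subgroup.zpowers g) x).toFinite.toFinset ⊆ fixedPts w := by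
        intro y hy
        rw [mem_fixedPts]
        rcases Finset.mem_union.1 hy with hy | hy
        · simp only [Finset.mem_insert, Finset.mem_singleton] at hy
          rcases hy with rfl | rfl
          · exact (hL hwL).1.2
          · exact (hL hwL).2
        · rw [Set.Finite.mem_toFinset] at hy
          obtain ⟨k, hk, rfl⟩ := hy
          have hcomm : Commute w k := by
            obtain ⟨i, rfl⟩ := Subgroup.mem_zpowers_iff.1 hk
            refine Commute.zpow_right ?_ i
            exact Equiv.ext fun y => (hCc _ (z⁻¹ * z' : C).2 y).symm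
          have := Equiv.Perm.congr_fun hcomm.eq x
          simp only [Equiv.Perm.mul_apply] at this
          rw [this, hwx]
      have hw1 : w = 1 := by
        refine eq_one_of_nine_fixed (hL hwL).1.1 (le_trans ?_ (Finset.card_le_card hsub))
        refine le_trans ?_ (Finset.card_le_card Finset.subset_union_right)
        rw [← Set.ncard_eq_toFinset_card _, ncard_orbSet_zpowers (by norm_num) hgord hx]
        norm_num
      have : (z⁻¹ * z' : C) = 1 := Subtype.ext (Subtype.ext hw1)
      exact inv_mul_eq_one.1 this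
    refine (Nat.card_le_card_of_injective f hf).trans ?_
    rw [Nat.card_eq_fintype_card, Fintype.card_subtype_compl, Fintype.card_coe, hfix,
      Finset.card_pair hpq]
    decide
  have hcyc : IsCyclic (P : Subgroup L) := isCyclic_of_prime_card hPcard
  have hPC : (P : Subgroup L) ≤ C := by
    rw [hC, hPeq, Subgroup.le_centralizer_iff_isMulCommutative]
    infer_instance
  have hC11 : 11 ∣ Nat.card C := hPcard ▸ Subgroup.card_dvd_of_le hPC
  set N := Subgroup.normalizer ((P : Subgroup L) : Set L) with hN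
  have hker : Nat.card (P : Subgroup L).normalizerMonoidHom.ker = Nat.card C := by
    rw [Subgroup.normalizerMonoidHom_ker]
    refine Nat.card_congr (Subgroup.subgroupOfEquivOfLe fun z hz => ?_).toEquiv
    rw [Subgroup.mem_normalizer_iff]
    intro y
    constructor
    · intro hy
      rw [← (hz y hy : y * z = z * y), mul_inv_cancel_right]
      exact hy
    · intro hy
      have h1 : z * y * z⁻¹ * z = z * (z * y * z⁻¹) := hz _ hy
      rw [inv_mul_cancel_right] at h1
      rw [← mul_left_cancel h1] at hy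
      exact hy
  have hidx := Subgroup.card_mul_index (P : Subgroup L).normalizerMonoidHom.ker
  rw [hker, Subgroup.index_ker] at hidx
  have hrange : Nat.card (P : Subgroup L).normalizerMonoidHom.range ∣ 10 := by
    refine (Subgroup.card_subgroup_dvd_card _).trans ?_
    rw [IsCyclic.card_mulAut, hPcard, Nat.totient_prime (by norm_num)]
  have hN220 : Nat.card N ∣ 220 := by
    rw [← hidx, show 220 = 22 * 10 from rfl]
    refine Nat.mul_dvd_mul ?_ hrange
    obtain ⟨k, hk⟩ := hC11
    have : k ≤ 2 := by omega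
    have : 0 < Nat.card C := Nat.card_pos
    rw [hk]
    rcases (by omega : k = 1 ∨ k = 2) with rfl | rfl <;> norm_num
  have hNeq : Subgroup.normalizer ((Subgroup.zpowers c : Subgroup L) : Set L) = N := by
    rw [hN, hPeq]
  rw [hNeq]
  refine ⟨N.index, hN220, Subgroup.card_mul_index N, ?_⟩
  have hmod := card_sylow_modEq_one 11 L
  rw [P.card_eq_index_normalizer] at hmod
  exact hmod

theorem facts :
    autoOK tabFive = true ∧ autoOK tabEleven = true ∧ autoOK tabSwap = true ∧
    CfsgLib.Mathieu.orderTabOK 5 tabFive = true ∧ CfsgLib.Mathieu.orderTabOK 11 tabEleven = true ∧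
    compTab tabFive tabEleven = compTab (CfsgLib.Mathieu.powTab tabEleven 4) tabFive ∧
    compTab tabSwap tabFive = compTab (CfsgLib.Mathieu.powTab tabFive 3) tabSwap ∧
    CfsgLib.Mathieu.orderTabOK 7 (compTab (compTab tabFive tabSwap) tabEleven) = true ∧
    (∀ i < 4, app tabFive i = i) ∧ ((List.range 24).filter fun i => app tabFive i == i) = [0, 1, 2, 3] ∧
    app tabEleven 0 = 0 ∧ app tabEleven 1 = 1 ∧ app tabSwap 0 = 0 ∧ app tabSwap 1 = 1 ∧
    app tabSwap 2 = 3 ∧
    (fixList4.filter fun t => (List.range 5).any fun j =>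
      compTab t tabFive == compTab (CfsgLib.Mathieu.powTab tabFive j) t).length ≤ 10 := by
  decide +kernel

/-- The two-point stabiliser at the base points. -/
abbrev G22 : Subgroup (Equiv.Perm GolayPt) := fixPt (fixPt M24 (i2p 0)) (i2p 1)

/-- The normaliser of a cyclic group inside all permutations. -/
abbrev nm (ρ : Equiv.Perm GolayPt) : Subgroup (Equiv.Perm GolayPt) :=
  Subgroup.normalizer ((Subgroup.zpowers ρ : Subgroup (Equiv.Perm GolayPt)) : Set (Equiv.Perm GolayPt))

theorem exists_pow_of_mem_nm {ρ x : Equiv.Perm GolayPt} {p : ℕ} (hρ : orderOf ρ = p)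
    (hx : x ∈ nm ρ) : ∃ j < p, x * ρ = ρ ^ j * x := by
  have h := (Subgroup.mem_normalizer_iff.1 hx ρ).1 (Subgroup.mem_zpowers ρ)
  rw [(isOfFinOrder_of_finite ρ).mem_zpowers_iff_mem_range_orderOf] at h
  obtain ⟨j, hj, e⟩ := Finset.mem_image.1 h
  exact ⟨j, hρ ▸ Finset.mem_range.1 hj, by rw [e]; group⟩

theorem mem_nm {ρ x : Equiv.Perm GolayPt} {j : ℕ} (hj : x * ρ = ρ ^ j * x) : x ∈ nm ρ := by
  have e : x * ρ * x⁻¹ = ρ ^ j := by rw [hj]; group
  have hsub : (Subgroup.zpowers ρ).map (MulAut.conj x).toMonoidHom ≤ Subgroup.zpowers ρ := by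
    rw [MonoidHom.map_zpowers, Subgroup.zpowers_le]
    show x * ρ * x⁻¹ ∈ _
    rw [e]; exact Subgroup.pow_mem _ (Subgroup.mem_zpowers ρ) j
  have heq := Subgroup.eq_of_le_of_card_ge hsub
    (le_of_eq (Subgroup.card_map_of_injective (MulAut.conj x).injective).symm)
  rw [Subgroup.mem_normalizer_iff]
  intro h
  conv_rhs => rw [← heq]
  exact ⟨fun hh => ⟨h, hh, rfl⟩, fun ⟨y, hy, ey⟩ => by
    rwa [← (MulAut.conj x).injective (ey.trans rfl : MulAut.conj x y = MulAut.conj x h)]⟩

theorem normalizer_subgroupOf {K : Subgroup (Equiv.Perm GolayPt)} {ρ : Equiv.Perm GolayPt}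
    (hρ : ρ ∈ K) :
    Subgroup.normalizer ((Subgroup.zpowers (⟨ρ, hρ⟩ : K) : Subgroup K) : Set K) =
      (nm ρ).subgroupOf K := by
  have hmem : ∀ h : K, h ∈ Subgroup.zpowers (⟨ρ, hρ⟩ : K) ↔
      (h : Equiv.Perm GolayPt) ∈ Subgroup.zpowers ρ := fun h => by
    rw [← Subgroup.mem_map_iff_mem K.subtype_injective, MonoidHom.map_zpowers]
    rfl
  have hle : Subgroup.zpowers ρ ≤ K := Subgroup.zpowers_le.2 hρ
  ext k
  rw [Subgroup.mem_subgroupOf, Subgroup.mem_normalizer_iff, Subgroup.mem_normalizer_iff]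
  constructor
  · intro h g
    constructor
    · intro hg
      exact (hmem _).1 ((h ⟨g, hle hg⟩).1 ((hmem _).2 hg))
    · intro hg
      have hgK : g ∈ K := by
        rw [show g = (k : Equiv.Perm GolayPt)⁻¹ *
          ((k : Equiv.Perm GolayPt) * g * (k : Equiv.Perm GolayPt)⁻¹) * k by group]
        exact K.mul_mem (K.mul_mem (K.inv_mem k.2) (hle hg)) k.2
      exact (hmem ⟨g, hgK⟩).1 ((h ⟨g, hgK⟩).2 ((hmem _).2 hg))
  · intro h g
    rw [hmem, hmem]
    exact h g

theorem card_inf_nm {K : Subgroup (Equiv.Perm GolayPt)} {ρ : Equiv.Perm GolayPt} (hρ : ρ ∈ K) :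
    Nat.card (Subgroup.normalizer ((Subgroup.zpowers (⟨ρ, hρ⟩ : K) : Subgroup K) : Set K)) =
      Nat.card (K ⊓ nm ρ : Subgroup (Equiv.Perm GolayPt)) := by
  rw [normalizer_subgroupOf hρ, ← Subgroup.inf_subgroupOf_left,
    Nat.card_congr (Subgroup.subgroupOfEquivOfLe (inf_le_left : K ⊓ nm ρ ≤ K)).toEquiv]

theorem eleven_count {K : Subgroup (Equiv.Perm GolayPt)} (hK : K ≤ G22)
    (hfac : (Nat.card K).factorization 11 = 1) {ρ : Equiv.Perm GolayPt} (hρ : ρ ∈ K)
    (hord : orderOf ρ = 11) : ∃ n, Nat.card (K ⊓ nm ρ : Subgroup (Equiv.Perm GolayPt)) ∣ 220 ∧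
      Nat.card (K ⊓ nm ρ : Subgroup (Equiv.Perm GolayPt)) * n = Nat.card K ∧ n % 11 = 1 := by
  rw [← card_inf_nm hρ]
  exact card_normalizer_eleven (show i2p 0 ≠ i2p 1 by decide) hK hfac
    (by rw [← Subgroup.orderOf_coe]; exact hord)

theorem five_count {K : Subgroup (Equiv.Perm GolayPt)}
    (hfac : (Nat.card K).factorization 5 = 1) {ρ : Equiv.Perm GolayPt} (hρ : ρ ∈ K)
    (hord : orderOf ρ = 5) : ∃ n,
      Nat.card (K ⊓ nm ρ : Subgroup (Equiv.Perm GolayPt)) * n = Nat.card K ∧ n % 5 = 1 := by
  haveI : Fact (Nat.Prime 5) := ⟨by norm_num⟩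
  have hc : orderOf (⟨ρ, hρ⟩ : K) = 5 := by rw [← Subgroup.orderOf_coe]; exact hord
  let P : Sylow 5 K := Sylow.ofCard (Subgroup.zpowers (⟨ρ, hρ⟩ : K))
    (by rw [Nat.card_zpowers, hc, hfac, pow_one])
  rw [← card_inf_nm hρ]
  refine ⟨_, Subgroup.card_mul_index _, ?_⟩
  have hidx : Nat.card (Sylow 5 K) = (Subgroup.normalizer
      ((Subgroup.zpowers (⟨ρ, hρ⟩ : K) : Subgroup K) : Set K)).index := P.card_eq_index_normalizer
  exact hidx ▸ card_sylow_modEq_one 5 K

theorem no_subgroup {K : Subgroup (Equiv.Perm GolayPt)} (hK : K ≤ G22) :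
    Nat.card K ≠ 7920 ∧ Nat.card K ≠ 2112 := by
  haveI : Fact (Nat.Prime 11) := ⟨by norm_num⟩
  haveI : Fact (Nat.Prime 5) := ⟨by norm_num⟩
  obtain ⟨ac, ar, ay, oc, or_, ecr, eyc, ow, cfix4, cfixall, r0, r1, y0, y1, y2, hcount⟩ := facts
  obtain ⟨c, hcM, hct⟩ := rep_of_autoOK ac
  obtain ⟨r, hrM, hrt⟩ := rep_of_autoOK ar
  obtain ⟨y, hyM, hyt⟩ := rep_of_autoOK ay
  have hfixed : ∀ {g : Equiv.Perm GolayPt} {t : List ℕ} {i j : ℕ}, toTab g = t → i < 24 → j < 24 →
      app t i = j → g (i2p i) = i2p j := by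
    intro g t i j hg hi hj h
    apply p2i_injective
    rw [← app_toTab g i hi, hg, h, p2i_i2p j hj]
  have hG : ∀ {g : Equiv.Perm GolayPt} {t : List ℕ}, g ∈ M24 → toTab g = t → app t 0 = 0 →
      app t 1 = 1 → g ∈ G22 := fun hg e e0 e1 =>
    ⟨⟨hg, hfixed e (by norm_num) (by norm_num) e0⟩, hfixed e (by norm_num) (by norm_num) e1⟩
  have hcG := hG hcM hct (cfix4 0 (by norm_num)) (cfix4 1 (by norm_num))
  have hrG := hG hrM hrt r0 r1
  have hyG := hG hyM hyt y0 y1
  have hro : orderOf r = 11 := CfsgLib.Mathieu.orderOf_of_tab (by norm_num) (by rw [hrt]; exact or_)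
  have hco : orderOf c = 5 := CfsgLib.Mathieu.orderOf_of_tab (by norm_num) (by rw [hct]; exact oc)
  have hcr : c ∈ nm r := mem_nm (j := 4) (CfsgLib.Mathieu.toTab_injective (by
    rw [toTab_mul, toTab_mul, CfsgLib.Mathieu.toTab_pow, hct, hrt, ecr]))
  have hyc : y ∈ nm c := mem_nm (j := 3) (CfsgLib.Mathieu.toTab_injective (by
    rw [toTab_mul, toTab_mul, CfsgLib.Mathieu.toTab_pow, hct, hyt, eyc]))
  have hGcard : Nat.card G22 = 443520 := card_fixPair (by decide)
  have hfac : ∀ {q a b : ℕ}, q.Prime → a = q * b → ¬ q ∣ b → a.factorization q = 1 := by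
    intro q a b hq e hb
    rw [e, Nat.factorization_mul hq.ne_zero (fun h => hb (by rw [h]; exact dvd_zero q)), Finsupp.add_apply,
      Nat.Prime.factorization_self hq, Nat.factorization_eq_zero_of_not_dvd hb]
  have hG11 : (Nat.card G22).factorization 11 = 1 := by
    rw [hGcard]; exact hfac (by norm_num) (show 443520 = 11 * 40320 by norm_num) (by norm_num)
  -- the normaliser in the whole two-point stabiliser
  obtain ⟨nG, hG220, hnG, hnG1⟩ := eleven_count le_rfl hG11 hrG hro
  rw [hGcard] at hnG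
  have hN55 : Nat.card (G22 ⊓ nm r : Subgroup (Equiv.Perm GolayPt)) = 55 := by
    have hall : ∀ d ∈ Nat.divisors 220, 443520 % d = 0 → 443520 / d % 11 = 1 → d = 55 := by
      decide +kernel
    refine hall _ (Nat.mem_divisors.2 ⟨hG220, by norm_num⟩) ?_ ?_
    · rw [← hnG, Nat.mul_mod_right]
    · rw [← hnG, Nat.mul_div_cancel_left _ Nat.card_pos]; exact hnG1
  -- conjugate so that the standard element of order eleven lies in the subgroup
  have hmove : ∀ {n : ℕ}, Nat.card K = 11 * n → ¬ 11 ∣ n → ∃ K' : Subgroup (Equiv.Perm GolayPt),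
      K' ≤ G22 ∧ Nat.card K' = Nat.card K ∧ r ∈ K' := by
    intro n hn hn'
    obtain ⟨a, ha⟩ := exists_prime_orderOf_dvd_card' (G := K) 11 ⟨n, hn⟩
    have hro' : orderOf (⟨r, hrG⟩ : G22) = 11 := by rw [← Subgroup.orderOf_coe]; exact hro
    have hao : orderOf (⟨a, hK a.2⟩ : G22) = 11 := by
      rw [← Subgroup.orderOf_coe]; exact (Subgroup.orderOf_coe a).trans ha
    obtain ⟨g, hg⟩ := MulAction.exists_smul_eq G22
      (Sylow.ofCard (Subgroup.zpowers (⟨a, hK a.2⟩ : G22))
        (by rw [Nat.card_zpowers, hao, hG11, pow_one]) : Sylow 11 G22)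
      (Sylow.ofCard (Subgroup.zpowers (⟨r, hrG⟩ : G22))
        (by rw [Nat.card_zpowers, hro', hG11, pow_one]))
    have he : (Subgroup.zpowers (⟨a, hK a.2⟩ : G22)).map (MulAut.conj g).toMonoidHom =
        Subgroup.zpowers (⟨r, hrG⟩ : G22) := congrArg Sylow.toSubgroup hg
    obtain ⟨z, hz, ez⟩ := Subgroup.mem_map.1 (he.ge (Subgroup.mem_zpowers _))
    refine ⟨K.map (MulAut.conj (g : Equiv.Perm GolayPt)).toMonoidHom, ?_,
      Subgroup.card_map_of_injective (MulAut.conj _).injective, ?_⟩
    · rintro _ ⟨k, hk, rfl⟩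
      exact G22.mul_mem (G22.mul_mem g.2 (hK hk)) (G22.inv_mem g.2)
    · obtain ⟨i, rfl⟩ := Subgroup.mem_zpowers_iff.1 hz
      exact ⟨_, K.zpow_mem a.2 i, congrArg Subtype.val ez⟩
  constructor
  · intro hcard
    obtain ⟨K', hK', hc', hrK⟩ := hmove (n := 720) (by omega) (by norm_num)
    rw [hcard] at hc'
    obtain ⟨n, h220, hn, hn1⟩ := eleven_count hK'
      (by rw [hc']; exact hfac (by norm_num) (show 7920 = 11 * 720 by norm_num) (by norm_num))
      hrK hro
    rw [hc'] at hn
    have h55 : Nat.card (K' ⊓ nm r : Subgroup (Equiv.Perm GolayPt)) = 55 := by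
      have hall : ∀ d ∈ Nat.divisors 220, 7920 % d = 0 → 7920 / d % 11 = 1 → d = 55 := by
        decide +kernel
      refine hall _ (Nat.mem_divisors.2 ⟨h220, by norm_num⟩) ?_ ?_
      · rw [← hn, Nat.mul_mod_right]
      · rw [← hn, Nat.mul_div_cancel_left _ Nat.card_pos]; exact hn1
    have hcK : c ∈ K' := by
      have e : K' ⊓ nm r = G22 ⊓ nm r :=
        Subgroup.eq_of_le_of_card_ge (inf_le_inf_right _ hK') (by rw [h55, hN55])
      exact (e.ge ⟨hcG, hcr⟩).1
    -- the normaliser of the element of order five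
    have hle20 : Nat.card (G22 ⊓ nm c : Subgroup (Equiv.Perm GolayPt)) ≤ 20 := by
      have hUc : ({i2p 2, i2p 3} : Finset GolayPt).card = 2 := by decide
      refine (card_le_of_preserves (U := {i2p 2, i2p 3}) (m := 10) ?_ ?_).trans
        (by rw [hUc]; decide)
      · intro g hg
        obtain ⟨j, hj5, ej⟩ := exists_pow_of_mem_nm hco hg.2
        refine smul_eq_of_forall_mem fun q hq => ?_
        have hcq : c q = q := by
          simp only [Finset.mem_insert, Finset.mem_singleton] at hq
          rcases hq with rfl | rfl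
          · exact hfixed hct (by norm_num) (by norm_num) (cfix4 2 (by norm_num))
          · exact hfixed hct (by norm_num) (by norm_num) (cfix4 3 (by norm_num))
        have hcgq : c (g q) = g q := by
          by_contra hne
          have hpow : (c ^ j) (g q) = g q := by
            have := Equiv.Perm.congr_fun ej q
            simpa [hcq] using this.symm
          rcases Nat.eq_zero_or_pos j with rfl | hj
          · rw [pow_zero, one_mul, mul_eq_left] at ej
            rw [ej, orderOf_one] at hco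
            norm_num at hco
          · obtain ⟨k, hk⟩ := (show ∃ k, (c ^ j) ^ k = c from by
              refine exists_pow_eq_self_of_coprime ?_
              rw [hco]
              exact ((Nat.Prime.coprime_iff_not_dvd (by norm_num)).2 fun hd => by
                have := Nat.le_of_dvd hj hd; omega).symm)
            apply hne
            conv_lhs => rw [← hk]
            clear hk
            induction k with
            | zero => simp
            | succ k ih => rw [pow_succ, Equiv.Perm.mul_apply, hpow, ih]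
        have hmem : p2i (g q) ∈ [0, 1, 2, 3] := by
          rw [← cfixall, List.mem_filter, List.mem_range, beq_iff_eq]
          exact ⟨p2i_lt _, by rw [← hct, app_toTab', hcgq]⟩
        have hne : ∀ i ∈ [0, 1], p2i (g q) ≠ i := by
          intro i hi e
          have hgi : g (i2p i) = i2p i := by
            simp only [List.mem_cons, List.not_mem_nil, or_false] at hi
            rcases hi with rfl | rfl
            exacts [hg.1.1.2, hg.1.2]
          have hq' : q = i2p i := g.injective (by rw [hgi, ← e, i2p_p2i])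
          simp only [List.mem_cons, List.not_mem_nil, or_false] at hi
          simp only [Finset.mem_insert, Finset.mem_singleton] at hq
          rcases hi with rfl | rfl <;> rcases hq with rfl | rfl <;>
            exact absurd hq' (by decide)
        simp only [List.mem_cons, List.not_mem_nil, or_false] at hmem hne
        have h0 := hne 0 (Or.inl rfl)
        have h1 := hne 1 (Or.inr rfl)
        rw [Finset.mem_insert, Finset.mem_singleton]
        rcases hmem with e | e | e | e
        · exact absurd e h0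
        · exact absurd e h1
        · exact Or.inl (by rw [← e, i2p_p2i])
        · exact Or.inr (by rw [← e, i2p_p2i])
      · classical
        set M := (G22 ⊓ nm c) ⊓ fixingSubgroup (Equiv.Perm GolayPt)
          (({i2p 2, i2p 3} : Finset GolayPt) : Set GolayPt) with hM
        set F := fixList4.filter fun t => (List.range 5).any fun j =>
          compTab t tabFive == compTab (CfsgLib.Mathieu.powTab tabFive j) t
        have hmem : ∀ g : M, toTab (g : Equiv.Perm GolayPt) ∈ F.toFinset := by
          rintro ⟨g, hg⟩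
          rw [List.mem_toFinset, List.mem_filter, List.any_eq_true]
          obtain ⟨j, hj, ej⟩ := exists_pow_of_mem_nm hco hg.1.2
          refine ⟨toTab_mem_fixList4 (mem_base7Fix.2 ⟨hg.1.1.1.1, ?_⟩),
            j, List.mem_range.2 hj, ?_⟩
          · simp only [base7, List.take, List.mem_cons, List.not_mem_nil, or_false,
              forall_eq_or_imp, forall_eq]
            exact ⟨hg.1.1.1.2, hg.1.1.2, inf_fixing_apply hg (by simp),
              inf_fixing_apply hg (by simp)⟩
          · rw [beq_iff_eq, ← hct, ← CfsgLib.Mathieu.toTab_pow, ← toTab_mul, ← toTab_mul, ej]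
        have := Nat.card_le_card_of_injective (fun g : M => (⟨_, hmem g⟩ : ↥F.toFinset))
          (fun a b e => Subtype.ext (CfsgLib.Mathieu.toTab_injective (congrArg Subtype.val e)))
        rw [Nat.card_eq_fintype_card (α := ↥F.toFinset), Fintype.card_coe] at this
        exact this.trans ((List.toFinset_card_le _).trans hcount)
    obtain ⟨m, hm, hm1⟩ := five_count
      (by rw [hc']; exact hfac (by norm_num) (show 7920 = 5 * 1584 by norm_num) (by norm_num))
      hcK hco
    rw [hc'] at hm
    have hle : Nat.card (K' ⊓ nm c : Subgroup (Equiv.Perm GolayPt)) ≤ 20 :=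
      (Subgroup.card_le_of_le (inf_le_inf_right _ hK')).trans hle20
    have h5 : 5 ∣ Nat.card (K' ⊓ nm c : Subgroup (Equiv.Perm GolayPt)) := by
      rw [← hco]
      exact Subgroup.orderOf_coe (⟨c, hcK, mem_nm (j := 1) (by rw [pow_one])⟩ :
        ↥(K' ⊓ nm c)) ▸ orderOf_dvd_natCard _
    have h20 : Nat.card (K' ⊓ nm c : Subgroup (Equiv.Perm GolayPt)) = 20 := by
      obtain ⟨k, hk⟩ := h5
      have hk4 : k ≤ 4 := by omega
      rw [hk] at hm
      interval_cases k <;> omega
    have hyK : y ∈ K' := by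
      have e : K' ⊓ nm c = G22 ⊓ nm c :=
        Subgroup.eq_of_le_of_card_ge (inf_le_inf_right _ hK') (by rw [h20]; exact hle20)
      exact (e.ge ⟨hyG, hyc⟩).1
    have h7 : orderOf (c * y * r) = 7 := CfsgLib.Mathieu.orderOf_of_tab (by norm_num) (by
      rw [toTab_mul, toTab_mul, hct, hyt, hrt]; exact ow)
    have := orderOf_dvd_natCard (⟨c * y * r, K'.mul_mem (K'.mul_mem hcK hyK) hrK⟩ : K')
    rw [← Subgroup.orderOf_coe] at this
    simp only [h7, hc'] at this
    norm_num at this
  · intro hcard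
    obtain ⟨K', hK', hc', hrK⟩ := hmove (n := 192) (by omega) (by norm_num)
    rw [hcard] at hc'
    obtain ⟨n, h220, hn, hn1⟩ := eleven_count hK'
      (by rw [hc']; exact hfac (by norm_num) (show 2112 = 11 * 192 by norm_num) (by norm_num))
      hrK hro
    rw [hc'] at hn
    have hall : ∀ d ∈ Nat.divisors 220, 2112 % d = 0 → 2112 / d % 11 ≠ 1 := by decide +kernel
    refine hall _ (Nat.mem_divisors.2 ⟨h220, by norm_num⟩) ?_ ?_
    · rw [← hn, Nat.mul_mod_right]
    · rw [← hn, Nat.mul_div_cancel_left _ Nat.card_pos]; exact hn1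


/-- The stabiliser of two points in the group of the length-24 code has no subgroups of index 56 or 210. -/
theorem result (p q : Cfsg.GolayPt) (hpq : p ≠ q) (H : Subgroup ↥(MulAction.stabilizer Cfsg.M24 p ⊓ MulAction.stabilizer Cfsg.M24 q)) : H.index ≠ 56 ∧ H.index ≠ 210 := by
  obtain ⟨g, hg, hgp, hgq⟩ := exists_map_two (c := i2p 0) (d := i2p 1) hpq (by decide)
  let S := MulAction.stabilizer M24 p ⊓ MulAction.stabilizer M24 q
  let f : ↥S →* Equiv.Perm GolayPt :=
    (MulAut.conj g).toMonoidHom.comp (M24.subtype.comp S.subtype)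
  have hf : Function.Injective f :=
    (MulAut.conj g).injective.comp (M24.subtype_injective.comp S.subtype_injective)
  have hle : ∀ J : Subgroup ↥S, J.map f ≤ G22 := by
    rintro J _ ⟨k, -, rfl⟩
    exact ⟨⟨(conj_mem_M24_iff hg).2 k.1.2,
      (conj_fix_iff g _ p (i2p 0) hgp).2 k.2.1⟩, (conj_fix_iff g _ q (i2p 1) hgq).2 k.2.2⟩
  have htop : Nat.card ↥S = 443520 := by
    have e : (⊤ : Subgroup ↥S).map f = G22 := by
      refine le_antisymm (hle ⊤) fun z hz => ?_
      have hzM : g⁻¹ * z * g ∈ M24 := M24.mul_mem (M24.mul_mem (M24.inv_mem hg) hz.1.1) hg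
      have hp' : (g⁻¹ * z * g) p = p := by
        simp only [Equiv.Perm.mul_apply, hgp, show z (i2p 0) = i2p 0 from hz.1.2]
        rw [Equiv.Perm.coe_inv, Equiv.symm_apply_eq, hgp]
      have hq' : (g⁻¹ * z * g) q = q := by
        simp only [Equiv.Perm.mul_apply, hgq, show z (i2p 1) = i2p 1 from hz.2]
        rw [Equiv.Perm.coe_inv, Equiv.symm_apply_eq, hgq]
      refine ⟨⟨⟨_, hzM⟩, hp', hq'⟩, Subgroup.mem_top _, ?_⟩
      show g * (g⁻¹ * z * g) * g⁻¹ = z
      group
    rw [← Subgroup.card_top (G := ↥S), ← Subgroup.card_map_of_injective hf, e]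
    exact card_fixPair (by decide)
  have hcard := Subgroup.card_mul_index H
  rw [htop] at hcard
  obtain ⟨h56, h210⟩ := no_subgroup (hle H)
  rw [Subgroup.card_map_of_injective hf] at h56 h210
  constructor <;> intro e <;> rw [e] at hcard
  · exact h56 (Nat.eq_of_mul_eq_mul_right (show 0 < 56 by norm_num) (hcard.trans (by norm_num)))
  · exact h210 (Nat.eq_of_mul_eq_mul_right (show 0 < 210 by norm_num) (hcard.trans (by norm_num)))

end Cfsg.Agent.S1606
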