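import Cfsg.Statements.S3861
import Cfsg.Agent.LocalP.Basic
import Cfsg.Agent.Involution.BaerSuzuki
import Cfsg.Agent.Involution.Dihedral

set_option autoImplicit false
open Cfsg

namespace Cfsg.Agent.S3861

theorem card_comap_mk' {G : Type*} [Group G] [Finite G] (O : Subgroup G) [O.Normal]
    (Q : Subgroup (G ⧸ O)) : Nat.card (Q.comap (QuotientGroup.mk' O)) = Nat.card O * Nat.card Q := by
  have h1 := (Q.comap (QuotientGroup.mk' O)).card_mul_index
  rw [Subgroup.index_comap_of_surjective Q (QuotientGroup.mk'_surjective O)] at h1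
  have h2 := Q.card_mul_index
  have h3 := O.card_mul_index
  rw [show O.index = Nat.card (G ⧸ O) from rfl, ← h2, ← mul_assoc] at h3
  exact Nat.eq_of_mul_eq_mul_right (Nat.pos_of_ne_zero Subgroup.index_ne_zero_of_finite) (h1.trans h3.symm)

theorem exists_real_odd_of_not_normal {G : Type*} [Group G] [Finite G] (P : Sylow 2 G)
    (hP : ¬ (P : Subgroup G).Normal) :
    ∃ (q : ℕ) (x : G), q.Prime ∧ q ≠ 2 ∧ orderOf x = q ∧ IsConj x x⁻¹ := by
  classical
  set O := Cfsg.pCore 2 G with hO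
  have hOp : IsPGroup 2 O := CfsgLib.LocalP.isPGroup_pCore
  haveI : O.Normal := Cfsg.pCore_normal 2 G
  let π := QuotientGroup.mk' O
  obtain ⟨t, htP, htO⟩ : ∃ t ∈ (P : Subgroup G), t ∉ O := by
    by_contra h
    push Not at h
    exact hP ((P.is_maximal' hOp (show (P : Subgroup G) ≤ O from h)) ▸ Cfsg.pCore_normal 2 G)
  obtain ⟨k, hk⟩ : ∃ k, orderOf (π t) = 2 ^ (k + 1) := by
    obtain ⟨k, hk⟩ := (P.isPGroup' : IsPGroup 2 (P : Subgroup G)) ⟨t, htP⟩
    have h1 : orderOf (π t) ∣ 2 ^ k := by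
      apply orderOf_dvd_of_pow_eq_one
      rw [← map_pow]
      have := congrArg Subtype.val hk
      rw [Subgroup.coe_pow, Subgroup.coe_one] at this
      rw [this, map_one]
    obtain ⟨j, -, hj⟩ := (Nat.dvd_prime_pow Nat.prime_two).mp h1
    cases j with
    | zero =>
      exfalso; apply htO
      rw [pow_zero, orderOf_eq_one_iff] at hj
      exact (QuotientGroup.eq_one_iff t).mp hj
    | succ j => exact ⟨j, hj⟩
  set u := (π t) ^ (2 ^ k) with hu
  have hu2 : orderOf u = 2 := by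
    rw [hu, orderOf_pow' _ (pow_ne_zero _ (by norm_num)), hk,
      Nat.gcd_eq_right (pow_dvd_pow 2 (Nat.le_succ k)), Nat.pow_div (Nat.le_succ k) (by norm_num)]
    simp
  obtain ⟨g, hg⟩ : ∃ g, ¬ IsPGroup 2 ↥(Subgroup.closure ({u, g * u * g⁻¹} : Set (G ⧸ O))) := by
    by_contra h
    push Not at h
    obtain ⟨N, hN, hN2, huN⟩ := CfsgLib.Involution.baerSuzuki_mem u h
    have hpre : IsPGroup 2 (N.comap π) :=
      hN2.comap_of_ker_isPGroup π (by rw [QuotientGroup.ker_mk']; exact hOp)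
    have hle : N.comap π ≤ O := CfsgLib.LocalP.le_pCore (hN.comap π) hpre
    have : t ^ (2 ^ k) ∈ N.comap π := by
      rw [Subgroup.mem_comap, map_pow]; exact huN
    have h1 : π (t ^ (2 ^ k)) = 1 := (QuotientGroup.eq_one_iff _).mpr (hle this)
    rw [map_pow, ← hu] at h1
    rw [h1, orderOf_one] at hu2
    omega
  set v := g * u * g⁻¹ with hv
  have hv2 : orderOf v = 2 := by
    rw [hv, ← hu2]
    exact (MulAut.conj g).orderOf_eq u
  obtain ⟨q, hq, hq2, hqz⟩ : ∃ q, Nat.Prime q ∧ q ≠ 2 ∧ q ∣ orderOf (u * v) := by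
    by_contra h
    push Not at h
    apply hg
    have hz := Nat.eq_prime_pow_of_unique_prime_dvd (orderOf_pos (u * v)).ne'
      (fun {d} hd hdn => by_contra fun hne => h d hd hne hdn)
    intro w
    obtain ⟨i, hi | hi⟩ := CfsgLib.Involution.mem_closure_pair hu2 hv2 w.2
    · refine ⟨(orderOf (u * v)).primeFactorsList.length, Subtype.ext ?_⟩
      rw [Subgroup.coe_pow, Subgroup.coe_one, hi, ← hz, ← zpow_natCast, ← zpow_mul, mul_comm,
        zpow_mul, zpow_natCast, pow_orderOf_eq_one, one_zpow]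
    · refine ⟨1, Subtype.ext ?_⟩
      rw [Subgroup.coe_pow, Subgroup.coe_one, hi, pow_one, pow_two]
      rw [← mul_assoc, mul_assoc u ((u * v) ^ i) u, CfsgLib.Involution.zpow_mul_comm hu2 hv2,
        ← mul_assoc u u, CfsgLib.Involution.mul_self_of_orderOf_two hu2, one_mul, ← zpow_add,
        neg_add_cancel, zpow_zero]
  haveI : Fact q.Prime := ⟨hq⟩
  set y := (u * v) ^ (orderOf (u * v) / q) with hy
  have hyq : orderOf y = q := orderOf_pow_orderOf_div (orderOf_pos _).ne' hqz
  have hyinv : u * y * u⁻¹ = y⁻¹ := by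
    have hz : u * (u * v) * u⁻¹ = (u * v)⁻¹ := by
      rw [mul_inv_rev, CfsgLib.Involution.inv_eq_self_of_orderOf_two hu2,
        CfsgLib.Involution.inv_eq_self_of_orderOf_two hv2, ← mul_assoc u u,
        CfsgLib.Involution.mul_self_of_orderOf_two hu2, one_mul]
    rw [hy, ← conj_pow, hz, inv_pow]
  obtain ⟨x₀, hx₀⟩ := QuotientGroup.mk'_surjective O y
  obtain ⟨n, hn⟩ : q ∣ orderOf x₀ := hyq ▸ hx₀ ▸ orderOf_map_dvd π x₀
  -- an element of order `q` above a generator of `⟨y⟩`
  have hn0 : n ≠ 0 := by rintro rfl; simpa [(orderOf_pos x₀).ne'] using hn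
  let x := x₀ ^ n
  have hxq : orderOf x = q := by
    show orderOf (x₀ ^ n) = q
    rw [orderOf_pow' x₀ hn0, hn, Nat.gcd_eq_right (dvd_mul_left n q),
      Nat.mul_div_cancel _ (Nat.pos_of_ne_zero hn0)]
  have hx1 : π x ≠ 1 := by
    intro h
    obtain ⟨j, hj⟩ := hOp ⟨x, (QuotientGroup.eq_one_iff x).mp h⟩
    have : orderOf x ∣ 2 ^ j := orderOf_dvd_of_pow_eq_one (by simpa using congrArg Subtype.val hj)
    rw [hxq] at this
    exact hq2 ((Nat.prime_dvd_prime_iff_eq hq Nat.prime_two).mp (hq.dvd_of_dvd_pow this))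
  have hxinv : u * π x * u⁻¹ = (π x)⁻¹ := by
    show u * π (x₀ ^ n) * u⁻¹ = (π (x₀ ^ n))⁻¹
    rw [map_pow, show π x₀ = y from hx₀, ← conj_pow, hyinv, inv_pow]
  have hxπ : orderOf (π x) = q := orderOf_eq_prime (by rw [← map_pow, ← hxq, pow_orderOf_eq_one, map_one]) hx1
  obtain ⟨s, hs⟩ := QuotientGroup.mk'_surjective O u
  let R : Subgroup G := Subgroup.zpowers x
  let L : Subgroup G := (Subgroup.zpowers (π x)).comap π
  have hxL : x ∈ L := Subgroup.mem_zpowers (π x)
  have hRL : R ≤ L := by rw [Subgroup.zpowers_le]; exact hxL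
  let y' := s * x * s⁻¹
  have hy'L : y' ∈ L := by
    show π (s * x * s⁻¹) ∈ Subgroup.zpowers (π x)
    rw [map_mul, map_mul, map_inv, show π s = u from hs, hxinv]
    exact Subgroup.inv_mem _ (Subgroup.mem_zpowers _)
  have hy'q : orderOf y' = q := by
    rw [← hxq]; exact (MulAut.conj s).orderOf_eq x
  have hcardL : ∀ m, q ^ m ∣ Nat.card L → m ≤ 1 := by
    intro m hm
    have hc : Nat.card L = Nat.card O * q := by
      rw [← hxπ, ← Nat.card_zpowers]
      exact Cfsg.Agent.S3861.card_comap_mk' O _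
    obtain ⟨e, he⟩ := hOp.exists_card_eq
    rw [hc, he] at hm
    have h2 : q ^ m ∣ q :=
      (Nat.Coprime.pow m e ((Nat.coprime_primes hq Nat.prime_two).mpr hq2)).dvd_of_dvd_mul_left hm
    by_contra hlt
    have := Nat.le_of_dvd hq.pos ((pow_dvd_pow q (show 2 ≤ m by omega)).trans h2)
    nlinarith [hq.two_le]
  have hsyl : ∀ w : G, w ∈ L → orderOf w = q → ∃ W : Sylow q L, (W : Subgroup L) = (Subgroup.zpowers w).subgroupOf L := by
    intro w hw hwq
    have hle : Subgroup.zpowers w ≤ L := Subgroup.zpowers_le.mpr hw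
    have hc : Nat.card ((Subgroup.zpowers w).subgroupOf L) = q := by
      rw [Nat.card_congr (Subgroup.subgroupOfEquivOfLe hle).toEquiv, Nat.card_zpowers, hwq]
    refine ⟨Sylow.ofCard ((Subgroup.zpowers w).subgroupOf L) (hc.trans ?_), rfl⟩
    have h1 : 1 ≤ (Nat.card L).factorization q :=
      hq.factorization_pos_of_dvd Nat.card_pos.ne'
        (by rw [← hc]; exact Subgroup.card_subgroup_dvd_card _)
    have h2 : (Nat.card L).factorization q ≤ 1 := hcardL _ (Nat.ordProj_dvd _ _)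
    rw [show (Nat.card L).factorization q = 1 by omega, pow_one]
  obtain ⟨W, hW⟩ := hsyl x hxL hxq
  obtain ⟨W', hW'⟩ := hsyl y' hy'L hy'q
  obtain ⟨l, hl⟩ := MulAction.exists_smul_eq L W' W
  have hmem : (l : G) * y' * (l : G)⁻¹ ∈ Subgroup.zpowers x := by
    have h1 : l * ⟨y', hy'L⟩ * l⁻¹ ∈ (W : Subgroup L) := by
      rw [← hl, Sylow.coe_subgroup_smul]
      exact Subgroup.mem_pointwise_smul_iff_inv_smul_mem.mpr (by
        simp [hW', Subgroup.mem_subgroupOf, mul_assoc, Subgroup.mem_zpowers])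
    rw [hW, Subgroup.mem_subgroupOf] at h1
    simpa using h1
  obtain ⟨i, hi⟩ := Subgroup.mem_zpowers_iff.mp hmem
  refine ⟨q, x, hq, hq2, hxq, isConj_iff.mpr ⟨(l : G) * s, ?_⟩⟩
  have e : (l : G) * s * x * ((l : G) * s)⁻¹ = x ^ i := by rw [hi]; simp [y', mul_assoc]
  rw [e]
  have h1 : (π x) ^ i = (π x) ^ (-1 : ℤ) := by
    obtain ⟨j, hj⟩ := Subgroup.mem_zpowers_iff.mp (show π (l : G) ∈ Subgroup.zpowers (π x) from l.2)
    rw [← map_zpow, hi, map_mul, map_mul, map_inv, map_mul, map_mul, map_inv, show π s = u from hs,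
      hxinv, ← hj]
    group
  rw [zpow_eq_zpow_iff_modEq, hxπ] at h1
  rw [show x⁻¹ = x ^ (-1 : ℤ) from (zpow_neg_one x).symm, zpow_eq_zpow_iff_modEq, hxq]
  exact h1


/-- A finite group G has no non-identity element of odd order that is conjugate to its inverse if and only if the Sylow 2-subgroups of G are normal. -/
theorem result {G : Type*} [Group G] [Finite G] (P : Sylow 2 G) : (∀ x : G, x ≠ 1 → Odd (orderOf x) → ¬ IsConj x x⁻¹) ↔ (P : Subgroup G).Normal := by
  constructor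
  · intro h
    by_contra hP
    obtain ⟨q, x, hq, hq2, hx, hc⟩ := exists_real_odd_of_not_normal P hP
    refine h x ?_ (hx ▸ hq.odd_of_ne_two hq2) hc
    rintro rfl
    rw [orderOf_one] at hx
    exact hq.one_lt.ne hx
  · intro hP x hx hodd hc
    haveI := hP
    obtain ⟨g, hg⟩ := isConj_iff.mp hc
    let π := QuotientGroup.mk' (P : Subgroup G)
    have hidx : Odd (P : Subgroup G).index := by
      rw [← Nat.not_even_iff_odd, even_iff_two_dvd]
      exact P.not_dvd_index
    have hg' : π g * π x * (π g)⁻¹ = (π x)⁻¹ := by rw [← map_inv π g, ← map_mul, ← map_mul, hg, map_inv]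
    have hoddg : Odd (orderOf (π g)) := Odd.of_dvd_nat hidx (orderOf_dvd_natCard _)
    obtain ⟨k, hk⟩ := hoddg
    have h2 : π g * π g * π x = π x * (π g * π g) := by
      calc π g * π g * π x = π g * (π g * π x * (π g)⁻¹) * π g := by group
        _ = π g * (π x)⁻¹ * π g := by rw [hg']
        _ = (π g * π x * (π g)⁻¹)⁻¹ * (π g * π g) := by group
        _ = π x * (π g * π g) := by rw [hg', inv_inv]
    have hgx : π g * π x = π x * π g := by
      have he : π g = (π g * π g) ^ (k + 1) := by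
        rw [← pow_two, ← pow_mul, show 2 * (k + 1) = orderOf (π g) + 1 by omega, pow_succ,
          pow_orderOf_eq_one, one_mul]
      rw [he]; exact Commute.pow_left h2 (k + 1)
    rw [hgx, mul_inv_cancel_right, eq_inv_iff_mul_eq_one, ← pow_two] at hg'
    have hdvd : orderOf (π x) ∣ 2 := orderOf_dvd_of_pow_eq_one hg'
    have hcop : Nat.Coprime (orderOf x) 2 := Nat.coprime_two_right.mpr hodd
    have hπ : π x = 1 := orderOf_eq_one_iff.mp
      (Nat.eq_one_of_dvd_coprimes hcop (orderOf_map_dvd π x) hdvd)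
    have hxP : x ∈ (P : Subgroup G) := (QuotientGroup.eq_one_iff x).mp hπ
    obtain ⟨j, hj⟩ := P.isPGroup' ⟨x, hxP⟩
    apply hx
    apply orderOf_eq_one_iff.mp
    exact Nat.eq_one_of_dvd_coprimes (hcop.pow_right j) dvd_rfl
      (orderOf_dvd_of_pow_eq_one (by simpa using congrArg Subtype.val hj))

end Cfsg.Agent.S3861
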