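import Cfsg.Statements.S3888
import Cfsg.Agent.Eq.Def_CaseTheorems
import Cfsg.Agent.Eq.Def_OddOrderLocal
import Cfsg.Agent.RankTwoP.Forms

set_option autoImplicit false
open Cfsg

namespace Cfsg.Agent.S3888

open CfsgLib.RankTwoP

/-- The classification of the p-groups of rank at most two for odd p. Let p be an odd prime and G a group of order p^n with no elementary abelian subgroup of order p³. Then one of the following holds: G is metacyclic; n ≥ 3 and G is generated by elements x, y, z with x^p = y^p = z^(p^(n−2)) = 1, z commuting with x and y, and x⁻¹yx = y z^(p^(n−3)); n ≥ 4 and G is generated by elements x, y, z with x^p = y^p = z^(p^(n−2)) = 1, yz = zy, x⁻¹yx = y z^(s p^(n−3)) and x⁻¹zx = yz, where s = 1 or s is a quadratic non-residue modulo p; or p = 3 and G has maximal class (nilpotency class n − 1). -/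
theorem result {G : Type*} [Group G] [Finite G] {p : ℕ} [Fact p.Prime] (hp : p ≠ 2) (n : ℕ) (hG : Nat.card G = p ^ n)
    (hrk : Cfsg.PRankLE p 2 G) :
    Cfsg.IsMetacyclic G ∨
    (3 ≤ n ∧ ∃ x y z : G, Subgroup.closure ({x, y, z} : Set G) = ⊤ ∧ x ^ p = 1 ∧ y ^ p = 1 ∧ z ^ p ^ (n - 2) = 1 ∧
        x * z = z * x ∧ y * z = z * y ∧ x⁻¹ * y * x = y * z ^ p ^ (n - 3)) ∨
    (4 ≤ n ∧ ∃ (s : ℕ) (x y z : G), (s = 1 ∨ ¬ IsSquare (s : ZMod p)) ∧ Subgroup.closure ({x, y, z} : Set G) = ⊤ ∧
        x ^ p = 1 ∧ y ^ p = 1 ∧ z ^ p ^ (n - 2) = 1 ∧ y * z = z * y ∧ x⁻¹ * y * x = y * z ^ (s * p ^ (n - 3)) ∧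
        x⁻¹ * z * x = y * z) ∨
    (p = 3 ∧ 2 ≤ n ∧ (⊤ : Subgroup G).lowerCentralSeries (n - 2) ≠ ⊥) := by
  have hP : IsPGroup p G := IsPGroup.of_card hG
  by_cases hcyc : IsCyclic G
  · refine Or.inl ⟨⊤, inferInstance, inferInstance, ?_⟩
    exact @isCyclic_of_subsingleton _ _ QuotientGroup.subsingleton_quotient_top
  obtain ⟨W, hWn, hWe, hWc⟩ := CfsgLib.PGroup.exists_normal_elementary_sq hp hP hcyc
  have homega : ∀ x ∈ Subgroup.centralizer (W : Set G), x ^ p = 1 → x ∈ W := by
    intro x hx hxp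
    by_contra hxW
    set A := W ⊔ Subgroup.zpowers x with hA
    have hAcomm : IsMulCommutative A := by
      rw [← Subgroup.le_centralizer_iff_isMulCommutative, hA, sup_le_iff]
      have hWA : A ≤ Subgroup.centralizer (W : Set G) := by
        rw [hA, sup_le_iff, Subgroup.zpowers_le]
        exact ⟨fun v hv u hu => congrArg Subtype.val (hWe.1.1.comm ⟨u, hu⟩ ⟨v, hv⟩), hx⟩
      have hxA : A ≤ Subgroup.centralizer ({x} : Set G) := by
        rw [hA, sup_le_iff, Subgroup.zpowers_le]
        exact ⟨fun v hv => Subgroup.mem_centralizer_singleton_iff.mpr (hx v hv),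
          Subgroup.mem_centralizer_singleton_iff.mpr rfl⟩
      refine ⟨fun v hv a ha => (hWA ha v hv).symm, ?_⟩
      rw [Subgroup.zpowers_le]
      exact fun a ha => Subgroup.mem_centralizer_singleton_iff.mp (hxA ha)
    have hexp : ∀ a ∈ A, a ^ p = 1 := by
      intro a ha
      let f : A →* A :=
        { toFun := fun b => b ^ p, map_one' := one_pow p,
          map_mul' := fun b c => (show Commute b c from hAcomm.1.comm b c).mul_pow p }
      have hle : A ≤ f.ker.map A.subtype := by
        conv_lhs => rw [hA]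
        refine sup_le (fun v hv => ⟨⟨v, Subgroup.mem_sup_left hv⟩, ?_, rfl⟩) ?_
        · exact Subtype.ext (hWe.2 v hv)
        · rw [Subgroup.zpowers_le]
          exact ⟨⟨x, Subgroup.mem_sup_right (Subgroup.mem_zpowers x)⟩, Subtype.ext hxp, rfl⟩
      obtain ⟨b, hb, rfl⟩ := hle ha
      exact congrArg Subtype.val hb
    have hlt : W < A := lt_of_le_of_ne le_sup_left fun h =>
      hxW (h ▸ Subgroup.mem_sup_right (Subgroup.mem_zpowers x))
    have h1 := hrk A hAcomm hexp
    have h2 : Nat.card W < Nat.card A := Set.ncard_lt_ncard hlt (Set.toFinite _)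
    omega
  by_cases htop : Subgroup.centralizer (W : Set G) = ⊤
  · have hOC : OmegaCentral p G := fun x hx =>
      Subgroup.mem_center_iff.mpr fun g => le_center_of_mem_centralizer
        (homega x (htop ▸ Subgroup.mem_top x) hx) (htop ▸ Subgroup.mem_top g)
    refine Or.inl (isMetacyclic_of_powClosure_index_le hp hP
      ((powClosure_index_le hp hP hOC).trans ?_))
    rw [← hWc]
    exact Nat.le_of_dvd Nat.card_pos (Subgroup.card_dvd_of_le fun x hx =>
      homega x (htop ▸ Subgroup.mem_top x) hx)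
  have D : Data p W := ⟨hWn, hWe, hWc, homega, htop⟩
  rcases trichotomy hp hP W D with hQ | hS | hE
  · exact Or.inl (isMetacyclic_of_powClosure_index_le hp hP hQ)
  · exact Or.inr (Or.inr (Or.inr ⟨hS.1, hS.maximal_class hP D n hG⟩))
  · rcases hE.forms hp hP D n hG with h | h
    · exact Or.inr (Or.inl h)
    · exact Or.inr (Or.inr (Or.inl h))

end Cfsg.Agent.S3888
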