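import Cfsg.Statements.S0224
import Cfsg.Agent.Involution.Dihedral

set_option autoImplicit false
open Cfsg

namespace Cfsg.Agent.S0224

/-- Let H be a proper subgroup of even order of the finite group G. Then H is strongly embedded if and only if each involution of H fixes exactly one point (namely the coset H) in the action of G on the cosets of H. -/
theorem result {G : Type*} [Group G] [Finite G] (H : Subgroup G) (hH : H ≠ ⊤) (heven : Even (Nat.card H)) : Cfsg.IsStronglyEmbedded H ↔ ∀ t ∈ H, orderOf t = 2 → Nat.card {c : G ⧸ H // t • c = c} = 1 := by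
  have hfix : ∀ (t g : G), t • (g : G ⧸ H) = (g : G ⧸ H) ↔ g⁻¹ * t * g ∈ H := by
    intro t g
    rw [MulAction.Quotient.smul_coe, QuotientGroup.eq, smul_eq_mul, mul_inv_rev,
      ← inv_mem_iff (H := H), mul_inv_rev, mul_inv_rev, inv_inv, inv_inv, mul_assoc]
  constructor
  · rintro ⟨-, -, hse⟩ t ht ht2
    have hne : t • ((1 : G) : G ⧸ H) = ((1 : G) : G ⧸ H) := (hfix t 1).mpr (by simpa using ht)
    have : Subsingleton {c : G ⧸ H // t • c = c} := by
      suffices h : ∀ c : G ⧸ H, t • c = c → c = ((1 : G) : G ⧸ H) from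
        ⟨fun a b => Subtype.ext ((h a a.2).trans (h b b.2).symm)⟩
      intro c hc
      induction c using QuotientGroup.induction_on with
      | H g =>
        rw [hfix] at hc
        rw [QuotientGroup.eq, mul_one]
        by_contra hgH
        have hmem : t ∈ H ⊓ H.map (MulAut.conj g).toMonoidHom :=
          ⟨ht, ⟨g⁻¹ * t * g, hc, by simp [mul_assoc]⟩⟩
        have hd := orderOf_dvd_natCard (⟨t, hmem⟩ : ↥(H ⊓ H.map (MulAut.conj g).toMonoidHom))
        rw [Subgroup.orderOf_mk, ht2] at hd
        obtain ⟨k, hk⟩ := hse g (fun h => hgH (inv_mem h))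
        omega
    exact Nat.card_eq_one_iff_unique.mpr ⟨this, ⟨⟨_, hne⟩⟩⟩
  · intro huniq
    refine ⟨hH, heven, fun g hg => ?_⟩
    by_contra hodd
    rw [Nat.not_odd_iff_even, even_iff_two_dvd] at hodd
    obtain ⟨⟨t, ⟨htH, s, hsH, hst⟩⟩, ht2⟩ :=
      exists_prime_orderOf_dvd_card' (G := ↥(H ⊓ H.map (MulAut.conj g).toMonoidHom)) 2 hodd
    rw [← Subgroup.orderOf_coe] at ht2
    change orderOf t = 2 at ht2
    change g * s * g⁻¹ = t at hst
    obtain ⟨hsub, -⟩ := Nat.card_eq_one_iff_unique.mp (huniq t htH ht2)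
    have h1 : t • ((1 : G) : G ⧸ H) = ((1 : G) : G ⧸ H) := (hfix t 1).mpr (by simpa using htH)
    have h2 : t • ((g : G) : G ⧸ H) = ((g : G) : G ⧸ H) :=
      (hfix t g).mpr (by rw [← hst]; simpa [mul_assoc] using hsH)
    have := congrArg Subtype.val (hsub.elim ⟨_, h1⟩ ⟨_, h2⟩)
    rw [QuotientGroup.eq] at this
    exact hg (by simpa using this)

end Cfsg.Agent.S0224
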