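import Cfsg.Statements.S0113
import Cfsg.Agent.TwoGroup.MaximalClass
import Cfsg.Agent.TwoGroup.UniqueInvolution
import Cfsg.Agent.TwoGroup.CentralQuotient
import Cfsg.Agent.Eq.Def_Transfer

set_option autoImplicit false
open Cfsg

namespace Cfsg.Agent.S0113

/-- A 2-group of maximal class contains a cyclic subgroup of index 2. -/
theorem result {X : Type*} [Group X] [Finite X] (n : ℕ) (hn : 3 ≤ n) (hX : Nat.card X = 2 ^ n) (hc : Group.nilpotencyClass X = n - 1) : ∃ C : Subgroup X, IsCyclic C ∧ C.index = 2 := by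
  obtain ⟨m, r, s, -, -, ⟨F⟩⟩ :=
    (CfsgLib.TwoGroup.isMaxClassType_of_nilpotencyClass hX hn hc).exists_maxType_frame
  exact ⟨F.rot, F.isCyclic_rot, F.index_rot⟩

end Cfsg.Agent.S0113
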