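import Cfsg.Statements.S1244
import Cfsg.Agent.Eq.Def_CaseTheorems
import Cfsg.Agent.Transfer.AbelianFixed

set_option autoImplicit false
open Cfsg
open scoped IsMulCommutative

namespace Cfsg.Agent.S1244

/-- Let G be a finite group with no subgroup of index 2 whose Sylow 2-subgroup S is commutative, and let R ≤ S be a subgroup whose 2-rank is exactly one less than the 2-rank r of S. Then every involution of S is conjugate, by an element of N_G(S), to an element of R. -/
theorem result {G : Type*} [Group G] [Finite G] (hG : ∀ H : Subgroup G, H.index ≠ 2) (S : Sylow 2 G) (hS : IsMulCommutative (S : Subgroup G)) (r : ℕ) (hr1 : 1 ≤ r) (hSr : Cfsg.PRankLE 2 r (S : Subgroup G) ∧ ¬ Cfsg.PRankLE 2 (r - 1) (S : Subgroup G)) (R : Subgroup G) (hRS : R ≤ S) (hRr : Cfsg.PRankLE 2 (r - 1) R ∧ (r = 1 ∨ ¬ Cfsg.PRankLE 2 (r - 2) R)) (t : G) (ht : orderOf t = 2) (htS : t ∈ S) : ∃ n ∈ Subgroup.normalizer ((S : Subgroup G) : Set G), n * t * n⁻¹ ∈ R := by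
  haveI := hS
  set N := Subgroup.normalizer ((S : Subgroup G) : Set G) with hNdef
  let σ := Subgroup.normalizerMonoidHom (S : Subgroup G)
  letI : Fintype (N ⧸ σ.ker) := Fintype.ofFinite _
  set ts : (S : Subgroup G) := ⟨t, htS⟩ with hts
  have hts2 : ts ^ 2 = 1 := by
    apply Subtype.ext
    rw [SubmonoidClass.coe_pow, OneMemClass.coe_one, hts]
    exact (congrArg (fun k => t ^ k) ht).symm.trans (pow_orderOf_eq_one t)
  by_contra hno
  push Not at hno
  -- the elements of exponent two
  let E : Subgroup (S : Subgroup G) :=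
    { carrier := {a | a ^ 2 = 1}
      one_mem' := one_pow 2
      mul_mem' := fun {a b} ha hb => by
        simp only [Set.mem_setOf_eq] at *
        rw [Commute.mul_pow (mul_comm' a b), ha, hb, one_mul]
      inv_mem' := fun {a} ha => by
        simp only [Set.mem_setOf_eq] at *
        rw [inv_pow, ha, inv_one] }
  set H := R.subgroupOf (S : Subgroup G) ⊓ E with hH
  have hEc : Nat.card E = 2 ^ r := by
    obtain ⟨e, he⟩ := IsPGroup.iff_card.mp (S.2.to_subgroup E)
    have h1 : Nat.card E ≤ 2 ^ r := hSr.1 E inferInstance fun a ha => ha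
    have h2 : 2 ^ (r - 1) < Nat.card E := by
      obtain ⟨A, hA⟩ := not_forall.mp hSr.2
      push Not at hA
      exact lt_of_lt_of_le hA.2.2 (Subgroup.card_le_of_le fun a ha => hA.2.1 a ha)
    rw [he] at h1 h2 ⊢
    rw [Nat.pow_le_pow_iff_right (by norm_num)] at h1
    rw [Nat.pow_lt_pow_iff_right (by norm_num)] at h2
    congr 1
    omega
  have hHc : Nat.card H = 2 ^ (r - 1) := by
    let ψ := (Subgroup.subgroupOfEquivOfLe hRS)
    obtain ⟨e, he⟩ := IsPGroup.iff_card.mp (S.2.to_subgroup H)
    set HR := (H.map (S : Subgroup G).subtype).subgroupOf R with hHR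
    have hle : H.map (S : Subgroup G).subtype ≤ R := by
      rintro _ ⟨a, ha, rfl⟩
      exact ha.1
    have hcard : Nat.card HR = Nat.card H := by
      rw [hHR, Nat.card_congr (Subgroup.subgroupOfEquivOfLe hle).toEquiv,
        Subgroup.card_map_of_injective (S : Subgroup G).subtype_injective]
    have h1 : Nat.card H ≤ 2 ^ (r - 1) := by
      rw [← hcard]
      refine hRr.1 HR ⟨⟨fun a b => Subtype.ext (Subtype.ext ?_)⟩⟩ fun a ha => ?_
      · have h := congrArg Subtype.val (mul_comm' (⟨(a.1 : G), hRS a.1.2⟩ : (S : Subgroup G)) ⟨(b.1 : G), hRS b.1.2⟩)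
        simpa using h
      · obtain ⟨b, hb, hba⟩ := ha
        have hb2 : (b : G) ^ 2 = 1 := congrArg Subtype.val hb.2
        refine Subtype.ext ?_
        rw [SubmonoidClass.coe_pow, OneMemClass.coe_one]
        have hba' : (a : G) = (b : G) := hba.symm
        rw [hba']; exact hb2
    rw [he, Nat.pow_le_pow_iff_right (by norm_num)] at h1
    rw [he]
    congr 1
    rcases hRr.2 with hr | hr
    · omega
    · obtain ⟨A, hA⟩ := not_forall.mp hr
      push Not at hA
      have h2 : 2 ^ (r - 2) < Nat.card H := by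
        refine lt_of_lt_of_le hA.2.2 (hcard ▸ Subgroup.card_le_of_le fun a ha => ?_)
        refine ⟨⟨(a : G), hRS a.2⟩, ⟨a.2, Subtype.ext ?_⟩, rfl⟩
        have h := congrArg Subtype.val (hA.2.1 a ha)
        simp only [SubmonoidClass.coe_pow, OneMemClass.coe_one] at h ⊢
        exact h
      rw [he, Nat.pow_lt_pow_iff_right (by norm_num)] at h2
      omega
  have hidx : (H.subgroupOf E).index = 2 := by
    have h1 := (H.subgroupOf E).card_mul_index
    rw [Nat.card_congr (Subgroup.subgroupOfEquivOfLe (inf_le_right : H ≤ E)).toEquiv, hHc, hEc] at h1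
    refine Nat.eq_of_mul_eq_mul_left (pow_pos (by norm_num : 0 < 2) (r - 1)) (h1.trans ?_)
    rw [← pow_succ, Nat.sub_add_cancel hr1]
  -- the orbit product
  let f : N ⧸ σ.ker → E := fun q => ⟨σ q.out ts, by
    show (σ q.out ts) ^ 2 = 1
    rw [← map_pow, hts2, map_one]⟩
  have hf : ∀ n : N, ((f (QuotientGroup.mk n) : E) : (S : Subgroup G)) = σ n ts := by
    intro n
    obtain ⟨k, hk⟩ := QuotientGroup.mk_out_eq_mul σ.ker n
    show σ (QuotientGroup.mk n : N ⧸ σ.ker).out ts = σ n ts
    rw [hk, map_mul, MonoidHom.mem_ker.mp k.2, mul_one]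
  have hfH : ∀ q, f q ∉ H.subgroupOf E := by
    intro q hq
    exact hno (q.out : G) q.out.2 (Subgroup.mem_subgroupOf.mp hq.1)
  have hpar : ∀ F : Finset (N ⧸ σ.ker), ∏ q ∈ F, f q ∈ H.subgroupOf E ↔ Even F.card := by
    intro F
    classical
    induction F using Finset.induction with
    | empty => simp [one_mem]
    | insert a F ha ih =>
      rw [Finset.prod_insert ha, Subgroup.mul_mem_iff_of_index_two hidx, ih,
        Finset.card_insert_of_notMem ha, Nat.even_add_one, iff_false_left (hfH a)]
  set z := ∏ q, f q with hz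
  have hzfix : ∀ n : N, σ n (z : (S : Subgroup G)) = (z : (S : Subgroup G)) := by
    intro n
    rw [hz, SubmonoidClass.coe_finsetProd, map_prod]
    refine Fintype.prod_equiv (MulAction.toPerm n) _ _ fun q => ?_
    obtain ⟨m, rfl⟩ := QuotientGroup.mk_surjective q
    rw [MulAction.toPerm_apply, MulAction.Quotient.smul_mk, hf, hf, smul_eq_mul, map_mul]
    rfl
  have hz1 : ((z : (S : Subgroup G)) : G) = 1 := by
    refine CfsgLib.Transfer.eq_one_of_fixed_by_normalizer hG S (SetLike.coe_mem _) fun n hn => ?_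
    have h1 : n * ((z : (S : Subgroup G)) : G) * n⁻¹ = ((z : (S : Subgroup G)) : G) :=
      congrArg Subtype.val (hzfix ⟨n, hn⟩)
    exact mul_inv_eq_iff_eq_mul.mp h1
  have hzH : z ∈ H.subgroupOf E := by
    have : z = 1 := Subtype.ext (Subtype.ext hz1)
    rw [this]
    exact one_mem _
  rw [hz, hpar, Finset.card_univ] at hzH
  have hodd : ¬ 2 ∣ Fintype.card (N ⧸ σ.ker) := by
    rw [← Nat.card_eq_fintype_card, ← Subgroup.index_eq_card]
    intro h
    refine S.not_dvd_index (h.trans ?_)
    have hle : (S : Subgroup G).subgroupOf N ≤ σ.ker := by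
      rw [Subgroup.normalizerMonoidHom_ker]
      exact Subgroup.subgroupOf_mono N (Subgroup.le_centralizer (S : Subgroup G))
    refine (Subgroup.index_dvd_of_le hle).trans ?_
    rw [← Subgroup.relIndex_mul_index (Subgroup.le_normalizer : (S : Subgroup G) ≤ N)]
    exact dvd_mul_right _ _
  exact hodd (even_iff_two_dvd.mp hzH)

end Cfsg.Agent.S1244
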