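import Cfsg.Statements.S4665
import Cfsg.Agent.Eq.Def_Blocks
import Cfsg.Agent.Eq.Def_BlockRank
-- import your own Cfsg.Agent.* helpers here

set_option autoImplicit false
open Cfsg

namespace Cfsg.Agent.S4665


/-- The sum of an irreducible character over a subgroup is an integer multiple of its order. -/
theorem sum_subgroup_irr {G : Type*} [Group G] [Fintype G] (S : Subgroup G) [Fintype S]
    (ψ : Cfsg.IrrCharacter G) :
    ∃ k : ℤ, ∑ s : S, (ψ : G → ℂ) (s : G) = (Nat.card S : ℂ) * (k : ℂ) := by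
  obtain ⟨n, ρ, -, hρ⟩ := ψ.2
  have h0 : (Nat.card S : ℂ) ≠ 0 := by
    exact_mod_cast Nat.card_pos.ne'
  haveI : Invertible (Nat.card S : ℂ) := invertibleOfNonzero h0
  let σ : Representation ℂ S (Fin n → ℂ) := ρ.comp S.subtype
  have h := Representation.card_inv_mul_sum_char_eq_finrank σ
  refine ⟨(Module.finrank ℂ (Representation.invariants σ) : ℤ), ?_⟩
  rw [Int.cast_natCast, ← h, ← mul_assoc, mul_inv_cancel₀ h0, one_mul]
  refine Finset.sum_congr rfl fun s _ => ?_
  rw [← hρ]; rfl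

/-- Fix a prime p, a maximal ideal M of the algebraic integers containing p, and a p-block B of the finite group G, and let p^a be the p-part of the order of G. Let χ be an integer combination of the irreducible characters in B. If the function that agrees with χ on p-regular elements and vanishes on p-singular elements is again an integer combination of the irreducible characters in B, then p^a divides χ(1). -/
theorem result {G : Type*} [Group G] [Fintype G] (p : ℕ) [Fact p.Prime] (M : Ideal Cfsg.AlgInt) (hM : Cfsg.IsPModular p M) (B : Set (Cfsg.IrrCharacter G)) (hB : Cfsg.IsPBlock M B) (χ : G → ℂ) (hχ : (∃ n : Cfsg.IrrCharacter G → ℤ, ∀ g : G, χ g = ∑ᶠ ψ ∈ B, (n ψ : ℂ) * (ψ : G → ℂ) g)) (h0 : (∃ n : Cfsg.IrrCharacter G → ℤ, ∀ g : G, Cfsg.pRegularPart p χ g = ∑ᶠ ψ ∈ B, (n ψ : ℂ) * (ψ : G → ℂ) g)) : ∃ k : ℤ, χ 1 = (p ^ (Nat.card G).factorization p : ℂ) * k := by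
  classical
  obtain ⟨n, hn⟩ := h0
  obtain ⟨S⟩ : Nonempty (Sylow p G) := inferInstance
  have hS : Nat.card (S : Subgroup G) = p ^ (Nat.card G).factorization p :=
    Sylow.card_eq_multiplicity S
  choose k hk using fun ψ : Cfsg.IrrCharacter G => sum_subgroup_irr (S : Subgroup G) ψ
  have hsum : ∑ s : (S : Subgroup G), Cfsg.pRegularPart p χ (s : G) = χ 1 := by
    rw [Finset.sum_eq_single (1 : (S : Subgroup G))]
    · simp [Cfsg.pRegularPart, Cfsg.IsPRegular, (Fact.out : p.Prime).ne_one]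
    · intro s _ hs
      have : p ∣ orderOf (s : G) := by
        obtain ⟨j, hj⟩ := (IsPGroup.iff_orderOf.mp S.isPGroup') s
        rw [Subgroup.orderOf_coe, hj]
        rcases j with _ | j
        · exact absurd (orderOf_eq_one_iff.mp (by simpa using hj)) hs
        · exact dvd_pow_self p (Nat.succ_ne_zero j)
      simp only [Cfsg.pRegularPart]
      exact if_neg (not_not_intro this)
    · intro h; exact absurd (Finset.mem_univ _) h
  set T : Set (Cfsg.IrrCharacter G) := {ψ | ψ ∈ B ∧ n ψ ≠ 0} with hT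
  have hB' : ∀ g : G, (∑ᶠ ψ ∈ B, (n ψ : ℂ) * (ψ : G → ℂ) g) =
      ∑ᶠ ψ ∈ T, (n ψ : ℂ) * (ψ : G → ℂ) g := by
    intro g
    apply finsum_mem_inter_support_eq
    ext ψ
    simp only [Set.mem_inter_iff, Function.mem_support, hT, Set.mem_setOf_eq]
    constructor
    · rintro ⟨h1, h2⟩; exact ⟨⟨h1, fun h => h2 (by simp [h])⟩, h2⟩
    · rintro ⟨⟨h1, -⟩, h2⟩; exact ⟨h1, h2⟩
  by_cases hTf : T.Finite
  · refine ⟨∑ ψ ∈ hTf.toFinset, n ψ * k ψ, ?_⟩
    rw [← hsum]
    have h1 : ∀ s : (S : Subgroup G), Cfsg.pRegularPart p χ (s : G) =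
        ∑ ψ ∈ hTf.toFinset, (n ψ : ℂ) * (ψ : G → ℂ) (s : G) := by
      intro s
      rw [hn, hB', finsum_mem_eq_finite_toFinset_sum _ hTf]
    simp only [h1]
    rw [Finset.sum_comm, Int.cast_sum, Finset.mul_sum]
    refine Finset.sum_congr rfl fun ψ _ => ?_
    rw [← Finset.mul_sum, hk ψ, hS]
    push_cast
    ring
  · refine ⟨0, ?_⟩
    have h1 : χ 1 = ∑ᶠ ψ ∈ T, (n ψ : ℂ) * (ψ : G → ℂ) 1 := by
      rw [← hB', ← hn]
      simp [Cfsg.pRegularPart, Cfsg.IsPRegular, (Fact.out : p.Prime).ne_one]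
    rw [h1, Int.cast_zero, mul_zero]
    apply finsum_mem_eq_zero_of_infinite
    apply Set.Infinite.mono (s := T) _ hTf
    intro ψ hψ
    refine ⟨hψ, ?_⟩
    simp only [Function.mem_support]
    refine mul_ne_zero (by exact_mod_cast hψ.2) ?_
    obtain ⟨m, ρ, hρ, hch⟩ := ψ.2
    rw [← hch, Representation.char_one, Module.finrank_fin_fun]
    intro h0
    have hm : m = 0 := by exact_mod_cast h0
    subst hm
    haveI := hρ
    haveI : Nontrivial (Subrepresentation ρ) := IsSimpleOrder.toNontrivial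
    obtain ⟨a, b, hab⟩ := exists_pair_ne (Subrepresentation ρ)
    exact hab (Subrepresentation.toSubmodule_injective (Subsingleton.elim _ _))

end Cfsg.Agent.S4665
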