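import Cfsg.Statements.S4200
import Mathlib

set_option autoImplicit false
open Cfsg

namespace Cfsg.Agent.S4200

theorem card_centralizer_le {X : Type*} [Group X] [Finite X] (Y : Subgroup X) (x : X) :
    Nat.card {b : X // Commute x b} ≤ Y.index * Nat.card {b : Y // Commute x (b : X)} := by
  classical
  let r : (X ⧸ Y) → X := fun c =>
    if h : ∃ b, Commute x b ∧ (b : X ⧸ Y) = c then h.choose else 1
  have hr : ∀ b, Commute x b → Commute x (r b) ∧ ((r b : X) : X ⧸ Y) = (b : X ⧸ Y) := by
    intro b h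
    have hex : ∃ b', Commute x b' ∧ (b' : X ⧸ Y) = (b : X ⧸ Y) := ⟨b, h, rfl⟩
    simp only [r, dif_pos hex]
    exact hex.choose_spec
  let F : {b : X // Commute x b} → (X ⧸ Y) × {b : Y // Commute x (b : X)} := fun b =>
    ((b.1 : X ⧸ Y), ⟨⟨(r b.1)⁻¹ * b.1, QuotientGroup.eq.1 (hr _ b.2).2⟩,
      (hr _ b.2).1.inv_right.mul_right b.2⟩)
  have hF : Function.Injective F := by
    intro b b' h
    simp only [F, Prod.mk.injEq, Subtype.mk.injEq] at h
    rw [h.1] at h
    exact Subtype.ext (mul_left_cancel h.2)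
  have := Nat.card_le_card_of_injective F hF
  rwa [Nat.card_prod, ← Subgroup.index_eq_card] at this

theorem card_centralizer_lt {X : Type*} [Group X] [Finite X] (Y : Subgroup X) {y x : X}
    (hy : y ∈ Y) (hx : x * y * x⁻¹ ∉ Y) :
    Nat.card {b : X // Commute y b} < Y.index * Nat.card {b : Y // Commute y (b : X)} := by
  classical
  let r : (X ⧸ Y) → X := fun c =>
    if h : ∃ b, Commute y b ∧ (b : X ⧸ Y) = c then h.choose else 1
  have hr : ∀ b, Commute y b → Commute y (r b) ∧ ((r b : X) : X ⧸ Y) = (b : X ⧸ Y) := by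
    intro b h
    have hex : ∃ b', Commute y b' ∧ (b' : X ⧸ Y) = (b : X ⧸ Y) := ⟨b, h, rfl⟩
    simp only [r, dif_pos hex]
    exact hex.choose_spec
  let F : {b : X // Commute y b} → (X ⧸ Y) × {b : Y // Commute y (b : X)} := fun b =>
    ((b.1 : X ⧸ Y), ⟨⟨(r b.1)⁻¹ * b.1, QuotientGroup.eq.1 (hr _ b.2).2⟩,
      (hr _ b.2).1.inv_right.mul_right b.2⟩)
  have hF : Function.Injective F := by
    intro b b' h
    simp only [F, Prod.mk.injEq, Subtype.mk.injEq] at h
    rw [h.1] at h
    exact Subtype.ext (mul_left_cancel h.2)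
  have hns : ¬ Function.Surjective F := by
    intro hs
    obtain ⟨b, hb⟩ := hs (((x⁻¹ : X) : X ⧸ Y), ⟨1, Commute.one_right _⟩)
    simp only [F, Prod.mk.injEq] at hb
    have h1 := QuotientGroup.eq.1 hb.1
    apply hx
    have e : x * y * x⁻¹ = (b.1⁻¹ * x⁻¹)⁻¹ * y * (b.1⁻¹ * x⁻¹) := by
      calc x * y * x⁻¹ = x * (b.1 * b.1⁻¹ * y) * x⁻¹ := by group
        _ = x * (b.1 * (y * b.1⁻¹)) * x⁻¹ := by rw [mul_assoc b.1, ← (b.2.inv_right).eq]
        _ = _ := by group
    rw [e]
    exact mul_mem (mul_mem (inv_mem h1) hy) h1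
  have h5 := Nat.card_le_card_of_injective F hF
  have h6 : Nat.card {b : X // Commute y b} ≠ Nat.card ((X ⧸ Y) × {b : Y // Commute y (b : X)}) :=
    fun he => hns ((Nat.bijective_iff_injective_and_card F).2 ⟨hF, he⟩).2
  have := lt_of_le_of_ne h5 h6
  rwa [Nat.card_prod, ← Subgroup.index_eq_card] at this

theorem main {X : Type*} [Group X] [Finite X] (Y : Subgroup X) :
    Nat.card (ConjClasses Y) ≤ Y.index * Nat.card (ConjClasses X) ∧
      Nat.card (ConjClasses X) ≤ Y.index * Nat.card (ConjClasses Y) ∧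
      (¬ Y.Normal → Nat.card (ConjClasses X) < Y.index * Nat.card (ConjClasses Y)) := by
  classical
  haveI : Fintype X := Fintype.ofFinite X
  haveI : Fintype Y := Fintype.ofFinite Y
  set m := Y.index with hm
  have hmpos : 0 < m := Nat.pos_of_ne_zero Subgroup.index_ne_zero_of_finite
  have hYpos : 0 < Nat.card Y := Nat.card_pos
  have hX : Nat.card X = Nat.card Y * m := (Y.card_mul_index).symm
  have hPX : ∑ x : X, Nat.card {b : X // Commute x b} = Nat.card (ConjClasses X) * Nat.card X := by
    rw [← card_comm_eq_card_conjClasses_mul_card, ← Nat.card_sigma]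
    exact Nat.card_congr (Equiv.subtypeProdEquivSigmaSubtype fun a b => Commute a b).symm
  have hPY : ∑ y : Y, Nat.card {b : Y // Commute (y : X) (b : X)} =
      Nat.card (ConjClasses Y) * Nat.card Y := by
    rw [← card_comm_eq_card_conjClasses_mul_card, ← Nat.card_sigma]
    refine Nat.card_congr ((Equiv.subtypeProdEquivSigmaSubtype
      fun a b : Y => Commute (a : X) (b : X)).symm.trans ?_)
    exact Equiv.subtypeEquivRight fun p =>
      ⟨fun h => Subtype.ext h.eq, fun h => congrArg Subtype.val h.eq⟩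
  have hswap : ∑ x : X, Nat.card {b : Y // Commute x (b : X)} =
      ∑ y : Y, Nat.card {b : X // Commute (y : X) b} := by
    rw [← Nat.card_sigma, ← Nat.card_sigma]
    exact Nat.card_congr
      { toFun := fun p => ⟨p.2.1, p.1, p.2.2.symm⟩
        invFun := fun p => ⟨p.2.1, p.1, p.2.2.symm⟩
        left_inv := fun _ => rfl
        right_inv := fun _ => rfl }
  have h2 : ∑ x : X, Nat.card {b : X // Commute x b} ≤
      m * ∑ y : Y, Nat.card {b : X // Commute (y : X) b} := by
    rw [← hswap, Finset.mul_sum]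
    exact Finset.sum_le_sum fun x _ => card_centralizer_le Y x
  have h3 : ∑ y : Y, Nat.card {b : X // Commute (y : X) b} ≤
      m * ∑ y : Y, Nat.card {b : Y // Commute (y : X) (b : X)} := by
    rw [Finset.mul_sum]
    exact Finset.sum_le_sum fun y _ => card_centralizer_le Y y
  have h1 : Nat.card (ConjClasses Y) * Nat.card Y ≤ Nat.card (ConjClasses X) * Nat.card X := by
    rw [← card_comm_eq_card_conjClasses_mul_card, ← card_comm_eq_card_conjClasses_mul_card]
    exact Nat.card_le_card_of_injective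
      (fun p : {p : Y × Y // Commute p.1 p.2} =>
        (⟨((p.1.1 : X), (p.1.2 : X)), congrArg Subtype.val p.2.eq⟩ :
          {p : X × X // Commute p.1 p.2}))
      (fun p p' h => by
        have h' := congrArg Subtype.val h
        exact Subtype.ext (Prod.ext (Subtype.ext (congrArg Prod.fst h'))
          (Subtype.ext (congrArg Prod.snd h'))))
  rw [hPX] at h2
  rw [hPY] at h3
  rw [hX] at h1 h2
  refine ⟨?_, ?_, fun hn => ?_⟩
  · refine Nat.le_of_mul_le_mul_right ?_ hYpos
    calc Nat.card (ConjClasses Y) * Nat.card Y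
        ≤ Nat.card (ConjClasses X) * (Nat.card Y * m) := h1
      _ = m * Nat.card (ConjClasses X) * Nat.card Y := by ring
  · refine Nat.le_of_mul_le_mul_right ?_ (Nat.mul_pos hYpos hmpos)
    calc Nat.card (ConjClasses X) * (Nat.card Y * m)
        ≤ m * (m * (Nat.card (ConjClasses Y) * Nat.card Y)) :=
          h2.trans (Nat.mul_le_mul_left m h3)
      _ = m * Nat.card (ConjClasses Y) * (Nat.card Y * m) := by ring
  · obtain ⟨y, hy, x, hx⟩ : ∃ y ∈ Y, ∃ x, x * y * x⁻¹ ∉ Y := by
      by_contra hcon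
      push Not at hcon
      exact hn ⟨hcon⟩
    have h3' : ∑ y : Y, Nat.card {b : X // Commute (y : X) b} <
        m * ∑ y : Y, Nat.card {b : Y // Commute (y : X) (b : X)} := by
      rw [Finset.mul_sum]
      exact Finset.sum_lt_sum (fun y _ => card_centralizer_le Y y)
        ⟨⟨y, hy⟩, Finset.mem_univ _, card_centralizer_lt Y hy hx⟩
    rw [hPY] at h3'
    refine Nat.lt_of_mul_lt_mul_right (a := Nat.card Y * m) ?_
    calc Nat.card (ConjClasses X) * (Nat.card Y * m)
        ≤ _ := h2
      _ < m * (m * (Nat.card (ConjClasses Y) * Nat.card Y)) := Nat.mul_lt_mul_of_pos_left h3' hmpos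
      _ = m * Nat.card (ConjClasses Y) * (Nat.card Y * m) := by ring


/-- Let Y be a subgroup of the finite group X, of index m. Then the numbers of conjugacy classes satisfy k(Y) ≤ m·k(X) and k(X) ≤ m·k(Y), and the second inequality is strict unless Y is normal in X. -/
theorem result {X : Type*} [Group X] [Finite X] (Y : Subgroup X) : Nat.card (ConjClasses Y) ≤ Y.index * Nat.card (ConjClasses X) ∧ Nat.card (ConjClasses X) ≤ Y.index * Nat.card (ConjClasses Y) ∧ (¬ Y.Normal → Nat.card (ConjClasses X) < Y.index * Nat.card (ConjClasses Y)) := by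
  exact main Y

end Cfsg.Agent.S4200
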