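import Cfsg.Statements.S0690
import Cfsg.Agent.Frobenius.Zassenhaus.Main

set_option autoImplicit false
open Cfsg

namespace Cfsg.Agent.S0690

open CfsgLib.Frobenius CfsgLib.Frobenius.Zass

/-- Zassenhaus: a perfect non-trivial group of fixed-point-free automorphisms of a finite group is isomorphic to `SL(2,5)`. -/
theorem result {K : Type*} [Group K] [Finite K] (G : Subgroup (MulAut K)) (hfpf : ∀ φ ∈ G, φ ≠ 1 → ∀ k : K, φ k = k → k = 1) (hperf : commutator G = ⊤) (hne : G ≠ ⊥) : Nonempty (G ≃* Matrix.SpecialLinearGroup (Fin 2) (ZMod 5)) := by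
  haveI : Nontrivial G := (Subgroup.nontrivial_iff_ne_bot G).2 hne
  haveI : Finite G := inferInstance
  have hK : Nat.card K ≠ 1 := fun h1 => by
    obtain ⟨a, ha, ha1⟩ := (Subgroup.bot_or_exists_ne_one G).resolve_left hne
    have := (Nat.card_eq_one_iff_unique.1 h1).1
    exact ha1 (MulEquiv.ext fun x => Subsingleton.elim _ _)
  obtain ⟨p, hp, hpd⟩ := Nat.exists_prime_and_dvd hK
  have := Fact.mk hp
  obtain ⟨d, ρ, hd, hρ⟩ := FPF.exists_rep (φ := G.subtype)
    (fun a ha x hx => hfpf a a.2 (fun e => ha (Subtype.ext e)) x hx) p hpd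
  haveI : Nonempty (Fin d) := ⟨⟨0, hd⟩⟩
  exact IsFpf.mulEquiv_sl25 (IsFpf.of_rep_zmod ρ hρ) hperf

end Cfsg.Agent.S0690
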