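import Cfsg.Statements.S4118
import Cfsg.Agent.TIHall.Quotient
import Cfsg.Agent.S0690

set_option autoImplicit false
open Cfsg

namespace Cfsg.Agent.S4118

open scoped commutatorElement

/-- `O ⊔ K` is normal when `K` is normalized by a supplement of the normal subgroup `O`. -/
theorem normal_sup_of_supplement {G : Type*} [Group G] (O K N : Subgroup G) [hOn : O.Normal]
    (htop : O ⊔ N = ⊤) (hK : N ≤ Subgroup.normalizer (K : Set G)) : (O ⊔ K).Normal := by
  refine ⟨fun y hy g => ?_⟩
  obtain ⟨n, hn, g₁, hg₁, rfl⟩ := Subgroup.mem_sup_of_normal_left.1 (htop.symm ▸ Subgroup.mem_top g)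
  obtain ⟨m, hm, t, ht, rfl⟩ := Subgroup.mem_sup_of_normal_left.1 hy
  have h1 : g₁ * (m * t) * g₁⁻¹ ∈ O ⊔ K := by
    rw [show g₁ * (m * t) * g₁⁻¹ = (g₁ * m * g₁⁻¹) * (g₁ * t * g₁⁻¹) by group]
    exact mul_mem (Subgroup.mem_sup_left (hOn.conj_mem m hm g₁))
      (Subgroup.mem_sup_right ((Subgroup.mem_normalizer_iff.1 (hK hg₁) t).1 ht))
  rw [show n * g₁ * (m * t) * (n * g₁)⁻¹ = n * (g₁ * (m * t) * g₁⁻¹) * n⁻¹ by group]
  exact mul_mem (mul_mem (Subgroup.mem_sup_left hn) h1) (inv_mem (Subgroup.mem_sup_left hn))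

/-- `SL(2,5)` is not solvable. -/
theorem not_isSolvable_sl25 : ¬ Group.IsSolvable (Matrix.SpecialLinearGroup (Fin 2) (ZMod 5)) := by
  intro h
  haveI : Group.IsSolvable (Matrix.SpecialLinearGroup (Fin 2) (ZMod 5)) := h
  haveI : Nontrivial (Matrix.SpecialLinearGroup (Fin 2) (ZMod 5)) :=
    ⟨⟨1, ⟨!![1, 1; 0, 1], by decide⟩, fun h => absurd (congrArg (fun M : Matrix.SpecialLinearGroup (Fin 2) (ZMod 5) => M.1 0 1) h) (by decide)⟩⟩
  exact (Group.IsSolvable.commutator_lt_top_of_nontrivial (G := Matrix.SpecialLinearGroup (Fin 2) (ZMod 5))).ne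
    CfsgLib.Frobenius.Zass.commutator_sl25

/-- If the solvable normal subgroup `O` is not in `N(H)`, a non-solvable `H` contains `SL(2,5)`. -/
theorem exists_sl25_le {G : Type*} [Group G] [Finite G] (H O : Subgroup G)
    (hTI : Cfsg.IsTISubset (H : Set G)) [hOn : O.Normal] [Group.IsSolvable O]
    (hcop : (Nat.card O).Coprime (Nat.card H)) (hOH : ¬ O ≤ Subgroup.normalizer (H : Set G))
    (hns : ¬ Group.IsSolvable H) :
    ∃ K : Subgroup G, K ≤ H ∧ Nonempty (K ≃* Matrix.SpecialLinearGroup (Fin 2) (ZMod 5)) := by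
  classical
  let Nh := Subgroup.normalizer (H : Set G)
  -- the last term of the derived series of `O` outside `N(H)`
  let D : ℕ → Subgroup G := fun n => (derivedSeries O n).map O.subtype
  have hDn : ∀ n, (D n).Normal := fun n => by
    haveI := derivedSeries_characteristic O n
    exact ConjAct.normal_of_characteristic_of_normal
  obtain ⟨n, hn, hn'⟩ : ∃ n, ¬ D n ≤ Nh ∧ D (n + 1) ≤ Nh := by
    by_contra hcon
    push Not at hcon
    have hall : ∀ n, ¬ D n ≤ Nh := by
      intro n
      induction n with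
      | zero =>
        intro hle
        refine hOH ?_
        simpa [D, ← MonoidHom.range_eq_map] using hle
      | succ k ih => exact hcon k ih
    obtain ⟨m, hm⟩ := (Group.isSolvable_def O).1 inferInstance
    exact hall m (by simp [D, hm])
  set K := D n with hK
  haveI := hDn n
  have hKO : K ≤ O := Subgroup.map_subtype_le _
  have hD : ⁅K, K⁆ ≤ Nh := by
    refine le_trans ?_ hn'
    simp only [D, K, derivedSeries_succ, Subgroup.map_commutator]
    rfl
  set W := (Nh.subgroupOf K) with hW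
  have hWc : commutator K ≤ W := by
    intro x hx
    exact hD (Subgroup.map_subtype_commutator K ▸ Subgroup.mem_map_of_mem K.subtype hx)
  haveI hWn : W.Normal := by
    refine ⟨fun w hw g => ?_⟩
    rw [show g * w * g⁻¹ = ⁅g, w⁆ * w by rw [commutatorElement_def]; group]
    exact mul_mem (hWc (Subgroup.commutator_mem_commutator (Subgroup.mem_top g) (Subgroup.mem_top w))) hw
  -- `H` centralizes `O ∩ N(H)`
  have hcent : ∀ c ∈ O, c ∈ Nh → ∀ h ∈ H, h * c = c * h := by
    intro c hcO hcN h hh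
    have h1 : ⁅h, c⁆ = 1 := by
      refine Subgroup.mem_bot.1 ((Subgroup.inf_eq_bot_of_coprime hcop) ▸ Subgroup.mem_inf.2 ⟨?_, ?_⟩)
      · rw [commutatorElement_def]
        exact mul_mem (hOn.conj_mem c hcO h) (inv_mem hcO)
      · rw [commutatorElement_def, show h * c * h⁻¹ * c⁻¹ = h * (c * h⁻¹ * c⁻¹) by group]
        exact mul_mem hh ((Subgroup.mem_normalizer_iff.1 hcN _).1 (inv_mem hh))
    exact commutatorElement_eq_one_iff_mul_comm.1 h1
  let c : H →* MulAut K := (MulAut.conjNormal).comp H.subtype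
  have hc : ∀ h : H, W.map (c h).toMonoidHom = W := by
    intro h
    refine Subgroup.eq_of_le_of_card_ge ?_ (le_of_eq (Subgroup.card_map_of_injective (f := (c h).toMonoidHom) (c h).injective).symm)
    rintro _ ⟨w, hw, rfl⟩
    show ((h : G) * (w : G) * (h : G)⁻¹) ∈ Nh
    exact mul_mem (mul_mem (Subgroup.le_normalizer h.2) hw) (inv_mem (Subgroup.le_normalizer h.2))
  let φ : H →* MulAut (K ⧸ W) :=
    { toFun := fun h => QuotientGroup.congr W W (c h) (hc h)
      map_one' := by
        ext x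
        obtain ⟨x, rfl⟩ := QuotientGroup.mk'_surjective W x
        simp
      map_mul' := fun a b => by
        ext x
        obtain ⟨x, rfl⟩ := QuotientGroup.mk'_surjective W x
        simp
        rfl }
  have hfix : ∀ h : H, h ≠ 1 → ∀ k : K ⧸ W, φ h k = k → k = 1 := by
    intro h hh k hk
    obtain ⟨x, rfl⟩ := QuotientGroup.mk'_surjective W k
    have h1 : x⁻¹ * c h x ∈ W := QuotientGroup.eq.1 hk.symm
    set d : G := (x : G)⁻¹ * ((h : G) * x * (h : G)⁻¹) with hd
    have hdN : d ∈ Nh := h1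
    have hdO : d ∈ O := mul_mem (inv_mem (hKO x.2)) (hOn.conj_mem _ (hKO x.2) _)
    have hcm := hcent d hdO hdN h h.2
    have hpow : ∀ i : ℕ, (h : G) ^ i * x * ((h : G) ^ i)⁻¹ = x * d ^ i := by
      intro i
      induction i with
      | zero => simp
      | succ j ih =>
        rw [pow_succ' (h : G) j, mul_inv_rev,
          show (h : G) * (h : G) ^ j * x * (((h : G) ^ j)⁻¹ * (h : G)⁻¹) =
            (h : G) * ((h : G) ^ j * x * ((h : G) ^ j)⁻¹) * (h : G)⁻¹ by group, ih,
          show (h : G) * ((x : G) * d ^ j) * (h : G)⁻¹ =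
            ((h : G) * x * (h : G)⁻¹) * ((h : G) * d ^ j * (h : G)⁻¹) by group,
          ((show Commute (h : G) d from hcm).pow_right j).eq, mul_inv_cancel_right, pow_succ', ← mul_assoc,
          hd, mul_inv_cancel_left]
    have hd1 : d = 1 := by
      have := hpow (orderOf (h : G))
      rw [pow_orderOf_eq_one, one_mul, inv_one, mul_one] at this
      exact orderOf_eq_one_iff.1 (Nat.eq_one_of_dvd_coprimes hcop (Subgroup.orderOf_dvd_natCard O hdO)
        ((orderOf_dvd_of_pow_eq_one (mul_eq_left.1 this.symm)).trans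
          (Subgroup.orderOf_dvd_natCard H h.2)))
    rw [QuotientGroup.mk'_apply, QuotientGroup.eq_one_iff]
    by_contra hxN
    refine hh (Subtype.ext (hTI (x : G) hxN h h.2 ?_))
    have h2 : (x : G) * (h : G) * (x : G)⁻¹ = h := by
      have h3 : (h : G) * x * (h : G)⁻¹ = x := (inv_mul_eq_one.1 hd1).symm
      rw [mul_inv_eq_iff_eq_mul] at h3 ⊢
      exact h3.symm
    rw [h2]
    exact h.2
  have hinj : Function.Injective φ := by
    rw [injective_iff_map_eq_one]
    intro h hh
    by_contra hne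
    refine hn ?_
    intro x hx
    have := hfix h hne (QuotientGroup.mk' W ⟨x, hx⟩) (by rw [hh]; rfl)
    exact (QuotientGroup.eq_one_iff (N := W) ⟨x, hx⟩).1 this
  obtain ⟨E, -, hEp, hEnt⟩ := CfsgLib.Frobenius.Zass.exists_perfect_core hns
  let e₁ : E ≃* E.map φ := E.equivMapOfInjective φ hinj
  have hperf : commutator (E.map φ) = ⊤ := by
    rw [commutator_def, ← Subgroup.map_top_of_surjective e₁.toMonoidHom e₁.surjective,
      ← Subgroup.map_commutator, ← commutator_def, hEp]
  obtain ⟨e₂⟩ := Cfsg.Agent.S0690.result (E.map φ)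
    (by rintro _ ⟨h, _, rfl⟩ hne k hk; exact hfix h (fun e => hne (by rw [e, map_one])) k hk)
    hperf (by
      intro hb
      rw [Subgroup.map_eq_bot_iff_of_injective _ hinj] at hb
      exact (Subgroup.nontrivial_iff_ne_bot E).1 hEnt hb)
  exact ⟨E.map H.subtype, Subgroup.map_subtype_le _,
    ⟨((E.equivMapOfInjective H.subtype H.subtype_injective).symm.trans e₁).trans e₂⟩⟩

/-- Let G be a finite group and H a non-normal subgroup meeting each of its conjugates by elements outside N_G(H) trivially, with the order of H coprime to its index in N_G(H); let π be the set of primes dividing the order of H and suppose G is π-separable (it has a chain of normal subgroups from 1 to G each of whose factors has order divisible only by primes in π or coprime to the order of H). Let O be the largest normal subgroup of G of order coprime to the order of H. Then G = O·N_G(H), O·H is normal in G, and G is solvable if and only if O is solvable and H has no subgroup isomorphic to SL₂(5). -/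
theorem result {G : Type*} [Group G] [Finite G] (H : Subgroup G)
    (hTI : Cfsg.IsTISubset (H : Set G)) (hnn : ¬ H.Normal)
    (hHall : (Nat.card H).Coprime (H.subgroupOf (Subgroup.normalizer (H : Set G))).index)
    (hsep : ∃ (n : ℕ) (M : Fin (n + 1) → Subgroup G), M 0 = ⊥ ∧ M (Fin.last n) = ⊤ ∧ Monotone M ∧ (∀ i, (M i).Normal) ∧
      ∀ i : Fin n, (∀ q : ℕ, q.Prime → q ∣ (M i.castSucc).relIndex (M i.succ) → q ∣ Nat.card H) ∨
        ((M i.castSucc).relIndex (M i.succ)).Coprime (Nat.card H))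
    (O : Subgroup G) (hO : O = sSup {K : Subgroup G | K.Normal ∧ (Nat.card K).Coprime (Nat.card H)}) :
    O ⊔ Subgroup.normalizer (H : Set G) = ⊤ ∧ (O ⊔ H).Normal ∧
    (Group.IsSolvable G ↔ Group.IsSolvable O ∧
      ∀ K : Subgroup G, K ≤ H → ¬ Nonempty (K ≃* Matrix.SpecialLinearGroup (Fin 2) (ZMod 5))) := by
  have hc := CfsgLib.TIHall.coprime_index hTI hHall
  obtain ⟨N, hNn, hNc, hNmax⟩ := CfsgLib.TIHall.exists_max_coprime (G := G) (Nat.card H)
  obtain rfl : O = N := by
    rw [hO]
    exact le_antisymm (sSup_le fun K hK => hNmax K hK.1 hK.2) (le_sSup ⟨hNn, hNc⟩)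
  haveI := hNn
  have htop := CfsgLib.TIHall.sup_normalizer_eq_top hTI hc hNc hNmax hsep
  have hnormal := normal_sup_of_supplement O H _ htop le_rfl
  refine ⟨htop, hnormal, ?_, ?_⟩
  · intro hG
    haveI := hG
    refine ⟨inferInstance, fun K _ hK => not_isSolvable_sl25 ?_⟩
    obtain ⟨e⟩ := hK
    exact Group.isSolvable_of_surjective (f := e.toMonoidHom) e.surjective
  rintro ⟨hOsol, hno⟩
  haveI := hOsol
  have hOH : ¬ O ≤ Subgroup.normalizer (H : Set G) := fun h =>
    hnn (Subgroup.normalizer_eq_top_iff.1 (by rw [← htop, sup_eq_right.2 h]))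
  have hHsol : Group.IsSolvable H := by
    by_contra hns
    obtain ⟨K, hK, hKe⟩ := exists_sl25_le H O hTI hNc hOH hns
    exact hno K hK hKe
  -- `O ⊔ H` is solvable
  have hL : Group.IsSolvable ↥(O ⊔ H) := by
    haveI : (O.subgroupOf (O ⊔ H)).Normal := inferInstance
    let f : H →* ↥(O ⊔ H) ⧸ O.subgroupOf (O ⊔ H) :=
      (QuotientGroup.mk' _).comp (Subgroup.inclusion le_sup_right)
    have hf : Function.Surjective f := by
      intro q
      obtain ⟨⟨t, ht⟩, rfl⟩ := QuotientGroup.mk'_surjective _ q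
      obtain ⟨o, ho, h, hh, rfl⟩ := Subgroup.mem_sup_of_normal_left.1 ht
      refine ⟨⟨h, hh⟩, ?_⟩
      simp only [f, MonoidHom.comp_apply, QuotientGroup.mk'_apply, QuotientGroup.eq, Subgroup.mem_subgroupOf]
      have := hNn.conj_mem o ho h⁻¹
      simpa [mul_assoc] using this
    haveI := hHsol
    haveI : Group.IsSolvable (↥(O ⊔ H) ⧸ O.subgroupOf (O ⊔ H)) := Group.isSolvable_of_surjective hf
    haveI : Group.IsSolvable (O.subgroupOf (O ⊔ H)) := Group.isSolvable_of_surjective
      (f := (Subgroup.subgroupOfEquivOfLe (le_sup_left : O ≤ O ⊔ H)).symm.toMonoidHom) (MulEquiv.surjective _)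
    exact (Group.isSolvable_iff_subgroup_quotient (O.subgroupOf (O ⊔ H))).2 ⟨inferInstance, inferInstance⟩
  -- the derived group of `N(H)` lies in `O ⊔ H`
  set Nh := Subgroup.normalizer (H : Set G) with hNh
  set H' := H.subgroupOf Nh with hH'
  haveI : H'.Normal := (Subgroup.normal_subgroupOf_iff_le_normalizer Subgroup.le_normalizer).2 le_rfl
  have hcard : Nat.card H' = Nat.card H :=
    Nat.card_congr (Subgroup.subgroupOfEquivOfLe (Subgroup.le_normalizer (H := H))).toEquiv
  have hcop' : (Nat.card H').Coprime H'.index := hcard.symm ▸ hHall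
  have hcyc : ∀ A : Subgroup H', IsMulCommutative A → IsCyclic A := by
    intro A hA
    let ι : H' →* G := Nh.subtype.comp H'.subtype
    have hι : Function.Injective ι := Nh.subtype_injective.comp H'.subtype_injective
    have h1 : IsCyclic (A.map ι) := by
      refine CfsgLib.TIHall.isCyclic_of_isMulCommutative hTI hnn hNc htop ⟨⟨?_⟩⟩ ?_
      · rintro ⟨_, a, ha, rfl⟩ ⟨_, b, hb, rfl⟩
        exact Subtype.ext (congrArg (fun z : A => ι (z : H')) (hA.1.comm ⟨a, ha⟩ ⟨b, hb⟩))
      · rintro _ ⟨a, _, rfl⟩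
        exact Subgroup.mem_subgroupOf.1 a.2
    exact (A.equivMapOfInjective ι hι).isCyclic.2 h1
  obtain ⟨K, hKn, hKc, hKmem⟩ := CfsgLib.TIHall.exists_coprime_centralizer H' hcop'
  have hKO : K.map Nh.subtype ≤ O := by
    have hnorm : Nh ≤ Subgroup.normalizer ((K.map Nh.subtype : Subgroup G) : Set G) := by
      refine (Subgroup.normal_subgroupOf_iff_le_normalizer (Subgroup.map_subtype_le K)).1 ?_
      rwa [Subgroup.subgroupOf, Subgroup.comap_map_eq_self_of_injective Nh.subtype_injective]
    refine le_sup_right.trans (hNmax (O ⊔ K.map Nh.subtype) (normal_sup_of_supplement O _ _ htop hnorm) ?_)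
    refine Nat.Coprime.coprime_dvd_left ?_ ((show (Nat.card (K.map Nh.subtype)).Coprime (Nat.card H) by
      rw [Subgroup.card_map_of_injective Nh.subtype_injective, ← hcard]; exact hKc).mul_left hNc)
    rw [sup_comm]
    exact CfsgLib.TIHall.card_sup_dvd (by rw [Subgroup.normalizer_eq_top]; exact le_top)
  have hkey : ∀ x : Nh, x ∈ commutator Nh → (x : G) ∈ O ⊔ H := by
    intro x hx
    obtain ⟨a, hax, hak, haC⟩ := CfsgLib.TIHall.exists_centralizing_lift H' hcop' hcyc hx
    rw [show (x : G) = (a : G) * ((a⁻¹ * x : Nh) : G) by simp]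
    exact mul_mem (Subgroup.mem_sup_left (hKO ⟨a, hKmem a haC hak, rfl⟩))
      (Subgroup.mem_sup_right (Subgroup.mem_subgroupOf.1 hax))
  haveI := hnormal
  haveI : Group.IsSolvable (G ⧸ (O ⊔ H)) := by
    refine Group.isSolvable_of_comm fun a b => ?_
    obtain ⟨a, rfl⟩ := QuotientGroup.mk'_surjective _ a
    obtain ⟨b, rfl⟩ := QuotientGroup.mk'_surjective _ b
    obtain ⟨o₁, ho₁, n₁, hn₁, rfl⟩ := Subgroup.mem_sup_of_normal_left.1 (htop.symm ▸ Subgroup.mem_top a)
    obtain ⟨o₂, ho₂, n₂, hn₂, rfl⟩ := Subgroup.mem_sup_of_normal_left.1 (htop.symm ▸ Subgroup.mem_top b)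
    have hk : ∀ o ∈ O, QuotientGroup.mk' (O ⊔ H) o = 1 := fun o ho =>
      (QuotientGroup.eq_one_iff o).2 (Subgroup.mem_sup_left ho)
    rw [map_mul, map_mul, hk _ ho₁, hk _ ho₂, one_mul, one_mul, ← commutatorElement_eq_one_iff_mul_comm,
      ← map_commutatorElement, QuotientGroup.mk'_apply, QuotientGroup.eq_one_iff]
    exact hkey ⁅⟨n₁, hn₁⟩, ⟨n₂, hn₂⟩⁆
      (Subgroup.commutator_mem_commutator (Subgroup.mem_top _) (Subgroup.mem_top _))
  exact (Group.isSolvable_iff_subgroup_quotient (O ⊔ H)).2 ⟨hL, inferInstance⟩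

end Cfsg.Agent.S4118
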