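import Cfsg.Statements.S2824
import Cfsg.Agent.LocalCharP.SylowCenter
import Cfsg.Agent.LocalCharP.CharPLocal
import Mathlib.Tactic.Group

set_option autoImplicit false
open Cfsg
open scoped commutatorElement Pointwise

namespace Cfsg.Agent.S2824

/-- Let H be a finite group, p a prime, T a Sylow p-subgroup, L and M subgroups of characteristic p containing T, Y_L the largest p-reduced normal subgroup of L and T₀ = C_T(Y_L). If M·C_H(Y_L) = L·C_H(Y_L), then L* := N_M(T₀) has Y_{L*} = Y_L and L·C_H(Y_L) = L*·C_H(Y_L). -/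
theorem result {H : Type*} [Group H] [Finite H] {p : ℕ} [Fact p.Prime] (T : Sylow p H) (L M : Subgroup H) (hTL : (T : Subgroup H) ≤ L) (hTM : (T : Subgroup H) ≤ M) (hL : Subgroup.centralizer (Cfsg.pCore p ↥L : Set ↥L) ≤ Cfsg.pCore p ↥L) (hM : Subgroup.centralizer (Cfsg.pCore p ↥M : Set ↥M) ≤ Cfsg.pCore p ↥M) (T₀ : Subgroup H) (hT₀ : T₀ = (T : Subgroup H) ⊓ Subgroup.centralizer (((Cfsg.largestPReducedOf p L) : Subgroup H) : Set H)) (hfac : M ⊔ Subgroup.centralizer (((Cfsg.largestPReducedOf p L) : Subgroup H) : Set H) = L ⊔ Subgroup.centralizer (((Cfsg.largestPReducedOf p L) : Subgroup H) : Set H)) (Ls : Subgroup H) (hLs : Ls = M ⊓ Subgroup.normalizer ((T₀ : Subgroup H) : Set H)) : (Cfsg.largestPReducedOf p Ls) = (Cfsg.largestPReducedOf p L) ∧ L ⊔ Subgroup.centralizer (((Cfsg.largestPReducedOf p L) : Subgroup H) : Set H) = Ls ⊔ Subgroup.centralizer (((Cfsg.largestPReducedOf p L) : Subgroup H) : Set H) := by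
  set Y := Cfsg.largestPReducedOf p L with hY
  set C := Subgroup.centralizer (Y : Set H) with hC
  have hLY : L ≤ Subgroup.normalizer (Y : Set H) := CfsgLib.LocalCharP.le_normalizer_largestPReducedOf L
  have hXY : L ⊔ C ≤ Subgroup.normalizer (Y : Set H) := sup_le hLY (Subgroup.centralizer_le_normalizer _)
  have hMY : M ≤ Subgroup.normalizer (Y : Set H) := le_sup_left.trans (hfac.le.trans hXY)
  have hMC : M ≤ Subgroup.normalizer (C : Set H) := CfsgLib.LocalCharP.le_normalizer_centralizer hMY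
  have hLC : L ≤ Subgroup.normalizer (C : Set H) := CfsgLib.LocalCharP.le_normalizer_centralizer hLY
  have hTT0 : (T : Subgroup H) ≤ Subgroup.normalizer (T₀ : Set H) := by
    rw [hT₀]
    exact CfsgLib.LocalCharP.le_normalizer_inf_centralizer Subgroup.le_normalizer (hTL.trans hLY)
  have hTLs : (T : Subgroup H) ≤ Ls := hLs ▸ le_inf hTM hTT0
  have hLsM : Ls ≤ M := hLs ▸ inf_le_left
  have hLsN : Ls ≤ Subgroup.normalizer (T₀ : Set H) := hLs ▸ inf_le_right
  have hLsC : Ls ≤ Subgroup.normalizer (C : Set H) := hLsM.trans hMC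
  have hT0T : T₀ ≤ (T : Subgroup H) := hT₀ ▸ inf_le_left
  have hT0C : T₀ ≤ C := hT₀ ▸ inf_le_right
  have hfac2 : L ⊔ C = Ls ⊔ C := by
    refine le_antisymm ?_ (sup_le ((hLsM.trans le_sup_left).trans hfac.le) le_sup_right)
    rw [← hfac]
    refine sup_le (fun m hm => ?_) le_sup_right
    obtain ⟨c, hc, hcm⟩ := CfsgLib.LocalCharP.exists_mul_mem_normalizer T hTM hMY hm
    rw [← hT₀, ← hLs] at hcm
    have := mul_mem (Subgroup.mem_sup_right (inv_mem hc.2) : c⁻¹ ∈ Ls ⊔ C) (Subgroup.mem_sup_left hcm)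
    simpa using this
  refine ⟨?_, hfac2⟩
  have hYred : Cfsg.largestPReducedOf p L ≤ (T : Subgroup H) :=
    (CfsgLib.LocalCharP.largestPReducedOf_le_pCoreOf L).trans (CfsgLib.LocalCharP.pCoreOf_le_of_le hTL)
  have hredLs : CfsgLib.LocalCharP.IsPRed p Ls Y :=
    (CfsgLib.LocalCharP.isPRed_largestPReducedOf L).of_sup_eq hfac2.symm
  set Ys := Cfsg.largestPReducedOf p Ls with hYs
  have hYYs : Y ≤ Ys := hredLs.le_largestPReducedOf (hYred.trans hTLs)
  -- `O_p(L*) = T₀`, so `Y* ≤ Ω₁(Z(T₀))`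
  have hOT0 : Cfsg.pCoreOf p Ls ≤ T₀ := by
    rw [hT₀]
    refine le_inf (CfsgLib.LocalCharP.pCoreOf_le_of_le hTLs)
      (hredLs.2.2 _ (CfsgLib.LocalCharP.pCoreOf_le Ls) (CfsgLib.LocalCharP.le_normalizer_pCoreOf Ls)
        fun d hd => ?_)
    obtain ⟨k, hk⟩ := CfsgLib.LocalCharP.isPGroup_pCoreOf (p := p) Ls ⟨d, hd⟩
    refine ⟨k, ?_⟩
    rw [show d ^ p ^ k = 1 by simpa using congrArg Subtype.val hk]
    exact one_mem _
  have hT0O : T₀ ≤ Cfsg.pCoreOf p Ls :=
    CfsgLib.LocalCharP.le_pCoreOf (hT0T.trans hTLs) (T.2.to_le hT0T) hLsN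
  have hYsT0 : Ys ≤ T₀ := (CfsgLib.LocalCharP.largestPReducedOf_le_pCoreOf Ls).trans hOT0
  have hYsC : Ys ≤ Subgroup.centralizer (T₀ : Set H) :=
    (CfsgLib.LocalCharP.largestPReducedOf_centralizes_pCoreOf Ls).trans
      (Subgroup.centralizer_le hT0O)
  have hYsel : Cfsg.IsElementaryAbelian p Ys := CfsgLib.LocalCharP.largestPReducedOf_elementaryAbelian Ls
  have hZY : Cfsg.omegaOne p ((T : Subgroup H) ⊓ Subgroup.centralizer ((T : Subgroup H) : Set H)) ≤ Y :=
    CfsgLib.LocalCharP.omegaZ_le_largestPReducedOf T hTL hL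
  have hYfix : ∀ D : Subgroup H, D ≤ C → Y ≤ Subgroup.centralizer (D : Set H) := fun D hD =>
    Subgroup.le_centralizer_iff.mp hD
  -- first: `C ∩ N(T₀)` centralizes `Y*`
  set C' := C ⊓ Subgroup.normalizer (T₀ : Set H) with hC'
  set V' := Cfsg.omegaOne p (T₀ ⊓ Subgroup.centralizer (T₀ : Set H)) with hV'
  have hV'n : Subgroup.normalizer (T₀ : Set H) ≤ Subgroup.normalizer (V' : Set H) := by
    refine CfsgLib.LocalCharP.le_normalizer_of_conj_mem fun n hn x hx => ?_
    obtain ⟨h1, h2, h3⟩ := CfsgLib.LocalCharP.mem_omegaOne_inf_centralizer.mp hx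
    refine CfsgLib.LocalCharP.mem_omegaOne_inf_centralizer.mpr
      ⟨(Subgroup.mem_normalizer_iff.mp hn x).mp h1,
        CfsgLib.LocalCharP.conj_mem_of_le_normalizer (CfsgLib.LocalCharP.le_normalizer_centralizer le_rfl) hn h2, ?_⟩
    rw [conj_pow, h3]
    simp
  have hTC : (T : Subgroup H) ≤ Subgroup.normalizer (C : Set H) := hTL.trans hLC
  have hclaimB : ∀ v ∈ Ys, v ∈ Subgroup.centralizer (C' : Set H) := by
    intro v hv
    refine CfsgLib.LocalCharP.mem_centralizer_of_trace T (W := V') (T0 := T₀) (D := C')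
      (CfsgLib.LocalCharP.isElementaryAbelian_omegaOne_inf_centralizer T₀) (inf_le_right.trans hV'n)
      (hTT0.trans hV'n) ?_ hTT0 (le_inf hT0C Subgroup.le_normalizer) ?_ ?_
      (CfsgLib.LocalCharP.mem_omegaOne_inf_centralizer.mpr ⟨hYsT0 hv, hYsC hv, hYsel.2 v hv⟩) (hYsC hv)
    · exact CfsgLib.LocalCharP.le_normalizer_inf hTC (hTT0.trans Subgroup.le_normalizer)
    · rw [hT₀]
      exact CfsgLib.LocalCharP.not_dvd_relIndex_inf_centralizer T (hTL.trans hLY)
        (le_inf inf_le_right (hT₀ ▸ Subgroup.le_normalizer)) inf_le_left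
    · intro k hk hkT
      obtain ⟨h1, -, h3⟩ := CfsgLib.LocalCharP.mem_omegaOne_inf_centralizer.mp hk
      exact hYfix C' inf_le_left (hZY (CfsgLib.LocalCharP.mem_omegaOne_inf_centralizer.mpr
        ⟨hT0T h1, hkT, h3⟩))
  -- second: `L ∩ C` centralizes `Y*`
  set O := Cfsg.pCoreOf p L with hO
  set W := Cfsg.omegaOne p (O ⊓ Subgroup.centralizer (O : Set H)) with hW
  have hLW : L ≤ Subgroup.normalizer (W : Set H) := by
    refine CfsgLib.LocalCharP.le_normalizer_of_conj_mem fun n hn x hx => ?_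
    obtain ⟨h1, h2, h3⟩ := CfsgLib.LocalCharP.mem_omegaOne_inf_centralizer.mp hx
    refine CfsgLib.LocalCharP.mem_omegaOne_inf_centralizer.mpr
      ⟨CfsgLib.LocalCharP.conj_mem_of_le_normalizer (CfsgLib.LocalCharP.le_normalizer_pCoreOf L) hn h1,
        CfsgLib.LocalCharP.conj_mem_of_le_normalizer
          (CfsgLib.LocalCharP.le_normalizer_centralizer (CfsgLib.LocalCharP.le_normalizer_pCoreOf L)) hn h2, ?_⟩
    rw [conj_pow, h3]
    simp
  have hOT0' : O ≤ T₀ := hT₀ ▸ le_inf (CfsgLib.LocalCharP.pCoreOf_le_of_le hTL)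
    (CfsgLib.LocalCharP.pCoreOf_le_centralizer_largestPReducedOf L)
  have hclaimA : ∀ v ∈ Ys, v ∈ Subgroup.centralizer ((L ⊓ C : Subgroup H) : Set H) := by
    intro v hv
    have hvO : v ∈ Subgroup.centralizer (O : Set H) := Subgroup.centralizer_le hOT0' (hYsC hv)
    refine CfsgLib.LocalCharP.mem_centralizer_of_trace T (W := W) (T0 := T₀) (D := L ⊓ C)
      (CfsgLib.LocalCharP.isElementaryAbelian_omegaOne_inf_centralizer O) (inf_le_left.trans hLW)
      (hTL.trans hLW) (CfsgLib.LocalCharP.le_normalizer_inf (hTL.trans Subgroup.le_normalizer) hTC) hTT0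
      (le_inf (hT0T.trans hTL) hT0C) ?_ ?_
      (CfsgLib.LocalCharP.mem_omegaOne_inf_centralizer.mpr
        ⟨CfsgLib.LocalCharP.inf_centralizer_le_of_charP hL ⟨hTL (hT0T (hYsT0 hv)), hvO⟩, hvO, hYsel.2 v hv⟩)
      (hYsC hv)
    · rw [hT₀]
      exact CfsgLib.LocalCharP.not_dvd_relIndex_inf_centralizer T (hTL.trans hLY)
        (inf_le_inf_right _ hTL) inf_le_right
    · intro k hk hkT
      obtain ⟨h1, -, h3⟩ := CfsgLib.LocalCharP.mem_omegaOne_inf_centralizer.mp hk
      exact hYfix (L ⊓ C) inf_le_right (hZY (CfsgLib.LocalCharP.mem_omegaOne_inf_centralizer.mpr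
        ⟨CfsgLib.LocalCharP.pCoreOf_le_of_le hTL h1, hkT, h3⟩))
  set Cs := Subgroup.centralizer (Ys : Set H) with hCs
  have hA : L ⊓ C ≤ Cs := Subgroup.le_centralizer_iff.mp hclaimA
  have hB : C' ≤ Cs := Subgroup.le_centralizer_iff.mp hclaimB
  have hsup : L ⊔ Cs = Ls ⊔ Cs := by
    refine le_antisymm (sup_le (fun k hk => ?_) le_sup_right) (sup_le (fun l hl => ?_) le_sup_right)
    · obtain ⟨c, hc, hck⟩ := CfsgLib.LocalCharP.exists_mul_mem_normalizer T hTL hLY hk
      rw [← hT₀] at hck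
      have hn : c * k ∈ (Ls : Set H) * (C : Set H) := by
        rw [← Subgroup.coe_mul_of_left_le_normalizer_right _ _ hLsC, ← hfac2]
        exact Subgroup.mem_sup_left hck.1
      obtain ⟨l, hl, c', hc', he⟩ := Set.mem_mul.mp hn
      have hc'' : c' ∈ C' := ⟨hc', by
        show c' ∈ Subgroup.normalizer (T₀ : Set H)
        rw [show c' = l⁻¹ * (c * k) by rw [← he]; group]
        exact mul_mem (inv_mem (hLsN hl)) hck.2⟩
      rw [show k = c⁻¹ * (l * c') by rw [he]; group]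
      exact mul_mem (Subgroup.mem_sup_right (inv_mem (hA hc)))
        (mul_mem (Subgroup.mem_sup_left hl) (Subgroup.mem_sup_right (hB hc'')))
    · have hl' : l ∈ (C : Set H) * (L : Set H) := by
        rw [← Subgroup.coe_mul_of_right_le_normalizer_left _ _ hLC, sup_comm, hfac2]
        exact Subgroup.mem_sup_left hl
      obtain ⟨c'', hc'', k, hk, he⟩ := Set.mem_mul.mp hl'
      obtain ⟨c, hc, hck⟩ := CfsgLib.LocalCharP.exists_mul_mem_normalizer T hTL hLY hk
      rw [← hT₀] at hck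
      have hmem : c'' * c⁻¹ ∈ C' := ⟨show c'' * c⁻¹ ∈ C from mul_mem hc'' (inv_mem hc.2), by
        show c'' * c⁻¹ ∈ Subgroup.normalizer (T₀ : Set H)
        rw [show c'' * c⁻¹ = l * (c * k)⁻¹ by rw [← he]; group]
        exact mul_mem (hLsN hl) (inv_mem hck.2)⟩
      rw [show l = (c'' * c⁻¹) * (c * k) by rw [← he]; group]
      exact mul_mem (Subgroup.mem_sup_right (hB hmem)) (Subgroup.mem_sup_left hck.1)
  exact le_antisymm (((CfsgLib.LocalCharP.isPRed_largestPReducedOf Ls).of_sup_eq hsup).le_largestPReducedOf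
    (hYsT0.trans (hT0T.trans hTL))) hYYs

end Cfsg.Agent.S2824
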