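import Cfsg.Statements.S5323
import Cfsg.Agent.Leech.McLSimple
import Cfsg.Agent.Mathieu.FusionMcL

set_option autoImplicit false
open Cfsg

namespace Cfsg.Agent.S5323

/-- The group is the joint stabiliser of two vectors of norm 4 with inner product -1. -/
noncomputable def toPair : Cfsg.Spor.McL ≃*
    CfsgLib.Leech.pairStab Spor.leechU (-(Spor.leechU + Spor.leechV)) where
  toFun x := ⟨⟨x.1, x.2.1.1⟩, x.2.2, by
    show x.1 (-(Spor.leechU + Spor.leechV)) = -(Spor.leechU + Spor.leechV)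
    have h1 : x.1 Spor.leechU = Spor.leechU := x.2.2
    have h2 : x.1 Spor.leechV = Spor.leechV := x.2.1.2
    have hn := CfsgLib.Leech.co0_map_neg (⟨x.1, x.2.1.1⟩ : Co0) (Spor.leechU + Spor.leechV)
    refine hn.trans ?_
    show -(x.1 (Spor.leechU + Spor.leechV)) = _
    rw [x.2.1.1.1, h1, h2]⟩
  invFun y := ⟨y.1.1, ⟨y.1.2, by
    show y.1.1 Spor.leechV = Spor.leechV
    have h1 : y.1.1 Spor.leechU = Spor.leechU := y.2.1
    have h2 : y.1.1 (-(Spor.leechU + Spor.leechV)) = -(Spor.leechU + Spor.leechV) := y.2.2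
    have hn := CfsgLib.Leech.co0_map_neg y.1 (Spor.leechU + Spor.leechV)
    have h3 : -(y.1.1 (Spor.leechU + Spor.leechV)) = -(Spor.leechU + Spor.leechV) := hn.symm.trans h2
    rw [neg_inj, y.1.2.1, h1] at h3
    exact add_left_cancel h3⟩, y.2.1⟩
  left_inv _ := rfl
  right_inv _ := rfl
  map_mul' _ _ := rfl

theorem pair_facts : CfsgLib.Leech.nrm (-(Spor.leechU + Spor.leechV)) = 32 ∧
    CfsgLib.Leech.ip Spor.leechU (-(Spor.leechU + Spor.leechV)) = -8 := by
  constructor
  · show sqNorm (-(Spor.vecU + Spor.vecV)) = 32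
    decide +kernel
  · show dotInt Spor.vecU (-(Spor.vecU + Spor.vecV)) = -8
    decide +kernel

/-- For a finite group G isomorphic to the McLaughlin group, the 2-fusion system of G on a Sylow 2-subgroup is simple: saturated, over a nontrivial 2-group, with no normal subsystem other than the trivial one and itself. -/
theorem result {G : Type*} [Group G] [Finite G] (hG : Cfsg.Spor.IsoMcL G) (S : Sylow 2 G) : (Cfsg.groupFusionSystem (S : Subgroup G)).IsSimple 2 := by
  obtain ⟨e⟩ := hG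
  obtain ⟨hu, ho, hud⟩ := CfsgLib.Leech.mcl_base
  obtain ⟨g, hg, hgw⟩ := CfsgLib.Leech.exists_pair_neg8 _ _ _ _ hu pair_facts.1 pair_facts.2 hu ho hud
  let e' : G ≃* CfsgLib.Leech.pairStab Spor.leechU CfsgLib.Leech.oddElt :=
    (e.trans toPair).trans (CfsgLib.Leech.pairStabEquiv hg hgw)
  refine CfsgLib.Mathieu.Code.McLFusion.isSimple
    (e'.symm.toMonoidHom.comp (CfsgLib.Leech.m22Stab CfsgLib.Leech.eleven_mcl))
    (e'.symm.injective.comp (CfsgLib.Leech.m22Stab_injective _)) ?_ S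
  rw [Nat.card_congr e'.toEquiv, CfsgLib.Leech.card_mcl hu ho hud]

end Cfsg.Agent.S5323
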