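import Cfsg.Statements.S1314
import Mathlib.Tactic.Group

set_option autoImplicit false
open Cfsg
open scoped commutatorElement

namespace Cfsg.Agent.S1314


/-- Let x be an involution of a group G and L a perfect subgroup with ⁅L, x L x⁻¹⁆ = 1. Then l ↦ l (x l x⁻¹) is a group homomorphism π from L to G whose kernel is central in L and whose image lies in C_G(x); and the commutator subgroup of C_{L ⊔ xLx⁻¹}(x) equals the image of π. -/
theorem result {G : Type*} [Group G] [Finite G] (x : G) (hx : orderOf x = 2) (L : Subgroup G) (hperf : ⁅L, L⁆ = L) (hcomm : ⁅L, L.map (MulAut.conj x).toMonoidHom⁆ = ⊥) : ∃ π : ↥L →* G, (∀ l : ↥L, π l = (l : G) * (x * (l : G) * x⁻¹)) ∧ π.ker ≤ Subgroup.center ↥L ∧ π.range ≤ Subgroup.centralizer ({x} : Set G) ∧ ⁅(L ⊔ L.map (MulAut.conj x).toMonoidHom) ⊓ Subgroup.centralizer ({x} : Set G), (L ⊔ L.map (MulAut.conj x).toMonoidHom) ⊓ Subgroup.centralizer ({x} : Set G)⁆ = π.range := by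
  classical
  set c := (MulAut.conj x).toMonoidHom with hc
  set M := L.map c with hM
  have hx2 : x * x = 1 := by rw [← pow_two, ← hx, pow_orderOf_eq_one]
  have hxi : x⁻¹ = x := inv_eq_of_mul_eq_one_right hx2
  have hcm : ∀ l ∈ L, ∀ m ∈ L, l * (x * m * x⁻¹) = (x * m * x⁻¹) * l := by
    intro l hl m hm
    have h1 := Subgroup.commutator_eq_bot_iff_le_centralizer.mp hcomm hl
    exact (Subgroup.mem_centralizer_iff.mp h1 _ ⟨m, hm, rfl⟩).symm
  let π : ↥L →* G :=
    { toFun := fun l => (l : G) * (x * (l : G) * x⁻¹)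
      map_one' := by simp
      map_mul' := fun a b => by
        have h1 := hcm (b : G) b.2 (a : G) a.2
        simp only [Subgroup.coe_mul]
        calc (a : G) * b * (x * ((a : G) * b) * x⁻¹)
            = a * ((b : G) * (x * a * x⁻¹)) * (x * b * x⁻¹) := by group
          _ = a * ((x * a * x⁻¹) * (b : G)) * (x * b * x⁻¹) := by rw [h1]
          _ = a * (x * a * x⁻¹) * (b * (x * b * x⁻¹)) := by group }
  have hπ : ∀ l : ↥L, π l = (l : G) * (x * (l : G) * x⁻¹) := fun _ => rfl
  have hrange : π.range ≤ Subgroup.centralizer ({x} : Set G) := by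
    rintro _ ⟨l, rfl⟩
    rw [Subgroup.mem_centralizer_singleton_iff, hπ]
    have h1 := hcm (l : G) l.2 (l : G) l.2
    simp only [hxi] at h1 ⊢
    calc (l : G) * (x * l * x) * x = (l : G) * (x * l) := by simp only [mul_assoc, hx2, mul_one]
      _ = (x * x) * ((l : G) * (x * l)) := by rw [hx2, one_mul]
      _ = x * ((x * l * x) * l) := by simp only [mul_assoc]
      _ = x * ((l : G) * (x * l * x)) := by rw [← h1]
  refine ⟨π, hπ, ?_, hrange, ?_⟩
  · intro l hl
    rw [MonoidHom.mem_ker, hπ] at hl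
    rw [Subgroup.mem_center_iff]
    intro m
    apply Subtype.ext
    simp only [Subgroup.coe_mul]
    have h1 : (l : G) = x * (l : G)⁻¹ * x⁻¹ := by
      have := eq_inv_of_mul_eq_one_left hl
      exact (eq_inv_of_mul_eq_one_left hl).trans (by group)
    rw [h1]
    exact hcm (m : G) m.2 _ (inv_mem l.2)
  · set K := (L ⊔ M) ⊓ Subgroup.centralizer ({x} : Set G) with hK
    apply le_antisymm
    · rw [Subgroup.commutator_le]
      have hdec : ∀ k ∈ K, ∃ (l : ↥L) (z : G), (∀ g ∈ L ⊔ M, z * g = g * z) ∧ z ∈ L ⊔ M ∧ k = π l * z := by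
        intro k hk
        have hsn : (L : Subgroup G) ≤ Subgroup.normalizer (M : Set G) := by
          intro l hl
          rw [Subgroup.mem_normalizer_iff]
          intro g
          constructor
          · rintro ⟨m, hm, rfl⟩
            refine ⟨m, hm, ?_⟩
            simp only [hc, MulEquiv.coe_toMonoidHom, MulAut.conj_apply]
            rw [hcm l hl m hm]; group
          · rintro ⟨m, hm, he⟩
            refine ⟨m, hm, ?_⟩
            simp only [hc, MulEquiv.coe_toMonoidHom, MulAut.conj_apply] at he ⊢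
            have h2 := hcm l hl m hm
            calc x * m * x⁻¹ = l⁻¹ * ((x * m * x⁻¹) * l) := by rw [← h2]; group
              _ = l⁻¹ * (l * g * l⁻¹ * l) := by rw [he]
              _ = g := by group
        have hk1 : k ∈ ((L ⊔ M : Subgroup G) : Set G) := hk.1
        rw [Subgroup.coe_mul_of_left_le_normalizer_right L M hsn] at hk1
        obtain ⟨l, hl, m', ⟨m, hm, rfl⟩, rfl⟩ := hk1
        simp only [hc, MulEquiv.coe_toMonoidHom, MulAut.conj_apply] at hk ⊢
        -- fixed under x
        have hfx := Subgroup.mem_centralizer_singleton_iff.mp hk.2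
        have hn : x * l * x⁻¹ * m = l * (x * m * x⁻¹) := by
          have h2 : x * (l * (x * m * x⁻¹)) * x⁻¹ = l * (x * m * x⁻¹) := by
            rw [← hfx]; group
          rw [← h2]
          simp only [hxi, mul_assoc, hx2, mul_one]
        have h3 := hcm m hm l hl
        have hw : l⁻¹ * m = (x * m * x⁻¹) * (x * l * x⁻¹)⁻¹ := by
          rw [← h3] at hn
          calc l⁻¹ * m = l⁻¹ * (m * (x * l * x⁻¹)) * (x * l * x⁻¹)⁻¹ := by group
            _ = _ := by rw [hn]; group
        set z := (x * l * x⁻¹)⁻¹ * (x * m * x⁻¹) with hz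
        have hzw : z = l⁻¹ * m := by
          have h4 := hcm (l⁻¹ * m) (mul_mem (inv_mem hl) hm) l hl
          calc z = (x * l * x⁻¹)⁻¹ * ((x * m * x⁻¹) * (x * l * x⁻¹)⁻¹) * (x * l * x⁻¹) := by
                rw [hz]; group
            _ = (x * l * x⁻¹)⁻¹ * ((l⁻¹ * m) * (x * l * x⁻¹)) := by rw [← hw]; group
            _ = (x * l * x⁻¹)⁻¹ * ((x * l * x⁻¹) * (l⁻¹ * m)) := by rw [h4]
            _ = _ := by group
        have hzL : z ∈ L := hzw ▸ mul_mem (inv_mem hl) hm
        have hzM : z ∈ M := by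
          refine ⟨l⁻¹ * m, mul_mem (inv_mem hl) hm, ?_⟩
          simp only [hc, MulEquiv.coe_toMonoidHom, MulAut.conj_apply, hz]
          group
        refine ⟨⟨l, hl⟩, z, ?_, Subgroup.mem_sup_left hzL, ?_⟩
        · have h5 : L ⊔ M ≤ Subgroup.centralizer ({z} : Set G) := by
            refine sup_le ?_ ?_
            · intro g hg
              obtain ⟨q, hq, hqz⟩ := hzM
              rw [Subgroup.mem_centralizer_singleton_iff, ← hqz]
              exact hcm g hg q hq
            · rintro _ ⟨q, hq, rfl⟩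
              rw [Subgroup.mem_centralizer_singleton_iff]
              exact (hcm z hzL q hq).symm
          intro g hg
          exact (Subgroup.mem_centralizer_singleton_iff.mp (h5 hg)).symm
        · rw [hπ, hz]; group
      intro k1 hk1 k2 hk2
      obtain ⟨l1, z1, hz1, hz1m, rfl⟩ := hdec k1 hk1
      obtain ⟨l2, z2, hz2, hz2m, rfl⟩ := hdec k2 hk2
      have hπm : ∀ l : ↥L, π l ∈ L ⊔ M := fun l => by
        rw [hπ]; exact mul_mem (Subgroup.mem_sup_left l.2) (Subgroup.mem_sup_right ⟨l, l.2, rfl⟩)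
      refine ⟨⁅l1, l2⁆, ?_⟩
      rw [map_commutatorElement, commutatorElement_def, commutatorElement_def, mul_inv_rev, mul_inv_rev]
      have e1 := hz1 _ (mul_mem (hπm l2) hz2m)
      calc π l1 * π l2 * (π l1)⁻¹ * (π l2)⁻¹
          = π l1 * π l2 * z2 * (π l1)⁻¹ * (z2⁻¹ * (π l2)⁻¹) := by
            have e2 := hz2 _ (inv_mem (hπm l1))
            calc π l1 * π l2 * (π l1)⁻¹ * (π l2)⁻¹
                = π l1 * π l2 * ((π l1)⁻¹ * z2) * (z2⁻¹ * (π l2)⁻¹) := by group
              _ = _ := by rw [← e2]; group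
        _ = π l1 * (π l2 * z2 * z1) * (z1⁻¹ * (π l1)⁻¹) * (z2⁻¹ * (π l2)⁻¹) := by group
        _ = _ := by rw [← e1]; group
    · have hp : (⊤ : Subgroup ↥L) = ⁅(⊤ : Subgroup ↥L), (⊤ : Subgroup ↥L)⁆ := by
        apply Subgroup.map_injective L.subtype_injective
        rw [Subgroup.map_commutator, ← MonoidHom.range_eq_map, Subgroup.range_subtype, hperf]
      have hle : π.range ≤ K := by
        refine le_inf ?_ hrange
        rintro _ ⟨l, rfl⟩
        rw [hπ]; exact mul_mem (Subgroup.mem_sup_left l.2) (Subgroup.mem_sup_right ⟨l, l.2, rfl⟩)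
      calc π.range = ⁅π.range, π.range⁆ := by
            rw [MonoidHom.range_eq_map, ← Subgroup.map_commutator, ← hp]
        _ ≤ ⁅K, K⁆ := Subgroup.commutator_mono hle hle

end Cfsg.Agent.S1314
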