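import Cfsg.Statements.S1921
import Cfsg.Agent.TwoComponents.DoubleLayer
import Cfsg.Agent.Eq.Def_Local
import Cfsg.Agent.Eq.Def_CaseTheorems

set_option autoImplicit false
open Cfsg
open scoped commutatorElement

namespace Cfsg.Agent.S1921

universe u

/-- Conjugate of a component. -/
theorem isComponent_conj {H : Type u} [Group H] {K : Subgroup H} (hK : Cfsg.IsComponent K) (g : H) :
    Cfsg.IsComponent (K.map (MulAut.conj g).toMonoidHom) :=
  ⟨hK.1.map (MulAut.conj g).surjective,
    CfsgLib.Balance.isQuasisimple_of_mulEquiv (K.equivMapOfInjective _ (MulAut.conj g).injective) hK.2⟩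

theorem components_commute_aux (n : ℕ) : ∀ (H : Type u) [Group H] [Finite H], Nat.card H ≤ n →
    ∀ K L : Subgroup H, Cfsg.IsComponent K → Cfsg.IsComponent L → K ≠ L → ⁅K, L⁆ = ⊥ := by
  induction n with
  | zero => intro H _ _ h; exact absurd (Nat.card_pos (α := H)) (by omega)
  | succ n ih =>
    intro H _ _ hn K L hK hL hne
    have key : ∀ K L : Subgroup H, Cfsg.IsComponent K → Cfsg.IsComponent L → L ≠ ⊤ → K ≠ L →
        ⁅K, L⁆ = ⊥ := by
      intro K L hK hL hLt hne
      obtain ⟨N, hNlt, hN, hLN⟩ : ∃ N : Subgroup H, N < ⊤ ∧ N.Normal ∧ L ≤ N := by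
        obtain ⟨N, hN, hLN, hlt⟩ := hL.1.exists_normal_and_le_and_lt_top_of_ne hLt
        exact ⟨N, hlt, hN, hLN⟩
      rcases CfsgLib.TwoComponents.component_le_or_commute K hK.2 hK.1 N hN with hKN | hKN
      · have hc : Nat.card N ≤ n := by
          have h1 : Nat.card N ≤ Nat.card H := Subgroup.card_le_card_group N
          have h2 : Nat.card N ≠ Nat.card H := fun h => hNlt.ne (Subgroup.eq_top_of_card_eq N h)
          omega
        have hcomp : ∀ A : Subgroup H, A ≤ N → Cfsg.IsComponent A → Cfsg.IsComponent (A.subgroupOf N) :=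
          fun A hA hAc => ⟨hAc.1.subgroupOf, CfsgLib.Balance.isQuasisimple_of_mulEquiv (Subgroup.subgroupOfEquivOfLe hA).symm hAc.2⟩
        have h := ih N hc _ _ (hcomp K hKN hK) (hcomp L hLN hL) fun h => hne (by
          have := congrArg (Subgroup.map N.subtype) h
          rwa [Subgroup.map_subgroupOf_eq_of_le hKN, Subgroup.map_subgroupOf_eq_of_le hLN] at this)
        have := congrArg (Subgroup.map N.subtype) h
        rwa [Subgroup.map_commutator, Subgroup.map_subgroupOf_eq_of_le hKN,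
          Subgroup.map_subgroupOf_eq_of_le hLN, Subgroup.map_bot] at this
      · exact le_bot_iff.mp (hKN ▸ Subgroup.commutator_mono le_rfl hLN)
    by_cases hLt : L = ⊤
    · rw [Subgroup.commutator_comm]
      exact key L K hL hK (fun h => hne (h.trans hLt.symm)) (Ne.symm hne)
    · exact key K L hK hL hLt hne


/-- Let a be an involution of a finite group H and L a component of H with a L a⁻¹ ≠ L; put M = ⟨L, aLa⁻¹⟩ and let J be the subgroup generated by the elements x · a x a⁻¹ with x ∈ L (the diagonal). Then every element of M outside J·Z(M) generates M together with J. -/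
theorem result {H : Type*} [Group H] [Finite H] (a : H) (ha : orderOf a = 2) (L : Subgroup H) (hL : Cfsg.IsComponent L)
    (hLa : L.map (MulAut.conj a).toMonoidHom ≠ L) (x : H) (hxM : x ∈ L ⊔ L.map (MulAut.conj a).toMonoidHom)
    (hxJ : x ∉ Subgroup.closure {y : H | ∃ l ∈ L, y = l * (a * l * a⁻¹)} ⊔
      ((L ⊔ L.map (MulAut.conj a).toMonoidHom) ⊓ Subgroup.centralizer ((L ⊔ L.map (MulAut.conj a).toMonoidHom : Subgroup H) : Set H))) :
    Subgroup.closure {y : H | ∃ l ∈ L, y = l * (a * l * a⁻¹)} ⊔ Subgroup.zpowers x = L ⊔ L.map (MulAut.conj a).toMonoidHom := by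
  classical
  set L' := L.map (MulAut.conj a).toMonoidHom with hL'
  have hcc : ⁅L, L'⁆ = ⊥ :=
    components_commute_aux _ H le_rfl L L' hL (isComponent_conj hL a) (Ne.symm hLa)
  rw [Subgroup.commutator_eq_bot_iff_le_centralizer] at hcc
  have hcomm : ∀ l ∈ L, ∀ m ∈ L', l * m = m * l := fun l hl m hm =>
    (Subgroup.mem_centralizer_iff.mp (hcc hl) m hm).symm
  have hL'mem : ∀ l ∈ L, a * l * a⁻¹ ∈ L' := fun l hl => ⟨l, hl, rfl⟩
  set J := Subgroup.closure {y : H | ∃ l ∈ L, y = l * (a * l * a⁻¹)} with hJ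
  set Y := J ⊔ Subgroup.zpowers x with hY
  have hfJ : ∀ l ∈ L, l * (a * l * a⁻¹) ∈ Y := fun l hl =>
    Subgroup.mem_sup_left (Subgroup.subset_closure ⟨l, hl, rfl⟩)
  refine le_antisymm (sup_le ?_ (Subgroup.zpowers_le.mpr hxM)) ?_
  · rw [Subgroup.closure_le]
    rintro _ ⟨l, hl, rfl⟩
    exact mul_mem (Subgroup.mem_sup_left hl) (Subgroup.mem_sup_right (hL'mem l hl))
  have hnorm : L' ≤ Subgroup.normalizer (L : Set H) := by
    intro m hm
    refine (Subgroup.centralizer_le_normalizer _) (Subgroup.mem_centralizer_iff.mpr fun l hl => ?_)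
    exact hcomm l hl m hm
  have hx := hxM
  rw [← SetLike.mem_coe, Subgroup.coe_mul_of_right_le_normalizer_left L L' hnorm] at hx
  obtain ⟨l1, hl1, l2, hl2, rfl⟩ := hx
  obtain ⟨k, hk, hk2⟩ := hl2
  have hk2' : a * k * a⁻¹ = l2 := hk2
  subst hk2'
  have hm : l1 * k⁻¹ ∈ Y := by
    have h := mul_mem (Subgroup.mem_sup_right (Subgroup.mem_zpowers (l1 * (a * k * a⁻¹))) : _ ∈ Y)
      (inv_mem (hfJ k hk))
    have e : l1 * (a * k * a⁻¹) * (k * (a * k * a⁻¹))⁻¹ = l1 * k⁻¹ := by group
    rwa [e] at h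
  have hmL : l1 * k⁻¹ ∈ L := mul_mem hl1 (inv_mem hk)
  let N := Y.subgroupOf L
  have hNn : N.Normal := ⟨fun n hn l => by
    show (l : H) * n * (l : H)⁻¹ ∈ Y
    have h1 : (a * l * a⁻¹) * (n : H) = n * (a * l * a⁻¹) := (hcomm _ n.2 _ (hL'mem _ l.2)).symm
    have h2 := mul_mem (mul_mem (hfJ _ l.2) (hn : (n : H) ∈ Y)) (inv_mem (hfJ _ l.2))
    have e : (l : H) * (a * l * a⁻¹) * n * ((l : H) * (a * l * a⁻¹))⁻¹ = (l : H) * n * (l : H)⁻¹ := by
      rw [mul_assoc (l : H) (a * l * a⁻¹), h1]; group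
    exact e ▸ h2⟩
  haveI : Group.IsPerfect ↥L := hL.2.1
  haveI := hL.2.2
  have hNtop : N = ⊤ := by
    rcases (hNn.map (QuotientGroup.mk' (Subgroup.center ↥L)) (QuotientGroup.mk'_surjective _)).eq_bot_or_eq_top with h | h
    · rw [Subgroup.map_eq_bot_iff, QuotientGroup.ker_mk'] at h
      exfalso
      apply hxJ
      have hz := Subgroup.mem_center_iff.mp (h (show (⟨_, hmL⟩ : L) ∈ N from hm))
      have hmc : l1 * k⁻¹ ∈ (L ⊔ L') ⊓ Subgroup.centralizer ((L ⊔ L' : Subgroup H) : Set H) := by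
        refine ⟨Subgroup.mem_sup_left hmL, ?_⟩
        have hle : L ⊔ L' ≤ Subgroup.centralizer ({l1 * k⁻¹} : Set H) := sup_le
          (fun l hl => Subgroup.mem_centralizer_singleton_iff.mpr (congrArg Subtype.val (hz ⟨l, hl⟩)))
          (fun m hm => Subgroup.mem_centralizer_singleton_iff.mpr (hcomm _ hmL m hm).symm)
        exact Subgroup.mem_centralizer_iff.mpr fun y hy => Subgroup.mem_centralizer_singleton_iff.mp (hle hy)
      have e : l1 * (a * k * a⁻¹) = (l1 * k⁻¹) * (k * (a * k * a⁻¹)) := by group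
      refine (congrArg (· ∈ _) e).mpr ?_
      exact mul_mem (Subgroup.mem_sup_right hmc)
        (Subgroup.mem_sup_left (Subgroup.subset_closure ⟨k, hk, rfl⟩))
    · have hsup : N ⊔ Subgroup.center ↥L = ⊤ := by
        have h' := congrArg (Subgroup.comap (QuotientGroup.mk' (Subgroup.center ↥L))) h
        rwa [Subgroup.comap_map_eq, QuotientGroup.ker_mk', Subgroup.comap_top] at h'
      haveI := hNn
      refine eq_top_iff.mpr ((Group.IsPerfect.commutator_eq_top (G := ↥L)).ge.trans ?_)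
      rw [commutator_def, Subgroup.commutator_le]
      intro c _ d _
      obtain ⟨n, hn', z, hz, rfl⟩ := Subgroup.mem_sup_of_normal_left.1
        (hsup ▸ Subgroup.mem_top c : c ∈ N ⊔ Subgroup.center ↥L)
      have hz' := Subgroup.mem_center_iff.1 hz
      have e : ⁅n * z, d⁆ = ⁅n, d⁆ := by
        rw [commutatorElement_def, commutatorElement_def, mul_inv_rev, mul_assoc n z d, ← hz' d]
        group
      rw [e, commutatorElement_def]
      have := mul_mem hn' (hNn.conj_mem _ (inv_mem hn') d)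
      simpa [mul_assoc] using this
  have hLY : L ≤ Y := fun l hl => by
    have : (⟨l, hl⟩ : L) ∈ N := hNtop ▸ Subgroup.mem_top _
    exact this
  refine sup_le hLY ?_
  rintro _ ⟨l, hl, rfl⟩
  have := mul_mem (inv_mem (hLY hl)) (hfJ l hl)
  simpa using this

end Cfsg.Agent.S1921
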