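import Cfsg.Statements.S5212
import Cfsg.Agent.MetacyclicFusion.Inner

set_option autoImplicit false
open Cfsg

namespace Cfsg.Agent.S5212

/-- Let S be a finite metacyclic 2-group that is not homocyclic abelian (a direct product of cyclic groups of one common order), not dihedral, not semidihedral and not generalized quaternion. Then every saturated fusion system over S is the inner fusion system of S. -/
theorem result {Ω : Type*} [Group Ω] {S : Subgroup Ω} [Finite S] (hS : IsPGroup 2 S) (F : Cfsg.FusionSystem S) (hF : F.IsSaturated 2) (hm : Cfsg.IsMetacyclic ↥S) (hh : ¬ ∃ n k : ℕ, Nonempty (↥S ≃* Multiplicative (Fin k → ZMod (2 ^ n)))) (hd : ¬ ∃ m : ℕ, Nonempty (↥S ≃* DihedralGroup m)) (hq : ¬ ∃ m : ℕ, Nonempty (↥S ≃* QuaternionGroup m)) (hsd : ¬ Cfsg.IsQuasiDihedral ↥S) : ∀ P : Subgroup Ω, F.Hom P = (Cfsg.innerFusionSystem S).Hom P := by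
  have : Fact (Nat.Prime 2) := ⟨Nat.prime_two⟩
  have hn := CfsgLib.MetacyclicFusion.isNormal_of_metacyclic_two hS hF
    (⟨le_rfl, fun R _ φ hφ x => CfsgLib.Fus.hom_mem F hφ x⟩ : F.StronglyClosed S) hm hd hq hsd
  refine CfsgLib.Fusion.Alperin.eq_inner_of_isNormal_top hS hF hn ?_
  have : Finite (MulAut S) := CfsgLib.Fus.finite_mulAut S
  have hA : IsPGroup 2 (MulAut S) := by
    by_contra h
    rcases CfsgLib.QuatCore.metacyclic_aut hS hm h with h' | ⟨n, ⟨e⟩⟩
    · exact hq ⟨2, h'⟩
    · refine hh ⟨n, 2, ⟨e.trans ?_⟩⟩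
      exact { toFun := fun x => Multiplicative.ofAdd ![x.1.toAdd, x.2.toAdd]
              invFun := fun f => (Multiplicative.ofAdd (f.toAdd 0), Multiplicative.ofAdd (f.toAdd 1))
              left_inv := fun x => rfl
              right_inv := fun f => Multiplicative.toAdd.injective (funext fun i => by fin_cases i <;> rfl)
              map_mul' := fun x y => Multiplicative.toAdd.injective (funext fun i => by fin_cases i <;> rfl) }
  exact CfsgLib.MetacyclicFusion.autGroup_top_le hS hF hA

end Cfsg.Agent.S5212
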