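import Cfsg.Statements.S0992
import Cfsg.Agent.SmallSimple.Basic

set_option autoImplicit false
open Cfsg

namespace Cfsg.Agent.S0992
open CfsgLib.SmallSimple

/-- Let G be a non-abelian finite simple group of even order not divisible by 8, and T a Sylow 2-subgroup. Then T is a Klein four-group and the centralizer of T has index 3 in the normalizer of T. -/
theorem result {G : Type*} [Group G] [Finite G] [IsSimpleGroup G] (hG : ¬ IsMulCommutative G) (h2 : Even (Nat.card G)) (h8 : ¬ 8 ∣ Nat.card G) (T : Sylow 2 G) : IsKleinFour ↥(T : Subgroup G) ∧ (Subgroup.centralizer ((T : Subgroup G) : Set G)).relIndex (Subgroup.normalizer ((T : Subgroup G) : Set G)) = 3 := by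
  classical
  haveI : Fact (Nat.Prime 2) := ⟨Nat.prime_two⟩
  have hd : 2 ∣ Nat.card G := even_iff_two_dvd.1 h2
  have hmin : (Nat.card G).minFac = 2 := (Nat.minFac_eq_two_iff _).2 hd
  have hnc := sylow_minFac_not_isCyclic hG hmin T
  obtain ⟨k, hk⟩ := T.2.exists_card_eq
  have hk2 : k = 2 := by
    have hdvd : 2 ^ k ∣ Nat.card G := hk ▸ Subgroup.card_subgroup_dvd_card _
    rcases k with _ | _ | _ | k
    · exact absurd (isCyclic_of_card_dvd_prime (p := 2) (by rw [hk]; norm_num)) hnc
    · exact absurd (isCyclic_of_prime_card (p := 2) (by rw [hk]; norm_num)) hnc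
    · rfl
    · exact absurd (dvd_trans (pow_dvd_pow 2 (by omega : 3 ≤ k + 3)) hdvd) h8
  subst hk2
  have hT4 : Nat.card (T : Subgroup G) = 4 := by rw [hk]; norm_num
  have hkl : IsKleinFour (T : Subgroup G) :=
    ⟨hT4, (not_isCyclic_iff_exponent_eq_prime Nat.prime_two hk).1 hnc⟩
  refine ⟨hkl, ?_⟩
  haveI : IsMulCommutative (T : Subgroup G) := IsPGroup.isMulCommutative_of_card_eq_prime_sq hk
  set N := Subgroup.normalizer ((T : Subgroup G) : Set G) with hN
  set r := (Subgroup.centralizer ((T : Subgroup G) : Set G)).relIndex N with hr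
  have hr2 : ¬ 2 ∣ r := fun hc => T.not_dvd_index (hc.trans ((Subgroup.relIndex_dvd_of_le_left _ T.le_centralizer).trans (Subgroup.relIndex_dvd_index_of_le Subgroup.le_normalizer)))
  have hr1 : r ≠ 1 := fun hc => not_normalizer_le_centralizer hG 2 hd T (Subgroup.relIndex_eq_one.1 hc)
  have hr6 : r ∣ 6 := by
    have key := Subgroup.card_dvd_of_injective _ (QuotientGroup.kerLift_injective (T : Subgroup G).normalizerMonoidHom)
    rw [Subgroup.normalizerMonoidHom_ker, ← Subgroup.index, ← Subgroup.relIndex] at key
    refine key.trans ?_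
    let X := {x : (T : Subgroup G) // x ≠ 1}
    let f : MulAut (T : Subgroup G) →* Equiv.Perm X :=
      { toFun := fun e => e.toEquiv.subtypeEquiv fun x => by simp
        map_one' := by ext x; rfl
        map_mul' := fun a b => by ext x; rfl }
    have hf : Function.Injective f := fun a b hab => by
      ext x
      rcases eq_or_ne x 1 with rfl | hx
      · simp
      · exact congrArg (fun y : X => ((y.1 : (T : Subgroup G)) : G)) (Equiv.congr_fun hab ⟨x, hx⟩)
    have hX : Nat.card X = 3 := by
      have : Fintype (T : Subgroup G) := Fintype.ofFinite _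
      rw [Nat.card_eq_fintype_card, Fintype.card_subtype_compl, Fintype.card_subtype_eq, ← Nat.card_eq_fintype_card, hT4]
    refine (Subgroup.card_dvd_of_injective f hf).trans ?_
    rw [Nat.card_perm, hX]; rfl
  have := Nat.le_of_dvd (by norm_num) hr6
  show r = 3
  interval_cases r <;> omega

end Cfsg.Agent.S0992
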