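import Cfsg.Agent.EqOrderConj75.Basic
import Cfsg.Agent.PGroup.UniqueOrderP
import Cfsg.Agent.ZStar.Corollaries
import Cfsg.Agent.S0205
import Cfsg.Agent.Constrained.Basic

/-!
# Groups in which p-subgroups of equal order are conjugate: shape of the Sylow subgroups

A Sylow 2-subgroup is cyclic, elementary abelian or quaternion of order eight, and a noncyclic
Sylow subgroup for an odd prime is elementary abelian.
-/

set_option autoImplicit false
set_option linter.style.haveILetI false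

open scoped commutatorElement Pointwise

namespace CfsgLib.PSubConj60

open Cfsg CfsgLib.EqOrderConj75

universe u

variable {G : Type u} [Group G] [Finite G] {p : ℕ} [Fact p.Prime]

/-- Any two `p`-subgroups of the same order are conjugate. -/
def PConj (G : Type u) [Group G] (p : ℕ) : Prop :=
  ∀ H K : Subgroup G, IsPGroup p H → IsPGroup p K → Nat.card H = Nat.card K →
    ∃ g : G, K = H.map (MulAut.conj g).toMonoidHom

/-! ### The prime two -/

theorem quat_false (h : PConj G 2) (S : Subgroup G) (hS : IsPGroup 2 S) {m : ℕ} (hm : 2 ≤ m)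
    (e : S ≃* QuaternionGroup (2 * m)) : False := by
  haveI : NeZero (2 * m) := ⟨by omega⟩
  set ι : QuaternionGroup (2 * m) →* G := S.subtype.comp e.symm.toMonoidHom with hι
  have hinj : Function.Injective ι := S.subtype_injective.comp e.symm.injective
  have hmem : ∀ q, ι q ∈ S := fun q => (e.symm q).2
  set K := (quatParity m).ker with hK
  set A := Subgroup.zpowers (ι (QuaternionGroup.a 1)) with hA
  have hsurj : Function.Surjective (quatParity m) := by
    intro x
    have hx : x = 1 ∨ x = Multiplicative.ofAdd 1 := by revert x; decide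
    rcases hx with rfl | rfl
    · exact ⟨1, map_one _⟩
    · refine ⟨QuaternionGroup.a 1, ?_⟩
      show Multiplicative.ofAdd _ = _
      rw [map_one]
  have hKc : Nat.card (K.map ι) = 2 * (2 * m) := by
    rw [Subgroup.card_map_of_injective hinj]
    have h1 := K.card_mul_index
    rw [hK, Subgroup.index_ker, MonoidHom.range_eq_top.mpr hsurj, Subgroup.card_top,
      Nat.card_congr Multiplicative.toAdd, Nat.card_zmod,
      Nat.card_eq_fintype_card (α := QuaternionGroup _), QuaternionGroup.card] at h1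
    rw [hK]
    omega
  have hAc : Nat.card A = 2 * (2 * m) := by
    rw [hA, Nat.card_zpowers, orderOf_injective ι hinj, QuaternionGroup.orderOf_a_one]
  have hx : (QuaternionGroup.xa 0 : QuaternionGroup (2 * m)) ∈ K := by
    rw [hK, MonoidHom.mem_ker]
    show Multiplicative.ofAdd _ = _
    rw [map_zero]; rfl
  have hy : (QuaternionGroup.a 2 : QuaternionGroup (2 * m)) ∈ K := by
    rw [hK, MonoidHom.mem_ker]
    show Multiplicative.ofAdd _ = _
    rw [map_ofNat]; rfl
  obtain ⟨g, hg⟩ := h A (K.map ι) (hS.to_le (Subgroup.zpowers_le.mpr (hmem _)))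
    (hS.to_le (fun v hv => by obtain ⟨q, -, rfl⟩ := hv; exact hmem q)) (hAc.trans hKc.symm)
  obtain ⟨a, ha, hav⟩ : ι (QuaternionGroup.xa 0) ∈ A.map (MulAut.conj g).toMonoidHom :=
    hg ▸ Subgroup.mem_map_of_mem ι hx
  obtain ⟨b, hb, hbv⟩ : ι (QuaternionGroup.a 2) ∈ A.map (MulAut.conj g).toMonoidHom :=
    hg ▸ Subgroup.mem_map_of_mem ι hy
  have hab : a * b = b * a := by
    obtain ⟨i, rfl⟩ := ha; obtain ⟨j, rfl⟩ := hb
    exact ((Commute.refl _).zpow_zpow i j).eq
  have h2 : ι (QuaternionGroup.xa 0 * QuaternionGroup.a 2)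
      = ι (QuaternionGroup.a 2 * QuaternionGroup.xa 0) := by
    rw [map_mul, map_mul, ← hav, ← hbv, ← map_mul, ← map_mul, hab]
  have h2 := hinj h2
  rw [QuaternionGroup.xa_mul_a, QuaternionGroup.a_mul_xa, QuaternionGroup.xa.injEq, zero_add,
    zero_sub, eq_neg_iff_add_eq_zero,
    show (2 : ZMod (2 * (2 * m))) + 2 = ((4 : ℕ) : ZMod (2 * (2 * m))) by norm_num,
    ZMod.natCast_eq_zero_iff] at h2
  have := Nat.le_of_dvd (by norm_num) h2
  omega

/-- Every element of a Sylow 2-subgroup squares to one, or there is only one involution and the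
subgroup is cyclic or quaternion of order eight. -/
theorem sylow_two_shape (h : PConj G 2) (S : Sylow 2 G) :
    (∀ x ∈ (S : Subgroup G), x * x = 1) ∨ IsCyclic (S : Subgroup G) ∨
      Nonempty ((S : Subgroup G) ≃* QuaternionGroup 2) := by
  by_cases hel : ∀ x ∈ (S : Subgroup G), x * x = 1
  · exact Or.inl hel
  refine Or.inr ?_
  push Not at hel
  obtain ⟨x, hxS, hx⟩ := hel
  obtain ⟨k, hk⟩ := (S.2.to_le (Subgroup.zpowers_le.mpr hxS)).exists_card_eq
  rw [Nat.card_zpowers] at hk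
  have hk2 : 2 ≤ k := by
    by_contra hlt
    refine hx ?_
    rw [← pow_two, ← orderOf_dvd_iff_pow_eq_one, hk]
    exact (pow_dvd_pow 2 (show k ≤ 1 by omega)).trans (by norm_num)
  obtain ⟨y, hy, hyS⟩ : ∃ y : G, orderOf y = 4 ∧ y ∈ (S : Subgroup G) := by
    refine ⟨x ^ 2 ^ (k - 2), ?_, pow_mem hxS _⟩
    have hdvd : 2 ^ (k - 2) ∣ orderOf x := hk ▸ pow_dvd_pow 2 (by omega)
    rw [orderOf_pow_of_dvd (by positivity) hdvd, hk, Nat.pow_div (by omega) two_pos,
      show k - (k - 2) = 2 by omega]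
    norm_num
  haveI : Nontrivial (S : Subgroup G) :=
    ⟨⟨⟨y, hyS⟩, 1, fun e => by
      have : y = 1 := congrArg Subtype.val e
      rw [this, orderOf_one] at hy; omega⟩⟩
  have hSp : IsPGroup 2 (S : Subgroup G) := S.2
  haveI := hSp.center_nontrivial
  obtain ⟨j, hj⟩ := (hSp.to_subgroup (Subgroup.center (S : Subgroup G))).exists_card_eq
  have hd : 2 ∣ Nat.card (Subgroup.center (S : Subgroup G)) := by
    rw [hj]
    refine dvd_pow_self 2 fun h0 => ?_
    have := Finite.one_lt_card (α := Subgroup.center (S : Subgroup G))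
    rw [hj, h0, pow_zero] at this; omega
  obtain ⟨⟨z, hzc⟩, hz2⟩ := exists_prime_orderOf_dvd_card' 2 hd
  rw [Subgroup.orderOf_mk] at hz2
  have huniq : TwoGroup.AtMostOneInvolution (S : Subgroup G) := by
    have key : ∀ u : (S : Subgroup G), orderOf u = 2 → u = z := by
      intro u hu
      by_contra hne
      have hzz := congrArg Subtype.val (mul_self_of_orderOf hz2)
      have huu := congrArg Subtype.val (mul_self_of_orderOf hu)
      have hc : (z : G) * u = u * z :=
        congrArg Subtype.val (Subgroup.mem_center_iff.mp hzc u).symm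
      simp only [Subgroup.coe_mul, Subgroup.coe_one] at hzz huu
      have hcard := card_klein hzz huu hc
        (fun e => by
          have h' := (Subgroup.orderOf_coe z).trans hz2
          rw [e, orderOf_one] at h'; omega)
        (fun e => by
          have h' := (Subgroup.orderOf_coe u).trans hu
          rw [e, orderOf_one] at h'; omega)
        (fun e => hne (Subtype.ext e).symm)
      obtain ⟨g, hg⟩ := h (klein hzz huu hc) (Subgroup.zpowers y)
        (IsPGroup.of_card (n := 2) (hcard.trans (by norm_num)))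
        (hSp.to_le (Subgroup.zpowers_le.mpr hyS))
        (by rw [hcard, Nat.card_zpowers, hy])
      have hy' : y ∈ (klein hzz huu hc).map (MulAut.conj g).toMonoidHom :=
        hg ▸ Subgroup.mem_zpowers y
      obtain ⟨v, hv, hvy⟩ := hy'
      have h1 : y * y = 1 := by
        rw [← hvy, ← map_mul, klein_sq hzz huu hc v hv, map_one]
      have := Nat.le_of_dvd two_pos
        (orderOf_dvd_of_pow_eq_one (show y ^ 2 = 1 by rw [pow_two, h1]))
      omega
    exact fun a b ha hb => (key a ha).trans (key b hb).symm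
  rcases TwoGroup.cyclic_or_quaternion hSp huniq with hc | ⟨n, hn, ⟨e⟩⟩
  · exact Or.inl hc
  rcases Nat.lt_or_ge n 2 with hlt | hge
  · rw [show n = 1 by omega, pow_one] at e
    exact Or.inr ⟨e⟩
  · exfalso
    rw [show 2 ^ n = 2 * 2 ^ (n - 1) by rw [← pow_succ']; congr 1; omega] at e
    exact quat_false h _ hSp (Nat.le_self_pow (by omega) 2) e

/-! ### Small subgroups -/

omit [Finite G] in
theorem orderOf_of_mem_zpowers {u d : G} (hu : orderOf u = p) (hd : d ∈ Subgroup.zpowers u)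
    (hd1 : d ≠ 1) : orderOf d = p := by
  obtain ⟨k, rfl⟩ := hd
  refine orderOf_eq_prime ?_ hd1
  rw [← zpow_natCast, ← zpow_mul, mul_comm, zpow_mul, zpow_natCast, ← hu, pow_orderOf_eq_one,
    one_zpow]

theorem mem_zpowers_symm {u d : G} (hu : orderOf u = p) (hd : d ∈ Subgroup.zpowers u)
    (hd1 : d ≠ 1) : u ∈ Subgroup.zpowers d := by
  have h := Subgroup.eq_of_le_of_card_ge (Subgroup.zpowers_le.mpr hd)
    (by rw [Nat.card_zpowers, Nat.card_zpowers, hu, orderOf_of_mem_zpowers hu hd hd1])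
  rw [h]; exact Subgroup.mem_zpowers u

theorem sup_zpowers_abelian {E : Subgroup G} {u : G} (hEc : ∀ a ∈ E, ∀ b ∈ E, a * b = b * a)
    (hu : orderOf u = p) (hn : u ∉ E) (hc : ∀ e ∈ E, Commute e u) :
    Nat.card ↥(E ⊔ Subgroup.zpowers u) = Nat.card E * p ∧
      (∀ a ∈ E ⊔ Subgroup.zpowers u, ∀ b ∈ E ⊔ Subgroup.zpowers u, a * b = b * a) ∧
      ((∀ a ∈ E, a ^ p = 1) → ∀ a ∈ E ⊔ Subgroup.zpowers u, a ^ p = 1) := by
  have hcu : ∀ (e : E) (v : Subgroup.zpowers u), Commute (E.subtype e)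
      ((Subgroup.zpowers u).subtype v) := by
    rintro ⟨e, he⟩ ⟨v, k, rfl⟩
    exact (hc e he).zpow_right k
  set f := E.subtype.noncommCoprod (Subgroup.zpowers u).subtype hcu with hf
  have hr : f.range = E ⊔ Subgroup.zpowers u := by
    rw [hf, MonoidHom.noncommCoprod_range, Subgroup.range_subtype, Subgroup.range_subtype]
  have hinj : Function.Injective f := by
    refine (MonoidHom.noncommCoprod_injective _ _ _).mpr
      ⟨E.subtype_injective, (Subgroup.zpowers u).subtype_injective, ?_⟩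
    rw [Subgroup.range_subtype, Subgroup.range_subtype, Subgroup.disjoint_def]
    intro d hdE hdu
    by_contra hd1
    exact hn (Subgroup.zpowers_le.mpr hdE (mem_zpowers_symm hu hdu hd1))
  refine ⟨?_, ?_, ?_⟩
  · rw [← hr, ← Nat.card_congr (MonoidHom.ofInjective hinj).toEquiv, Nat.card_prod,
      Nat.card_zpowers, hu]
  · rw [← hr]
    rintro _ ⟨⟨⟨a, ha⟩, ⟨_, i, rfl⟩⟩, rfl⟩ _ ⟨⟨⟨b, hb⟩, ⟨_, j, rfl⟩⟩, rfl⟩
    rw [← map_mul, ← map_mul]
    congr 1
    exact Prod.ext (Subtype.ext (hEc a ha b hb))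
      (Subtype.ext ((Commute.refl u).zpow_zpow i j).eq)
  · intro hexp
    rw [← hr]
    rintro _ ⟨⟨⟨a, ha⟩, v⟩, rfl⟩
    rw [← map_pow]
    have hv : v ^ p = 1 := by
      rw [← hu, ← Nat.card_zpowers]; exact pow_card_eq_one'
    have : ((⟨a, ha⟩, v) : E × Subgroup.zpowers u) ^ p = 1 :=
      Prod.ext (Subtype.ext (hexp a ha)) hv
    rw [this, map_one]

omit [Finite G] in
theorem zpowers_comm (z : G) :
    ∀ a ∈ Subgroup.zpowers z, ∀ b ∈ Subgroup.zpowers z, a * b = b * a := by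
  rintro _ ⟨i, rfl⟩ _ ⟨j, rfl⟩
  exact ((Commute.refl z).zpow_zpow i j).eq

omit [Finite G] in
theorem zpowers_pow {z : G} (hz : orderOf z = p) : ∀ a ∈ Subgroup.zpowers z, a ^ p = 1 := by
  rintro _ ⟨i, rfl⟩
  rw [← zpow_natCast, ← zpow_mul, mul_comm, zpow_mul, zpow_natCast, ← hz, pow_orderOf_eq_one,
    one_zpow]

theorem le_zpowers_of_lt {E C : Subgroup G} {z x : G} (hE : Nat.card E = p ^ 2) (hC : C ≤ E)
    (hzE : z ∈ E) (hzC : z ∉ C) (hxC : x ∈ C) (hx : orderOf x = p) :
    C ≤ Subgroup.zpowers x := by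
  have hpp : p.Prime := Fact.out
  obtain ⟨k, -, hk⟩ := (Nat.dvd_prime_pow hpp).1 (hE ▸ Subgroup.card_dvd_of_le hC)
  have hlt : Nat.card C < p ^ 2 := hE ▸ lt_of_not_ge fun hge =>
    hzC ((Subgroup.eq_of_le_of_card_ge hC hge) ▸ hzE)
  rw [hk] at hlt
  have hk1 : k ≤ 1 := by
    have := (Nat.pow_lt_pow_iff_right hpp.one_lt).1 hlt
    omega
  rw [Subgroup.eq_of_le_of_card_ge (Subgroup.zpowers_le.mpr hxC) (by
    rw [Nat.card_zpowers, hx, hk]
    exact (Nat.pow_le_pow_right hpp.pos hk1).trans (pow_one p).le)]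

/-! ### Odd primes -/

theorem exponent_prime (hp : p ≠ 2) (h : PConj G p) (P : Sylow p G)
    (hnc : ¬ IsCyclic (P : Subgroup G)) {R : Subgroup G} (hR : IsPGroup p R) :
    ∀ x ∈ R, x ^ p = 1 := by
  have hpp : p.Prime := Fact.out
  have hP : IsPGroup p (P : Subgroup G) := P.2
  obtain ⟨x, y, hx, hy, hxy⟩ : ∃ x y : (P : Subgroup G), orderOf x = p ∧ orderOf y = p ∧
      y ∉ Subgroup.zpowers x := by
    by_contra hcon
    push Not at hcon
    exact hnc (PGroup.isCyclic_of_unique_subgroup hp hP hcon)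
  haveI : Nontrivial (P : Subgroup G) := ⟨⟨x, 1, fun e => by
    rw [e, orderOf_one] at hx; exact hpp.ne_one hx.symm⟩⟩
  haveI := hP.center_nontrivial
  obtain ⟨j, hj⟩ := (hP.to_subgroup (Subgroup.center (P : Subgroup G))).exists_card_eq
  have hd : p ∣ Nat.card (Subgroup.center (P : Subgroup G)) := by
    rw [hj]
    refine dvd_pow_self p fun h0 => ?_
    have := Finite.one_lt_card (α := Subgroup.center (P : Subgroup G))
    rw [hj, h0, pow_zero] at this; omega
  obtain ⟨⟨c, hcc⟩, hc⟩ := exists_prime_orderOf_dvd_card' p hd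
  rw [Subgroup.orderOf_mk] at hc
  obtain ⟨u, hu, huc⟩ : ∃ u : (P : Subgroup G), orderOf u = p ∧ u ∉ Subgroup.zpowers c := by
    by_contra hcon
    push Not at hcon
    have h1 : x ≠ 1 := fun e => by rw [e, orderOf_one] at hx; exact hpp.ne_one hx.symm
    exact hxy (Subgroup.zpowers_le.mpr (mem_zpowers_symm hc (hcon x hx) h1) (hcon y hy))
  have hu' : orderOf (u : G) = p := by rw [Subgroup.orderOf_coe, hu]
  have hc' : orderOf (c : G) = p := by rw [Subgroup.orderOf_coe, hc]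
  have hn : (u : G) ∉ Subgroup.zpowers (c : G) := by
    rintro ⟨k, hk⟩
    exact huc ⟨k, Subtype.ext (by simpa using hk)⟩
  have hcu : Commute (c : G) u := congrArg Subtype.val (Subgroup.mem_center_iff.mp hcc u).symm
  obtain ⟨hcard, -, hexp⟩ := sup_zpowers_abelian (zpowers_comm (c : G)) hu' hn
    (by rintro _ ⟨i, rfl⟩; exact hcu.zpow_left i)
  have hexp := hexp (zpowers_pow hc')
  rw [Nat.card_zpowers, hc'] at hcard
  intro w hw
  obtain ⟨k, hk⟩ := (hR.to_le (Subgroup.zpowers_le.mpr hw)).exists_card_eq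
  rw [Nat.card_zpowers] at hk
  by_cases hk2 : k ≤ 1
  · exact orderOf_dvd_iff_pow_eq_one.mp (hk ▸ (pow_dvd_pow p hk2).trans (pow_one p).dvd)
  exfalso
  have hdvd : p ^ (k - 2) ∣ orderOf w := hk ▸ pow_dvd_pow p (by omega)
  have hy2 : orderOf (w ^ p ^ (k - 2)) = p ^ 2 := by
    rw [orderOf_pow_of_dvd (pow_ne_zero _ hpp.ne_zero) hdvd, hk, Nat.pow_div (by omega) hpp.pos,
      show k - (k - 2) = 2 by omega]
  obtain ⟨g, hg⟩ := h _ (Subgroup.zpowers (w ^ p ^ (k - 2)))
    (IsPGroup.of_card (n := 2) (hcard.trans (sq p).symm))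
    (IsPGroup.of_card (n := 2) (by rw [Nat.card_zpowers, hy2]))
    (by rw [hcard, Nat.card_zpowers, hy2, sq])
  obtain ⟨v, hv, hvw⟩ : w ^ p ^ (k - 2) ∈ (Subgroup.zpowers (c : G) ⊔ Subgroup.zpowers (u : G)).map
      (MulAut.conj g).toMonoidHom := hg ▸ Subgroup.mem_zpowers _
  have h1 : (w ^ p ^ (k - 2)) ^ p = 1 := by rw [← hvw, ← map_pow, hexp v hv, map_one]
  have h2 := Nat.le_of_dvd hpp.pos (orderOf_dvd_of_pow_eq_one h1)
  rw [hy2] at h2
  nlinarith [hpp.two_le]

/-- Conjugation by powers, when the shift is fixed. -/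
theorem conj_pow_shift {b z w : G} (hb : b * z * b⁻¹ = z * w) (hw : Commute b w) (k : ℕ) :
    b ^ k * z * (b ^ k)⁻¹ = z * w ^ k := by
  induction k with
  | zero => simp
  | succ k ih =>
    have h1 : b * w ^ k * b⁻¹ = w ^ k := by
      rw [(hw.pow_right k).eq, mul_inv_cancel_right]
    calc b ^ (k + 1) * z * (b ^ (k + 1))⁻¹ = b * (b ^ k * z * (b ^ k)⁻¹) * b⁻¹ := by
          rw [pow_succ']; group
      _ = (b * z * b⁻¹) * (b * w ^ k * b⁻¹) := by rw [ih]; group
      _ = z * w ^ (k + 1) := by rw [hb, h1, pow_succ', mul_assoc]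

/-- An element inverted by a 2-element lies in the odd core. -/
theorem mem_oddCore_of_inverted (h : PConj G 2) {g x : G} (hx : orderOf x = p) (hp : p ≠ 2)
    (hg : g ^ 2 * x * (g ^ 2)⁻¹ = x⁻¹) : x ∈ pPrimeCore 2 G := by
  have hpp : p.Prime := Fact.out
  have hodd : Odd p := hpp.odd_of_ne_two hp
  haveI : Fact (Nat.Prime 2) := ⟨Nat.prime_two⟩
  obtain ⟨k, m, hm, hkm⟩ := Nat.exists_eq_two_pow_mul_odd (orderOf_pos g).ne'
  set w := g ^ m with hw
  have hw2 : w ^ 2 ^ k = 1 := by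
    rw [hw, ← pow_mul, mul_comm, ← hkm, pow_orderOf_eq_one]
  have hwx : w ^ 2 * x * (w ^ 2)⁻¹ = x⁻¹ := by
    obtain ⟨l, rfl⟩ := hm
    have h4 : Commute ((g ^ 2) ^ 2) x := by
      have : (g ^ 2) ^ 2 * x * ((g ^ 2) ^ 2)⁻¹ = x := by
        calc (g ^ 2) ^ 2 * x * ((g ^ 2) ^ 2)⁻¹ = g ^ 2 * (g ^ 2 * x * (g ^ 2)⁻¹) * (g ^ 2)⁻¹ := by
              rw [pow_two (g ^ 2)]; group
          _ = g ^ 2 * x⁻¹ * (g ^ 2)⁻¹ := by rw [hg]
          _ = (g ^ 2 * x * (g ^ 2)⁻¹)⁻¹ := by group
          _ = x := by rw [hg, inv_inv]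
      exact mul_inv_eq_iff_eq_mul.mp this
    have e : w ^ 2 = g ^ 2 * ((g ^ 2) ^ 2) ^ l := by
      rw [hw, ← pow_mul, ← pow_mul, ← pow_mul, ← pow_add]; congr 1; ring
    rw [e]
    calc g ^ 2 * ((g ^ 2) ^ 2) ^ l * x * (g ^ 2 * ((g ^ 2) ^ 2) ^ l)⁻¹
        = g ^ 2 * (((g ^ 2) ^ 2) ^ l * x * (((g ^ 2) ^ 2) ^ l)⁻¹) * (g ^ 2)⁻¹ := by group
      _ = x⁻¹ := by rw [(h4.pow_left l).eq, mul_inv_cancel_right, hg]
  have hxne : x⁻¹ ≠ x := by
    intro e
    have h1 : x ^ 2 = 1 := by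
      rw [pow_two]; nth_rw 1 [← e]; exact inv_mul_cancel x
    have := Nat.le_of_dvd two_pos (orderOf_dvd_of_pow_eq_one h1)
    have := hpp.two_le
    omega
  have hw1 : w ^ 2 ≠ 1 := fun e => hxne (by rw [← hwx, e]; group)
  obtain ⟨S, hS⟩ := IsPGroup.exists_le_sylow (p := 2) (P := Subgroup.zpowers w) (by
    obtain ⟨j, -, hj⟩ := (Nat.dvd_prime_pow Nat.prime_two).1 (orderOf_dvd_of_pow_eq_one hw2)
    exact IsPGroup.of_card (n := j) (by rw [Nat.card_zpowers, hj]))
  have hwS : w ∈ (S : Subgroup G) := hS (Subgroup.mem_zpowers w)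
  have hwne : w ≠ 1 := fun e => hw1 (by rw [e, one_pow])
  rcases sylow_two_shape h S with hel | hcyc | ⟨⟨e⟩⟩
  · exact absurd ((pow_two w).trans (hel w hwS)) hw1
  · have h2 : 2 ∣ Nat.card G := by
      refine dvd_trans ?_ (S : Subgroup G).card_subgroup_dvd_card
      obtain ⟨j, hj⟩ := S.2.exists_card_eq
      rw [hj]
      refine dvd_pow_self 2 fun h0 => hwne ?_
      rw [h0, pow_zero] at hj
      have := (Nat.card_eq_one_iff_unique.mp hj).1
      exact congrArg Subtype.val (Subsingleton.elim (⟨w, hwS⟩ : (S : Subgroup G)) 1)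
    set f := MonoidHom.transferSylow S
      (hcyc.normalizer_le_centralizer ((Nat.minFac_eq_two_iff _).2 h2))
    have hcompl := MonoidHom.ker_transferSylow_isComplement' S
      (hcyc.normalizer_le_centralizer ((Nat.minFac_eq_two_iff _).2 h2))
    have hker : ¬ 2 ∣ Nat.card f.ker := by
      rw [← hcompl.index_eq_card]
      exact S.not_dvd_index
    apply Constrained.le_pPrimeCore_of_not_dvd inferInstance hker
    rw [MonoidHom.mem_ker]
    by_contra hne
    have h1 : orderOf (f x) ∣ p := hx ▸ orderOf_map_dvd f x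
    rcases hpp.eq_one_or_self_of_dvd _ h1 with h3 | h3
    · exact hne (orderOf_eq_one_iff.mp h3)
    obtain ⟨j, hj⟩ := S.2.exists_card_eq
    have h4 : p ∣ 2 ^ j := hj ▸ h3 ▸ orderOf_dvd_natCard (f x)
    exact hp ((Nat.prime_dvd_prime_iff_eq hpp Nat.prime_two).mp (hpp.dvd_of_dvd_pow h4))
  · have huniq : TwoGroup.AtMostOneInvolution (S : Subgroup G) := by
      refine ZStar.atMostOneInvolution_of_mulEquiv e ?_
      exact ZStar.atMostOneInvolution_quaternionGroup 0
    have h4 : w ^ 4 = 1 := by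
      have h' : ∀ q : QuaternionGroup 2, q ^ 4 = 1 := by decide
      have h'' : (⟨w, hwS⟩ : (S : Subgroup G)) ^ 4 = 1 :=
        e.injective (by rw [map_pow, map_one]; exact h' _)
      simpa using congrArg Subtype.val h''
    have hu : orderOf (w ^ 2) = 2 := orderOf_eq_prime (by rw [← pow_mul]; exact h4) hw1
    have h5 := ZStar.inZStar_of_atMostOneInvolution S huniq hu x
    have h6 : x * w ^ 2 * x⁻¹ * (w ^ 2)⁻¹ = x ^ 2 := by
      calc x * w ^ 2 * x⁻¹ * (w ^ 2)⁻¹ = x * (w ^ 2 * x * (w ^ 2)⁻¹)⁻¹ := by group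
        _ = x ^ 2 := by rw [hwx, inv_inv, pow_two]
    rw [h6] at h5
    obtain ⟨l, hl⟩ := hodd
    have : x = (x ^ 2) ^ (l + 1) := by
      rw [← pow_mul, show 2 * (l + 1) = p + 1 by omega, pow_succ, ← hx, pow_orderOf_eq_one,
        one_mul]
    rw [this]
    exact pow_mem h5 _

/-- A noncyclic Sylow subgroup for an odd prime is commutative. -/
theorem comm_of_not_cyclic (hall : ∀ q : ℕ, q.Prime → PConj G q) (hp : p ≠ 2) (P : Sylow p G)
    (hnc : ¬ IsCyclic (P : Subgroup G)) :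
    ∀ a ∈ (P : Subgroup G), ∀ b ∈ (P : Subgroup G), a * b = b * a := by
  have hpp : p.Prime := Fact.out
  have h : PConj G p := hall p hpp
  have hexp := fun (R : Subgroup G) (hR : IsPGroup p R) => exponent_prime hp h P hnc hR
  have hP : IsPGroup p (P : Subgroup G) := P.2
  by_contra hcon
  -- an element whose commutators are central
  obtain ⟨x, a, z, hxP, haP, hzdef, hz1, hzc, hall'⟩ : ∃ x a z : G, x ∈ (P : Subgroup G) ∧
      a ∈ (P : Subgroup G) ∧ a * x * a⁻¹ * x⁻¹ = z ∧ z ≠ 1 ∧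
      (∀ y ∈ (P : Subgroup G), Commute z y) ∧
      (∀ y ∈ (P : Subgroup G), ∀ v ∈ (P : Subgroup G), Commute (y * x * y⁻¹ * x⁻¹) v) := by
    set Z := Subgroup.center (P : Subgroup G)
    haveI : Nontrivial ((P : Subgroup G) ⧸ Z) := by
      by_contra hnt
      rw [not_nontrivial_iff_subsingleton] at hnt
      refine hcon fun a ha b hb => ?_
      have h1 : (⟨b, hb⟩ : (P : Subgroup G)) ∈ Z :=
        (QuotientGroup.eq_one_iff _).mp (Subsingleton.elim _ _)
      exact congrArg Subtype.val (Subgroup.mem_center_iff.mp h1 ⟨a, ha⟩)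
    haveI := (hP.to_quotient Z).center_nontrivial
    obtain ⟨w, hw⟩ := exists_ne (1 : Subgroup.center ((P : Subgroup G) ⧸ Z))
    obtain ⟨x, hx⟩ := QuotientGroup.mk'_surjective Z (w : (P : Subgroup G) ⧸ Z)
    have hxZ : x ∉ Z := fun hx' => hw (Subtype.ext (by
      rw [← hx, OneMemClass.coe_one]; exact (QuotientGroup.eq_one_iff _).mpr hx'))
    rw [Subgroup.mem_center_iff] at hxZ
    push Not at hxZ
    obtain ⟨a, ha⟩ := hxZ
    have hc : ∀ y : (P : Subgroup G), y * x * y⁻¹ * x⁻¹ ∈ Z := fun y => by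
      rw [← QuotientGroup.eq_one_iff, ← QuotientGroup.mk'_apply, map_mul, map_mul, map_mul,
        map_inv, map_inv, hx, Subgroup.mem_center_iff.mp w.2 (QuotientGroup.mk' Z y),
        mul_inv_cancel_right, mul_inv_cancel]
    refine ⟨x, a, _, x.2, a.2, rfl, fun e => ha (Subtype.ext ?_), fun y hy => ?_,
      fun y hy v hv => ?_⟩
    · rw [mul_inv_eq_one, mul_inv_eq_iff_eq_mul] at e
      simpa using e
    · exact congrArg Subtype.val (Subgroup.mem_center_iff.mp (hc a) ⟨y, hy⟩).symm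
    · exact congrArg Subtype.val (Subgroup.mem_center_iff.mp (hc ⟨y, hy⟩) ⟨v, hv⟩).symm
  have hzP : z ∈ (P : Subgroup G) :=
    hzdef ▸ mul_mem (mul_mem (mul_mem haP hxP) (inv_mem haP)) (inv_mem hxP)
  have hax : a * x * a⁻¹ = z * x := mul_inv_eq_iff_eq_mul.mp hzdef
  have hazx : ¬ Commute a x := fun e => hz1 (by
    rw [← hzdef, e.eq, mul_inv_cancel_right, mul_inv_cancel])
  have hx1 : x ≠ 1 := fun e => hazx (e ▸ Commute.one_right a)
  have hzo : orderOf z = p := orderOf_eq_prime (hexp _ hP z hzP) hz1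
  have hxo : orderOf x = p := orderOf_eq_prime (hexp _ hP x hxP) hx1
  have hzx : Commute z x := hzc x hxP
  have haz : Commute z a := hzc a haP
  have hxz : x ∉ Subgroup.zpowers z := by
    rintro ⟨i, rfl⟩
    exact hazx (haz.symm.zpow_right i)
  obtain ⟨hEcard, hEcomm, -⟩ := sup_zpowers_abelian (zpowers_comm z) hxo hxz
    (by rintro _ ⟨i, rfl⟩; exact hzx.zpow_left i)
  set E := Subgroup.zpowers z ⊔ Subgroup.zpowers x with hE
  rw [Nat.card_zpowers, hzo, ← sq] at hEcard
  have hzE : z ∈ E := Subgroup.mem_sup_left (Subgroup.mem_zpowers z)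
  have hxE : x ∈ E := Subgroup.mem_sup_right (Subgroup.mem_zpowers x)
  have hEP : E ≤ (P : Subgroup G) :=
    sup_le (Subgroup.zpowers_le.mpr hzP) (Subgroup.zpowers_le.mpr hxP)
  have hgen : ∀ u : G, Commute z u → Commute x u → ∀ e ∈ E, Commute e u := by
    intro u h1 h2 e he
    have hle : E ≤ Subgroup.centralizer {u} := sup_le
      (Subgroup.zpowers_le.mpr (Subgroup.mem_centralizer_singleton_iff.mpr h1.eq))
      (Subgroup.zpowers_le.mpr (Subgroup.mem_centralizer_singleton_iff.mpr h2.eq))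
    exact Subgroup.mem_centralizer_singleton_iff.mp (hle he)
  have haE : a ∉ E := fun e => hazx (hEcomm a e x hxE)
  -- a nonabelian subgroup of order p³
  set T := E ⊔ Subgroup.zpowers a with hT
  have hTP : T ≤ (P : Subgroup G) := sup_le hEP (Subgroup.zpowers_le.mpr haP)
  have hnorm : Subgroup.zpowers a ≤ Subgroup.normalizer (E : Set G) := by
    rw [Subgroup.zpowers_le, Subgroup.mem_normalizer_iff_map_conj_eq]
    refine Subgroup.eq_of_le_of_card_ge ?_ (by
      rw [Subgroup.card_map_of_injective (MulAut.conj a).injective])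
    rw [Subgroup.map_le_iff_le_comap]
    refine sup_le (Subgroup.zpowers_le.mpr ?_) (Subgroup.zpowers_le.mpr ?_)
    · show a * z * a⁻¹ ∈ E
      rw [← haz.eq, mul_inv_cancel_right]; exact hzE
    · show a * x * a⁻¹ ∈ E
      rw [hax]; exact mul_mem hzE hxE
  have hTcard : Nat.card T = p ^ 3 := by
    have hle : Nat.card T ≤ p ^ 3 := by
      calc Nat.card T = Nat.card ↥((E : Set G) * (Subgroup.zpowers a : Set G)) := by
            rw [← Subgroup.coe_mul_of_right_le_normalizer_left _ _ hnorm]; rfl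
        _ ≤ Nat.card E * Nat.card (Subgroup.zpowers a) := Set.natCard_mul_le
        _ ≤ p ^ 2 * p := by
          rw [hEcard, Nat.card_zpowers]
          exact Nat.mul_le_mul_left _
            (Nat.le_of_dvd hpp.pos (orderOf_dvd_of_pow_eq_one (hexp _ hP a haP)))
        _ = p ^ 3 := by ring
    have hlt : Nat.card E < Nat.card T := lt_of_not_ge fun hge =>
      haE (Subgroup.eq_of_le_of_card_ge (le_sup_left : E ≤ T) hge ▸
        Subgroup.mem_sup_right (Subgroup.mem_zpowers a))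
    obtain ⟨k, hk⟩ := (hP.to_le hTP).exists_card_eq
    rw [hk] at hle hlt ⊢
    rw [hEcard] at hlt
    have h1 := (Nat.pow_lt_pow_iff_right hpp.one_lt).1 hlt
    have h2 := (Nat.pow_le_pow_iff_right hpp.one_lt).1 hle
    rw [show k = 3 by omega]
  have hnab : ∀ H : Subgroup G, IsPGroup p H → Nat.card H = p ^ 3 →
      ¬ ∀ a ∈ H, ∀ b ∈ H, a * b = b * a := by
    intro H hH hc hcomm
    obtain ⟨g, hg⟩ := h H T hH (hP.to_le hTP) (hc.trans hTcard.symm)
    obtain ⟨a', ha', hae⟩ : a ∈ H.map (MulAut.conj g).toMonoidHom :=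
      hg ▸ Subgroup.mem_sup_right (Subgroup.mem_zpowers a)
    obtain ⟨x', hx', hxe⟩ : x ∈ H.map (MulAut.conj g).toMonoidHom :=
      hg ▸ Subgroup.mem_sup_left hxE
    refine hazx ?_
    show a * x = x * a
    rw [← hae, ← hxe, ← map_mul, ← map_mul, hcomm a' ha' x' hx']
  have hself : ∀ R : Subgroup G, IsPGroup p R → E ≤ R → ∀ u ∈ R, Commute z u → Commute x u →
      u ∈ E := by
    intro R hR hER u hu h1 h2
    by_contra hn
    have hu1 : u ≠ 1 := fun e => hn (e ▸ one_mem E)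
    obtain ⟨hc, hcomm, -⟩ := sup_zpowers_abelian hEcomm (orderOf_eq_prime (hexp R hR u hu) hu1) hn
      (hgen u h1 h2)
    exact hnab _ (hR.to_le (sup_le hER (Subgroup.zpowers_le.mpr hu)))
      (by rw [hc, hEcard, ← pow_succ]) hcomm
  have hPT : (P : Subgroup G) = T := by
    refine le_antisymm (fun y hy => ?_) hTP
    set c := y * x * y⁻¹ * x⁻¹ with hc
    have hcP : c ∈ (P : Subgroup G) :=
      mul_mem (mul_mem (mul_mem hy hxP) (inv_mem hy)) (inv_mem hxP)
    set C := (P : Subgroup G) ⊓ Subgroup.centralizer ((P : Subgroup G) : Set G) with hC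
    have hCc : ∀ u ∈ C, ∀ v ∈ (P : Subgroup G), Commute u v := fun u hu v hv =>
      ((Subgroup.mem_centralizer_iff.mp hu.2) v hv).symm
    have hcC : c ∈ C := ⟨hcP, Subgroup.mem_centralizer_iff.mpr fun v hv =>
      (hall' y hy v hv).symm⟩
    have hzC : z ∈ C := ⟨hzP, Subgroup.mem_centralizer_iff.mpr fun v hv => (hzc v hv).symm⟩
    have hCE : C ≤ E := fun u hu =>
      hself _ hP hEP u hu.1 (hzc u hu.1) (hCc u hu x hxP).symm
    have hcz := le_zpowers_of_lt hEcard hCE hxE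
      (fun hx' => hazx (hCc x hx' a haP).symm) hzC hzo hcC
    obtain ⟨i, hi⟩ := hcz
    simp only at hi
    have hai : ∀ i : ℤ, a ^ i * x * (a ^ i)⁻¹ = z ^ i * x := by
      intro i
      induction i with
      | zero => simp
      | succ n ih =>
        calc a ^ ((n : ℤ) + 1) * x * (a ^ ((n : ℤ) + 1))⁻¹
            = a * (a ^ (n : ℤ) * x * (a ^ (n : ℤ))⁻¹) * a⁻¹ := by rw [add_comm, zpow_one_add]; group
          _ = (a * z ^ (n : ℤ) * a⁻¹) * (a * x * a⁻¹) := by rw [ih]; group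
          _ = z ^ ((n : ℤ) + 1) * x := by
            rw [hax, ← (haz.zpow_left _).eq, mul_inv_cancel_right, zpow_add_one, mul_assoc]
      | pred n ih =>
        have h1 : a⁻¹ * x * a = z⁻¹ * x := by
          calc a⁻¹ * x * a = a⁻¹ * (z⁻¹ * (z * x)) * a := by group
            _ = z⁻¹ * (a⁻¹ * (z * x) * a) := by rw [← mul_assoc a⁻¹, haz.inv_inv.symm.eq]; group
            _ = z⁻¹ * x := by rw [← hax]; group
        calc a ^ (-(n : ℤ) - 1) * x * (a ^ (-(n : ℤ) - 1))⁻¹
            = a⁻¹ * (a ^ (-(n : ℤ)) * x * (a ^ (-(n : ℤ)))⁻¹) * a := by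
              rw [sub_eq_neg_add, zpow_add, zpow_neg_one]; group
          _ = (a⁻¹ * z ^ (-(n : ℤ)) * a) * (a⁻¹ * x * a) := by rw [ih]; group
          _ = z ^ (-(n : ℤ) - 1) * x := by
            rw [h1, ((haz.zpow_left _).inv_right).symm.eq, inv_mul_cancel_right, zpow_sub_one,
              mul_assoc]
    have hyx : y * x * y⁻¹ = z ^ i * x := by rw [hi, hc]; group
    set u := (a ^ i)⁻¹ * y with hu
    have huP : u ∈ (P : Subgroup G) := mul_mem (inv_mem (zpow_mem haP i)) hy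
    have hux : u * x * u⁻¹ = x := by
      calc u * x * u⁻¹ = (a ^ i)⁻¹ * (y * x * y⁻¹) * a ^ i := by rw [hu]; group
        _ = x := by rw [hyx, ← hai i]; group
    have huE := hself _ hP hEP u huP (hzc u huP) (mul_inv_eq_iff_eq_mul.mp hux).symm
    have : y = a ^ i * u := by rw [hu]; group
    rw [this]
    exact mul_mem (Subgroup.mem_sup_right (Subgroup.zpow_mem_zpowers a i))
      (Subgroup.mem_sup_left huE)
  have hPcard : Nat.card (P : Subgroup G) = p ^ 3 := by rw [hPT, hTcard]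
  have hsyl : ∀ Q : Sylow p G, Nat.card (Q : Subgroup G) = p ^ 3 := fun Q => by
    rw [← hPcard, Q.card_eq_multiplicity, P.card_eq_multiplicity]
  -- a conjugate of z generates ⟨x⟩
  obtain ⟨g₀, hg₀⟩ := h (Subgroup.zpowers z) (Subgroup.zpowers x)
    (hP.to_le (Subgroup.zpowers_le.mpr hzP)) (hP.to_le (Subgroup.zpowers_le.mpr hxP))
    (by rw [Nat.card_zpowers, Nat.card_zpowers, hzo, hxo])
  obtain ⟨_, ⟨i, rfl⟩, hi⟩ : x ∈ (Subgroup.zpowers z).map (MulAut.conj g₀).toMonoidHom :=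
    hg₀ ▸ Subgroup.mem_zpowers x
  simp only [MulEquiv.coe_toMonoidHom, MulAut.conj_apply] at hi
  set C := Subgroup.centralizer ({x} : Set G) with hC
  set P0 := (P : Subgroup G).map (MulAut.conj g₀).toMonoidHom with hP0
  have hP0C : P0 ≤ C := by
    rintro _ ⟨y, hy, rfl⟩
    rw [hC, Subgroup.mem_centralizer_singleton_iff, ← hi]
    simp only [MulEquiv.coe_toMonoidHom, MulAut.conj_apply]
    have := ((hzc y hy).zpow_left i).eq
    calc g₀ * y * g₀⁻¹ * (g₀ * z ^ i * g₀⁻¹) = g₀ * (y * z ^ i) * g₀⁻¹ := by group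
      _ = g₀ * (z ^ i * y) * g₀⁻¹ := by rw [this]
      _ = g₀ * z ^ i * g₀⁻¹ * (g₀ * y * g₀⁻¹) := by group
  have hEC : E ≤ C := fun e he => by
    rw [hC, Subgroup.mem_centralizer_singleton_iff]
    exact hEcomm e he x hxE
  obtain ⟨Q, hQ⟩ := IsPGroup.exists_le_sylow
    ((hP.to_le hEP).of_equiv (Subgroup.subgroupOfEquivOfLe hEC).symm)
  obtain ⟨Q2, hQ2⟩ := IsPGroup.exists_le_sylow
    ((hP.map (MulAut.conj g₀).toMonoidHom).of_equiv (Subgroup.subgroupOfEquivOfLe hP0C).symm)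
  have hQcard : p ^ 3 ≤ Nat.card (Q : Subgroup C) := by
    rw [Q.card_eq_multiplicity, ← Q2.card_eq_multiplicity]
    refine le_trans ?_ (Subgroup.card_le_of_le hQ2)
    rw [Nat.card_congr (Subgroup.subgroupOfEquivOfLe hP0C).toEquiv, hP0,
      Subgroup.card_map_of_injective (MulAut.conj g₀).injective, hPcard]
  obtain ⟨R, hR⟩ := IsPGroup.exists_le_sylow (Q.2.map C.subtype)
  have hRQ : (Q : Subgroup C).map C.subtype = (R : Subgroup G) :=
    Subgroup.eq_of_le_of_card_ge hR (by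
      rw [hsyl R, Subgroup.card_map_of_injective C.subtype_injective]; exact hQcard)
  have hER : E ≤ (R : Subgroup G) := fun e he =>
    hRQ ▸ ⟨⟨e, hEC he⟩, hQ he, rfl⟩
  have hxR : ∀ r ∈ (R : Subgroup G), Commute x r := by
    intro r hr
    rw [← hRQ] at hr
    obtain ⟨q, -, rfl⟩ := hr
    exact (Subgroup.mem_centralizer_singleton_iff.mp q.2).symm
  obtain ⟨b₀, hb₀R, hb₀⟩ : ∃ b ∈ (R : Subgroup G), ¬ Commute z b := by
    by_contra hcon2
    push Not at hcon2
    have hle : (R : Subgroup G) ≤ E := fun r hr =>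
      hself _ R.2 hER r hr (hcon2 r hr) (hxR r hr)
    have h1 := Subgroup.card_le_of_le hle
    rw [hsyl R, hEcard] at h1
    have := (Nat.pow_le_pow_iff_right hpp.one_lt).1 h1
    omega
  -- the commutator of b₀ and z generates ⟨x⟩
  set v := z⁻¹ * (b₀ * z * b₀⁻¹) with hv
  have hv1 : v ≠ 1 := fun e => hb₀ (by
    rw [hv, inv_mul_eq_one] at e
    exact mul_inv_eq_iff_eq_mul.mp e.symm |>.symm)
  have hvx : v ∈ Subgroup.zpowers x := by
    refine le_zpowers_of_lt (C := (R : Subgroup G) ⊓ Subgroup.centralizer ((R : Subgroup G) : Set G))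
      hEcard (fun u hu => hself _ R.2 hER u hu.1
        ((Subgroup.mem_centralizer_iff.mp hu.2) z (hER hzE))
        ((Subgroup.mem_centralizer_iff.mp hu.2) x (hER hxE))) hzE
      (fun hz' => hb₀ ((Subgroup.mem_centralizer_iff.mp hz'.2) b₀ hb₀R).symm)
      ⟨hER hxE, Subgroup.mem_centralizer_iff.mpr fun r hr => (hxR r hr).symm⟩ hxo ?_
    have hvR : v ∈ (R : Subgroup G) :=
      mul_mem (inv_mem (hER hzE)) (mul_mem (mul_mem hb₀R (hER hzE)) (inv_mem hb₀R))
    refine ⟨hvR, Subgroup.mem_centralizer_iff.mpr fun r hr => ?_⟩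
    have h1 := PGroup.comm_mem_center_of_card_dvd (P := (R : Subgroup G)) (hsyl R).dvd
      (⟨z, hER hzE⟩⁻¹) ⟨b₀, hb₀R⟩
    have h2 := congrArg Subtype.val (Subgroup.mem_center_iff.mp h1 ⟨r, hr⟩)
    simp only [commutatorElement_def, Subgroup.coe_mul, InvMemClass.coe_inv, inv_inv] at h2
    have e : v = z⁻¹ * b₀ * z * b₀⁻¹ := by rw [hv]; group
    rw [e]; exact h2
  obtain ⟨k, hk⟩ : ∃ k : ℕ, v ^ k = x⁻¹ := by
    have h1 : x⁻¹ ∈ Subgroup.zpowers v := inv_mem (mem_zpowers_symm hxo hvx hv1)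
    exact (mem_powers_iff_mem_zpowers).mpr h1
  set b := b₀ ^ k with hb
  have hbz : b * z * b⁻¹ = z * x⁻¹ := by
    rw [hb, conj_pow_shift (w := v) (by rw [hv]; group) ?_ k, hk]
    obtain ⟨j, hj⟩ := hvx
    rw [← hj]
    exact ((hxR b₀ hb₀R).zpow_left j).symm
  have hbx : b * x * b⁻¹ = x := by
    rw [← ((hxR b₀ hb₀R).pow_right k).eq, mul_inv_cancel_right]
  -- an element inverting x
  set g := a * b * a with hg
  have hazc : a * z * a⁻¹ = z := by rw [← haz.eq, mul_inv_cancel_right]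
  have hgz : g * z * g⁻¹ = x⁻¹ := by
    calc g * z * g⁻¹ = a * (b * (a * z * a⁻¹) * b⁻¹) * a⁻¹ := by rw [hg]; group
      _ = a * (z * x⁻¹) * a⁻¹ := by rw [hazc, hbz]
      _ = (a * z * a⁻¹) * (a * x * a⁻¹)⁻¹ := by group
      _ = z * x⁻¹ * z⁻¹ := by rw [hazc, hax]; group
      _ = x⁻¹ := by rw [hzx.inv_right.eq, mul_inv_cancel_right]
  have hgx : g * x * g⁻¹ = z := by
    calc g * x * g⁻¹ = a * (b * (a * x * a⁻¹) * b⁻¹) * a⁻¹ := by rw [hg]; group
      _ = a * ((b * z * b⁻¹) * (b * x * b⁻¹)) * a⁻¹ := by rw [hax]; group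
      _ = z := by rw [hbz, hbx, inv_mul_cancel_right, hazc]
  have hxO : x ∈ pPrimeCore 2 G := by
    refine mem_oddCore_of_inverted (hall 2 Nat.prime_two) hxo hp (g := g) ?_
    calc g ^ 2 * x * (g ^ 2)⁻¹ = g * (g * x * g⁻¹) * g⁻¹ := by rw [pow_two]; group
      _ = x⁻¹ := by rw [hgx, hgz]
  -- normal subgroups containing an element of order p contain P
  have hfull : ∀ N : Subgroup G, N.Normal → ∀ d : G, orderOf d = p → d ∈ N →
      (P : Subgroup G) ≤ N := by
    intro N hN d hd hdN y hy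
    by_cases hy1 : y = 1
    · exact hy1 ▸ one_mem N
    have hyo : orderOf y = p := orderOf_eq_prime (hexp _ hP y hy) hy1
    obtain ⟨g', hg'⟩ := h (Subgroup.zpowers d) (Subgroup.zpowers y)
      (IsPGroup.of_card (n := 1) (by rw [Nat.card_zpowers, hd, pow_one]))
      (IsPGroup.of_card (n := 1) (by rw [Nat.card_zpowers, hyo, pow_one]))
      (by rw [Nat.card_zpowers, Nat.card_zpowers, hd, hyo])
    obtain ⟨e, he, hey⟩ : y ∈ (Subgroup.zpowers d).map (MulAut.conj g').toMonoidHom :=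
      hg' ▸ Subgroup.mem_zpowers y
    rw [← hey]
    exact hN.conj_mem e (Subgroup.zpowers_le.mpr hdN he) g'
  haveI : Fact (Nat.Prime 2) := ⟨Nat.prime_two⟩
  have hPO : (P : Subgroup G) ≤ pPrimeCore 2 G :=
    hfull _ (Constrained.instNormalPPrimeCore 2) x hxo hxO
  set L := Subgroup.normalClosure ((P : Subgroup G) : Set G) with hL
  have hPL : (P : Subgroup G) ≤ L := Subgroup.subset_normalClosure
  haveI : Group.IsSolvable ↥(pPrimeCore 2 G) := Cfsg.Agent.S0205.result (by
    rw [← Nat.not_even_iff_odd, even_iff_two_dvd]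
    exact Constrained.pPrimeCore_not_dvd)
  haveI : Group.IsSolvable L := Group.isSolvable_of_isSolvable_injective
    (Subgroup.inclusion_injective (Subgroup.normalClosure_le_normal hPO : L ≤ pPrimeCore 2 G))
  haveI : Nontrivial L := ⟨⟨⟨x, hPL hxP⟩, 1, fun e => hx1 (congrArg Subtype.val e)⟩⟩
  have hlt : ⁅L, L⁆ < L := by
    have h1 : Subgroup.map L.subtype (⊤ : Subgroup L) = L := by
      rw [← MonoidHom.range_eq_map, Subgroup.range_subtype]
    have h2 := Subgroup.map_subtype_lt_map_subtype.mpr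
      (Group.IsSolvable.commutator_lt_top_of_nontrivial L)
    rwa [commutator_def, Subgroup.map_commutator, h1] at h2
  have htriv : ∀ d ∈ (P : Subgroup G), d ∈ ⁅L, L⁆ → d = 1 := by
    intro d hdP hd
    by_contra hd1
    exact hlt.not_ge (Subgroup.normalClosure_le_normal
      (hfull _ inferInstance d (orderOf_eq_prime (hexp _ hP d hdP) hd1) hd))
  have hfr : g₀⁻¹ ∈ Subgroup.normalizer ((P : Subgroup G) : Set G) ⊔ L := by
    have h1 : Subgroup.normalizer ((P : Subgroup G) : Set G) ⊔ L = ⊤ :=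
      Sylow.normalizer_sup_eq_top' P hPL
    rw [h1]; trivial
  obtain ⟨n, hn, l, hl, hnl⟩ := Subgroup.mem_sup_of_normal_right.mp hfr
  have hlx : l * x * l⁻¹ = n⁻¹ * z ^ i * n := by
    calc l * x * l⁻¹ = n⁻¹ * ((n * l) * x * (n * l)⁻¹) * n := by group
      _ = n⁻¹ * z ^ i * n := by rw [hnl, ← hi]; group
  have hdP : l * x * l⁻¹ ∈ (P : Subgroup G) := by
    rw [hlx]
    exact (Subgroup.mem_normalizer_iff''.mp hn (z ^ i)).mp (zpow_mem hzP i)
  have hd : l * x * l⁻¹ * x⁻¹ = 1 :=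
    htriv _ (mul_mem hdP (inv_mem hxP)) (Subgroup.commutator_mem_commutator hl (hPL hxP))
  rw [mul_inv_eq_one, hlx] at hd
  refine hazx ?_
  have hna : n * a * n⁻¹ ∈ (P : Subgroup G) := (Subgroup.mem_normalizer_iff.mp hn a).mp haP
  have := ((hzc _ hna).zpow_left i).eq
  show a * x = x * a
  rw [← hd]
  calc a * (n⁻¹ * z ^ i * n) = n⁻¹ * (n * a * n⁻¹ * z ^ i) * n := by group
    _ = n⁻¹ * (z ^ i * (n * a * n⁻¹)) * n := by rw [this]
    _ = n⁻¹ * z ^ i * n * a := by group

theorem sylow_structure (hall : ∀ q : ℕ, q.Prime → PConj G q) (P : Sylow p G) :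
    IsCyclic P ∨ IsElementaryAbelian p (P : Subgroup G) ∨
      Nonempty ((P : Subgroup G) ≃* QuaternionGroup 2) := by
  by_cases hp : p = 2
  · subst hp
    rcases sylow_two_shape (hall 2 Nat.prime_two) P with hel | hc | he
    · refine Or.inr (Or.inl ⟨⟨⟨fun a b => Subtype.ext ?_⟩⟩, fun a ha => ?_⟩)
      · have ha := eq_inv_of_mul_eq_one_left (hel _ a.2)
        have hb := eq_inv_of_mul_eq_one_left (hel _ b.2)
        have hab := eq_inv_of_mul_eq_one_left (hel _ (mul_mem a.2 b.2))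
        show (a : G) * b = b * a
        rw [hab, mul_inv_rev, ← ha, ← hb]
      · rw [pow_two]; exact hel a ha
    · exact Or.inl hc
    · exact Or.inr (Or.inr he)
  · by_cases hc : IsCyclic (P : Subgroup G)
    · exact Or.inl hc
    · exact Or.inr (Or.inl ⟨⟨⟨fun a b => Subtype.ext
        (comm_of_not_cyclic hall hp P hc a a.2 b b.2)⟩⟩,
        exponent_prime hp (hall p Fact.out) P hc P.2⟩)

end CfsgLib.PSubConj60
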