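import Cfsg.Statements.S4126
import Cfsg.Agent.Eq.Def_Transfer
import Cfsg.Agent.Transfer.Frobenius
import Cfsg.Agent.Coprime.Stabilizer
import Cfsg.Agent.Fusion.Alperin.SmallOrder
import Mathlib

set_option autoImplicit false
open Cfsg
open scoped commutatorElement

namespace Cfsg.Agent.S4126

variable {p : ℕ} [Fact p.Prime]

/-- The small elements of a critical subgroup are closed under products. -/
theorem small_mul {P : Type*} [Group P] {C : Subgroup P}
    (hC : CfsgLib.PGroup.IsCriticalSubgroup p C) {q : ℕ} (hq : (p ≠ 2 ∧ q = p) ∨ (p = 2 ∧ q = 4))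
    {a b : P} (ha : a ∈ C) (hb : b ∈ C) (ha1 : a ^ q = 1) (hb1 : b ^ q = 1) : (a * b) ^ q = 1 := by
  set a' : C := ⟨a, ha⟩
  set b' : C := ⟨b, hb⟩
  have hcl := hC.class_two
  have hcp : ⁅a', b'⁆ ^ p = 1 := by
    rw [← CfsgLib.PGroup.commutatorElement_pow_left' hcl, commutatorElement_eq_one_iff_mul_comm]
    exact (Subgroup.mem_center_iff.1 (hC.pow_mem_center a') b').symm
  have hid := CfsgLib.PGroup.mul_pow_mul_commutatorElement
    (CfsgLib.PGroup.commute_commutatorElement hcl a' b' a')
    (CfsgLib.PGroup.commute_commutatorElement hcl a' b' b') q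
  have ha' : a' ^ q = 1 := Subtype.ext ha1
  have hb' : b' ^ q = 1 := Subtype.ext hb1
  have hchoose : ⁅a', b'⁆ ^ q.choose 2 = 1 := by
    rcases hq with ⟨hp2, hqp⟩ | ⟨hp2, hq4⟩
    · obtain ⟨m, hm⟩ := CfsgLib.PGroup.dvd_choose_two_of_odd ((Fact.out : p.Prime).odd_of_ne_two hp2)
      rw [hqp, hm, pow_mul, hcp, one_pow]
    · rw [hq4, show Nat.choose 4 2 = p * 3 by rw [hp2]; rfl, pow_mul, hcp, one_pow]
  rw [hchoose, ha', hb', mul_one, mul_one] at hid
  exact congrArg Subtype.val hid

/-- A `p'`-automorphism fixing the small elements of a critical subgroup is trivial. -/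
theorem eq_one_of_fixes_critical {P : Type*} [Group P] [Finite P] (hP : IsPGroup p P) {C : Subgroup P}
    (hC : CfsgLib.PGroup.IsCriticalSubgroup p C) {q : ℕ} (hq : (p ≠ 2 ∧ q = p) ∨ (p = 2 ∧ q = 4))
    {σ : MulAut P} (hσ : (orderOf σ).Coprime p) (hfix : ∀ x ∈ C, x ^ q = 1 → σ x = x) : σ = 1 := by
  let σC : MulAut C := (σ.subgroupMap C).trans
    (MulEquiv.subgroupCongr (Subgroup.characteristic_iff_map_eq.1 hC.characteristic σ))
  have σC_apply : ∀ x : C, ((σC x : C) : P) = σ x := fun _ => rfl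
  have key : ∀ (j : ℕ) (x : C), (((σC ^ j) x : C) : P) = (σ ^ j) x := by
    intro j x
    induction j with
    | zero => rfl
    | succ j ihj => rw [pow_succ', MulAut.mul_apply, σC_apply, ihj, pow_succ', MulAut.mul_apply]
  have hσC : σC = 1 := by
    refine CfsgLib.Fusion.Alperin.eq_one_of_fixes_small (hP.to_subgroup C) hC.class_two hC.pow_mem_center hq
      ?_ fun x hx => Subtype.ext ?_
    · refine hσ.coprime_dvd_left (orderOf_dvd_of_pow_eq_one (MulEquiv.ext fun x => Subtype.ext ?_))
      rw [key, pow_orderOf_eq_one]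
      rfl
    · rw [σC_apply]
      exact hfix x x.2 (congrArg Subtype.val hx)
  refine hC.aut_eq_one hP hσ fun c hc => ?_
  have h := σC_apply ⟨c, hc⟩
  rw [hσC] at h
  exact h.symm

/-- A `p'`-automorphism of a `p`-group fixing all small elements is trivial. -/
theorem eq_one_of_fixes {P : Type*} [Group P] [Finite P] (hP : IsPGroup p P)
    {q : ℕ} (hq : (p ≠ 2 ∧ q = p) ∨ (p = 2 ∧ q = 4)) {σ : MulAut P} (hσ : (orderOf σ).Coprime p)
    (hfix : ∀ x : P, x ^ q = 1 → σ x = x) : σ = 1 := by
  obtain ⟨C, hC⟩ := CfsgLib.PGroup.exists_criticalSubgroup (p := p) hP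
  exact eq_one_of_fixes_critical hP hC hq hσ fun x _ => hfix x

variable {G : Type*} [Group G] [Finite G]

/-- An element whose class has `p`-power size has its class inside one orbit of any Sylow subgroup. -/
theorem exists_factor {x : G} {a : ℕ} (ha : (Subgroup.centralizer ({x} : Set G)).index = p ^ a)
    (S : Sylow p G) (h : G) :
    ∃ s ∈ (S : Subgroup G), ∃ c ∈ Subgroup.centralizer ({x} : Set G), h = s * c := by
  classical
  set C := Subgroup.centralizer ({x} : Set G)
  -- the orbit of the trivial coset under `S` is everything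
  let f : (S : Subgroup G) ⧸ C.subgroupOf (S : Subgroup G) → G ⧸ C :=
    Quotient.map' Subtype.val (fun u v huv => by
      rw [QuotientGroup.leftRel_apply] at huv ⊢
      exact huv)
  have hf : Function.Injective f := by
    intro u v
    induction u using QuotientGroup.induction_on with | H u => ?_
    induction v using QuotientGroup.induction_on with | H v => ?_
    intro huv
    exact QuotientGroup.eq.2 (QuotientGroup.eq.1 huv :)
  have hcard : Nat.card (G ⧸ C) ≤ Nat.card ((S : Subgroup G) ⧸ C.subgroupOf (S : Subgroup G)) := by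
    show C.index ≤ (C.subgroupOf (S : Subgroup G)).index
    set k := (C.subgroupOf (S : Subgroup G)).index
    have h1 : Nat.card (C.subgroupOf (S : Subgroup G)) * k = p ^ (Nat.card G).factorization p := by
      rw [Subgroup.card_mul_index, S.card_eq_multiplicity]
    obtain ⟨i, -, hi⟩ := (Nat.dvd_prime_pow Fact.out).1 (Dvd.intro k h1)
    have hdvdC : Nat.card (C.subgroupOf (S : Subgroup G)) ∣ Nat.card C := by
      rw [← Subgroup.card_map_of_injective (f := (S : Subgroup G).subtype) Subtype.val_injective]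
      exact Subgroup.card_dvd_of_le (by
        rintro _ ⟨y, hy, rfl⟩
        exact hy)
    have h2 : Nat.card (C.subgroupOf (S : Subgroup G)) * C.index ∣ p ^ (Nat.card G).factorization p := by
      rw [hi, ha, ← pow_add]
      rw [hi] at hdvdC
      refine Nat.pow_dvd_pow p ((Fact.out : p.Prime).pow_dvd_iff_le_factorization Nat.card_pos.ne' |>.1 ?_)
      rw [pow_add, ← ha]
      exact C.card_mul_index ▸ mul_dvd_mul_right hdvdC _
    rw [← h1] at h2
    exact Nat.le_of_dvd (Nat.pos_of_ne_zero Subgroup.index_ne_zero_of_finite)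
      ((Nat.mul_dvd_mul_iff_left Nat.card_pos).1 h2)
  have hsurj : Function.Surjective f :=
    ((Nat.bijective_iff_injective_and_card f).2 ⟨hf, le_antisymm (Nat.card_le_card_of_injective f hf) hcard⟩).2
  obtain ⟨u, hu⟩ := hsurj (QuotientGroup.mk h)
  induction u using QuotientGroup.induction_on with | H u => ?_
  exact ⟨u, u.2, (u : G)⁻¹ * h, QuotientGroup.eq.1 hu, by group⟩

theorem main (h : ∀ x : G, (orderOf x = p ∨ (p = 2 ∧ orderOf x = 4)) →
      ∃ a : ℕ, (Subgroup.centralizer ({x} : Set G)).index = p ^ a) :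
    Cfsg.HasNormalPComplement p G := by
  classical
  have hp : p.Prime := Fact.out
  obtain ⟨q, hq⟩ : ∃ q, (p ≠ 2 ∧ q = p) ∨ (p = 2 ∧ q = 4) := by
    rcases eq_or_ne p 2 with h2 | h2
    · exact ⟨4, Or.inr ⟨h2, rfl⟩⟩
    · exact ⟨p, Or.inl ⟨h2, rfl⟩⟩
  -- factorization for small elements
  have hfac : ∀ x : G, x ^ q = 1 → x ≠ 1 → ∀ (S : Sylow p G) (k : G),
      ∃ s ∈ (S : Subgroup G), ∃ c ∈ Subgroup.centralizer ({x} : Set G), k = s * c := by
    intro x hx hx1 S k
    have hord : orderOf x = p ∨ (p = 2 ∧ orderOf x = 4) := by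
      have hd := orderOf_dvd_of_pow_eq_one hx
      have h1 : orderOf x ≠ 1 := fun h1 => hx1 (orderOf_eq_one_iff.1 h1)
      rcases hq with ⟨-, rfl⟩ | ⟨h2, rfl⟩
      · exact Or.inl ((hp.eq_one_or_self_of_dvd _ hd).resolve_left h1)
      · rw [show (4 : ℕ) = 2 ^ 2 from rfl, Nat.dvd_prime_pow Nat.prime_two] at hd
        obtain ⟨i, hi, hi'⟩ := hd
        interval_cases i
        · exact absurd hi' (by simpa using h1)
        · exact Or.inl (by rw [hi', h2]; rfl)
        · exact Or.inr ⟨h2, hi'⟩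
    obtain ⟨a, ha⟩ := h x hord
    exact exists_factor ha S k
  -- all small elements lie in a normal `p`-subgroup
  set T := Subgroup.normalClosure {x : G | x ^ q = 1} with hTdef
  have hsmallT : ∀ x : G, x ^ q = 1 → x ∈ T := fun x hx => Subgroup.subset_normalClosure hx
  have hTp : IsPGroup p T := by
    obtain ⟨S⟩ := (inferInstance : Nonempty (Sylow p G))
    refine S.2.to_le ((Subgroup.closure_le _).2 fun y hy => ?_)
    obtain ⟨x, hx, hxy⟩ := Group.mem_conjugatesOfSet_iff.1 hy
    obtain ⟨k, rfl⟩ := isConj_iff.1 hxy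
    by_cases hx1 : x = 1
    · simp [hx1]
    have hxp : IsPGroup p (Subgroup.zpowers x) := by
      rcases hq with ⟨-, rfl⟩ | ⟨h2, rfl⟩
      · exact IsPGroup.of_card (n := 1) (by rw [Nat.card_zpowers, pow_one, orderOf_eq_prime hx hx1])
      · have hd := orderOf_dvd_of_pow_eq_one hx
        rw [show (4 : ℕ) = 2 ^ 2 from rfl, Nat.dvd_prime_pow Nat.prime_two] at hd
        obtain ⟨i, -, hi⟩ := hd
        exact IsPGroup.of_card (n := i) (by rw [Nat.card_zpowers, hi, h2])
    obtain ⟨S', hS'⟩ := hxp.exists_le_sylow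
    obtain ⟨g, rfl⟩ := MulAction.exists_smul_eq G S' S
    set x' := g * x * g⁻¹ with hx'
    have hmem : x' ∈ ((g • S' : Sylow p G) : Subgroup G) := by
      rw [Sylow.coe_subgroup_smul]
      exact Subgroup.smul_mem_pointwise_smul x (MulAut.conj g) _ (hS' (Subgroup.mem_zpowers x))
    obtain ⟨s, hs, c, hc, hk⟩ := hfac x' (by rw [hx', conj_pow, hx, mul_one, mul_inv_cancel])
      (by rw [hx']; exact fun h1 => hx1 (conj_eq_one_iff.1 h1)) (g • S') (k * g⁻¹)
    have hcx : c * x' * c⁻¹ = x' := by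
      rw [(Subgroup.mem_centralizer_singleton_iff.1 hc), mul_inv_cancel_right]
    have : k * x * k⁻¹ = s * x' * s⁻¹ := by
      calc k * x * k⁻¹ = (k * g⁻¹) * x' * (k * g⁻¹)⁻¹ := by rw [hx']; group
        _ = s * (c * x' * c⁻¹) * s⁻¹ := by rw [hk]; group
        _ = _ := by rw [hcx]
    rw [this]
    exact mul_mem (mul_mem hs hmem) (inv_mem hs)
  haveI : T.Normal := Subgroup.normalClosure_normal
  -- every `p'`-element centralizes `T`
  have hT : ∀ g : G, (orderOf g).Coprime p → ∀ t ∈ T, g * t = t * g := by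
    obtain ⟨C, hC⟩ := CfsgLib.PGroup.exists_criticalSubgroup (p := p) hTp
    haveI := hC.characteristic
    let W : Subgroup G :=
      { carrier := {w | ∃ hw : w ∈ T, (⟨w, hw⟩ : T) ∈ C ∧ (⟨w, hw⟩ : T) ^ q = 1}
        one_mem' := ⟨one_mem _, C.one_mem, one_pow q⟩
        mul_mem' := fun {a b} ⟨ha, haC, haq⟩ ⟨hb, hbC, hbq⟩ =>
          ⟨mul_mem ha hb, C.mul_mem haC hbC, small_mul hC hq haC hbC haq hbq⟩
        inv_mem' := fun {a} ⟨ha, haC, haq⟩ =>
          ⟨inv_mem ha, C.inv_mem haC, by
            show (⟨a, ha⟩ : T)⁻¹ ^ q = 1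
            rw [inv_pow, haq, inv_one]⟩ }
    have hWn : W.Normal := ⟨fun w ⟨hw, hwC, hwq⟩ g =>
      ⟨Subgroup.Normal.conj_mem inferInstance w hw g,
        (Subgroup.characteristic_iff_map_eq.1 hC.characteristic (MulAut.conjNormal g)).le
          ⟨⟨w, hw⟩, hwC, rfl⟩, by
        show (MulAut.conjNormal g ⟨w, hw⟩ : T) ^ q = 1
        rw [← map_pow, hwq, map_one]⟩⟩
    have hWp : IsPGroup p W := hTp.to_le fun w ⟨hw, _⟩ => hw
    have hWsmall : ∀ w ∈ W, w ^ q = 1 := fun w ⟨hw, _, hwq⟩ => congrArg Subtype.val hwq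
    -- a maximal centralized normal subgroup of `W`
    obtain ⟨M, ⟨hMW, hMn, hMc⟩, hMmax⟩ := Set.Finite.exists_maximal
      (Set.toFinite {M : Subgroup G | M ≤ W ∧ M.Normal ∧ ∀ g : G, (orderOf g).Coprime p → ∀ m ∈ M, g * m = m * g})
      ⟨⊥, bot_le, inferInstance, fun g _ m hm => by rw [Subgroup.mem_bot] at hm; simp [hm]⟩
    have hWM : M = W := by
      by_contra hne
      obtain ⟨S⟩ := (inferInstance : Nonempty (Sylow p G))
      -- a fixed point of `S` on `W` modulo `M`
      set Wq := W.map (QuotientGroup.mk' M) with hWq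
      haveI : Wq.Normal := hWn.map _ (QuotientGroup.mk'_surjective M)
      have hnt : Wq ≠ ⊥ := fun hb => hne (le_antisymm hMW fun w hw => by
        have : QuotientGroup.mk' M w ∈ Wq := ⟨w, hw, rfl⟩
        rwa [hb, Subgroup.mem_bot, QuotientGroup.mk'_apply, QuotientGroup.eq_one_iff] at this)
      let φ : (S : Subgroup G) →* MulAut Wq :=
        (MulAut.conjNormal (H := Wq)).comp ((QuotientGroup.mk' M).comp (S : Subgroup G).subtype)
      letI : MulAction (S : Subgroup G) Wq := MulAction.compHom Wq φ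
      have hdvd : p ∣ Nat.card Wq := by
        obtain ⟨i, hi⟩ := IsPGroup.iff_card.1 (hWp.map (QuotientGroup.mk' M))
        have hi0 : i ≠ 0 := fun h0 => hnt (Subgroup.card_eq_one.1 (by rw [hi, h0, pow_zero]))
        rw [hi]
        exact dvd_pow_self p hi0
      have hone : (1 : Wq) ∈ MulAction.fixedPoints (S : Subgroup G) Wq := fun s => map_one (φ s)
      obtain ⟨⟨wq, w, hw, rfl⟩, hfix, hne1⟩ :=
        S.2.exists_fixed_point_of_prime_dvd_card_of_fixed_point Wq hdvd hone
      have hwM : w ∉ M := fun hwM => hne1 (Subtype.ext ((QuotientGroup.eq_one_iff w).2 hwM).symm)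
      have hw1 : w ≠ 1 := fun h1 => hwM (h1 ▸ M.one_mem)
      have hcen : ∀ k : G, k * w * k⁻¹ * w⁻¹ ∈ M := by
        intro k
        obtain ⟨s, hs, c, hc, rfl⟩ := hfac w (hWsmall w hw) hw1 S k
        have hcw : c * w * c⁻¹ = w := by
          rw [(Subgroup.mem_centralizer_singleton_iff.1 hc), mul_inv_cancel_right]
        have hsw : ((s * w * s⁻¹ : G) : G ⧸ M) = (w : G ⧸ M) := by
          have := congrArg Subtype.val (hfix ⟨s, hs⟩)
          exact this
        have : s * c * w * (s * c)⁻¹ = s * w * s⁻¹ := by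
          conv_rhs => rw [← hcw]
          group
        rw [this, ← QuotientGroup.eq_one_iff, QuotientGroup.mk_mul, hsw, ← QuotientGroup.mk_mul,
          mul_inv_cancel, QuotientGroup.mk_one]
      set M' := M ⊔ Subgroup.zpowers w
      have hM'n : M'.Normal := by
        rw [← Subgroup.normalizer_eq_top_iff, eq_top_iff]
        intro k _
        refine Subgroup.mem_normalizer_fintype (S := (M' : Set G)) fun y hy => ?_
        have hle : M' ≤ M'.comap (MulAut.conj k).toMonoidHom := by
          refine sup_le (fun m hm => (le_sup_left : M ≤ M') (hMn.conj_mem m hm k)) (Subgroup.zpowers_le.2 ?_)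
          show k * w * k⁻¹ ∈ M'
          rw [← inv_mul_cancel_right (k * w * k⁻¹) w]
          exact M'.mul_mem ((le_sup_left : M ≤ M') (hcen k)) ((le_sup_right : _ ≤ M') (Subgroup.mem_zpowers w))
        exact hle hy
      have hM' := hMmax (y := M') ⟨sup_le hMW (Subgroup.zpowers_le.2 hw), hM'n, fun g hg m hm => by
        have hle : M' ≤ Subgroup.centralizer ({g} : Set G) := by
          refine sup_le (fun x hx => ?_) (Subgroup.zpowers_le.2 ?_)
          · rw [Subgroup.mem_centralizer_singleton_iff]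
            exact (hMc g hg x hx).symm
          · rw [Subgroup.mem_centralizer_singleton_iff]
            obtain ⟨i, hi⟩ := IsPGroup.iff_card.1 (hWp.to_le hMW)
            exact (CfsgLib.Coprime.commute_of_commute_commutator_mem (hMc g hg _ (hcen g)) (hcen g)
              (hi ▸ hg.pow_right i)).symm
        exact (Subgroup.mem_centralizer_singleton_iff.1 (hle hm)).symm⟩ le_sup_left
      exact hwM (hM' ((le_sup_right : _ ≤ M') (Subgroup.mem_zpowers w)))
    intro g hg t ht
    have hσ : MulAut.conjNormal g = (1 : MulAut T) := by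
      refine eq_one_of_fixes_critical hTp hC hq (hg.coprime_dvd_left (orderOf_map_dvd _ g)) fun x hxC hxq => ?_
      apply Subtype.ext
      rw [MulAut.conjNormal_apply, hMc g hg x (hWM ▸ ⟨x.2, hxC, hxq⟩), mul_inv_cancel_right]
    have := congrArg Subtype.val (DFunLike.congr_fun hσ ⟨t, ht⟩)
    simp only [MulAut.conjNormal_apply, MulAut.one_apply] at this
    exact mul_inv_eq_iff_eq_mul.1 this
  refine CfsgLib.Transfer.hasNormalPComplement_of_pLocal_centralizes fun Q hQ g hg hgc => ?_
  let σ : Subgroup.normalizer (Q : Set G) →* MulAut Q := Q.normalizerMonoidHom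
  have hσ : σ ⟨g, hg⟩ = 1 := by
    refine eq_one_of_fixes hQ hq ?_ fun x hx => ?_
    · refine hgc.coprime_dvd_left ((orderOf_map_dvd σ _).trans ?_)
      rw [Subgroup.orderOf_mk]
    · apply Subtype.ext
      show g * x * g⁻¹ = x
      rw [hT g hgc x (hsmallT x (congrArg Subtype.val hx :)), mul_inv_cancel_right]
  rw [Subgroup.mem_centralizer_iff]
  intro t ht
  have := congrArg Subtype.val (DFunLike.congr_fun hσ ⟨t, ht⟩)
  exact (mul_inv_eq_iff_eq_mul.1 (this : g * t * g⁻¹ = t)).symm

theorem result {G : Type*} [Group G] [Finite G] (p : ℕ) [Fact p.Prime]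
    (h : ∀ x : G, (orderOf x = p ∨ (p = 2 ∧ orderOf x = 4)) → ∃ a : ℕ, (Subgroup.centralizer ({x} : Set G)).index = p ^ a) :
    Cfsg.HasNormalPComplement p G := main h

end Cfsg.Agent.S4126
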