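import Cfsg.Statements.S3895
import Cfsg.Agent.Transfer.Frobenius
import Cfsg.Agent.Coprime.Stabilizer

set_option autoImplicit false
open Cfsg

namespace Cfsg.Agent.S3895

variable {G : Type*} [Group G] [Finite G]

theorem class_meets (P : Sylow 2 G) (c : ConjClasses G) (hc : ∀ x ∈ c.carrier, ∃ k : ℕ, orderOf x = 2 ^ k) :
    ∃ x : (P : Subgroup G), ConjClasses.mk (x : G) = c := by
  obtain ⟨g, rfl⟩ := ConjClasses.mk_surjective c
  obtain ⟨k, hk⟩ := hc g ConjClasses.mem_carrier_mk
  obtain ⟨T, hT⟩ := (IsPGroup.of_card (n := k) (G := Subgroup.zpowers g)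
    (by rw [Nat.card_zpowers, hk])).exists_le_sylow
  obtain ⟨a, ha⟩ := MulAction.exists_smul_eq G T P
  refine ⟨⟨a * g * a⁻¹, ?_⟩, ConjClasses.mk_eq_mk_iff_isConj.mpr (isConj_iff.mpr ⟨a⁻¹, by group⟩)⟩
  rw [← ha]
  exact CfsgLib.Transfer.mem_smul_sylow a (hT (Subgroup.mem_zpowers g))

theorem isConj_of_complement {P : Sylow 2 G} {N : Subgroup G} (hN : N.Normal)
    (hc : N.IsComplement' (P : Subgroup G)) {x y : (P : Subgroup G)} {g : G}
    (hg : g * (x : G) * g⁻¹ = y) : IsConj x y := by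
  obtain ⟨⟨⟨n, hn⟩, u⟩, hnu⟩ := hc.2 g
  simp only at hnu
  refine isConj_iff.mpr ⟨u, Subtype.ext ?_⟩
  have key : ((u * x * u⁻¹ : (P : Subgroup G)) : G) * (y : G)⁻¹ ∈ N := by
    have hv : ((u * x * u⁻¹ : (P : Subgroup G)) : G) = n⁻¹ * y * n := by
      rw [← hg, ← hnu]; push_cast; group
    rw [hv]
    have : n⁻¹ * (y : G) * n * (y : G)⁻¹ = n⁻¹ * ((y : G) * n * (y : G)⁻¹) := by group
    rw [this]
    exact mul_mem (inv_mem hn) (hN.conj_mem n hn _)
  have := Subgroup.disjoint_def.mp hc.disjoint key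
    (mul_mem (u * x * u⁻¹).2 (inv_mem y.2))
  rw [mul_inv_eq_one] at this
  exact this

/-- A `2`-subgroup containing the centre of a Sylow subgroup, moved by an element of odd order. -/
theorem exists_moved (hnot : ¬ Cfsg.HasNormalPComplement 2 G) :
    ∃ (P : Sylow 2 G) (Q : Subgroup G), Q ≤ (P : Subgroup G) ∧
      (∀ z ∈ (P : Subgroup G), (∀ u ∈ (P : Subgroup G), u * z = z * u) → z ∈ Q) ∧
      ∃ b ∈ Subgroup.normalizer (Q : Set G), Odd (orderOf b) ∧ b ∉ Subgroup.centralizer (Q : Set G) := by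
  obtain ⟨Q₀, hQ₀, q, k, hq, hq2, g, hgn, hgo, hgc⟩ := CfsgLib.Transfer.exists_of_not_hasNormalPComplement hnot
  have hodd : Odd (orderOf g) := by
    rw [hgo]; exact (hq.odd_of_ne_two hq2).pow
  set C := Subgroup.centralizer (Q₀ : Set G) with hC
  set L := Q₀ ⊔ C with hL
  have hCN : C ≤ Subgroup.normalizer (Q₀ : Set G) := fun c hc => by
    refine Subgroup.mem_normalizer_fintype fun y hy => ?_
    rw [show c * y * c⁻¹ = y by rw [← Subgroup.mem_centralizer_iff.mp hc y hy]; group]
    exact hy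
  have hgC : ∀ c ∈ C, g * c * g⁻¹ ∈ C := by
    intro c hc
    rw [hC, Subgroup.mem_centralizer_iff] at hc ⊢
    intro y hy
    have h1 := hc (g⁻¹ * y * g) (by simpa using (Subgroup.mem_normalizer_iff.mp (inv_mem hgn) y).mp hy)
    calc y * (g * c * g⁻¹) = g * ((g⁻¹ * y * g) * c) * g⁻¹ := by group
      _ = g * (c * (g⁻¹ * y * g)) * g⁻¹ := by rw [h1]
      _ = g * c * g⁻¹ * y := by group
  have hgL : ∀ x ∈ L, g * x * g⁻¹ ∈ L := by
    intro x hx
    refine (show L ≤ L.comap (MulAut.conj g).toMonoidHom from sup_le (fun a ha => ?_) (fun c hc => ?_)) hx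
    · exact Subgroup.mem_sup_left ((Subgroup.mem_normalizer_iff.mp hgn a).mp ha)
    · exact Subgroup.mem_sup_right (hgC c hc)
  obtain ⟨S, hS⟩ := (hQ₀.comap_of_injective L.subtype L.subtype_injective).exists_le_sylow
  let SG := (S : Subgroup L).map L.subtype
  obtain ⟨P, hP⟩ := (S.2.map L.subtype).exists_le_sylow
  refine ⟨P, SG, hP, ?_, ?_⟩
  · intro z hz hzc
    have hzC : z ∈ C := Subgroup.mem_centralizer_iff.mpr fun y hy =>
      hzc y (hP ⟨⟨y, Subgroup.mem_sup_left hy⟩, hS hy, rfl⟩)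
    have hzL : z ∈ L := Subgroup.mem_sup_right hzC
    have hle : (S : Subgroup L) ≤ (P : Subgroup G).subgroupOf L := fun s hs => hP ⟨s, hs, rfl⟩
    have heq := S.3 (P.2.comap_of_injective L.subtype L.subtype_injective) hle
    exact ⟨⟨z, hzL⟩, heq ▸ hz, rfl⟩
  · -- Frattini argument
    let α : MulAut L :=
      { toFun := fun x => ⟨g * x * g⁻¹, hgL x x.2⟩
        invFun := fun x => ⟨g⁻¹ * x * g, by
          have h := (Subgroup.mem_normalizer_iff.mp (inv_mem (Subgroup.mem_normalizer_fintype hgL)) x).mp x.2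
          simpa using h⟩
        left_inv := fun x => Subtype.ext (by simp [mul_assoc])
        right_inv := fun x => Subtype.ext (by simp [mul_assoc])
        map_mul' := fun x y => Subtype.ext (by simp [mul_assoc]) }
    obtain ⟨c, hc⟩ := MulAction.exists_smul_eq L (S.mapSurjective (f := α.toMonoidHom) α.surjective) S
    set h := (c : G) * g with hh
    have hhn : h ∈ Subgroup.normalizer (SG : Set G) := by
      refine Subgroup.mem_normalizer_fintype ?_
      rintro _ ⟨s, hs, rfl⟩
      refine ⟨c * α s * c⁻¹, hc ▸ CfsgLib.Transfer.mem_smul_sylow c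
        (show α s ∈ (S.mapSurjective (f := α.toMonoidHom) α.surjective : Subgroup L) from ⟨s, hs, rfl⟩), ?_⟩
      show (c : G) * (g * s * g⁻¹) * (c : G)⁻¹ = h * s * h⁻¹
      rw [hh]; group
    obtain ⟨a, b, -, hbz, hab, ⟨m, ham⟩, hbo⟩ := CfsgLib.Transfer.exists_pPart_decomposition (p := 2) h
    refine ⟨b, ?_, (Nat.coprime_two_right).mp hbo, fun hbS => ?_⟩
    · obtain ⟨i, rfl⟩ := hbz; exact zpow_mem hhn i
    · have hbC : b ∈ C := Subgroup.mem_centralizer_iff.mpr fun y hy =>
        Subgroup.mem_centralizer_iff.mp hbS y ⟨⟨y, Subgroup.mem_sup_left hy⟩, hS hy, rfl⟩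
      have hha : h ^ (2 ^ m) ∈ L := by
        have hcomm : Commute a b := by
          obtain ⟨i, rfl⟩ := hbz
          rw [show a = h * (h ^ i)⁻¹ from eq_mul_inv_of_mul_eq hab.symm]
          exact (((Commute.refl h).zpow_right i)).mul_left ((Commute.refl (h ^ i)).inv_left)
        rw [hab, hcomm.mul_pow, orderOf_dvd_iff_pow_eq_one.mp ham, one_mul]
        exact pow_mem (Subgroup.mem_sup_right hbC) _
      -- modulo `L` inside its normalizer
      have hgNL : g ∈ Subgroup.normalizer (L : Set G) := Subgroup.mem_normalizer_fintype hgL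
      let N := Subgroup.normalizer (L : Set G)
      haveI : (L.subgroupOf N).Normal := Subgroup.normal_in_normalizer
      let π : N →* N ⧸ L.subgroupOf N := QuotientGroup.mk' _
      have hcN : (c : G) ∈ N := Subgroup.le_normalizer c.2
      have hπ : π ⟨h, mul_mem hcN hgNL⟩ = π ⟨g, hgNL⟩ := by
        rw [show (⟨h, mul_mem hcN hgNL⟩ : N) = ⟨c, hcN⟩ * ⟨g, hgNL⟩ from Subtype.ext rfl, map_mul,
          show π ⟨c, hcN⟩ = 1 from (QuotientGroup.eq_one_iff _).mpr c.2, one_mul]
      have hg1 : π ⟨g, hgNL⟩ = 1 := by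
        refine orderOf_eq_one_iff.mp (Nat.eq_one_of_dvd_coprimes
          ((Nat.coprime_two_left.mpr hodd).pow_left m)
          (orderOf_dvd_of_pow_eq_one ?_)
          ((orderOf_map_dvd π _).trans (dvd_of_eq (Subgroup.orderOf_mk g hgNL))))
        rw [← hπ, ← map_pow]
        exact (QuotientGroup.eq_one_iff _).mpr hha
      have hgmem : g ∈ L := (QuotientGroup.eq_one_iff (N := L.subgroupOf N) _).mp hg1
      rw [hL, ← SetLike.mem_coe, Subgroup.coe_mul_of_right_le_normalizer_left Q₀ C hCN] at hgmem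
      obtain ⟨u, hu, w, hw, (huw : u * w = g)⟩ := hgmem
      have hcuw : Commute u w := Subgroup.mem_centralizer_iff.mp hw u hu
      have huC : u ^ orderOf g ∈ C := by
        have h1 : u ^ orderOf g * w ^ orderOf g = 1 := by rw [← hcuw.mul_pow, huw, pow_orderOf_eq_one]
        rw [eq_inv_of_mul_eq_one_left h1]
        exact inv_mem (pow_mem hw _)
      obtain ⟨l, hl⟩ := hQ₀ ⟨u, hu⟩
      have hul : u ^ 2 ^ l = 1 := congrArg Subtype.val hl
      obtain ⟨s, t, hst⟩ := Nat.isCoprime_iff_coprime.mpr ((Nat.coprime_two_left.mpr hodd).pow_left l)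
      apply hgc
      rw [← huw]
      refine mul_mem ?_ hw
      rw [show u = (u ^ 2 ^ l) ^ s * (u ^ orderOf g) ^ t by
        rw [← zpow_natCast, ← zpow_natCast, ← zpow_mul, ← zpow_mul, ← zpow_add, mul_comm, mul_comm _ t,
          hst, zpow_one], hul, one_zpow, one_mul]
      exact zpow_mem huC t

/-- Fixed points of a nontrivial odd order automorphism of a `2`-group have index at least `4`. -/
theorem four_mul_fixed_le {Q : Subgroup G} (hQ : IsPGroup 2 Q) {b : G}
    (hb : b ∈ Subgroup.normalizer (Q : Set G)) (hodd : Odd (orderOf b))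
    (hbc : b ∉ Subgroup.centralizer (Q : Set G)) :
    4 * Nat.card ↥(Q ⊓ Subgroup.centralizer ({b} : Set G)) ≤ Nat.card Q := by
  set D := (Q ⊓ Subgroup.centralizer ({b} : Set G)).subgroupOf Q with hD
  have hcard : Nat.card D = Nat.card ↥(Q ⊓ Subgroup.centralizer ({b} : Set G)) :=
    Nat.card_congr (Subgroup.subgroupOfEquivOfLe inf_le_left).toEquiv
  rw [← hcard, ← D.card_mul_index, mul_comm]
  refine Nat.mul_le_mul_left _ ?_
  obtain ⟨n, hn⟩ := hQ.index D
  rcases n with _ | _ | n
  · exfalso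
    apply hbc
    rw [pow_zero, Subgroup.index_eq_one] at hn
    refine Subgroup.mem_centralizer_iff.mpr fun y hy => ?_
    have : (⟨y, hy⟩ : Q) ∈ D := hn ▸ Subgroup.mem_top _
    exact (Subgroup.mem_centralizer_singleton_iff.mp this.2)
  · exfalso
    apply hbc
    have h2 : D.index = 2 := by rw [hn]; norm_num
    refine Subgroup.mem_centralizer_iff.mpr fun y hy => ?_
    have hby : b * y * b⁻¹ ∈ Q := (Subgroup.mem_normalizer_iff.mp hb y).mp hy
    have hiff : (⟨b * y * b⁻¹, hby⟩ : Q) ∈ D ↔ (⟨y, hy⟩ : Q) ∈ D := by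
      constructor
      · intro h
        have h1 := Subgroup.mem_centralizer_singleton_iff.mp h.2
        refine ⟨hy, Subgroup.mem_centralizer_singleton_iff.mpr ?_⟩
        have e : b * y * b⁻¹ = y := by
          calc b * y * b⁻¹ = b⁻¹ * (b * (b * y * b⁻¹)) := by group
            _ = b⁻¹ * ((b * y * b⁻¹) * b) := congrArg (fun t => b⁻¹ * t) h1.symm
            _ = y := by group
        show y * b = b * y
        calc y * b = b * y * b⁻¹ * b := by rw [e]
          _ = b * y := by group
      · intro h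
        have h1 : y * b = b * y := Subgroup.mem_centralizer_singleton_iff.mp h.2
        have e : b * y * b⁻¹ = y := by rw [← h1]; group
        have e2 : (⟨b * y * b⁻¹, hby⟩ : Q) = ⟨y, hy⟩ := Subtype.ext e
        rw [e2]; exact h
    have hcomm : (⟨b * y * b⁻¹, hby⟩ * ⟨y, hy⟩⁻¹ : Q) ∈ D := by
      rw [Subgroup.mul_mem_iff_of_index_two h2, inv_mem_iff]
      exact hiff
    have h3 : (b * y * b⁻¹ * y⁻¹) * b = b * (b * y * b⁻¹ * y⁻¹) :=
      Subgroup.mem_centralizer_singleton_iff.mp hcomm.2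
    have hco : (orderOf b).Coprime (orderOf (b * y * b⁻¹ * y⁻¹)) := by
      obtain ⟨l, hl⟩ := hQ ⟨b * y * b⁻¹ * y⁻¹, mul_mem hby (inv_mem hy)⟩
      exact Nat.Coprime.coprime_dvd_right (orderOf_dvd_of_pow_eq_one (congrArg Subtype.val hl))
        ((Nat.coprime_two_right.mpr hodd).pow_right l)
    exact (CfsgLib.Coprime.commute_of_commute_commutator h3.symm hco).symm
  · rw [hn]
    calc 4 = 2 ^ 2 := rfl
      _ ≤ 2 ^ (n + 1 + 1) := Nat.pow_le_pow_right (by norm_num) (by omega)

theorem bound_of_not_hasNormalPComplement (hnot : ¬ Cfsg.HasNormalPComplement 2 G) (P₀ : Sylow 2 G) :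
    2 * Nat.card {c : ConjClasses G // ∀ x ∈ c.carrier, ∃ k : ℕ, orderOf x = 2 ^ k}
      ≤ Nat.card ↥(P₀ : Subgroup G) := by
  classical
  haveI : Fintype G := Fintype.ofFinite G
  obtain ⟨P, Q, hQP, hQZ, b, hb, hbodd, hbc⟩ := exists_moved hnot
  rw [← Nat.card_congr (P.equiv P₀).toEquiv]
  have hQ2 : IsPGroup 2 Q := P.2.to_le hQP
  let sP : Finset G := Finset.univ.filter (· ∈ (P : Subgroup G))
  let sQ : Finset G := Finset.univ.filter (· ∈ Q)
  let sD : Finset G := Finset.univ.filter (· ∈ Q ⊓ Subgroup.centralizer ({b} : Set G))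
  have cardP : sP.card = Nat.card ↥(P : Subgroup G) := by
    rw [Nat.card_eq_fintype_card]; exact (Fintype.card_subtype _).symm
  have cardQ : sQ.card = Nat.card Q := by
    rw [Nat.card_eq_fintype_card]; exact (Fintype.card_subtype _).symm
  have cardD : sD.card = Nat.card ↥(Q ⊓ Subgroup.centralizer ({b} : Set G)) := by
    rw [Nat.card_eq_fintype_card]; exact (Fintype.card_subtype _).symm
  let A : Finset (ConjClasses G) := sQ.image ConjClasses.mk
  let B : Finset (ConjClasses G) := sP.image ConjClasses.mk \ A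
  have hk : Nat.card {c : ConjClasses G // ∀ x ∈ c.carrier, ∃ k : ℕ, orderOf x = 2 ^ k} ≤ A.card + B.card := by
    refine le_trans ?_ (Finset.card_union_le A B)
    rw [← Nat.card_eq_finsetCard (A ∪ B)]
    refine Nat.card_le_card_of_injective (fun c => ⟨c.1, ?_⟩) fun c d h => Subtype.ext (by simpa using h)
    obtain ⟨x, hx⟩ := class_meets P c.1 c.2
    have hm : c.1 ∈ sP.image ConjClasses.mk := Finset.mem_image.mpr ⟨x, by simp [sP], hx⟩
    by_cases hA : c.1 ∈ A
    · exact Finset.mem_union_left _ hA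
    · exact Finset.mem_union_right _ (Finset.mem_sdiff.mpr ⟨hm, hA⟩)
  -- classes meeting `Q`
  have hA : 3 * A.card ≤ sQ.card + 2 * sD.card := by
    have h1 : sQ.card = ∑ c ∈ A, (sQ.filter (fun x => ConjClasses.mk x = c)).card :=
      Finset.card_eq_sum_card_fiberwise fun x hx => Finset.mem_image_of_mem _ hx
    have h2 : ∑ c ∈ A, (sD.filter (fun x => ConjClasses.mk x = c)).card = sD.card :=
      (Finset.card_eq_sum_card_fiberwise fun x hx => Finset.mem_image_of_mem _
        (show x ∈ sQ by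
          have := (Finset.mem_filter.mp hx).2
          exact Finset.mem_filter.mpr ⟨Finset.mem_univ _, this.1⟩)).symm
    rw [h1, ← h2, Finset.mul_sum, ← Finset.sum_add_distrib, mul_comm 3, ← Finset.sum_const_nat (fun c _ => rfl)]
    refine Finset.sum_le_sum fun c hc => ?_
    by_cases hfix : (sD.filter (fun x => ConjClasses.mk x = c)).Nonempty
    · have h3 := hfix.card_pos
      have h4 : (sD.filter (fun x => ConjClasses.mk x = c)).card ≤ (sQ.filter (fun x => ConjClasses.mk x = c)).card := by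
        refine Finset.card_le_card (Finset.filter_subset_filter _ fun x hx => ?_)
        exact Finset.mem_filter.mpr ⟨Finset.mem_univ _, (Finset.mem_filter.mp hx).2.1⟩
      omega
    · obtain ⟨x, hx, hxc⟩ := Finset.mem_image.mp hc
      have hxQ : x ∈ Q := (Finset.mem_filter.mp hx).2
      have hne : b * x * b⁻¹ ≠ x := fun e => hfix ⟨x, Finset.mem_filter.mpr
        ⟨Finset.mem_filter.mpr ⟨Finset.mem_univ _, hxQ, Subgroup.mem_centralizer_singleton_iff.mpr
          (show x * b = b * x by calc x * b = b * x * b⁻¹ * b := by rw [e]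
                                    _ = b * x := by group)⟩, hxc⟩⟩
      have hne2 : b * (b * x * b⁻¹) * b⁻¹ ≠ x := by
        intro e
        apply hne
        obtain ⟨i, hi⟩ := hbodd
        have h2 : ∀ n : ℕ, b ^ (2 * n) * x * (b ^ (2 * n))⁻¹ = x := by
          intro n
          induction n with
          | zero => simp
          | succ n ih =>
              calc b ^ (2 * (n + 1)) * x * (b ^ (2 * (n + 1)))⁻¹
                  = b ^ (2 * n) * (b * (b * x * b⁻¹) * b⁻¹) * (b ^ (2 * n))⁻¹ := by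
                    rw [show 2 * (n + 1) = 2 * n + 1 + 1 by ring, pow_succ, pow_succ]; group
                _ = x := by rw [e, ih]
        have h5 := h2 (i + 1)
        rwa [show 2 * (i + 1) = orderOf b + 1 by omega, pow_succ, pow_orderOf_eq_one, one_mul] at h5
      have hne3 : b * (b * x * b⁻¹) * b⁻¹ ≠ b * x * b⁻¹ := fun e => hne (by simpa using e)
      have hsub : ({x, b * x * b⁻¹, b * (b * x * b⁻¹) * b⁻¹} : Finset G) ⊆ sQ.filter (fun y => ConjClasses.mk y = c) := by
        intro y hy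
        simp only [Finset.mem_insert, Finset.mem_singleton] at hy
        have hstep : ∀ y, y ∈ Q → ConjClasses.mk y = c → b * y * b⁻¹ ∈ Q ∧ ConjClasses.mk (b * y * b⁻¹) = c :=
          fun y hy hyc => ⟨(Subgroup.mem_normalizer_iff.mp hb y).mp hy,
            hyc ▸ (ConjClasses.mk_eq_mk_iff_isConj.mpr (isConj_iff.mpr ⟨b, rfl⟩)).symm⟩
        obtain ⟨h6, h7⟩ := hstep x hxQ hxc
        obtain ⟨h8, h9⟩ := hstep _ h6 h7
        refine Finset.mem_filter.mpr ?_
        rcases hy with rfl | rfl | rfl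
        · exact ⟨hx, hxc⟩
        · exact ⟨Finset.mem_filter.mpr ⟨Finset.mem_univ _, h6⟩, h7⟩
        · exact ⟨Finset.mem_filter.mpr ⟨Finset.mem_univ _, h8⟩, h9⟩
      have h10 := Finset.card_le_card hsub
      rw [Finset.card_insert_of_notMem (by simp [hne.symm, hne2.symm]), Finset.card_pair hne3.symm] at h10
      omega
  -- the other classes
  have hB : 2 * B.card + sQ.card ≤ sP.card := by
    have hsub : sQ ⊆ sP := fun x hx => Finset.mem_filter.mpr ⟨Finset.mem_univ _, hQP (Finset.mem_filter.mp hx).2⟩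
    rw [← Finset.card_sdiff_add_card_eq_card hsub]
    refine Nat.add_le_add_right ?_ _
    have h1 : ∑ c ∈ B, ((sP \ sQ).filter (fun x => ConjClasses.mk x = c)).card ≤ (sP \ sQ).card := by
      rw [← Finset.card_biUnion]
      · exact Finset.card_le_card (Finset.biUnion_subset.mpr fun c _ => Finset.filter_subset _ _)
      · intro c _ d _ hcd
        exact Finset.disjoint_filter.mpr fun x _ h h' => hcd (h.symm.trans h')
    refine le_trans ?_ h1
    rw [mul_comm, ← Finset.sum_const_nat (fun c _ => rfl)]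
    refine Finset.sum_le_sum fun c hc => ?_
    obtain ⟨hcP, hcA⟩ := Finset.mem_sdiff.mp hc
    obtain ⟨x, hx, rfl⟩ := Finset.mem_image.mp hcP
    have hxP : x ∈ (P : Subgroup G) := (Finset.mem_filter.mp hx).2
    have hout : ∀ y ∈ (P : Subgroup G), ConjClasses.mk y = ConjClasses.mk x →
        y ∈ (sP \ sQ).filter (fun z => ConjClasses.mk z = ConjClasses.mk x) := fun y hy hyc =>
      Finset.mem_filter.mpr ⟨Finset.mem_sdiff.mpr ⟨Finset.mem_filter.mpr ⟨Finset.mem_univ _, hy⟩,
        fun hyQ => hcA (Finset.mem_image.mpr ⟨y, hyQ, hyc⟩)⟩, hyc⟩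
    obtain ⟨u, hu, hux⟩ : ∃ u ∈ (P : Subgroup G), u * x ≠ x * u := by
      by_contra h
      push_neg at h
      exact hcA (Finset.mem_image.mpr ⟨x, Finset.mem_filter.mpr ⟨Finset.mem_univ _, hQZ x hxP h⟩, rfl⟩)
    refine Finset.one_lt_card.mpr ⟨x, hout x hxP rfl, u * x * u⁻¹,
      hout _ (mul_mem (mul_mem hu hxP) (inv_mem hu)) (ConjClasses.mk_eq_mk_iff_isConj.mpr (isConj_iff.mpr ⟨u, rfl⟩)).symm,
      fun e => hux ?_⟩
    calc u * x = u * x * u⁻¹ * u := by group
      _ = x * u := by rw [← e]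
  have h4 := four_mul_fixed_le hQ2 hb hbodd hbc
  omega


/-- Let G be a finite group with Sylow 2-subgroup P, and write k₂(G) for the number of conjugacy classes of G consisting of 2-elements (elements of 2-power order, the identity included). Then k₂(G) > |P|/2 if and only if G has a normal 2-complement and P has more than |P|/2 conjugacy classes. -/
theorem result {G : Type*} [Group G] [Finite G] (P : Sylow 2 G) :
    Nat.card ↥(P : Subgroup G) < 2 * Nat.card {c : ConjClasses G // ∀ x ∈ c.carrier, ∃ k : ℕ, orderOf x = 2 ^ k} ↔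
      Cfsg.HasNormalPComplement 2 G ∧ Nat.card ↥(P : Subgroup G) < 2 * Nat.card (ConjClasses ↥(P : Subgroup G)) := by
  classical
  let f : ConjClasses ↥(P : Subgroup G) →
      {c : ConjClasses G // ∀ x ∈ c.carrier, ∃ k : ℕ, orderOf x = 2 ^ k} :=
    fun d => ⟨ConjClasses.map (P : Subgroup G).subtype d, by
      obtain ⟨x, rfl⟩ := ConjClasses.mk_surjective d
      intro y hy
      rw [ConjClasses.mem_carrier_iff_mk_eq] at hy
      obtain ⟨c, hc⟩ := isConj_iff.mp (ConjClasses.mk_eq_mk_iff_isConj.mp hy.symm)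
      obtain ⟨k, hk⟩ := (IsPGroup.iff_orderOf.mp P.2) x
      refine ⟨k, ?_⟩
      rw [← hc, ← MulAut.conj_apply, MulEquiv.orderOf_eq, Subgroup.coe_subtype, Subgroup.orderOf_coe, hk]⟩
  have hf : Function.Surjective f := by
    rintro ⟨c, hc⟩
    obtain ⟨x, hx⟩ := class_meets P c hc
    refine ⟨ConjClasses.mk x, Subtype.ext ?_⟩
    exact hx
  constructor
  · intro hk
    have hle := Nat.card_le_card_of_surjective f hf
    refine ⟨by_contra fun hnot => ?_, lt_of_lt_of_le hk (Nat.mul_le_mul_left 2 hle)⟩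
    have := bound_of_not_hasNormalPComplement hnot P
    omega
  · rintro ⟨hnpc, hk⟩
    have hinj : Function.Injective f := by
      obtain ⟨N, hN, hc⟩ := CfsgLib.Transfer.exists_isComplement' hnpc P
      intro a b hab
      obtain ⟨x, rfl⟩ := ConjClasses.mk_surjective a
      obtain ⟨y, rfl⟩ := ConjClasses.mk_surjective b
      obtain ⟨g, hg⟩ := isConj_iff.mp (ConjClasses.mk_eq_mk_iff_isConj.mp (congrArg Subtype.val hab))
      exact ConjClasses.mk_eq_mk_iff_isConj.mpr (isConj_of_complement hN hc hg)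
    have he := Nat.card_congr (Equiv.ofBijective f ⟨hinj, hf⟩)
    omega

end Cfsg.Agent.S3895
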