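import Cfsg.Statements.S3898
import Cfsg.Agent.S3895
import Cfsg.Agent.ClassCount.PiComplement

set_option autoImplicit false
open Cfsg

namespace Cfsg.Agent.S3898

open Subgroup CfsgLib.ClassCount

universe u

/-- An odd-order normaliser does not move an abelian Sylow 3-subgroup with a fixed subgroup of index 3. -/
lemma sq_le_of_three {G : Type u} [Group G] [Finite G] (hodd : Odd (Nat.card G))
    [Fact (Nat.Prime 3)] (P : Sylow 3 G)
    (hN : ¬ normalizer ((P : Subgroup G) : Set G) ≤ centralizer ((P : Subgroup G) : Set G)) :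
    ((centralizer (normalizer ((P : Subgroup G) : Set G) : Set G)).subgroupOf
      (P : Subgroup G)).index ≠ 3 := by
  classical
  set N := normalizer ((P : Subgroup G) : Set G) with hNdef
  set Z := (centralizer (N : Set G)).subgroupOf (P : Subgroup G) with hZ
  intro h3
  apply hN
  intro n hn
  rw [mem_centralizer_iff]
  intro x hx
  by_cases hxZ : (⟨x, hx⟩ : ↥(P : Subgroup G)) ∈ Z
  · exact (mem_centralizer_iff.mp (mem_subgroupOf.mp hxZ) n hn).symm
  have hnf : ∀ z : ↥(P : Subgroup G), z ∈ Z → ∀ m ∈ N, m * (z : G) * m⁻¹ = z := fun z hz m hm => by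
    rw [mem_centralizer_iff.mp (mem_subgroupOf.mp hz) m hm]; group
  haveI hZn : Z.Normal := ⟨fun z hz w => by
    have hwN : (w : G) ∈ N := le_normalizer w.2
    have : w * z * w⁻¹ = z := Subtype.ext (by push_cast; exact hnf z hz _ hwN)
    rw [this]; exact hz⟩
  let φ : ↥(P : Subgroup G) →* ↥(P : Subgroup G) :=
    { toFun := fun y => ⟨n * y * n⁻¹, (mem_normalizer_iff.mp hn _).mp y.2⟩
      map_one' := Subtype.ext (by simp)
      map_mul' := fun a b => Subtype.ext (by push_cast; group) }
  have hφZ : ∀ z ∈ Z, φ z = z := fun z hz => Subtype.ext (hnf z hz n hn)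
  set X : ↥(P : Subgroup G) := ⟨x, hx⟩ with hX
  let π := QuotientGroup.mk' Z
  have hcard : Nat.card (↥(P : Subgroup G) ⧸ Z) = 3 := h3
  haveI := Fintype.ofFinite (↥(P : Subgroup G) ⧸ Z)
  have hx1 : π X ≠ 1 := fun e => hxZ ((QuotientGroup.eq_one_iff _).mp e)
  have ho : orderOf (π X) = 3 := by
    have := orderOf_dvd_natCard (π X)
    rw [hcard, Nat.dvd_prime (by norm_num)] at this
    exact this.resolve_left (fun e => hx1 (orderOf_eq_one_iff.mp e))
  have hall : ∀ q : ↥(P : Subgroup G) ⧸ Z, q = 1 ∨ q = π X ∨ q = (π X)⁻¹ := by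
    intro q
    have hz : zpowers (π X) = ⊤ := eq_top_of_card_eq _ (by rw [Nat.card_zpowers, ho, hcard])
    obtain ⟨i, rfl⟩ : q ∈ zpowers (π X) := hz ▸ mem_top q
    simp only [← zpow_mod_orderOf (π X) i, ho]
    rcases (by omega : i % ((3 : ℕ) : ℤ) = 0 ∨ i % ((3 : ℕ) : ℤ) = 1 ∨ i % ((3 : ℕ) : ℤ) = 2) with
      h | h | h <;> rw [h]
    · exact Or.inl (zpow_zero _)
    · exact Or.inr (Or.inl (zpow_one _))
    · refine Or.inr (Or.inr (eq_inv_of_mul_eq_one_left ?_))
      rw [← zpow_add_one, show (2 : ℤ) + 1 = ((3 : ℕ) : ℤ) by rfl, zpow_natCast]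
      exact orderOf_dvd_iff_pow_eq_one.mp ho.dvd
  let ψ : (↥(P : Subgroup G) ⧸ Z) →* (↥(P : Subgroup G) ⧸ Z) :=
    QuotientGroup.map Z Z φ (fun z hz => by simpa [hφZ z hz] using hz)
  have hψ : ∀ y, ψ (π y) = π (φ y) := fun _ => rfl
  have hiter : ∀ k : ℕ, ((φ^[k]) X : G) = n ^ k * x * (n ^ k)⁻¹ := by
    intro k
    induction k with
    | zero => simp [hX]
    | succ k ih =>
      rw [Function.iterate_succ_apply', pow_succ']
      show n * ((φ^[k]) X : G) * n⁻¹ = _
      rw [ih]; group
  have hfix : π (φ X) = π X := by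
    rcases hall (π (φ X)) with h | h | h
    · exfalso
      have hmem : φ X ∈ Z := (QuotientGroup.eq_one_iff _).mp h
      have := hnf _ hmem n⁻¹ (inv_mem hn)
      change n⁻¹ * (n * x * n⁻¹) * n⁻¹⁻¹ = n * x * n⁻¹ at this
      refine hxZ (show X ∈ Z from ?_)
      have he : φ X = X := Subtype.ext (show n * x * n⁻¹ = x by
        rw [← this]; group)
      rwa [he] at hmem
    · exact h
    · exfalso
      have hk : ∀ k : ℕ, π ((φ^[2 * k]) X) = π X := by
        intro k
        induction k with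
        | zero => rfl
        | succ k ih =>
          rw [show 2 * (k + 1) = (2 * k + 1) + 1 by ring, Function.iterate_succ_apply',
            Function.iterate_succ_apply', ← hψ, ← hψ, ih, hψ, h, map_inv, hψ, h, inv_inv]
      have hdvd : orderOf n ∣ Nat.card G := orderOf_dvd_natCard n
      obtain ⟨i, hi⟩ := hodd.of_dvd_nat hdvd
      have h1 := hk (i + 1)
      have h2 : (φ^[2 * (i + 1)]) X = φ X := Subtype.ext (by
        rw [hiter, show 2 * (i + 1) = orderOf n + 1 by omega, pow_succ, pow_orderOf_eq_one,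
          one_mul]
        rfl)
      rw [h2, h] at h1
      have h5 : (π X) ^ 2 = 1 := by
        rw [pow_two]
        exact mul_eq_one_iff_eq_inv.mpr h1.symm
      have := orderOf_dvd_of_pow_eq_one h5
      rw [ho] at this
      norm_num at this
  obtain ⟨z, hz, hzx⟩ : ∃ z ∈ Z, φ X = X * z := ⟨X⁻¹ * φ X, QuotientGroup.eq.mp hfix.symm, by group⟩
  have hpow : ∀ k : ℕ, (φ^[k]) X = X * z ^ k := by
    intro k
    induction k with
    | zero => simp
    | succ k ih =>
      rw [Function.iterate_succ_apply', ih, map_mul, map_pow, hφZ z hz, hzx, pow_succ', mul_assoc]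
  -- the index of `P` in `N` fixes `X`
  set m := ((P : Subgroup G).subgroupOf N).index with hm
  haveI : ((P : Subgroup G).subgroupOf N).Normal := normal_in_normalizer
  have hnm : n ^ m ∈ (P : Subgroup G) := by
    have := Subgroup.pow_index_mem ((P : Subgroup G).subgroupOf N) (⟨n, hn⟩ : N)
    exact mem_subgroupOf.mp this
  have hab : (⟨n ^ m, hnm⟩ : ↥(P : Subgroup G)) * X = X * ⟨n ^ m, hnm⟩ := by
    have hcz : ∀ a b : ↥(P : Subgroup G), a * b = b * a := by
      have hc : Z ≤ center ↥(P : Subgroup G) := fun w hw => mem_center_iff.mpr fun g => Subtype.ext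
        (mem_centralizer_iff.mp (mem_subgroupOf.mp hw) g (le_normalizer g.2))
      haveI : IsCyclic (↥(P : Subgroup G) ⧸ Z) := isCyclic_of_prime_card hcard
      exact commutative_of_cyclic_center_quotient (QuotientGroup.mk' Z)
        (by rw [QuotientGroup.ker_mk']; exact hc)
    exact hcz _ _
  have hfix2 : (φ^[m]) X = X := Subtype.ext (by
    rw [hiter]
    have : n ^ m * x = x * n ^ m := congrArg Subtype.val hab
    rw [this]; simp [hX])
  rw [hpow] at hfix2
  have hzm : z ^ m = 1 := by simpa using hfix2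
  have hcop : Nat.Coprime (orderOf z) m := by
    obtain ⟨a, ha⟩ := IsPGroup.iff_orderOf.mp P.2 z
    rw [ha]
    exact (((Fact.out : Nat.Prime 3).coprime_iff_not_dvd).mpr fun hd =>
      P.not_dvd_index (hd.trans (Dvd.intro _ (Subgroup.relIndex_mul_index le_normalizer)))).pow_left a
  have hz1 : z = 1 := orderOf_eq_one_iff.mp
    (Nat.eq_one_of_dvd_coprimes hcop dvd_rfl (orderOf_dvd_of_pow_eq_one hzm))
  rw [hz1, mul_one] at hzx
  have h8 : n * x * n⁻¹ = x := congrArg Subtype.val hzx
  calc x * n = n * x * n⁻¹ * n := by rw [h8]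
    _ = n * x := by group

/-- In a group of odd order, more than `|P|/2` classes of `r`-elements force an abelian Sylow
subgroup and a normal complement. -/
lemma complement_of_odd {G : Type u} [Group G] [Finite G] (hodd : Odd (Nat.card G)) {r : ℕ}
    [hr : Fact r.Prime] (hr2 : r ≠ 2) (P : Sylow r G)
    (h : Nat.card ↥(P : Subgroup G) < 2 * Nat.card (PiClasses ({r} : Set ℕ) G)) :
    Cfsg.HasNormalPComplement r G ∧ IsMulCommutative ↥(P : Subgroup G) := by
  have h3 : 3 ≤ r := by have := hr.out.two_le; omega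
  set X := Nat.card ↥(P : Subgroup G) with hX
  set K := Nat.card (PiClasses ({r} : Set ℕ) G) with hK
  have hC : IsMulCommutative ↥(P : Subgroup G) := by
    by_contra hC
    obtain ⟨z, hz, hk⟩ := nonabelian_bound P hC
    rw [← hX] at hz hk
    rw [← hK] at hk
    obtain ⟨s, rfl⟩ : ∃ s, r = s + 3 := ⟨r - 3, by omega⟩
    rw [show s + 3 - 1 = s + 2 by omega] at hk
    have key : (s + 3) ^ 2 * ((s + 3) * X) < (2 * (s + 3) ^ 2 + 2 * (s + 2)) * X :=
      calc (s + 3) ^ 2 * ((s + 3) * X) < (s + 3) ^ 2 * ((s + 3) * (2 * K)) :=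
            Nat.mul_lt_mul_of_pos_left (Nat.mul_lt_mul_of_pos_left h (by positivity)) (by positivity)
        _ = (2 * (s + 3) ^ 2) * ((s + 3) * K) := by ring
        _ ≤ (2 * (s + 3) ^ 2) * (X + (s + 2) * z) := Nat.mul_le_mul_left _ hk
        _ = 2 * (s + 3) ^ 2 * X + 2 * (s + 2) * ((s + 3) ^ 2 * z) := by ring
        _ ≤ 2 * (s + 3) ^ 2 * X + 2 * (s + 2) * X :=
            Nat.add_le_add_left (Nat.mul_le_mul_left _ hz) _
        _ = (2 * (s + 3) ^ 2 + 2 * (s + 2)) * X := by ring
    rw [← mul_assoc] at key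
    have := Nat.lt_of_mul_lt_mul_right key
    nlinarith [sq_nonneg s, Nat.zero_le (s ^ 3)]
  refine ⟨hasNormalPComplement_of_central P ?_, hC⟩
  by_contra hN
  set N : Subgroup G := normalizer ((P : Subgroup G) : Set G) with hNdef
  set Z := (centralizer (N : Set G)).subgroupOf (P : Subgroup G) with hZ
  have hk : 3 * K ≤ X + 2 * Nat.card Z := by
    refine fibre_bound _ (sylowToClass_surjective P) 3 (Z : Set ↥(P : Subgroup G)) fun x hx => ?_
    refine le_trans ?_ (card_conjOrb_le_fibre P N le_rfl x)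
    rw [card_conjOrb]
    have hne : ((centralizer ({(x : G)} : Set G)).subgroupOf N).index ≠ 1 := by
      obtain ⟨n, hn, hne⟩ : ∃ n ∈ N, n * (x : G) ≠ (x : G) * n := by
        by_contra hc
        push_neg at hc
        exact hx (mem_subgroupOf.mpr (mem_centralizer_iff.mpr fun n hn => hc n hn))
      exact centralizer_subgroupOf_index_ne_one hn hne
    obtain ⟨k, hk⟩ := hodd.of_dvd_nat ((Subgroup.index_dvd_card
      ((centralizer ({(x : G)} : Set G)).subgroupOf N)).trans (Subgroup.card_subgroup_dvd_card N))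
    omega
  have hXZ : Nat.card Z * Z.index = X := Subgroup.card_mul_index Z
  obtain ⟨a, ha⟩ := P.2.index Z
  have hne1 : Z.index ≠ 1 := fun e => hN (by
    rw [Subgroup.index_eq_one, Subgroup.subgroupOf_eq_top] at e
    exact le_centralizer_iff.mp e)
  have h5 : 4 < Z.index := by
    by_contra h5
    push_neg at h5
    rcases a with _ | a
    · simp [ha] at hne1
    · have : r = 3 ∧ Z.index = 3 := by
        have hle : r ^ 1 ≤ r ^ (a + 1) := Nat.pow_le_pow_right hr.out.pos (by omega)
        rw [pow_one, ← ha] at hle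
        rcases a with _ | a
        · rw [ha, zero_add, pow_one] at h5 ⊢
          have : r ≠ 4 := fun e => by rw [e] at hr; exact absurd hr.out (by norm_num)
          omega
        · exfalso
          have : 9 ≤ r ^ (a + 1 + 1) := le_trans (by nlinarith : 9 ≤ r ^ 2)
            (Nat.pow_le_pow_right hr.out.pos (by omega))
          omega
      obtain ⟨rfl, h33⟩ := this
      exact sq_le_of_three hodd P hN h33
  nlinarith [Nat.mul_le_mul_left (Nat.card Z) h5]

/-- Passing to a normal subgroup containing all `r`-elements. -/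
lemma card_piClasses_le_of_normal {G : Type u} [Group G] [Finite G] {r : ℕ} (K : Subgroup G)
    (hK : ∀ x : G, IsPiEl ({r} : Set ℕ) x → x ∈ K) :
    Nat.card (PiClasses ({r} : Set ℕ) G) ≤ Nat.card (PiClasses ({r} : Set ℕ) ↥K) := by
  refine Nat.card_le_card_of_surjective (fun c => ⟨ConjClasses.map K.subtype c.1, ?_⟩) ?_
  · obtain ⟨x, hx⟩ := ConjClasses.mk_surjective c.1
    have h1 := c.2 x (ConjClasses.mem_carrier_iff_mk_eq.mpr hx)
    rw [← hx]
    refine mk_prop (x := (x : G)) ?_
    intro q hq hd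
    exact h1 q hq (by rwa [Subgroup.orderOf_coe] at hd)
  · intro c
    obtain ⟨g, hg⟩ := ConjClasses.mk_surjective c.1
    have h1 := c.2 g (ConjClasses.mem_carrier_iff_mk_eq.mpr hg)
    refine ⟨⟨ConjClasses.mk ⟨g, hK g h1⟩, mk_prop (fun q hq hd => h1 q hq ?_)⟩, Subtype.ext hg⟩
    rwa [← Subgroup.orderOf_coe] at hd

lemma mem_of_coprime_index {G : Type u} [Group G] (K : Subgroup G) [K.Normal] {x : G}
    (h : Nat.Coprime (orderOf x) K.index) : x ∈ K :=
  (QuotientGroup.eq_one_iff x).mp (orderOf_eq_one_iff.mp (Nat.eq_one_of_dvd_coprimes h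
    (orderOf_map_dvd (QuotientGroup.mk' K) x) (orderOf_dvd_natCard _)))

end Cfsg.Agent.S3898

namespace Cfsg.Agent.S3898

/-- Let π be a finite set of primes containing 2 and G a finite group. Write k_π(G) for the number of conjugacy classes of G consisting of π-elements (elements all of whose order's prime divisors lie in π) and |G|_π for the π-part of the order of G. If k_π(G) > |G|_π/2, then G has a normal π-complement (a normal subgroup of order prime to π whose index is a π-number) and an abelian Hall subgroup for the set of odd primes in π. -/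
theorem result {G : Type*} [Group G] [Finite G] (π : Finset ℕ) (hπ : ∀ r ∈ π, r.Prime) (h2 : 2 ∈ π)
    (hk : π.prod (fun r => r ^ (Nat.card G).factorization r) < 2 * Nat.card {c : ConjClasses G // ∀ x ∈ c.carrier, ∀ r : ℕ, r.Prime → r ∣ orderOf x → r ∈ π}) :
    (∃ N : Subgroup G, N.Normal ∧ (∀ r : ℕ, r.Prime → r ∣ Nat.card ↥N → r ∉ π) ∧ ∀ r : ℕ, r.Prime → r ∣ N.index → r ∈ π) ∧ ∃ H : Subgroup G, Cfsg.IsPiHall ((↑π : Set ℕ) \ {2}) H ∧ IsMulCommutative ↥H := by
  classical
  change _ < 2 * Nat.card (CfsgLib.ClassCount.PiClasses (↑π : Set ℕ) G) at hk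
  have hkr : ∀ r ∈ π, r ^ (Nat.card G).factorization r <
      2 * Nat.card (CfsgLib.ClassCount.PiClasses ({r} : Set ℕ) G) := by
    intro r hr
    refine Nat.lt_of_mul_lt_mul_right
      (a := (π.erase r).prod (fun q => q ^ (Nat.card G).factorization q)) ?_
    rw [Finset.mul_prod_erase π (fun q => q ^ (Nat.card G).factorization q) hr, mul_assoc]
    exact lt_of_lt_of_le hk (Nat.mul_le_mul_left _
      (CfsgLib.ClassCount.card_piClasses_le_mul_part π hπ hr G))
  have h2c : Cfsg.HasNormalPComplement 2 G := by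
    by_contra hnot
    have h := Cfsg.Agent.S3895.bound_of_not_hasNormalPComplement hnot default
    rw [← CfsgLib.ClassCount.card_piClasses_singleton Nat.prime_two,
      Sylow.card_eq_multiplicity] at h
    exact absurd (hkr 2 h2) (not_lt.mpr h)
  obtain ⟨K, -, hKn, hK2, hKi, -⟩ := CfsgLib.ClassCount.exists_normal_of_hasNormalPComplement h2c
  have hodd : Odd (Nat.card K) := Nat.not_even_iff_odd.mp fun h => hK2 (even_iff_two_dvd.mp h)
  have hKcop : ∀ r : ℕ, r.Prime → r ≠ 2 → Nat.Coprime r K.index := fun r hr hne =>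
    hr.coprime_iff_not_dvd.mpr fun hd => hne (hKi r hr hd)
  have key : ∀ r ∈ π.erase 2, Cfsg.HasNormalPComplement r ↥K ∧
      ∀ P : Sylow r ↥K, IsMulCommutative ↥(P : Subgroup ↥K) := by
    intro r hr
    have hrp := hπ r (Finset.mem_of_mem_erase hr)
    haveI := Fact.mk hrp
    have hne := Finset.ne_of_mem_erase hr
    have hfac : (Nat.card K).factorization r = (Nat.card G).factorization r := by
      rw [← K.card_mul_index, Nat.factorization_mul Nat.card_pos.ne' Subgroup.index_ne_zero_of_finite,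
        Finsupp.add_apply, Nat.factorization_eq_zero_of_not_dvd
          (hrp.coprime_iff_not_dvd.mp (hKcop r hrp hne)), add_zero]
    have hin : ∀ x : G, CfsgLib.ClassCount.IsPiEl ({r} : Set ℕ) x → x ∈ K := by
      intro x hx
      obtain ⟨k, hk'⟩ := (CfsgLib.ClassCount.isPiEl_singleton_iff hrp).mp hx
      exact mem_of_coprime_index K (hk' ▸ (hKcop r hrp hne).pow_left k)
    have h : ∀ P : Sylow r ↥K, Cfsg.HasNormalPComplement r ↥K ∧
        IsMulCommutative ↥(P : Subgroup ↥K) := fun P => by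
      refine complement_of_odd hodd hne P ?_
      rw [P.card_eq_multiplicity, hfac]
      exact lt_of_lt_of_le (hkr r (Finset.mem_of_mem_erase hr))
        (Nat.mul_le_mul_left _ (card_piClasses_le_of_normal K hin))
    exact ⟨(h default).1, fun P => (h P).2⟩
  obtain ⟨⟨N, hN, hN1, hN2⟩, H, hH, hHc⟩ := CfsgLib.ClassCount.exists_abelian_hall (π.erase 2)
    (fun r hr => hπ r (Finset.mem_of_mem_erase hr)) (fun r hr => (key r hr).1) fun r hr => (key r hr).2
  haveI := hN
  have hNcard : Nat.card ↥(N.map K.subtype) = Nat.card N :=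
    Subgroup.card_map_of_injective K.subtype_injective
  refine ⟨⟨N.map K.subtype, ⟨?_⟩, ?_, ?_⟩, H.map K.subtype, ⟨?_, ?_⟩, ?_⟩
  · rintro _ ⟨y, hy, rfl⟩ g
    have hgy : g * (y : G) * g⁻¹ ∈ K := hKn.conj_mem _ y.2 g
    refine ⟨⟨_, hgy⟩, mem_of_coprime_index N ?_, rfl⟩
    rw [← Subgroup.orderOf_coe]
    show Nat.Coprime (orderOf (g * (y : G) * g⁻¹)) N.index
    rw [CfsgLib.ClassCount.orderOf_conj_eq, Subgroup.orderOf_coe]
    exact Nat.coprime_of_dvd fun q hq d1 d2 => hN1 q hq (d1.trans
      ((Subgroup.orderOf_mk y hy) ▸ orderOf_dvd_natCard (⟨y, hy⟩ : N))) (hN2 q hq d2)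
  · intro q hq hd hmem
    rw [hNcard] at hd
    by_cases hq2 : q = 2
    · exact hK2 (hq2 ▸ hd.trans (Subgroup.card_subgroup_dvd_card N))
    · exact hN1 q hq hd (Finset.mem_erase.mpr ⟨hq2, hmem⟩)
  · intro q hq hd
    rw [Subgroup.index_map_subtype] at hd
    rcases hq.dvd_mul.mp hd with h | h
    · exact Finset.mem_of_mem_erase (hN2 q hq h)
    · exact hKi q hq h ▸ h2
  · intro q hq hd
    rw [Subgroup.card_map_of_injective K.subtype_injective] at hd
    have := Finset.mem_coe.mp (hH.1 q hq hd)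
    exact ⟨Finset.mem_of_mem_erase this, Finset.ne_of_mem_erase this⟩
  · rintro q hq ⟨hmem, hq2⟩ hd
    rw [Subgroup.index_map_subtype] at hd
    rcases hq.dvd_mul.mp hd with h | h
    · exact hH.2 q hq (Finset.mem_coe.mpr (Finset.mem_erase.mpr ⟨hq2, hmem⟩)) h
    · exact hq2 (hKi q hq h)
  · refine ⟨⟨?_⟩⟩
    rintro ⟨_, a, ha, rfl⟩ ⟨_, b, hb, rfl⟩
    exact Subtype.ext (congrArg (fun t : H => ((t : ↥K) : G))
      (hHc.is_comm.comm (⟨a, ha⟩ : H) ⟨b, hb⟩))

end Cfsg.Agent.S3898
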