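import Cfsg.Statements.S1279
import Cfsg.Agent.Eq.Def_Transfer
import Cfsg.Agent.Signalizer.ConstrainedBalance

set_option autoImplicit false
open Cfsg

namespace Cfsg.Agent.S1279

/-- Let A be a noncyclic elementary abelian p-subgroup of the finite group G such that C_G(a) is solvable for every non-identity a ∈ A. Then a ↦ O_{p'}(C_G(a)) is a solvable A-signalizer functor on G. -/
theorem result {G : Type*} [Group G] [Finite G] (p : ℕ) [Fact p.Prime] (A : Subgroup G) (hA : Cfsg.IsElementaryAbelian p A) (hA2 : p ^ 2 ≤ Nat.card ↥A) (hsolv : ∀ a ∈ A, a ≠ 1 → Group.IsSolvable ↥(Subgroup.centralizer ({a} : Set G))) : Cfsg.IsSolvableSignalizerFunctor p A (fun a => Cfsg.centralizerPPrimeCore p a) := by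
  have key : ∀ a ∈ A, a ≠ 1 → Group.IsSolvable ↥(Cfsg.centralizerPPrimeCore p a) := fun a ha ha1 => by
    have := hsolv a ha ha1
    exact Group.isSolvable_of_isSolvable_injective (f := Subgroup.inclusion
      (CfsgLib.Signalizer.centralizerPPrimeCore_le a)) (Subgroup.inclusion_injective _)
  have hcomm : ∀ x ∈ A, ∀ y ∈ A, x * y = y * x := fun x hx y hy =>
    congrArg Subtype.val (hA.1.1.comm ⟨x, hx⟩ ⟨y, hy⟩)
  refine ⟨⟨fun a _ _ => CfsgLib.Signalizer.centralizerPPrimeCore_le a,
    fun a _ _ => CfsgLib.Signalizer.centralizerPPrimeCore_not_dvd a, fun a ha _ b hb x hx => ?_,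
    fun a ha _ b hb hb1 => ?_⟩, key⟩
  · exact (Subgroup.mem_normalizer_iff.mp (CfsgLib.Signalizer.le_normalizer_centralizerPPrimeCore a
      (Subgroup.mem_centralizer_singleton_iff.mpr (hcomm b hb a ha))) x).mp hx
  · have := hsolv b hb hb1
    refine CfsgLib.Signalizer.centralizerPPrimeCore_inf_le ?_
      (Subgroup.mem_centralizer_singleton_iff.mpr (hcomm a ha b hb))
      CfsgLib.Constrained.isPConstrained_of_isSolvable
    rintro ⟨z, hz⟩
    obtain ⟨i, rfl⟩ := Subgroup.mem_zpowers_iff.mp hz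
    refine ⟨1, Subtype.ext ?_⟩
    show (a ^ i) ^ p ^ 1 = 1
    rw [pow_one, ← zpow_natCast, ← zpow_mul, mul_comm, zpow_mul, zpow_natCast, hA.2 a ha, one_zpow]

end Cfsg.Agent.S1279
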