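import Cfsg.Statements.S5080
import Cfsg.Agent.Fusion.Alperin.Theorem

set_option autoImplicit false
open Cfsg

namespace Cfsg.Agent.S5080

/-- In a saturated fusion system over a finite p-group, every essential subgroup is radical (it is centric and fully normalized by definition, so it is centric-radical and fully normalized). -/
theorem result {Ω : Type*} [Group Ω] {S : Subgroup Ω} [Finite S] (p : ℕ) [Fact p.Prime] (hS : IsPGroup p S) (F : Cfsg.FusionSystem S) (hF : F.IsSaturated p) (P : Subgroup Ω) (hP : F.IsEssential p P) : F.IsRadical p P := by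
  obtain ⟨hc, hfn, hn, E, hE⟩ := hP
  have := CfsgLib.Fus.finite_of_le hc.1
  have := CfsgLib.Fus.finite_mulAut P
  set A := F.autGroup P with hA
  refine ⟨hc.1, le_antisymm ?_ ?_⟩
  · rintro _ ⟨α, hα, rfl⟩
    set K := (Cfsg.pCore p A).map (QuotientGroup.mk' ((Cfsg.Inn P).subgroupOf A))
    have hKn : K.Normal := (Cfsg.pCore_normal p _).map _ (QuotientGroup.mk'_surjective _)
    have hKp : IsPGroup p K := CfsgLib.CharP.isPGroup_pCore.map _
    by_contra hαI
    have hKne : K ≠ ⊥ := by
      intro hb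
      apply hαI
      have h1 : QuotientGroup.mk' ((Cfsg.Inn P).subgroupOf A) α ∈ K := ⟨α, hα, rfl⟩
      rw [hb, Subgroup.mem_bot, QuotientGroup.mk'_apply, QuotientGroup.eq_one_iff] at h1
      exact h1
    obtain ⟨R, -, hloc⟩ := CfsgLib.LocalCharP.exists_sylow_le hE
    have hKR : K ≤ R :=
      (CfsgLib.CharP.le_pCore hKn hKp).trans (CfsgLib.CharP.pCore_le_sylow R)
    have h1 := hloc K hKR hKne
    rw [Subgroup.normalizer_eq_top_iff.2 hKn] at h1
    exact hE.2.1 (top_le_iff.1 h1)
  · intro α hα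
    refine ⟨⟨α, CfsgLib.Fus.inn_le_autGroup F hc.1 hα⟩,
      CfsgLib.CharP.le_pCore (N := (Cfsg.Inn P).subgroupOf A) hn ?_ hα, rfl⟩
    exact (((CfsgLib.Fus.isPGroup_autInducedBy hS P).to_le
      (CfsgLib.Fus.inn_le_autInducedBy hc.1))).comap_subtype

end Cfsg.Agent.S5080
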