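import Cfsg.Statements.S0153
import Cfsg.Agent.Chars.Basic
import Cfsg.Agent.Eq.Def_Characters

set_option autoImplicit false
open Cfsg

namespace Cfsg.Agent.S0153

open CfsgLib.Chars

universe u v w

open Representation in
/-- Representations with equal characters are equivalent, by induction on the dimension. -/
theorem key {G : Type u} [Group G] [Finite G] : ∀ (n : ℕ) (V : Type v) (W : Type w)
    [AddCommGroup V] [Module ℂ V] [FiniteDimensional ℂ V]
    [AddCommGroup W] [Module ℂ W] [FiniteDimensional ℂ W],
    Module.finrank ℂ V = n → ∀ (ρ : Representation ℂ G V) (σ : Representation ℂ G W),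
      ρ.character = σ.character → Nonempty (ρ.Equiv σ) := by
  intro n
  induction n using Nat.strong_induction_on with
  | _ n ih =>
  intro V W _ _ _ _ _ _ hn ρ σ h
  classical
  cases nonempty_fintype G
  have hdim : Module.finrank ℂ V = Module.finrank ℂ W := by
    have := congrFun h 1
    simp only [Representation.char_one, Nat.cast_inj] at this
    exact this
  rcases Nat.eq_zero_or_pos n with rfl | hpos
  · have : Subsingleton V := Module.finrank_zero_iff.1 hn
    have : Subsingleton W := Module.finrank_zero_iff.1 (hdim ▸ hn)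
    exact ⟨Representation.Equiv.mk (LinearEquiv.ofFinrankEq V W hdim)
      fun g => LinearMap.ext fun v => Subsingleton.elim _ _⟩
  have hV : Nontrivial V := Module.nontrivial_of_finrank_pos (hn ▸ hpos)
  -- an irreducible invariant subspace
  have hex : ∃ d, ∃ A : Subrepresentation ρ,
      A.toSubmodule ≠ ⊥ ∧ Module.finrank ℂ A.toSubmodule = d :=
    ⟨_, ⟨⊤, fun _ _ _ => trivial⟩, top_ne_bot, rfl⟩
  obtain ⟨A, hA0, hAd⟩ := Nat.find_spec hex
  have hAirr : A.toRepresentation.IsIrreducible := by
    rw [isIrreducible_iff_forall]
    refine ⟨Submodule.nontrivial_iff_ne_bot.2 hA0, fun q hq => ?_⟩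
    by_cases hq0 : q = ⊥
    · exact Or.inl hq0
    refine Or.inr (Submodule.eq_top_of_finrank_eq (le_antisymm (Submodule.finrank_le q) ?_))
    rw [hAd]
    refine Nat.find_min' hex ⟨⟨q.map A.toSubmodule.subtype, ?_⟩, ?_, ?_⟩
    · rintro g _ ⟨v, hv, rfl⟩
      exact ⟨A.toRepresentation g v, hq g v hv, rfl⟩
    · exact fun e => hq0 (Submodule.map_injective_of_injective A.toSubmodule.injective_subtype
        (e.trans (Submodule.map_bot _).symm))
    · exact Submodule.finrank_map_subtype_eq _ q
  -- it maps nontrivially into the second representation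
  letI : Invertible (Nat.card G : ℂ) := invertibleOfNonzero natCard_ne_zero
  have hpos' : Nontrivial (IntertwiningMap A.toRepresentation ρ) := by
    refine ⟨⟨⟨A.toSubmodule.subtype, fun g => rfl⟩, 0, fun e => ?_⟩⟩
    apply hA0
    rw [eq_bot_iff]
    intro x hx
    have h3 := LinearMap.congr_fun
      (congrArg Representation.IntertwiningMap.toLinearMap e) ⟨x, hx⟩
    simpa using h3
  have hHom : Nontrivial (IntertwiningMap A.toRepresentation σ) := by
    have h1 := Representation.card_inv_mul_sum_char_mul_char_eq_finrank A.toRepresentation ρ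
    have h2 := Representation.card_inv_mul_sum_char_mul_char_eq_finrank A.toRepresentation σ
    rw [h, h2, Nat.cast_inj] at h1
    exact Module.nontrivial_of_finrank_pos (R := ℂ) (h1 ▸ Module.finrank_pos)
  obtain ⟨f, hf⟩ := exists_ne (0 : IntertwiningMap A.toRepresentation σ)
  haveI := hAirr
  have hinj : Function.Injective f :=
    (Representation.IsIrreducible.injective_or_eq_zero f).resolve_right hf
  set C : Subrepresentation σ := f.range
  let eA : A.toSubmodule ≃ₗ[ℂ] C.toSubmodule := LinearEquiv.ofInjective f.toLinearMap hinj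
  have heA : ∀ g, eA.toLinearMap ∘ₗ A.toRepresentation g = C.toRepresentation g ∘ₗ eA.toLinearMap :=
    fun g => LinearMap.ext fun v => Subtype.ext (Representation.IntertwiningMap.isIntertwining _ _ f g v)
  have hAC : A.toRepresentation.character = C.toRepresentation.character :=
    Representation.char_iso (Representation.Equiv.mk eA heA)
  -- complements
  haveI : NeZero (Nat.card G : ℂ) := ⟨natCard_ne_zero⟩
  haveI : ComplementedLattice (Subrepresentation ρ) :=
    (Subrepresentation.subrepresentationSubmoduleOrderIso (ρ := ρ)).symm.complementedLattice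
  haveI : ComplementedLattice (Subrepresentation σ) :=
    (Subrepresentation.subrepresentationSubmoduleOrderIso (ρ := σ)).symm.complementedLattice
  obtain ⟨B, hB⟩ := exists_isCompl A
  obtain ⟨D, hD⟩ := exists_isCompl C
  have hcAB : IsCompl A.toSubmodule B.toSubmodule := by
    rw [isCompl_iff, disjoint_iff, codisjoint_iff, ← Subrepresentation.toSubmodule_inf,
      ← Subrepresentation.toSubmodule_sup, hB.inf_eq_bot, hB.sup_eq_top]
    exact ⟨rfl, rfl⟩
  have hcCD : IsCompl C.toSubmodule D.toSubmodule := by
    rw [isCompl_iff, disjoint_iff, codisjoint_iff, ← Subrepresentation.toSubmodule_inf,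
      ← Subrepresentation.toSubmodule_sup, hD.inf_eq_bot, hD.sup_eq_top]
    exact ⟨rfl, rfl⟩
  have hBD : B.toRepresentation.character = D.toRepresentation.character := by
    have h3 := h
    rw [character_of_isCompl ρ A B hcAB, character_of_isCompl σ C D hcCD, hAC] at h3
    exact add_left_cancel h3
  have hlt : Module.finrank ℂ B.toSubmodule < n := by
    rw [← hn, ← Submodule.finrank_add_eq_of_isCompl hcAB]
    have : 0 < Module.finrank ℂ A.toSubmodule :=
      Nat.pos_of_ne_zero fun h0 => hA0 (Submodule.finrank_eq_zero.1 h0)
    omega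
  obtain ⟨eB⟩ := ih _ hlt B.toSubmodule D.toSubmodule rfl B.toRepresentation D.toRepresentation hBD
  refine ⟨Representation.Equiv.mk ((Submodule.prodEquivOfIsCompl _ _ hcAB).symm ≪≫ₗ
    (eA.prodCongr eB.toLinearEquiv) ≪≫ₗ Submodule.prodEquivOfIsCompl _ _ hcCD) fun g => ?_⟩
  refine LinearMap.ext fun v => ?_
  obtain ⟨⟨a, b⟩, rfl⟩ := (Submodule.prodEquivOfIsCompl _ _ hcAB).surjective v
  have hg : ρ g (Submodule.prodEquivOfIsCompl _ _ hcAB (a, b)) =
      Submodule.prodEquivOfIsCompl _ _ hcAB (A.toRepresentation g a, B.toRepresentation g b) := by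
    simp [Subrepresentation.toRepresentation]
  simp only [LinearMap.coe_comp, LinearEquiv.coe_coe, Function.comp_apply, LinearEquiv.trans_apply,
    hg, LinearEquiv.symm_apply_apply]
  have h1 : eA (A.toRepresentation g a) = C.toRepresentation g (eA a) :=
    LinearMap.congr_fun (heA g) a
  have h2 : eB.toLinearEquiv (B.toRepresentation g b) = D.toRepresentation g (eB.toLinearEquiv b) :=
    Representation.IntertwiningMap.isIntertwining _ _ eB.toIntertwiningMap g b
  have h1' := congrArg Subtype.val h1
  have h2' := congrArg Subtype.val h2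
  simp [Subrepresentation.toRepresentation] at h1' h2'
  simp [LinearEquiv.prodCongr_apply, Subrepresentation.toRepresentation]
  rw [h1', h2']

/-- Complex representations of a finite group with equal characters are equivalent. -/
theorem result {G : Type*} [Group G] [Finite G] {V W : Type*} [AddCommGroup V] [Module ℂ V] [FiniteDimensional ℂ V] [AddCommGroup W] [Module ℂ W] [FiniteDimensional ℂ W] (ρ : Representation ℂ G V) (σ : Representation ℂ G W) (h : ρ.character = σ.character) : Nonempty (ρ.Equiv σ) := by
  exact key _ V W rfl ρ σ h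

end Cfsg.Agent.S0153
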