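import Cfsg.Statements.S0199
import Cfsg.Agent.Involution.BaerSuzuki

set_option autoImplicit false
open Cfsg

namespace Cfsg.Agent.S0199

/-- Baer–Suzuki Theorem: a p-subgroup X of a finite group such that X and any of its conjugates generate a p-group is contained in a normal p-subgroup. -/
theorem result {G : Type*} [Group G] [Finite G] {p : ℕ} [Fact p.Prime] (X : Subgroup G) (hX : IsPGroup p X) (h : ∀ g : G, IsPGroup p ↥(X ⊔ X.map (MulAut.conj g).toMonoidHom)) : ∃ N : Subgroup G, N.Normal ∧ IsPGroup p N ∧ X ≤ N := by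
  obtain ⟨P, -⟩ := hX.exists_le_sylow
  refine ⟨(P : Subgroup G).normalCore, inferInstance, P.isPGroup'.to_le (Subgroup.normalCore_le _), ?_⟩
  intro x hx
  have hxg : ∀ g : G, IsPGroup p ↥(Subgroup.closure ({x, g * x * g⁻¹} : Set G)) := by
    intro g
    refine (h g).to_le ((Subgroup.closure_le _).mpr ?_)
    rintro z (rfl | rfl)
    · exact Subgroup.mem_sup_left hx
    · exact Subgroup.mem_sup_right ⟨x, hx, rfl⟩
  obtain ⟨N, hN, hNp, hxN⟩ := CfsgLib.Involution.baerSuzuki_mem x hxg
  exact Subgroup.normal_le_normalCore.mpr (hNp.le_sylow_of_normal P) hxN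

end Cfsg.Agent.S0199
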