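import Cfsg.Statements.S0447
import Cfsg.Agent.AltCover.Split
import Cfsg.Agent.AltCover.Eight

set_option autoImplicit false
open Cfsg CfsgLib.AltCover

namespace Cfsg.Agent.S0447

/-- Involutions in double covers of alternating groups: for n ≤ 7, a finite non-split double cover of the alternating group of degree n has exactly one element of order 2 (the central one); for degree 8 there is a non-split double cover with two distinct involutions. -/
theorem result : (∀ (n : ℕ) (H : Type) (_ : Group H) (_ : Finite H), n ≤ 7 → Cfsg.IsNonsplitDoubleCover H (alternatingGroup (Fin n)) → ∀ x y : H, orderOf x = 2 → orderOf y = 2 → x = y) ∧ ∃ (H : Type) (_ : Group H) (_ : Finite H), Cfsg.IsNonsplitDoubleCover H (alternatingGroup (Fin 8)) ∧ ∃ x y : H, x ≠ y ∧ orderOf x = 2 ∧ orderOf y = 2 := by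
  refine ⟨fun n H _ _ hn hH x y hx hy => ?_, exists_cover_eight⟩
  classical
  obtain ⟨hc2, ⟨e⟩, hns⟩ := hH
  by_cases hn3 : n ≤ 3
  · exfalso
    haveI hcyc : IsCyclic (H ⧸ Subgroup.center H) := by
      have hA : IsCyclic (alternatingGroup (Fin n)) := by
        interval_cases n
        · haveI : Subsingleton (alternatingGroup (Fin 0)) := Fintype.card_le_one_iff_subsingleton.1 (by decide +kernel)
          exact isCyclic_of_subsingleton
        · haveI : Subsingleton (alternatingGroup (Fin 1)) := Fintype.card_le_one_iff_subsingleton.1 (by decide +kernel)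
          exact isCyclic_of_subsingleton
        · haveI : Subsingleton (alternatingGroup (Fin 2)) := Fintype.card_le_one_iff_subsingleton.1 (by decide +kernel)
          exact isCyclic_of_subsingleton
        · haveI : Fact (Nat.Prime 3) := ⟨Nat.prime_three⟩
          exact isCyclic_of_prime_card (p := 3) (by rw [Nat.card_eq_fintype_card]; decide +kernel)
      exact isCyclic_of_surjective e.symm.toMonoidHom e.symm.surjective
    have hcomm : ∀ a b : H, a * b = b * a :=
      commutative_of_cyclic_center_quotient (QuotientGroup.mk' (Subgroup.center H)) (by rw [QuotientGroup.ker_mk'])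
    have htop : Subgroup.center H = ⊤ := eq_top_iff.2 fun a _ => Subgroup.mem_center_iff.2 fun b => hcomm b a
    exact hns ⊥ (htop ▸ Subgroup.isComplement'_top_bot)
  push Not at hn3
  obtain ⟨z, hzc, hz1, hel⟩ : ∃ z ∈ Subgroup.center H, z ≠ 1 ∧ ∀ g ∈ Subgroup.center H, g = 1 ∨ g = z := by
    obtain ⟨a, b, hab, hset⟩ := Finset.card_eq_two.1 (show (Subgroup.center H : Set H).toFinite.toFinset.card = 2 by
      rw [← Set.ncard_eq_toFinset_card _, ← Nat.card_coe_set_eq]; exact hc2)
    have hm : ∀ g, g ∈ Subgroup.center H ↔ g = a ∨ g = b := fun g => by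
      have := congrArg (g ∈ ·) hset
      simpa using this
    rcases (hm 1).1 (one_mem _) with rfl | rfl
    · exact ⟨b, (hm b).2 (Or.inr rfl), hab.symm, fun g hg => (hm g).1 hg⟩
    · exact ⟨a, (hm a).2 (Or.inl rfl), hab, fun g hg => ((hm g).1 hg).symm⟩
  have hzz : z * z = 1 := by
    rcases hel _ (mul_mem hzc hzc) with h | h
    · exact h
    · exact absurd (mul_eq_left.1 h) hz1
  have hzo : orderOf z = 2 := haveI : Fact (Nat.Prime 2) := ⟨Nat.prime_two⟩; orderOf_eq_prime (by rw [sq, hzz]) hz1
  obtain ⟨m, rfl⟩ : ∃ m, n = m + 2 := ⟨n - 2, by omega⟩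
  let q : H →* Equiv.Perm (Fin (m + 2)) :=
    ((alternatingGroup (Fin (m + 2))).subtype.comp e.toMonoidHom).comp (QuotientGroup.mk' _)
  have hker : q.ker = Subgroup.center H := by
    ext g
    simp [q, MonoidHom.mem_ker]
  have hq : IsExt q := by
    refine ⟨?_, hker.le⟩
    ext σ
    constructor
    · rintro ⟨g, rfl⟩; exact (e (QuotientGroup.mk' _ g)).2
    · intro hσ
      obtain ⟨g, hg⟩ := QuotientGroup.mk'_surjective _ (e.symm ⟨σ, hσ⟩)
      refine ⟨g, ?_⟩
      show ((e (QuotientGroup.mk' _ g)) : Equiv.Perm (Fin (m + 2))) = σ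
      rw [hg, MulEquiv.apply_symm_apply]
  suffices key : ∀ x : H, orderOf x = 2 → x = z from (key x hx).trans (key y hy).symm
  intro x hx
  by_contra hxz
  have hxx : x * x = 1 := by rw [← sq, ← hx, pow_orderOf_eq_one]
  have hx1 : x ≠ 1 := fun h => by rw [h, orderOf_one] at hx; omega
  have hqx : q x ≠ 1 := fun h => ((hel x (hker ▸ h)).elim hx1 hxz)
  have hsign : ∀ g, Equiv.Perm.sign (q g) = 1 := fun g =>
    Equiv.Perm.mem_alternatingGroup.1 (e (QuotientGroup.mk' _ g)).2
  obtain ⟨σ, hσ, hσx⟩ := isConj_double (n := m + 2) hn (by omega) (hsign x) (by rw [← map_mul, hxx, map_one]) hqx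
  have hinv : ∀ g, q g * q g = 1 → q g ≠ 1 → g * g = 1 := by
    intro g h1 h2
    obtain ⟨τ, hτ, hτg⟩ := isConj_double (n := m + 2) hn (by omega) (hsign g) h1 h2
    obtain ⟨S, hS⟩ := hq.exists_lift (show Equiv.Perm.sign (τ * σ⁻¹) = 1 by simp [hτ, hσ])
    obtain ⟨k, hk, hgk⟩ := hq.exists_central (show q g = q (S * x * S⁻¹) by
      rw [map_mul, map_mul, map_inv, hS, ← hσx, ← hτg]; group)
    rw [hgk]
    have hkc := Subgroup.mem_center_iff.1 hk
    have hkk : k * k = 1 := by
      rcases hel k hk with rfl | rfl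
      exacts [one_mul 1, hzz]
    calc k * (S * x * S⁻¹) * (k * (S * x * S⁻¹)) = k * (k * ((S * x * S⁻¹) * (S * x * S⁻¹))) := by
          rw [mul_assoc k, ← mul_assoc (S * x * S⁻¹) k, hkc]; group
      _ = 1 := by
          rw [← mul_assoc k k, hkk, one_mul, show S * x * S⁻¹ * (S * x * S⁻¹) = S * (x * x) * S⁻¹ by group, hxx]
          group
  obtain ⟨L, hL⟩ := exists_complement (by omega) (by omega) hq (hker ▸ hzc) hzz (fun g hg => hel g (hker ▸ hg)) hinv
  exact hns L (hker ▸ hL)

end Cfsg.Agent.S0447
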