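import Cfsg.Statements.S0448
import Cfsg.Agent.JankoOrder.TableOfData
import Cfsg.Agent.JankoOrder.Excluded

set_option autoImplicit false
open Cfsg

namespace Cfsg.Agent.S0448

/-- Janko's first group: a finite simple group with a 2-central involution whose centraliser is isomorphic to (cyclic of order 2) × (alternating group of degree 5) has order 175560. -/
theorem result {G : Type*} [Group G] [Finite G] [IsSimpleGroup G] (t : G) (ht : Cfsg.IsTwoCentralInvolution t) (e : Subgroup.centralizer ({t} : Set G) ≃* Multiplicative (ZMod 2) × alternatingGroup (Fin 5)) : Cfsg.IsJ1 G := by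
  have hG : ∀ H : Subgroup G, H.index ≠ 2 := by
    intro H hH
    have hn : H.Normal := Subgroup.normal_of_index_eq_two hH
    rcases hn.eq_bot_or_eq_top with h | h
    · subst h
      rw [Subgroup.index_bot] at hH
      have h1 : Nat.card (Subgroup.centralizer ({t} : Set G)) ≤ 2 :=
        hH ▸ (Subgroup.centralizer ({t} : Set G)).card_le_card_group
      rw [Nat.card_congr e.toEquiv, Nat.card_eq_fintype_card, CfsgLib.JankoOrder.card_Cen] at h1
      omega
    · subst h
      rw [Subgroup.index_top] at hH
      omega
  obtain ⟨D, -⟩ := CfsgLib.JankoOrder.exists_data hG t ht e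
  letI := Fintype.ofFinite G
  exact ⟨inferInstance, D.order_cases.resolve_right D.card_ne_excluded⟩

end Cfsg.Agent.S0448
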