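import Cfsg.Statements.S0516
import Cfsg.Agent.Eq.Def_CaseTheorems
import Cfsg.Agent.TwoRankTwo23.Main
import Cfsg.Agent.TwoFpf.Models
import Cfsg.Agent.ZStar.IsolatedSylow
import Cfsg.Agent.S0225
import Cfsg.Agent.S0949
import Cfsg.Agent.S0205

set_option autoImplicit false
open Cfsg

namespace Cfsg.Agent.S0516

/-- In a non-abelian finite simple group of 2-rank at most 2, a Sylow 2-subgroup is dihedral (of order at least 4),
quasi-dihedral, wreathed, or isomorphic to a Sylow 2-subgroup of the projective special unitary group of dimension 3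
over the field with 16 elements. -/
theorem result {G : Type*} [Group G] [Finite G] [IsSimpleGroup G]
    (hG : ¬ IsMulCommutative G) (h2 : Cfsg.PRankLE 2 2 G) (S : Sylow 2 G) {F : Type*} [Field F] [Fintype F]
    (hF : Fintype.card F = 16) (P : Sylow 2 (Cfsg.PSU 3 F 4)) :
    (∃ n : ℕ, 2 ≤ n ∧ Nonempty ((S : Subgroup G) ≃* DihedralGroup n)) ∨ Cfsg.IsQuasiDihedral (S : Subgroup G) ∨
      Cfsg.IsWreathed (S : Subgroup G) ∨ Nonempty ((S : Subgroup G) ≃* (P : Subgroup (Cfsg.PSU 3 F 4))) := by
  haveI : Fact (Nat.Prime 2) := ⟨Nat.prime_two⟩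
  -- `G` has even order
  have heven : Even (Nat.card G) := by
    rw [← Nat.not_odd_iff_even]
    intro hodd
    have hsol := Cfsg.Agent.S0205.result hodd
    exact hG (IsMulCommutative.of_comm fun a b =>
      IsSimpleGroup.comm_iff_isSolvable.mpr hsol a b)
  have hbot : ∀ N : Subgroup G, N.Normal → Odd (Nat.card N) → N = ⊥ := fun N hN hodd =>
    (hN.eq_bot_or_eq_top).resolve_right fun e => by
      rw [e, Subgroup.card_top] at hodd
      exact (Nat.not_odd_iff_even.2 heven) hodd
  have hcen : ∀ z : G, z ∈ Subgroup.center G → z = 1 := fun z hz => by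
    rcases (inferInstance : (Subgroup.center G).Normal).eq_bot_or_eq_top with e | e
    · rw [e] at hz; exact Subgroup.mem_bot.1 hz
    · exact absurd (IsMulCommutative.of_comm fun a b =>
        (Subgroup.mem_center_iff.1 (e.ge (Subgroup.mem_top b)) a)) hG
  have hno : ∀ z : G, orderOf z = 2 →
      ¬ ∃ N : Subgroup G, N.Normal ∧ Odd (Nat.card N) ∧ ∀ g : G, z * g * z⁻¹ * g⁻¹ ∈ N := by
    rintro z hz ⟨N, hN, hodd, hg⟩
    rw [hbot N hN hodd] at hg
    have : z = 1 := hcen z (Subgroup.mem_center_iff.2 fun g => by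
      have h := Subgroup.mem_bot.1 (hg g)
      rw [mul_inv_eq_one, mul_inv_eq_iff_eq_mul] at h
      exact h.symm)
    rw [this, orderOf_one] at hz
    omega
  have hiso : ∀ z : G, ¬ Cfsg.IsIsolatedInvolution z := fun z hz => by
    refine hno z hz.1 ⟨Cfsg.pPrimeCore 2 G, inferInstance, ?_, fun g => ?_⟩
    · rw [← Nat.not_even_iff_odd, even_iff_two_dvd]
      exact CfsgLib.Constrained.pPrimeCore_not_dvd
    · have h' := inv_mem (CfsgLib.ZStar.inZStar_of_isolatedInvolution hz g)
      simpa [mul_assoc] using h'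
  have h1 : ¬ Cfsg.PRankLE 2 1 G := by
    intro h
    obtain ⟨z, hz, hN⟩ := Cfsg.Agent.S0225.result heven fun E hE => by
      haveI := hE
      haveI : IsMulCommutative E := IsKleinFour.isMulCommutative
      have h' := h E inferInstance fun a ha => by
        have := congrArg Subtype.val (IsKleinFour.mul_self (⟨a, ha⟩ : E))
        simpa [pow_two] using this
      rw [IsKleinFour.card_four] at h'
      norm_num at h'
    exact hno z hz hN
  rcases CfsgLib.TwoRankTwo23.sylow_shape h2 hiso S h1 with h | h | h | ⟨n, hn, ⟨e⟩⟩ | ⟨W, ψ, h⟩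
  · exact Or.inl h
  · exact Or.inr (Or.inl h)
  · exact Or.inr (Or.inr (Or.inl h))
  · exfalso
    obtain ⟨hSn, -, -⟩ := Cfsg.Agent.S0949.result S n hn e hbot
    rcases hSn.eq_bot_or_eq_top with hS | hS
    · have hd := S.dvd_card_of_dvd_card (even_iff_two_dvd.1 heven)
      rw [hS, Subgroup.card_bot] at hd
      norm_num at hd
    · exact hG (IsMulCommutative.of_comm fun a b => by
        have := congrArg Subtype.val (e.injective (by
          rw [map_mul, map_mul, mul_comm]) :
          (⟨a, hS.ge (Subgroup.mem_top a)⟩ : (S : Subgroup G)) * ⟨b, hS.ge (Subgroup.mem_top b)⟩ =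
            ⟨b, hS.ge (Subgroup.mem_top b)⟩ * ⟨a, hS.ge (Subgroup.mem_top a)⟩)
        exact this)
  · exact Or.inr (Or.inr (Or.inr (h.nonempty_mulEquiv hF P)))

end Cfsg.Agent.S0516
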