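import Cfsg.Statements.S0518
import Cfsg.Agent.JComp.OddClosure
import Cfsg.Agent.S2947
-- import your own Cfsg.Agent.* helpers here

set_option autoImplicit false
open Cfsg

namespace Cfsg.Agent.S0518

/-- Let G be a finite group of characteristic 2 type with trivial 2-core in which every 2-local subgroup is solvable
and, for every Sylow 2-subgroup S, the centralizer of the set of central involutions of S lies in the normalizer of S.
Then either G has a strongly embedded subgroup, or the subgroup generated by the elements of odd order has two distinct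
maximal 2-local subgroups, each isomorphic to the symmetric group of degree 4, whose intersection has order 8. -/
theorem result {G : Type*} [Group G] [Finite G]
    (hL : Cfsg.IsCharacteristicTwoType G) (hO : Cfsg.pCore 2 G = ⊥)
    (hN : ∀ N : Subgroup G, Cfsg.IsTwoLocal N → Group.IsSolvable N)
    (hZ : ∀ S : Sylow 2 G,
      Subgroup.centralizer {z : G | z ∈ (S : Subgroup G) ∧ z ^ 2 = 1 ∧ ∀ s ∈ (S : Subgroup G), s * z = z * s} ≤
        Subgroup.normalizer ((S : Subgroup G) : Set G))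
    (H : Subgroup G) (hH : H = Subgroup.closure {g : G | Odd (orderOf g)}) :
    (∃ K : Subgroup G, Cfsg.IsStronglyEmbedded K) ∨
      ∃ M₁ M₂ : Subgroup H, M₁ ≠ M₂ ∧ Cfsg.IsMaximalTwoLocal M₁ ∧ Cfsg.IsMaximalTwoLocal M₂ ∧
        Nonempty (M₁ ≃* Equiv.Perm (Fin 4)) ∧ Nonempty (M₂ ≃* Equiv.Perm (Fin 4)) ∧ Nat.card ↥(M₁ ⊓ M₂) = 8 := by
  classical
  haveI : Fact (Nat.Prime 2) := ⟨Nat.prime_two⟩
  have hZ' : ∀ S : Sylow 2 G, Subgroup.centralizer (Cfsg.omegaCenterOf (S : Subgroup G) : Set G) ≤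
      Subgroup.normalizer ((S : Subgroup G) : Set G) := fun S x hx =>
    hZ S (Subgroup.mem_centralizer_iff.mpr fun z hz => Subgroup.mem_centralizer_iff.mp hx z
      (CfsgLib.JComp.mem_omegaCenterOf.mpr
        ⟨hz.1, Subgroup.mem_centralizer_iff.mpr hz.2.2, hz.2.1⟩))
  let S : Sylow 2 G := default
  have hS1 : (S : Subgroup G) ≠ ⊥ := fun h =>
    S.not_dvd_index (by rw [h, Subgroup.index_bot]; exact hL.1.two_dvd)
  set M := Subgroup.normalizer (Cfsg.thompsonSubgroupOf 2 (S : Subgroup G) : Set G) with hMdef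
  have hM : Cfsg.IsTwoLocal M :=
    ⟨_, CfsgLib.JComp.J_isPGroup S.isPGroup', CfsgLib.JComp.J_ne_bot S.isPGroup' hS1, rfl⟩
  by_cases hstr : Cfsg.straddlingTwoSubgroups M = ∅
  · exact Or.inl ⟨M, (Cfsg.Agent.S2947.result hL hN hZ' hO S M hM le_rfl).mpr hstr⟩
  · right
    obtain ⟨T, hT⟩ := CfsgLib.JComp.exists_maxStraddling (Set.nonempty_iff_ne_empty.mpr hstr)
    obtain ⟨K, K', g, g', hbot, hm, hm'⟩ :=
      CfsgLib.JComp.exists_two_maximal S ⟨hL, hN, hZ'⟩ hO le_rfl hT
    exact (⟨g, g', hbot, hm, hm'⟩ : CfsgLib.JComp.TwoPair T K K').exists_in_odd ⟨hL, hN, hZ'⟩ H hH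

end Cfsg.Agent.S0518
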