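import Cfsg.Statements.S0598
import Cfsg.Agent.Eq.Def_Transfer
import Cfsg.Agent.CentrallyLarge.Basic
import Mathlib

set_option autoImplicit false
open Cfsg

namespace Cfsg.Agent.S0598

open scoped commutatorElement

variable {G : Type*} [Group G] [Finite G] (V A : Subgroup G)

/-- `|X| |C_V(X)|`. -/
noncomputable def meas (X : Subgroup G) : ℕ :=
  Nat.card X * Nat.card ↥(V ⊓ Subgroup.centralizer (X : Set G))

omit [Finite G] in
theorem inf_centralizer_sup (X Y : Subgroup G) :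
    V ⊓ Subgroup.centralizer ((X ⊔ Y : Subgroup G) : Set G) =
      (V ⊓ Subgroup.centralizer (X : Set G)) ⊓ (V ⊓ Subgroup.centralizer (Y : Set G)) := by
  apply le_antisymm
  · exact le_inf (inf_le_inf_left _ (Subgroup.centralizer_le (le_sup_left : X ≤ X ⊔ Y)))
      (inf_le_inf_left _ (Subgroup.centralizer_le (le_sup_right : Y ≤ X ⊔ Y)))
  · rintro v ⟨⟨hv, hX⟩, ⟨-, hY⟩⟩
    refine ⟨hv, Subgroup.le_centralizer_iff.mp ?_ (Subgroup.mem_zpowers v)⟩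
    exact sup_le (Subgroup.le_centralizer_iff.mp (Subgroup.zpowers_le.mpr hX))
      (Subgroup.le_centralizer_iff.mp (Subgroup.zpowers_le.mpr hY))

/-- The step for intersections of subgroups of largest measure. -/
theorem inf_step (hmax : ∀ X : Subgroup G, X ≤ A → meas V X ≤ meas V A) {X Y : Subgroup G} (hX : X ≤ A)
    (hY : Y ≤ A) (hXm : meas V X = meas V A) (hYm : meas V Y = meas V A) :
    meas V (X ⊓ Y) = meas V A ∧ V ⊓ Subgroup.centralizer ((X ⊓ Y : Subgroup G) : Set G) =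
      (V ⊓ Subgroup.centralizer (X : Set G)) ⊔ (V ⊓ Subgroup.centralizer (Y : Set G)) := by
  set CX := V ⊓ Subgroup.centralizer (X : Set G)
  set CY := V ⊓ Subgroup.centralizer (Y : Set G)
  set CI := V ⊓ Subgroup.centralizer ((X ⊓ Y : Subgroup G) : Set G)
  have hle : CX ⊔ CY ≤ CI := sup_le (inf_le_inf_left _ (Subgroup.centralizer_le inf_le_left))
    (inf_le_inf_left _ (Subgroup.centralizer_le inf_le_right))
  have h1 : meas V A * meas V A ≤ meas V A * (Nat.card ↥(X ⊓ Y) * Nat.card ↥(CX ⊔ CY)) := by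
    calc meas V A * meas V A = (Nat.card X * Nat.card Y) * (Nat.card CX * Nat.card CY) := by
          nth_rewrite 1 [← hXm]; rw [← hYm]; simp only [meas]; ring
      _ ≤ (Nat.card ↥(X ⊔ Y) * Nat.card ↥(X ⊓ Y)) * (Nat.card ↥(CX ⊔ CY) * Nat.card ↥(CX ⊓ CY)) :=
          Nat.mul_le_mul (CfsgLib.CentrallyLarge.card_mul_le_sup X Y) (CfsgLib.CentrallyLarge.card_mul_le_sup CX CY)
      _ = meas V (X ⊔ Y) * (Nat.card ↥(X ⊓ Y) * Nat.card ↥(CX ⊔ CY)) := by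
          rw [meas, inf_centralizer_sup]; ring
      _ ≤ _ := Nat.mul_le_mul_right _ (hmax _ (sup_le hX hY))
  have hpos : 0 < meas V A := Nat.mul_pos Nat.card_pos Nat.card_pos
  have h2 := Nat.le_of_mul_le_mul_left h1 hpos
  have h3 : meas V (X ⊓ Y) ≤ meas V A := hmax _ (inf_le_left.trans hX)
  have h4 : Nat.card CI ≤ Nat.card ↥(CX ⊔ CY) :=
    Nat.le_of_mul_le_mul_left (h3.trans h2) Nat.card_pos
  refine ⟨le_antisymm h3 (h2.trans (Nat.mul_le_mul_left _ (Subgroup.card_le_of_le hle))),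
    (Subgroup.eq_of_le_of_card_ge hle h4).symm⟩

/-- The case of a single element. -/
theorem single (hmax : ∀ X : Subgroup G, X ≤ A → meas V X ≤ meas V A)
    (hVc : ∀ a ∈ V, ∀ b ∈ V, a * b = b * a) (hAV : A ≤ Subgroup.normalizer (V : Set G))
    (hab : ⁅A, A⁆ ≤ Subgroup.centralizer (V : Set G)) {u : G} (hu : u ∈ V) :
    let B := A ⊓ Subgroup.centralizer ({g | ∃ a ∈ A, g = ⁅u, a⁆} : Set G)
    meas V B = meas V A ∧ V ⊓ Subgroup.centralizer (B : Set G) =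
      Subgroup.closure {g | ∃ a ∈ A, g = ⁅u, a⁆} ⊔ (V ⊓ Subgroup.centralizer (A : Set G)) := by
  intro B
  set D := Subgroup.closure {g | ∃ a ∈ A, g = ⁅u, a⁆} with hD
  set CA := V ⊓ Subgroup.centralizer (A : Set G) with hCA
  set X := D ⊔ CA with hX
  have hgV : ∀ a ∈ A, ⁅u, a⁆ ∈ V := fun a ha => by
    rw [commutatorElement_def, mul_assoc u a u⁻¹, mul_assoc]
    exact V.mul_mem hu ((Subgroup.mem_normalizer_iff.mp (hAV ha) _).mp (V.inv_mem hu))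
  have hXle : X ≤ V ⊓ Subgroup.centralizer (B : Set G) := by
    refine sup_le ((Subgroup.closure_le _).mpr ?_) (inf_le_inf_left _ (Subgroup.centralizer_le inf_le_left))
    rintro _ ⟨a, ha, rfl⟩
    exact ⟨hgV a ha, fun y hy => (Subgroup.mem_centralizer_iff.mp hy.2 _ ⟨a, ha, rfl⟩).symm⟩
  -- the symmetry of double commutators
  have hsym : ∀ a ∈ A, ∀ b ∈ A, ⁅u, a⁆⁻¹ * (b * ⁅u, a⁆ * b⁻¹) = ⁅u, b⁆⁻¹ * (a * ⁅u, b⁆ * a⁻¹) := by
    intro a ha b hb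
    have hsw : b * a * u⁻¹ * (b * a)⁻¹ = a * b * u⁻¹ * (a * b)⁻¹ := by
      have h := Subgroup.mem_centralizer_iff.mp (hab (Subgroup.commutator_mem_commutator hb ha))
      have hmem : a * b * u⁻¹ * (a * b)⁻¹ ∈ V :=
        (Subgroup.mem_normalizer_iff.mp (hAV (A.mul_mem ha hb)) _).mp (V.inv_mem hu)
      have h' := h _ hmem
      calc b * a * u⁻¹ * (b * a)⁻¹ = ⁅b, a⁆ * (a * b * u⁻¹ * (a * b)⁻¹) * ⁅b, a⁆⁻¹ := by
            simp [commutatorElement_def, mul_assoc]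
        _ = _ := by rw [← h', mul_inv_cancel_right]
    have hc : ∀ w ∈ A, ⁅u, w⁆ = u * (w * u⁻¹ * w⁻¹) := fun w _ => by simp [commutatorElement_def, mul_assoc]
    have hVn : ∀ w ∈ A, ∀ v ∈ V, w * v * w⁻¹ ∈ V := fun w hw v hv =>
      (Subgroup.mem_normalizer_iff.mp (hAV hw) v).mp hv
    -- write everything inside the abelian group `V`
    let cV : ∀ v, v ∈ V → ↥V := fun v hv => ⟨v, hv⟩
    letI : CommGroup V := { (inferInstance : Group V) with mul_comm := fun a b => Subtype.ext (hVc a a.2 b b.2) }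
    have key : ∀ x ∈ A, ∀ y ∈ A, ∀ (h1 : x * u * x⁻¹ ∈ V) (h2 : y * u⁻¹ * y⁻¹ ∈ V)
        (h3 : x * y * u⁻¹ * (x * y)⁻¹ ∈ V) (h4 : ⁅u, y⁆⁻¹ * (x * ⁅u, y⁆ * x⁻¹) ∈ V),
        (⟨_, h4⟩ : V) = ((⟨u, hu⟩ : V) * ⟨_, h2⟩)⁻¹ * (⟨_, h1⟩ * ⟨_, h3⟩) := by
      intro x _ y _ h1 h2 h3 h4
      apply Subtype.ext
      simp [commutatorElement_def, mul_assoc]
    have m : ∀ x ∈ A, ∀ y ∈ A, ⁅u, y⁆⁻¹ * (x * ⁅u, y⁆ * x⁻¹) ∈ V := fun x hx y hy =>
      V.mul_mem (V.inv_mem (hgV y hy)) (hVn x hx _ (hgV y hy))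
    have e1 := key b hb a ha (hVn b hb u hu) (hVn a ha _ (V.inv_mem hu))
      (hVn _ (A.mul_mem hb ha) _ (V.inv_mem hu)) (m b hb a ha)
    have e2 := key a ha b hb (hVn a ha u hu) (hVn b hb _ (V.inv_mem hu))
      (hVn _ (A.mul_mem ha hb) _ (V.inv_mem hu)) (m a ha b hb)
    have e3 : (⟨b * u * b⁻¹, hVn b hb u hu⟩ : V) = (⟨b * u⁻¹ * b⁻¹, hVn b hb _ (V.inv_mem hu)⟩ : V)⁻¹ :=
      Subtype.ext (by simp [mul_assoc])
    have e4 : (⟨a * u * a⁻¹, hVn a ha u hu⟩ : V) = (⟨a * u⁻¹ * a⁻¹, hVn a ha _ (V.inv_mem hu)⟩ : V)⁻¹ :=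
      Subtype.ext (by simp [mul_assoc])
    have e5 : (⟨b * a * u⁻¹ * (b * a)⁻¹, hVn _ (A.mul_mem hb ha) _ (V.inv_mem hu)⟩ : V) =
        ⟨a * b * u⁻¹ * (a * b)⁻¹, hVn _ (A.mul_mem ha hb) _ (V.inv_mem hu)⟩ := Subtype.ext hsw
    rw [e3, e5] at e1
    rw [e4] at e2
    have e6 := congrArg Subtype.val (e1.trans (Eq.trans (by
      simp only [mul_inv_rev, mul_assoc, mul_comm, mul_left_comm]) e2.symm))
    exact e6
  -- the quotient map is injective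
  let φ : A ⧸ B.subgroupOf A → X ⧸ CA.subgroupOf X := fun q =>
    QuotientGroup.mk ⟨⁅u, (q.out : G)⁆, (le_sup_left : D ≤ X) (Subgroup.subset_closure ⟨_, q.out.2, rfl⟩)⟩
  have hφ : Function.Injective φ := by
    intro q q' h
    have h' : ⁅u, (q.out : G)⁆⁻¹ * ⁅u, (q'.out : G)⁆ ∈ CA := Subgroup.mem_subgroupOf.mp (QuotientGroup.eq.mp h)
    set a := (q.out : G) with ha'
    set b := (q'.out : G) with hb'
    have hmem : a⁻¹ * b ∈ B := by
      refine ⟨A.mul_mem (A.inv_mem q.out.2) q'.out.2, fun g hg => ?_⟩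
      obtain ⟨x, hx, rfl⟩ := hg
      have hxc := Subgroup.mem_centralizer_iff.mp h'.2 x hx
      have h1 := hsym a q.out.2 x hx
      have h2 := hsym b q'.out.2 x hx
      have hc : ⁅u, a⁆⁻¹ * (x * ⁅u, a⁆ * x⁻¹) = ⁅u, b⁆⁻¹ * (x * ⁅u, b⁆ * x⁻¹) := by
        have hw1 : ⁅u, a⁆⁻¹ * (x * ⁅u, a⁆ * x⁻¹) ∈ V :=
          V.mul_mem (V.inv_mem (hgV a q.out.2)) ((Subgroup.mem_normalizer_iff.mp (hAV hx) _).mp (hgV a q.out.2))
        have hw2 : x * (⁅u, a⁆⁻¹ * ⁅u, b⁆) * x⁻¹ = ⁅u, a⁆⁻¹ * ⁅u, b⁆ := by rw [hxc, mul_inv_cancel_right]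
        have hb2 : ⁅u, b⁆ = ⁅u, a⁆ * (⁅u, a⁆⁻¹ * ⁅u, b⁆) := by rw [mul_inv_cancel_left]
        generalize hd : ⁅u, a⁆⁻¹ * ⁅u, b⁆ = d at h' hw2 hb2
        rw [hb2, mul_inv_rev]
        calc ⁅u, a⁆⁻¹ * (x * ⁅u, a⁆ * x⁻¹) = d⁻¹ * (⁅u, a⁆⁻¹ * (x * ⁅u, a⁆ * x⁻¹) * d) := by
              rw [hVc _ hw1 d h'.1, inv_mul_cancel_left]
          _ = d⁻¹ * (⁅u, a⁆⁻¹ * (x * ⁅u, a⁆ * x⁻¹) * (x * d * x⁻¹)) := by rw [hw2]
          _ = _ := by simp [mul_assoc]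
      rw [h1, h2] at hc
      have h3 : a * ⁅u, x⁆ * a⁻¹ = b * ⁅u, x⁆ * b⁻¹ := mul_left_cancel hc
      calc ⁅u, x⁆ * (a⁻¹ * b) = a⁻¹ * (a * ⁅u, x⁆ * a⁻¹) * b := by simp [mul_assoc]
        _ = a⁻¹ * b * ⁅u, x⁆ := by rw [h3]; simp [mul_assoc]
    rw [← q.out_eq', ← q'.out_eq']
    exact QuotientGroup.eq.mpr (Subgroup.mem_subgroupOf.mpr hmem)
  have h1 : Nat.card A * Nat.card CA ≤ Nat.card B * Nat.card X := by
    have hA1 : Nat.card B * Nat.card (A ⧸ B.subgroupOf A) = Nat.card A := by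
      rw [← Nat.card_congr (Subgroup.subgroupOfEquivOfLe (inf_le_left : B ≤ A)).toEquiv,
        ← Subgroup.index_eq_card, Subgroup.card_mul_index]
    have hX1 : Nat.card CA * Nat.card (X ⧸ CA.subgroupOf X) = Nat.card X := by
      rw [← Nat.card_congr (Subgroup.subgroupOfEquivOfLe (le_sup_right : CA ≤ X)).toEquiv,
        ← Subgroup.index_eq_card, Subgroup.card_mul_index]
    rw [← hA1, ← hX1]
    calc Nat.card B * Nat.card (A ⧸ B.subgroupOf A) * Nat.card CA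
        ≤ Nat.card B * Nat.card (X ⧸ CA.subgroupOf X) * Nat.card CA :=
          Nat.mul_le_mul_right _ (Nat.mul_le_mul_left _ (Nat.card_le_card_of_injective φ hφ))
      _ = _ := by ring
  have h2 : meas V B ≤ meas V A := hmax B inf_le_left
  have h3 : Nat.card ↥(V ⊓ Subgroup.centralizer (B : Set G)) ≤ Nat.card X :=
    Nat.le_of_mul_le_mul_left (h2.trans h1) Nat.card_pos
  exact ⟨le_antisymm h2 (h1.trans (Nat.mul_le_mul_left _ (Subgroup.card_le_of_le hXle))),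
    (Subgroup.eq_of_le_of_card_ge hXle h3).symm⟩

/-- Thompson's replacement dichotomy: for A acting with abelian image on an elementary abelian p-group V and U ≤ V, either some subgroup of A increases the product of its order with the order of its fixed points, or C_A([U,A]) preserves that product and has fixed points exactly [U,A]C_V(A). -/
theorem result {G : Type*} [Group G] [Finite G] {p : ℕ} [Fact p.Prime] (V A : Subgroup G) (hV : Cfsg.IsElementaryAbelian p V) (hAV : A ≤ Subgroup.normalizer (V : Set G)) (hab : ⁅A, A⁆ ≤ Subgroup.centralizer (V : Set G)) (U : Subgroup G) (hU : U ≤ V) : ∃ B : Subgroup G, B ≤ A ∧ ((Nat.card A * Nat.card ↥(V ⊓ Subgroup.centralizer (A : Set G)) < Nat.card B * Nat.card ↥(V ⊓ Subgroup.centralizer (B : Set G))) ∨ (B = A ⊓ Subgroup.centralizer ((⁅U, A⁆ : Subgroup G) : Set G) ∧ (V ⊓ Subgroup.centralizer (B : Set G)) = ⁅U, A⁆ ⊔ (V ⊓ Subgroup.centralizer (A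 : Set G)) ∧ Nat.card A * Nat.card ↥(V ⊓ Subgroup.centralizer (A : Set G)) = Nat.card B * Nat.card ↥(V ⊓ Subgroup.centralizer (B : Set G)))) := by
  classical
  by_cases hmax : ∀ X : Subgroup G, X ≤ A → meas V X ≤ meas V A
  swap
  · push_neg at hmax
    obtain ⟨X, hX, hlt⟩ := hmax
    exact ⟨X, hX, Or.inl hlt⟩
  have hVc : ∀ a ∈ V, ∀ b ∈ V, a * b = b * a := fun a ha b hb =>
    congrArg Subtype.val (hV.1.is_comm.comm ⟨a, ha⟩ ⟨b, hb⟩)
  have key : ∀ s : Finset G, (↑s : Set G) ⊆ (U : Set G) →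
      let B := A ⊓ Subgroup.centralizer ({g | ∃ u ∈ s, ∃ a ∈ A, g = ⁅u, a⁆} : Set G)
      meas V B = meas V A ∧ V ⊓ Subgroup.centralizer (B : Set G) =
        Subgroup.closure {g | ∃ u ∈ s, ∃ a ∈ A, g = ⁅u, a⁆} ⊔ (V ⊓ Subgroup.centralizer (A : Set G)) := by
    intro s
    induction s using Finset.induction with
    | empty =>
      intro _
      have h0 : {g : G | ∃ u ∈ (∅ : Finset G), ∃ a ∈ A, g = ⁅u, a⁆} = ∅ := by simp
      have hc : Subgroup.centralizer (∅ : Set G) = ⊤ := eq_top_iff.mpr fun g _ => by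
        rw [Subgroup.mem_centralizer_iff]; simp
      intro B
      have hB : B = A := by simp only [B, h0, hc, inf_top_eq]
      rw [hB, h0, Subgroup.closure_empty, bot_sup_eq]
      exact ⟨rfl, rfl⟩
    | @insert u s hus ih =>
      intro hsub
      rw [Finset.coe_insert, Set.insert_subset_iff] at hsub
      obtain ⟨ih1, ih2⟩ := ih hsub.2
      obtain ⟨s1, s2⟩ := single V A hmax hVc hAV hab (hU hsub.1)
      set S₁ := {g | ∃ a ∈ A, g = ⁅u, a⁆}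
      set S₂ := {g | ∃ v ∈ s, ∃ a ∈ A, g = ⁅v, a⁆}
      have hset : {g : G | ∃ v ∈ insert u s, ∃ a ∈ A, g = ⁅v, a⁆} = S₁ ∪ S₂ := by
        ext g; simp [S₁, S₂, or_and_right, exists_or]
      intro B
      have hB : B = (A ⊓ Subgroup.centralizer S₁) ⊓ (A ⊓ Subgroup.centralizer S₂) := by
        ext g
        simp only [B, hset, Subgroup.mem_inf, Subgroup.mem_centralizer_iff, Set.mem_union]
        constructor
        · rintro ⟨hA, hg⟩
          exact ⟨⟨hA, fun x hx => hg x (Or.inl hx)⟩, hA, fun x hx => hg x (Or.inr hx)⟩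
        · rintro ⟨⟨hA, h1⟩, -, h2⟩
          exact ⟨hA, fun x hx => hx.elim (h1 x) (h2 x)⟩
      obtain ⟨r1, r2⟩ := inf_step V A hmax inf_le_left inf_le_left s1 ih1
      refine ⟨hB ▸ r1, ?_⟩
      rw [hB, r2, s2, ih2, hset, Subgroup.closure_union, sup_sup_sup_comm, sup_idem]
  obtain ⟨s, hs⟩ : ∃ s : Finset G, (↑s : Set G) = (U : Set G) := ⟨(Set.toFinite (U : Set G)).toFinset, Set.Finite.coe_toFinset _⟩
  obtain ⟨k1, k2⟩ := key s (subset_of_eq hs)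
  have hset : {g : G | ∃ u ∈ s, ∃ a ∈ A, g = ⁅u, a⁆} = {g | ∃ g₁ ∈ U, ∃ g₂ ∈ A, ⁅g₁, g₂⁆ = g} := by
    ext g
    simp only [Set.mem_setOf_eq, ← Finset.mem_coe, hs, SetLike.mem_coe, eq_comm (a := g)]
  rw [hset] at k1 k2
  rw [← Subgroup.centralizer_closure {g | ∃ g₁ ∈ U, ∃ g₂ ∈ A, ⁅g₁, g₂⁆ = g}] at k1 k2
  exact ⟨_, inf_le_left, Or.inr ⟨rfl, k2, k1.symm⟩⟩

end Cfsg.Agent.S0598
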