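import Cfsg.Statements.S0599
import Cfsg.Agent.Eq.Def_PLocal
import Cfsg.Agent.S0598
import Mathlib

set_option autoImplicit false
open Cfsg

namespace Cfsg.Agent.S0599

open scoped commutatorElement

/-- In a finite `p`-group no nontrivial subgroup satisfies `W ≤ ⁅W, H⁆`. -/
theorem eq_bot_of_le_commutator {G : Type*} [Group G] {p : ℕ} [Fact p.Prime] [Finite G] {H W : Subgroup G}
    (hH : IsPGroup p H) (hWH : W ≤ H) (hW : W ≤ ⁅W, H⁆) : W = ⊥ := by
  haveI : Group.IsNilpotent H := IsPGroup.isNilpotent hH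
  set W' := W.subgroupOf H
  have hW' : W' ≤ ⁅W', (⊤ : Subgroup H)⁆ := by
    rw [← Subgroup.map_le_map_iff_of_injective H.subtype_injective, Subgroup.map_commutator,
      Subgroup.map_subgroupOf_eq_of_le hWH, ← MonoidHom.range_eq_map, Subgroup.range_subtype]
    exact hW
  have h : ∀ n, W' ≤ Subgroup.lowerCentralSeries (⊤ : Subgroup H) n := by
    intro n
    induction n with
    | zero => simp
    | succ n ih =>
      rw [Subgroup.lowerCentralSeries_succ]
      exact hW'.trans (Subgroup.commutator_mono ih le_rfl)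
  obtain ⟨n, hn⟩ := Subgroup.nilpotent_iff_lowerCentralSeries.mp this
  have hb : W' = ⊥ := le_bot_iff.mp (hn ▸ h n)
  rw [← Subgroup.map_subgroupOf_eq_of_le hWH]
  show W'.map H.subtype = ⊥
  rw [hb, Subgroup.map_bot]

/-- A subgroup inducing a `p`-group on the `p`-group `V` moves a nontrivial commutator properly. -/
theorem commutator_eq_bot {G : Type*} [Group G] {p : ℕ} [Fact p.Prime] [Finite G] {V A : Subgroup G}
    (hVp : IsPGroup p V) (hAV : A ≤ Subgroup.normalizer (V : Set G))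
    (hpow : ∀ a ∈ A, ∃ n : ℕ, a ^ p ^ n ∈ Subgroup.centralizer (V : Set G))
    (h : ⁅V, A⁆ ≤ ⁅⁅V, A⁆, A⁆) : ⁅V, A⁆ = ⊥ := by
  obtain ⟨P⟩ : Nonempty (Sylow p A) := inferInstance
  set C := (Subgroup.centralizer (V : Set G)).subgroupOf A with hC
  haveI hCn : C.Normal := by
    refine ⟨fun c hc a => ?_⟩
    rw [hC, Subgroup.mem_subgroupOf, Subgroup.mem_centralizer_iff] at hc ⊢
    intro v hv
    have hv' : (a : G)⁻¹ * v * a ∈ V := by
      have := (Subgroup.mem_normalizer_iff.mp (hAV (A.inv_mem a.2)) v).mp hv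
      rwa [inv_inv] at this
    calc v * ((a * c * a⁻¹ : A) : G) = (a : G) * ((a : G)⁻¹ * v * a * c) * (a : G)⁻¹ := by simp [mul_assoc]
      _ = (a : G) * (c * ((a : G)⁻¹ * v * a)) * (a : G)⁻¹ := by rw [hc _ hv']
      _ = ((a * c * a⁻¹ : A) : G) * v := by simp [mul_assoc]
  have hq : IsPGroup p (A ⧸ C) := by
    intro q
    obtain ⟨a, rfl⟩ := QuotientGroup.mk_surjective q
    obtain ⟨n, hn⟩ := hpow a a.2
    exact ⟨n, (QuotientGroup.eq_one_iff _).mpr (by simpa [hC, Subgroup.mem_subgroupOf] using hn)⟩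
  have hsup : C ⊔ (P : Subgroup A) = ⊤ := by
    rw [← Subgroup.index_eq_one]
    obtain ⟨k, hk⟩ := IsPGroup.iff_card.mp hq
    have h1 : (C ⊔ (P : Subgroup A)).index ∣ p ^ k := by
      rw [← hk, ← Subgroup.index_eq_card]; exact Subgroup.index_dvd_of_le le_sup_left
    have h2 : (C ⊔ (P : Subgroup A)).index ∣ (P : Subgroup A).index := Subgroup.index_dvd_of_le le_sup_right
    exact Nat.eq_one_of_dvd_coprimes
      (Nat.Coprime.pow_left k ((Nat.Prime.coprime_iff_not_dvd Fact.out).mpr P.not_dvd_index)) h1 h2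
  set P' := (P : Subgroup A).map A.subtype with hP'
  have hP'A : P' ≤ A := Subgroup.map_subtype_le _
  have hWV : ⁅V, A⁆ ≤ V := Subgroup.le_normalizer_iff_commutator_le_left.mp hAV
  -- only the Sylow subgroup matters
  have hred : ∀ X : Subgroup G, X ≤ V → ⁅X, A⁆ ≤ ⁅X, P'⁆ := by
    intro X hX
    rw [Subgroup.commutator_le]
    intro v hv a ha
    have hmem : (⟨a, ha⟩ : A) ∈ C ⊔ (P : Subgroup A) := hsup ▸ Subgroup.mem_top _
    rw [← SetLike.mem_coe, Subgroup.normal_mul] at hmem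
    obtain ⟨c, hc, s, hs, hcs⟩ := hmem
    have haeq : (c : G) * s = a := congrArg Subtype.val hcs
    rw [SetLike.mem_coe, hC, Subgroup.mem_subgroupOf, Subgroup.mem_centralizer_iff] at hc
    have hcv : ⁅v, (c : G)⁆ = 1 := commutatorElement_eq_one_iff_mul_comm.mpr (hc v (hX hv))
    have hvs : ⁅v, (s : G)⁆ ∈ ⁅X, P'⁆ := Subgroup.commutator_mem_commutator hv ⟨s, hs, rfl⟩
    have hexp : ⁅v, (c : G) * s⁆ = ⁅v, (c : G)⁆ * ((c : G) * ⁅v, (s : G)⁆ * (c : G)⁻¹) := by
      simp [commutatorElement_def, mul_assoc]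
    rw [← haeq, hexp, hcv, one_mul, ← hc ⁅v, (s : G)⁆ (hWV (Subgroup.commutator_mem_commutator (hX hv) s.2)),
      mul_inv_cancel_right]
    exact hvs
  refine eq_bot_of_le_commutator (p := p) (H := P' ⊔ V)
    ((P.2.map _).to_sup_of_normal_right' hVp (hP'A.trans hAV)) (hWV.trans le_sup_right) ?_
  exact h.trans ((hred _ hWV).trans (Subgroup.commutator_mono le_rfl le_sup_left))

/-- The Timmesfeld replacement Theorem: replacing a best offender A by C_A([U, A]) gives a best offender with fixed points [U, A]C_V(A), still nontrivial on V if A was. -/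
theorem result {G : Type*} [Group G] [Finite G] {p : ℕ} [Fact p.Prime] (V A : Subgroup G) (hV : Cfsg.IsElementaryAbelian p V) (hAV : A ≤ Subgroup.normalizer (V : Set G)) (hA : Cfsg.IsBestOffenderOn p V A) (U : Subgroup G) (hU : U ≤ V) : Cfsg.IsBestOffenderOn p V (A ⊓ Subgroup.centralizer ((⁅U, A⁆ : Subgroup G) : Set G)) ∧ V ⊓ Subgroup.centralizer ((A ⊓ Subgroup.centralizer ((⁅U, A⁆ : Subgroup G) : Set G) : Subgroup G) : Set G) = ⁅U, A⁆ ⊔ (V ⊓ Subgroup.centralizer (A : Set G)) ∧ (⁅V, A⁆ ≠ ⊥ → ⁅V, A ⊓ Subgroup.centralizer ((⁅U, A⁆ : Subgroup G) : Set G)⁆ ≠ ⊥) := by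
  obtain ⟨hbest, hcom, hpow⟩ := hA
  obtain ⟨B, hBA, hB⟩ := Cfsg.Agent.S0598.result V A hV hAV hcom U hU
  rcases hB with hlt | ⟨rfl, hCB, hmeas⟩
  · exact absurd (hbest B hBA) (not_le_of_gt hlt)
  refine ⟨⟨fun X hX => hmeas ▸ hbest X (hX.trans inf_le_left),
    (Subgroup.commutator_mono inf_le_left inf_le_left).trans hcom, fun a ha => hpow a ha.1⟩, hCB, fun hne h0 => hne ?_⟩
  have hVp : IsPGroup p V := fun v => ⟨1, Subtype.ext (by simpa using hV.2 v v.2)⟩
  refine commutator_eq_bot hVp hAV (fun a ha => ⟨1, by simpa using hpow a ha⟩) ?_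
  have hVle : V ≤ ⁅U, A⁆ ⊔ (V ⊓ Subgroup.centralizer (A : Set G)) := by
    rw [← hCB]
    exact le_inf le_rfl (Subgroup.commutator_eq_bot_iff_le_centralizer.mp h0)
  rw [Subgroup.commutator_le]
  intro v hv a ha
  have hWV : ⁅U, A⁆ ≤ V := (Subgroup.commutator_mono hU le_rfl).trans
    (Subgroup.le_normalizer_iff_commutator_le_left.mp hAV)
  have hn : ⁅U, A⁆ ≤ Subgroup.normalizer ((V ⊓ Subgroup.centralizer (A : Set G) : Subgroup G) : Set G) := by
    intro x hx
    rw [Subgroup.mem_normalizer_iff]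
    intro y
    have hVc : ∀ a ∈ V, ∀ b ∈ V, a * b = b * a := fun a ha b hb =>
      congrArg Subtype.val (hV.1.is_comm.comm ⟨a, ha⟩ ⟨b, hb⟩)
    constructor
    · intro hy
      rwa [hVc x (hWV hx) y hy.1, mul_inv_cancel_right]
    · intro hy
      have hyV : y ∈ V := by
        simpa [mul_assoc] using V.mul_mem (V.mul_mem (V.inv_mem (hWV hx)) hy.1) (hWV hx)
      rwa [hVc x (hWV hx) y hyV, mul_inv_cancel_right] at hy
  have hv' := hVle hv
  rw [← SetLike.mem_coe, Subgroup.coe_mul_of_left_le_normalizer_right _ _ hn] at hv'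
  obtain ⟨w, hw, c, hc, rfl⟩ := hv'
  have hca : ⁅c, a⁆ = 1 := commutatorElement_eq_one_iff_mul_comm.mpr
    (Subgroup.mem_centralizer_iff.mp hc.2 a ha).symm
  have hexp : ⁅w * c, a⁆ = w * ⁅c, a⁆ * w⁻¹ * ⁅w, a⁆ := by simp [commutatorElement_def, mul_assoc]
  rw [hexp, hca, mul_one, mul_inv_cancel, one_mul]
  exact Subgroup.commutator_mono (Subgroup.commutator_mono hU le_rfl) le_rfl (Subgroup.commutator_mem_commutator hw ha)

end Cfsg.Agent.S0599
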