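import Cfsg.Statements.S0606
import Cfsg.Agent.LocalP.ThompsonJ
import Cfsg.Agent.Eq.Def_PLocal

set_option autoImplicit false
open Cfsg

namespace Cfsg.Agent.S0606

/-- Elementary abelian p-subgroups of maximal order are best offenders on any normal elementary abelian p-subgroup. -/
theorem result {G : Type*} [Group G] [Finite G] {p : ℕ} [Fact p.Prime] (V : Subgroup G) [V.Normal] (hV : Cfsg.IsElementaryAbelian p V) (A : Subgroup G) (hA : A ∈ Cfsg.maxElementaryAbelianSubgroups p G) : Cfsg.IsBestOffenderOn p V A := by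
  classical
  obtain ⟨hAel, hAmax⟩ := hA
  have hA' := CfsgLib.LocalP.isElementaryAbelian_iff.1 hAel
  refine ⟨fun B hB => ?_, ?_, fun a ha => ?_⟩
  · -- `B (C_V(B))` is elementary abelian
    set W := V ⊓ Subgroup.centralizer (B : Set G) with hW
    have hBW : IsElementaryAbelian p (B ⊔ W) :=
      CfsgLib.LocalP.isElementaryAbelian_sup (CfsgLib.LocalP.isElementaryAbelian_mono hAel hB)
        (CfsgLib.LocalP.isElementaryAbelian_mono hV inf_le_left)
        (fun b hb w hw => Subgroup.mem_centralizer_iff.1 hw.2 b hb)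
    have hcard := hAmax _ hBW
    have hint : B ⊓ W ≤ A ⊓ V := le_inf (inf_le_left.trans hB) (inf_le_right.trans inf_le_left)
    have hint' : Nat.card ↥(B ⊓ W) ≤ Nat.card ↥(V ⊓ Subgroup.centralizer (A : Set G)) := by
      refine Subgroup.card_le_of_le (hint.trans (le_inf inf_le_right ?_))
      intro x hx
      rw [Subgroup.mem_centralizer_iff]
      exact fun a ha => hA'.1 a ha x hx.1
    have hprod := CfsgLib.LocalP.card_mul_le_card_sup_mul_card_inf B W
    calc Nat.card B * Nat.card W ≤ Nat.card ↥(B ⊔ W) * Nat.card ↥(B ⊓ W) := hprod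
      _ ≤ _ := Nat.mul_le_mul hcard hint'
  · rw [Subgroup.commutator_eq_bot_iff_le_centralizer.2]
    · exact bot_le
    · exact Subgroup.le_centralizer_iff_isMulCommutative.2 hAel.1
  · rw [hA'.2 a ha]
    exact one_mem _

end Cfsg.Agent.S0606
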