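import Cfsg.Statements.S0647
import Mathlib.GroupTheory.Subgroup.Centralizer

set_option autoImplicit false
open Cfsg

namespace Cfsg.Agent.S0647

/-- For a nonempty family of maximal abelian subgroups of a finite group, the intersection of the family is the centre of the subgroup it generates, which is also the full centralizer of that subgroup. -/
theorem result {S : Type*} [Group S] [Finite S] (𝒜 : Set (Subgroup S)) (hne : 𝒜.Nonempty) (hab : ∀ A ∈ 𝒜, IsMulCommutative A) (hmax : ∀ A ∈ 𝒜, ∀ B : Subgroup S, IsMulCommutative B → A ≤ B → B = A) : sInf 𝒜 = sSup 𝒜 ⊓ Subgroup.centralizer ((sSup 𝒜 : Subgroup S) : Set S) ∧ sInf 𝒜 = Subgroup.centralizer ((sSup 𝒜 : Subgroup S) : Set S) := by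
  have key : sInf 𝒜 = Subgroup.centralizer ((sSup 𝒜 : Subgroup S) : Set S) := by
    refine le_antisymm ?_ ?_
    · rw [Subgroup.le_centralizer_iff]
      refine sSup_le fun A hA => ?_
      rw [Subgroup.le_centralizer_iff]
      exact le_trans (sInf_le hA) (Subgroup.le_centralizer_iff_isMulCommutative.2 (hab A hA))
    · refine le_sInf fun A hA x hx => ?_
      haveI := hab A hA
      have hcomm : IsMulCommutative (Subgroup.closure ((A : Set S) ∪ {x})) := by
        refine Subgroup.isMulCommutative_closure ?_
        rintro u (hu | rfl) v (hv | rfl)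
        · exact congrArg Subtype.val (mul_comm' (⟨u, hu⟩ : A) ⟨v, hv⟩)
        · exact Subgroup.mem_centralizer_iff.1 hx u (le_sSup hA hu)
        · exact (Subgroup.mem_centralizer_iff.1 hx v (le_sSup hA hv)).symm
        · rfl
      rw [← hmax A hA _ hcomm (fun y hy => Subgroup.subset_closure (Or.inl hy))]
      exact Subgroup.subset_closure (Or.inr rfl)
  refine ⟨?_, key⟩
  obtain ⟨A, hA⟩ := hne
  rw [← key, inf_eq_right.2 ((sInf_le hA).trans (le_sSup hA))]

end Cfsg.Agent.S0647
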