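import Cfsg.Statements.S0648
import Mathlib

set_option autoImplicit false
open Cfsg

namespace Cfsg.Agent.S0648

open scoped commutatorElement

variable {G : Type*} [Group G]

theorem comm_eq_one_of {x y : G} (h : x * y = y * x) : ⁅x, y⁆ = 1 :=
  commutatorElement_eq_one_iff_mul_comm.mpr h

/-- The first part: `[B, A]` centralises `[B, B]`, and its derived group centralises `B`. -/
theorem derived_central (A B : Subgroup G) (hAB : A ≤ Subgroup.normalizer (B : Set G))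
    (hc : ⁅⁅B, B⁆, A⁆ = ⊥) :
    ⁅⁅B, A⁆, ⁅B, B⁆⁆ = ⊥ ∧ ⁅⁅B, A⁆, ⁅B, A⁆⁆ ≤ B ⊓ Subgroup.centralizer (B : Set G) := by
  have hBA : ⁅B, A⁆ ≤ B := Subgroup.le_normalizer_iff_commutator_le_left.mp hAB
  have h1 : ⁅⁅B, ⁅B, B⁆⁆, A⁆ = ⊥ := by
    rw [eq_bot_iff, ← hc]
    exact Subgroup.commutator_mono (Subgroup.commutator_mono le_rfl (Subgroup.commutator_le_self _)) le_rfl
  have h2 : ⁅⁅A, B⁆, ⁅B, B⁆⁆ = ⊥ :=
    Subgroup.commutator_commutator_eq_bot_of_rotate h1 (by rw [hc, Subgroup.commutator_bot_left])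
  rw [Subgroup.commutator_comm A B] at h2
  refine ⟨h2, le_inf ((Subgroup.commutator_mono hBA hBA).trans (Subgroup.commutator_le_self _)) ?_⟩
  rw [← Subgroup.commutator_eq_bot_iff_le_centralizer]
  have h3 : ⁅⁅⁅B, A⁆, B⁆, ⁅B, A⁆⁆ = ⊥ := by
    rw [eq_bot_iff, ← h2, Subgroup.commutator_comm ⁅B, A⁆ ⁅B, B⁆]
    exact Subgroup.commutator_mono (Subgroup.commutator_mono hBA le_rfl) le_rfl
  refine Subgroup.commutator_commutator_eq_bot_of_rotate h3 ?_
  rw [Subgroup.commutator_comm B ⁅B, A⁆]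
  exact h3

/-- Commutators of the generators have order at most two. -/
theorem sq_eq_one (A B : Subgroup G) (hAB : A ≤ Subgroup.normalizer (B : Set G))
    (hc : ⁅⁅B, B⁆, A⁆ = ⊥) (hA : IsMulCommutative A) {b : G} (hb : b ∈ B) (C : Subgroup G)
    (hCdef : C = Subgroup.closure {g : G | ∃ a ∈ A, g = b⁻¹ * a * b * a⁻¹})
    (hq : ⁅⁅C, A⁆, A⁆ = ⊥) {x y : G} (hx : x ∈ A) (hy : y ∈ A) :
    ⁅b⁻¹ * x * b * x⁻¹, b⁻¹ * y * b * y⁻¹⁆ ^ 2 = 1 := by
  obtain ⟨hDB, hDD⟩ := derived_central A B hAB hc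
  let f : G → G := fun a => b⁻¹ * a * b * a⁻¹
  have hfD : ∀ a ∈ A, f a ∈ ⁅B, A⁆ := fun a ha => by
    have h := Subgroup.commutator_mem_commutator (B.inv_mem hb) ha
    rw [commutatorElement_def, inv_inv] at h
    exact h
  have hBA : ⁅B, A⁆ ≤ B := Subgroup.le_normalizer_iff_commutator_le_left.mp hAB
  have hfB : ∀ a ∈ A, f a ∈ B := fun a ha => hBA (hfD a ha)
  have hfC : ∀ a ∈ A, f a ∈ C := fun a ha => hCdef ▸ Subgroup.subset_closure ⟨a, ha, rfl⟩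
  -- `B'` is fixed by `A` and commutes with the `f a`
  have hfix : ∀ u ∈ B, ∀ v ∈ B, ∀ a ∈ A, a * ⁅u, v⁆ * a⁻¹ = ⁅u, v⁆ := fun u hu v hv a ha => by
    have h := Subgroup.mem_centralizer_iff.mp (Subgroup.commutator_eq_bot_iff_le_centralizer.mp hc
      (Subgroup.commutator_mem_commutator hu hv)) a ha
    rw [h, mul_inv_cancel_right]
  have hfB' : ∀ a ∈ A, ∀ u ∈ B, ∀ v ∈ B, f a * ⁅u, v⁆ * (f a)⁻¹ = ⁅u, v⁆ := fun a ha u hu v hv => by
    have h := Subgroup.mem_centralizer_iff.mp (Subgroup.commutator_eq_bot_iff_le_centralizer.mp hDB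
      (hfD a ha)) _ (Subgroup.commutator_mem_commutator hu hv)
    rw [← h, mul_inv_cancel_right]
  have hcen : ∀ a ∈ A, ∀ a' ∈ A, ∀ u ∈ B, u * ⁅f a, f a'⁆ * u⁻¹ = ⁅f a, f a'⁆ := fun a ha a' ha' u hu => by
    have h := Subgroup.mem_centralizer_iff.mp
      (hDD (Subgroup.commutator_mem_commutator (hfD a ha) (hfD a' ha'))).2 u hu
    rw [h, mul_inv_cancel_right]
  let e : G → G → G := fun a a' => (f a')⁻¹ * (a * f a' * a⁻¹)
  have heC : ∀ a ∈ A, ∀ a' ∈ A, e a a' ∈ ⁅C, A⁆ := fun a ha a' ha' => by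
    have h := Subgroup.commutator_mem_commutator (C.inv_mem (hfC a' ha')) ha
    rw [commutatorElement_def, inv_inv] at h
    simpa [e, mul_assoc] using h
  have hefix : ∀ a ∈ A, ∀ a' ∈ A, ∀ a'' ∈ A, a'' * e a a' * a''⁻¹ = e a a' := fun a ha a' ha' a'' ha'' => by
    have h := Subgroup.mem_centralizer_iff.mp (Subgroup.commutator_eq_bot_iff_le_centralizer.mp hq
      (heC a ha a' ha')) a'' ha''
    rw [h, mul_inv_cancel_right]
  have heB : ∀ a ∈ A, ∀ a' ∈ A, e a a' ∈ B := fun a ha a' ha' =>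
    B.mul_mem (B.inv_mem (hfB a' ha')) ((Subgroup.mem_normalizer_iff.mp (hAB ha) _).mp (hfB a' ha'))
  have hconjb : ∀ a : G, a * b * a⁻¹ = b * f a := fun a => by simp [f, mul_assoc]
  have hconjC : ∀ a u v : G, a * ⁅u, v⁆ * a⁻¹ = ⁅a * u * a⁻¹, a * v * a⁻¹⁆ := fun a u v => by
    simp [commutatorElement_def, mul_assoc]
  have hleft : ∀ u v w : G, ⁅u * v, w⁆ = u * ⁅v, w⁆ * u⁻¹ * ⁅u, w⁆ := fun u v w => by
    simp [commutatorElement_def, mul_assoc]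
  have hright : ∀ u v w : G, ⁅u, v * w⁆ = ⁅u, v⁆ * (v * ⁅u, w⁆ * v⁻¹) := fun u v w => by
    simp [commutatorElement_def, mul_assoc]
  -- `⁅f a, e a' a''⁆ = 1`
  have hT : ∀ a ∈ A, ∀ a' ∈ A, ∀ a'' ∈ A, ⁅f a, e a' a''⁆ = 1 := by
    intro a ha a' ha' a'' ha''
    have h := hfix b hb (e a' a'') (heB a' ha' a'' ha'') a ha
    rw [hconjC, hconjb, hefix a' ha' a'' ha'' a ha, hleft, mul_eq_right, conj_eq_one_iff] at h
    exact h
  have hkey : ∀ a ∈ A, ∀ a' ∈ A, ⁅b, e a a'⁆ = ⁅f a, f a'⁆⁻¹ := by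
    intro a ha a' ha'
    have h := hfix b hb (f a') (hfB a' ha') a ha
    rw [hconjC, hconjb, show a * f a' * a⁻¹ = f a' * e a a' by simp [e]] at h
    rw [hleft b (f a) _, hright (f a) (f a') (e a a'), hT a ha a ha a' ha', mul_one, mul_inv_cancel, mul_one,
      hcen a ha a' ha' b hb, hright b (f a') (e a a'), hfB' a' ha' b hb (e a a') (heB a ha a' ha')] at h
    have hcomm : ⁅f a, f a'⁆ * ⁅b, f a'⁆ = ⁅b, f a'⁆ * ⁅f a, f a'⁆ := by
      have hmem : ⁅b, f a'⁆ ∈ B := by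
        rw [commutatorElement_def]
        exact B.mul_mem (B.mul_mem (B.mul_mem hb (hfB a' ha')) (B.inv_mem hb)) (B.inv_mem (hfB a' ha'))
      have h' := hcen a ha a' ha' ⁅b, f a'⁆ hmem
      exact (mul_inv_eq_iff_eq_mul.mp h').symm
    rw [← mul_assoc, hcomm, mul_assoc, mul_eq_left, mul_eq_one_iff_inv_eq] at h
    exact h.symm
  have hxy : x * y = y * x := congrArg Subtype.val (hA.is_comm.comm ⟨x, hx⟩ ⟨y, hy⟩)
  have hrel : f x * (f y * e x y) = f y * (f x * e y x) := by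
    have e1 : ∀ a a' : G, f a * (f a' * e a a') = f (a * a') := fun a a' => by
      simp [f, e, mul_assoc]
    rw [e1, e1, hxy]
  have hz : e y x = ⁅f x, f y⁆ * e x y := by
    have h1 : ⁅f x, f y⁆ * e x y = (f y * f x)⁻¹ * (f x * (f y * e x y)) := by
      have h2 : f x * f y = f y * f x * ⁅f x, f y⁆ := by
        have h3 := hcen x hx y hy (f y * f x) (B.mul_mem (hfB y hy) (hfB x hx))
        rw [mul_inv_eq_iff_eq_mul] at h3
        rw [h3]; simp [commutatorElement_def, mul_assoc]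
      rw [← mul_assoc (f x), h2]; simp [mul_assoc]
    rw [h1, hrel]; simp [mul_assoc]
  have h1 := hkey y hy x hx
  rw [hz, hright, hkey x hx y hy] at h1
  have h2 : ⁅b, ⁅f x, f y⁆⁆ = 1 := comm_eq_one_of (mul_inv_eq_iff_eq_mul.mp (hcen x hx y hy b hb))
  rw [h2, one_mul, ← commutatorElement_inv (f x) (f y), inv_inv] at h1
  have h3 : ⁅f x, f y⁆ * ⁅f x, f y⁆⁻¹ * ⁅f x, f y⁆⁻¹ = ⁅f x, f y⁆⁻¹ := by rw [mul_inv_cancel, one_mul]
  rw [h3] at h1
  show ⁅f x, f y⁆ ^ 2 = 1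
  rw [pow_two, ← inv_eq_iff_mul_eq_one]
  exact h1

/-- If A acts on B centralizing [B, B], then [B, A] has derived subgroup central in B, and for abelian A and b ∈ B with [[b, A], A, A] = 1 the derived subgroup of the subgroup [b, A] generated by the commutators of b with A has exponent dividing 2. -/
theorem result {G : Type*} [Group G] [Finite G] (A B : Subgroup G) (hAB : A ≤ Subgroup.normalizer (B : Set G)) (hc : ⁅⁅B, B⁆, A⁆ = ⊥) : ⁅⁅B, A⁆, ⁅B, A⁆⁆ ≤ B ⊓ Subgroup.centralizer (B : Set G) ∧ (IsMulCommutative A → ∀ b ∈ B, ⁅⁅(Subgroup.closure {g : G | ∃ a ∈ A, g = b⁻¹ * a * b * a⁻¹}), A⁆, A⁆ = ⊥ → ∀ w ∈ ⁅(Subgroup.closure {g : G | ∃ a ∈ A, g = b⁻¹ * a * b * a⁻¹}), (Subgroup.closure {g : G | ∃ a ∈ A, g = b⁻¹ * a * b * a⁻¹})⁆, w ^ 2 = 1) := by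
  refine ⟨(derived_central A B hAB hc).2, fun hA b hb hq => ?_⟩
  obtain ⟨-, hDD⟩ := derived_central A B hAB hc
  set C := Subgroup.closure {g : G | ∃ a ∈ A, g = b⁻¹ * a * b * a⁻¹} with hCdef
  have hgD : ∀ g ∈ {g : G | ∃ a ∈ A, g = b⁻¹ * a * b * a⁻¹}, g ∈ ⁅B, A⁆ := by
    rintro g ⟨a, ha, rfl⟩
    have h := Subgroup.commutator_mem_commutator (B.inv_mem hb) ha
    rw [commutatorElement_def, inv_inv] at h
    exact h
  have hCB : C ≤ B := (Subgroup.closure_le _).mpr fun g hg =>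
    Subgroup.le_normalizer_iff_commutator_le_left.mp hAB (hgD g hg)
  let Ω : Subgroup G :=
    { carrier := {w | w ∈ B ⊓ Subgroup.centralizer (B : Set G) ∧ w ^ 2 = 1}
      one_mem' := ⟨Subgroup.one_mem _, one_pow 2⟩
      mul_mem' := fun {u v} hu hv => ⟨Subgroup.mul_mem _ hu.1 hv.1, by
        have : Commute u v := (Subgroup.mem_centralizer_iff.mp hv.1.2 u hu.1.1 : u * v = v * u)
        rw [this.mul_pow, hu.2, hv.2, one_mul]⟩
      inv_mem' := fun {u} hu => ⟨Subgroup.inv_mem _ hu.1, by rw [inv_pow, hu.2, inv_one]⟩ }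
  have hnormal : ∀ u ∈ B, ∀ w ∈ Ω, u * w * u⁻¹ = w := fun u hu w hw => by
    rw [Subgroup.mem_centralizer_iff.mp hw.1.2 u hu, mul_inv_cancel_right]
  have hgen : ∀ g ∈ C, ∀ g' ∈ C, ⁅g, g'⁆ ∈ Ω := by
    intro g hg g' hg'
    induction hg using Subgroup.closure_induction with
    | mem g hg =>
      induction hg' using Subgroup.closure_induction with
      | mem g' hg' =>
        obtain ⟨x, hx, rfl⟩ := hg
        obtain ⟨y, hy, rfl⟩ := hg'
        exact ⟨hDD (Subgroup.commutator_mem_commutator (hgD _ ⟨x, hx, rfl⟩) (hgD _ ⟨y, hy, rfl⟩)),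
          sq_eq_one A B hAB hc hA hb C hCdef hq hx hy⟩
      | one => rw [commutatorElement_one_right]; exact Ω.one_mem
      | mul v w hv hw ihv ihw =>
        have hr : ⁅g, v * w⁆ = ⁅g, v⁆ * (v * ⁅g, w⁆ * v⁻¹) := by simp [commutatorElement_def, mul_assoc]
        rw [hr, hnormal v (hCB hv) _ ihw]
        exact Ω.mul_mem ihv ihw
      | inv v hv ih =>
        have hr : ⁅g, v⁻¹⁆ = v⁻¹ * ⁅g, v⁆⁻¹ * (v⁻¹)⁻¹ := by simp [commutatorElement_def, mul_assoc]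
        rw [hr, hnormal v⁻¹ (B.inv_mem (hCB hv)) _ (Ω.inv_mem ih)]
        exact Ω.inv_mem ih
    | one => rw [commutatorElement_one_left]; exact Ω.one_mem
    | mul u v hu hv ihu ihv =>
      have hl : ⁅u * v, g'⁆ = u * ⁅v, g'⁆ * u⁻¹ * ⁅u, g'⁆ := by simp [commutatorElement_def, mul_assoc]
      rw [hl, hnormal u (hCB hu) _ ihv]
      exact Ω.mul_mem ihv ihu
    | inv u hu ih =>
      have hl : ⁅u⁻¹, g'⁆ = u⁻¹ * ⁅u, g'⁆⁻¹ * (u⁻¹)⁻¹ := by simp [commutatorElement_def, mul_assoc]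
      rw [hl, hnormal u⁻¹ (B.inv_mem (hCB hu)) _ (Ω.inv_mem ih)]
      exact Ω.inv_mem ih
  intro w hw
  exact ((Subgroup.commutator_le.mpr hgen) hw).2

end Cfsg.Agent.S0648
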