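import Cfsg.Statements.S0649
import Cfsg.Agent.S3078

set_option autoImplicit false
open Cfsg

namespace Cfsg.Agent.S0649

/-- In the Glauberman replacement situation, if B does not normalize A then some element of B normalizes N_S(A) without normalizing A. -/
theorem result {S : Type*} [Group S] [Finite S] {p : ℕ} [Fact p.Prime] (hS : IsPGroup p S) (B : Subgroup S) [B.Normal] (hB2 : p = 2 → IsMulCommutative B) (A : Subgroup S) (hA : IsMulCommutative A) (hBA : ⁅B, B⁆ ≤ A) (hnot : ¬ B ≤ Subgroup.normalizer (A : Set S)) : ∃ b ∈ B, b ∈ Subgroup.normalizer ((Subgroup.normalizer (A : Set S)) : Set S) ∧ b ∉ Subgroup.normalizer (A : Set S) := by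

  haveI : Group.IsNilpotent S := hS.isNilpotent
  set N₀ := Subgroup.normalizer (A : Set S) with hN₀
  obtain ⟨b, hb, hbN, hcomm⟩ := Cfsg.Agent.S3078.exists_almost_normalizing (A := N₀) (B := B)
    (N := B ⊓ N₀) (le_top.trans (Subgroup.normalizer_eq_top_iff.mpr inferInstance).ge)
    (fun h => hnot (h.trans inf_le_right))
  refine ⟨b, hb, Subgroup.mem_normalizer_iff_map_conj_eq.mpr ?_, fun h => hbN ⟨hb, h⟩⟩
  refine Subgroup.eq_of_le_of_card_ge ?_ (Subgroup.card_map_of_injective (MulAut.conj b).injective).ge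
  rintro _ ⟨n, hn, rfl⟩
  have h1 : n * b * n⁻¹ * b⁻¹ ∈ N₀ := (hcomm n hn).2
  show b * n * b⁻¹ ∈ N₀
  simpa [mul_assoc] using mul_mem (inv_mem h1) hn

end Cfsg.Agent.S0649
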