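import Cfsg.Statements.S0650
import Cfsg.Agent.S3078

set_option autoImplicit false
open Cfsg

namespace Cfsg.Agent.S0650


open Cfsg.Agent.S3078 (mul_pow_of_comm_central pow_eq_one_of_mul_pow card_transfer_step)


/-- The Glauberman replacement Theorem: from an abelian A ⊇ [B, B] not normalized by the normal subgroup B and a suitable b ∈ B one gets the abelian subgroup A* = (A ∩ b⁻¹Ab)[A, b] of the same order, containing [B, B], meeting B strictly more than A does but not containing B, mutually normalizing with A, with strictly larger normalizer containing b, and (p odd) of no larger exponent. -/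
theorem result {S : Type*} [Group S] [Finite S] {p : ℕ} [Fact p.Prime] (hS : IsPGroup p S) (B : Subgroup S) [B.Normal] (hB2 : p = 2 → IsMulCommutative B) (A : Subgroup S) (hA : IsMulCommutative A) (hBA : ⁅B, B⁆ ≤ A) (hnot : ¬ B ≤ Subgroup.normalizer (A : Set S)) (b : S) (hb : b ∈ B) (hbN : b ∈ Subgroup.normalizer ((Subgroup.normalizer (A : Set S)) : Set S)) (hbA : b ∉ Subgroup.normalizer (A : Set S)) : Nat.card ↥((A ⊓ A.map (MulAut.conj (b⁻¹)).toMonoidHom) ⊔ Subgroup.closure {g : S | ∃ a ∈ A, g = a * b⁻¹ * a⁻¹ * b}) = Nat.card A ∧ IsMulCommutative ↥((A ⊓ A.map (MulAut.conj (b⁻¹)).toMonoidHom) ⊔ Subgroup.closure {g : S | ∃ a ∈ A, g = a * b⁻¹ * a⁻¹ * b}) ∧ ⁅B, B⁆ ≤ ((A ⊓ A.map (MulAut.conj (b⁻¹)).toMonoidHom) ⊔ Subgroup.closure {g : S | ∃ a ∈ A, g = a * b⁻¹ * a⁻¹ * b}) ∧ A ⊓ B < ((A ⊓ A.map (MulAut.conj (b⁻¹)).toMonoidHom) ⊔ Subgroup.closure {g : S | ∃ a ∈ A, g = a * b⁻¹ * a⁻¹ * b}) ⊓ B ∧ ((A ⊓ A.map (MulAut.conj (b⁻¹)).toMonoidHom) ⊔ Subgroup.closure {g :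 S | ∃ a ∈ A, g = a * b⁻¹ * a⁻¹ * b}) ⊓ B < B ∧ A ≤ Subgroup.normalizer (((A ⊓ A.map (MulAut.conj (b⁻¹)).toMonoidHom) ⊔ Subgroup.closure {g : S | ∃ a ∈ A, g = a * b⁻¹ * a⁻¹ * b} : Subgroup S) : Set S) ∧ ((A ⊓ A.map (MulAut.conj (b⁻¹)).toMonoidHom) ⊔ Subgroup.closure {g : S | ∃ a ∈ A, g = a * b⁻¹ * a⁻¹ * b}) ≤ Subgroup.normalizer (A : Set S) ∧ b ∈ Subgroup.normalizer (((A ⊓ A.map (MulAut.conj (b⁻¹)).toMonoidHom) ⊔ Subgroup.closure {g : S | ∃ a ∈ A, g = a * b⁻¹ * a⁻¹ * b} : Subgroup S) : Set S) ∧ Subgroup.normalizer (A : Set S) < Subgroup.normalizer (((A ⊓ A.map (MulAut.conj (b⁻¹)).toMonoidHom) ⊔ Subgroup.closure {g : S | ∃ a ∈ A, g = a * b⁻¹ * a⁻¹ * b} : Subgroup S) : Set S) ∧ (p ≠ 2 → Monoid.exponent ↥((A ⊓ A.map (MulAut.conj (b⁻¹)).toMonoidHom) ⊔ Subgroup.closure {g : S | ∃ a ∈ A, g = a * b⁻¹ * a⁻¹ * b}) ∣ Monoid.exponent A) := by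

  have hAc : ∀ x ∈ A, ∀ y ∈ A, x * y = y * x := fun x hx y hy =>
    congrArg Subtype.val (hA.is_comm.comm (⟨x, hx⟩ : A) ⟨y, hy⟩)
  have hAB : A ≤ Subgroup.normalizer (B : Set S) :=
    le_top.trans (Subgroup.normalizer_eq_top_iff.mpr inferInstance).ge
  set N : Subgroup S := B ⊓ Subgroup.normalizer (A : Set S) with hNdef
  have hbB := hb
  have hconjN : ∀ n ∈ Subgroup.normalizer (A : Set S), b * n * b⁻¹ ∈ Subgroup.normalizer (A : Set S) :=
    fun n hn => (Subgroup.mem_normalizer_iff.mp hbN n).mp hn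
  have hconjB : ∀ x : S, ∀ y ∈ B, x * y * x⁻¹ ∈ B := fun x y hy => (inferInstance : B.Normal).conj_mem y hy x
  clear hbN
  have hbN : b ∉ N := fun h => hbA h.2
  have hbA' : ∀ a ∈ A, a * b * a⁻¹ * b⁻¹ ∈ N := by
    intro a ha
    refine Subgroup.mem_inf.mpr ⟨mul_mem (hconjB a b hb) (inv_mem hb), ?_⟩
    simpa [mul_assoc] using mul_mem (Subgroup.le_normalizer ha)
      (hconjN _ (inv_mem (Subgroup.le_normalizer ha)))
  have hBBA : ∀ z ∈ ⁅B, B⁆, ∀ y ∈ A, z * y = y * z := fun z hz y hy => hAc z (hBA hz) y hy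
  have hBBmem : ∀ x ∈ B, ∀ y ∈ B, x * y * x⁻¹ * y⁻¹ ∈ ⁅B, B⁆ := fun x hx y hy =>
    Subgroup.commutator_mem_commutator hx hy
  have hBBN : ⁅B, B⁆ ≤ N := by
    refine le_inf ?_ (hBA.trans Subgroup.le_normalizer)
    rw [Subgroup.commutator_le]
    intro x hx y hy
    exact mul_mem (mul_mem (mul_mem hx hy) (inv_mem hx)) (inv_mem hy)
  -- the map `φ` and `δ`
  set φ : S ≃* S := MulAut.conj b with hφdef
  let δ : S → S := fun a => φ a * a⁻¹
  have hφ : ∀ a, φ a = δ a * a := fun a => by simp [δ]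
  have hδN : ∀ a ∈ A, δ a ∈ N := by
    intro a ha
    have h2 := inv_mem (hbA' a ha)
    simpa [δ, hφdef, MulAut.conj_apply, mul_assoc] using h2
  have hδB : ∀ a ∈ A, δ a ∈ B := fun a ha => (hδN a ha).1
  have hnorm : ∀ n ∈ Subgroup.normalizer (A : Set S), ∀ c ∈ A, n * c * n⁻¹ ∈ A :=
    fun n hn c hc => (Subgroup.mem_normalizer_iff.mp hn c).mp hc
  -- `β a c` lies in `A ⊓ φ(A)`
  let β : S → S → S := fun a c => δ a * c * (δ a)⁻¹ * c⁻¹
  have hβA : ∀ a ∈ A, ∀ c ∈ A, β a c ∈ A := fun a ha c hc =>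
    mul_mem (hnorm _ (hδN a ha).2 c hc) (inv_mem hc)
  have hβB : ∀ a ∈ A, ∀ c ∈ A, β a c ∈ B := by
    intro a ha c hc
    have : c * (δ a)⁻¹ * c⁻¹ ∈ B :=
      (Subgroup.mem_normalizer_iff.mp (hAB hc) _).mp (inv_mem (hδB a ha))
    simpa [β, mul_assoc] using mul_mem (hδB a ha) this
  have hβA1 : ∀ a ∈ A, ∀ c ∈ A, φ.symm (β a c) ∈ A := by
    intro a ha c hc
    have hn : φ.symm c * c⁻¹ ∈ Subgroup.normalizer (A : Set S) := by
      set d := c * b * c⁻¹ * b⁻¹ with hd
      have hdN : d ∈ N := hbA' c hc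
      have h1 : φ.symm c * c⁻¹ = b⁻¹ * d * b := by
        simp [hφdef, hd, MulAut.conj_symm_apply, mul_assoc]
      rw [h1]
      have h2 : b⁻¹ * d * b * d⁻¹ ∈ N := by
        have := hBBmem b⁻¹ (inv_mem hbB) d hdN.1
        rw [inv_inv] at this
        exact hBBN this
      have h3 := mul_mem h2 hdN
      rw [inv_mul_cancel_right] at h3
      exact h3.2
    have hn' : φ.symm c ∈ Subgroup.normalizer (A : Set S) := by
      have := mul_mem hn (Subgroup.le_normalizer hc)
      simpa using this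
    have hβ : β a c = φ a * c * (φ a)⁻¹ * c⁻¹ := by
      have := hAc a ha c hc
      simp only [β, δ, mul_inv_rev, inv_inv]
      calc φ a * a⁻¹ * c * (a * (φ a)⁻¹) * c⁻¹ = φ a * (a⁻¹ * (c * a)) * (φ a)⁻¹ * c⁻¹ := by group
        _ = _ := by rw [← this, inv_mul_cancel_left]
    rw [hβ]
    simp only [map_mul, map_inv, MulEquiv.symm_apply_apply]
    have := mul_mem ha (hnorm _ hn' _ (inv_mem ha))
    simpa [mul_assoc] using this
  have hδa : ∀ a, δ a = φ a * a⁻¹ := fun a => rfl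
  have hβδ : ∀ a ∈ A, ∀ c ∈ A, ∀ d ∈ A, Commute (β a c) (δ d) := by
    intro a ha c hc d hd
    have h1 : Commute (β a c) d := hAc _ (hβA a ha c hc) d hd
    have h2 : Commute (β a c) (φ d) := by
      have h := congrArg φ (hAc _ (hβA1 a ha c hc) d hd)
      simp only [map_mul, MulEquiv.apply_symm_apply] at h
      exact h
    exact h2.mul_right h1.inv_right
  have hswap : ∀ a ∈ A, ∀ c ∈ A, δ a * c = β a c * (c * δ a) := fun a _ c _ => by
    simp [β, mul_assoc]
  have hswap' : ∀ a ∈ A, ∀ c ∈ A, c * δ a = (β a c)⁻¹ * (δ a * c) := fun a _ c _ => by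
    simp [β, mul_assoc]
  have hBBδ : ∀ z ∈ ⁅B, B⁆, ∀ d ∈ A, Commute z (δ d) := by
    intro z hz d hd
    have h1 : Commute z d := hBBA z hz d hd
    have hz' : φ.symm z ∈ A := by
      apply hBA
      have h := Subgroup.mem_map_of_mem (MulAut.conj b⁻¹).toMonoidHom hz
      have he : B.map (MulAut.conj b⁻¹).toMonoidHom = B := Subgroup.mem_normalizer_iff_map_conj_eq.mp
        (Subgroup.le_normalizer (inv_mem hbB) : b⁻¹ ∈ Subgroup.normalizer (B : Set S))
      rw [Subgroup.map_commutator, he] at h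
      simpa [hφdef, MulAut.conj_symm_apply] using h
    have h2 : Commute z (φ d) := by
      have h := congrArg φ (hAc _ hz' d hd)
      simp only [map_mul, MulEquiv.apply_symm_apply] at h
      exact h
    exact h2.mul_right h1.inv_right
  -- symmetry of `β`, commutativity of the `δ a`
  have hkey : ∀ a ∈ A, ∀ c ∈ A, δ a * δ c = δ c * δ a ∧ β a c = β c a := by
    intro a ha c hc
    set D := δ a with hD
    set E := δ c with hE
    set γ := D * E * D⁻¹ * E⁻¹ with hγ
    have hγBB : γ ∈ ⁅B, B⁆ := hBBmem D (hδB a ha) E (hδB c hc)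
    have hDE : D * E = γ * (E * D) := by simp [hγ, mul_assoc]
    have γD : Commute γ D := hBBδ γ hγBB a ha
    have γE : Commute γ E := hBBδ γ hγBB c hc
    set u := β a c with hu
    set v := β c a with hv
    have uD : Commute u D := hβδ a ha c hc a ha
    have uE : Commute u E := hβδ a ha c hc c hc
    have vD : Commute v D := hβδ c hc a ha a ha
    have vE : Commute v E := hβδ c hc a ha c hc
    have hcD : c * D = u⁻¹ * (D * c) := hswap' a ha c hc
    have haE : a * E = v⁻¹ * (E * a) := hswap' c hc a ha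
    have hac := hAc a ha c hc
    -- first equation
    have e1 : γ = v * u⁻¹ := by
      have h := congrArg φ hac
      rw [map_mul, map_mul, hφ a, hφ c, ← hD, ← hE] at h
      have hl : D * a * (E * c) = v⁻¹ * γ * (E * D * (a * c)) := by
        calc D * a * (E * c) = D * (a * E) * c := by group
          _ = D * v⁻¹ * (E * a) * c := by rw [haE]; group
          _ = v⁻¹ * (D * E) * (a * c) := by rw [← vD.inv_left.eq]; group
          _ = _ := by rw [hDE]; group
      have hr : E * c * (D * a) = u⁻¹ * (E * D * (a * c)) := by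
        calc E * c * (D * a) = E * (c * D) * a := by group
          _ = E * u⁻¹ * (D * c) * a := by rw [hcD]; group
          _ = u⁻¹ * (E * D) * (c * a) := by rw [← uE.inv_left.eq]; group
          _ = _ := by rw [← hac]; group
      rw [hl, hr] at h
      have h2 := mul_right_cancel h
      rw [← h2, mul_inv_cancel_left]
    -- second equation, from the square of `φ`
    have e2 : γ ^ 4 = v ^ 2 * (u ^ 2)⁻¹ := by
      have hsq : ∀ d ∈ A, ∃ e ∈ ⁅B, B⁆, φ (φ d) = e * (δ d * δ d * d) := by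
        intro d hd
        refine ⟨φ (δ d) * (δ d)⁻¹, hBBmem b hbB _ (hδB d hd), ?_⟩
        rw [hφ d, map_mul, hφ d]
        group
      obtain ⟨e, he, hea⟩ := hsq a ha
      obtain ⟨f, hf, hfc⟩ := hsq c hc
      have h := congrArg φ (congrArg φ hac)
      simp only [map_mul, hea, hfc, ← hD, ← hE] at h
      have fD : Commute f D := hBBδ f hf a ha
      have fA : Commute f a := hBBA f hf a ha
      have eE : Commute e E := hBBδ e he c hc
      have eC : Commute e c := hBBA e he c hc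
      have efc : Commute e f := hBBA e he f (hBA hf)
      have h' : D * D * a * (E * E * c) = E * E * c * (D * D * a) := by
        rw [(((fD.mul_right fD).mul_right fA).symm).mul_mul_mul_comm,
          (((eE.mul_right eE).mul_right eC).symm).mul_mul_mul_comm, ← efc.eq] at h
        exact mul_left_cancel h
      have haEE : a * (E * E) = (v ^ 2)⁻¹ * (E * E * a) := by
        calc a * (E * E) = a * E * E := by group
          _ = v⁻¹ * (E * a) * E := by rw [haE]
          _ = v⁻¹ * E * (a * E) := by group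
          _ = v⁻¹ * E * (v⁻¹ * (E * a)) := by rw [haE]
          _ = v⁻¹ * (E * v⁻¹) * (E * a) := by group
          _ = _ := by rw [← vE.inv_left.eq]; group
      have hcDD : c * (D * D) = (u ^ 2)⁻¹ * (D * D * c) := by
        calc c * (D * D) = c * D * D := by group
          _ = u⁻¹ * (D * c) * D := by rw [hcD]
          _ = u⁻¹ * D * (c * D) := by group
          _ = u⁻¹ * D * (u⁻¹ * (D * c)) := by rw [hcD]
          _ = u⁻¹ * (D * u⁻¹) * (D * c) := by group
          _ = _ := by rw [← uD.inv_left.eq]; group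
      have hDEsq : D * D * (E * E) = γ ^ 4 * (E * E * (D * D)) := by
        have h1 := mul_pow_of_comm_central γE γD hDE 2
        have h2 : (D ^ 2) * E = γ ^ 2 * (E * D ^ 2) := h1.1
        calc D * D * (E * E) = D ^ 2 * E * E := by rw [pow_two]; group
          _ = γ ^ 2 * (E * D ^ 2) * E := by rw [h2]
          _ = γ ^ 2 * E * (D ^ 2 * E) := by group
          _ = γ ^ 2 * E * (γ ^ 2 * (E * D ^ 2)) := by rw [h2]
          _ = γ ^ 2 * (E * γ ^ 2) * (E * D ^ 2) := by group
          _ = γ ^ 2 * (γ ^ 2 * E) * (E * D ^ 2) := by rw [(γE.pow_left 2).eq]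
          _ = _ := by rw [pow_two D]; group
      have hl : D * D * a * (E * E * c) = (v ^ 2)⁻¹ * γ ^ 4 * (E * E * (D * D) * (a * c)) := by
        calc D * D * a * (E * E * c) = D * D * (a * (E * E)) * c := by group
          _ = D * D * (v ^ 2)⁻¹ * (E * E * a) * c := by rw [haEE]; group
          _ = (v ^ 2)⁻¹ * (D * D * (E * E)) * (a * c) := by
              rw [← ((vD.mul_right vD).pow_left 2).inv_left.eq]; group
          _ = _ := by rw [hDEsq]; group
      have hr : E * E * c * (D * D * a) = (u ^ 2)⁻¹ * (E * E * (D * D) * (a * c)) := by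
        calc E * E * c * (D * D * a) = E * E * (c * (D * D)) * a := by group
          _ = E * E * (u ^ 2)⁻¹ * (D * D * c) * a := by rw [hcDD]; group
          _ = (u ^ 2)⁻¹ * (E * E * (D * D)) * (c * a) := by
              rw [← ((uE.mul_right uE).pow_left 2).inv_left.eq]; group
          _ = _ := by rw [← hac]; group
      rw [hl, hr] at h'
      have h2 := mul_right_cancel h'
      rw [← h2, mul_inv_cancel_left]
    have huv : Commute u v := hAc u (hβA a ha c hc) v (hβA c hc a ha)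
    have hγ2 : γ ^ 2 = 1 := by
      have h4 : γ ^ 4 = γ ^ 2 := by
        rw [e2, e1, (huv.inv_left.symm).mul_pow, inv_pow]
      exact mul_eq_left.mp (show γ ^ 2 * γ ^ 2 = γ ^ 2 by rw [← pow_add]; exact h4)
    have hγ1 : γ = 1 := by
      rcases eq_or_ne p 2 with hp | hp
      · haveI := hB2 hp
        rw [hγ, show D * E = E * D from congrArg Subtype.val
          (mul_comm' (⟨D, hδB a ha⟩ : ↥B) ⟨E, hδB c hc⟩)]
        group
      rw [← orderOf_eq_one_iff]
      obtain ⟨k, hk⟩ := (IsPGroup.iff_orderOf).mp hS γ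
      have hd : orderOf γ ∣ 2 := orderOf_dvd_of_pow_eq_one hγ2
      rcases (Nat.dvd_prime Nat.prime_two).mp hd with h | h
      · exact h
      · exfalso
        rw [hk] at h
        have : k ≠ 0 := by rintro rfl; simp at h
        exact hp ((Nat.prime_dvd_prime_iff_eq (Fact.out) Nat.prime_two).mp (h ▸ dvd_pow_self p this))
    refine ⟨by rw [hDE, hγ1, one_mul], ?_⟩
    rw [hγ1] at e1
    exact (mul_inv_eq_one.mp e1.symm).symm
  -- the subgroup `K`
  set K : Subgroup S := A ⊓ A.comap φ.toMonoidHom with hK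
  have hKδ : ∀ a ∈ A, (a ∈ K ↔ δ a ∈ A) := fun a ha =>
    ⟨fun h => mul_mem h.2 (inv_mem ha), fun h => ⟨ha, show φ a ∈ A by rw [hφ]; exact mul_mem h ha⟩⟩
  have hABK : A ⊓ B ≤ K := fun x hx => (hKδ x hx.1).mpr (hBA (by
    simpa [δ, hφdef, MulAut.conj_apply] using hBBmem b hbB x hx.2))
  have hKM : ∀ k ∈ K, ∀ a ∈ A, k * δ a = δ a * k := by
    intro k hk a ha
    have h1 : β k a = 1 := by
      have := hAc _ ((hKδ k hk.1).mp hk) a ha
      simp only [β]
      rw [this]; group
    have h2 : β a k = 1 := (hkey a ha k hk.1).2.trans h1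
    rw [hswap a ha k hk.1, h2, one_mul]
  set gens : Set S := (K : Set S) ∪ δ '' (A : Set S) with hgens
  have hgc : ∀ x ∈ gens, ∀ y ∈ gens, x * y = y * x := by
    rintro x (hx | ⟨a, ha, rfl⟩) y (hy | ⟨c, hc, rfl⟩)
    · exact hAc x hx.1 y hy.1
    · exact hKM x hx c hc
    · exact (hKM y hy a ha).symm
    · exact (hkey a ha c hc).1
  set O : Subgroup S := Subgroup.closure gens with hO
  have hOc : ∀ x ∈ O, ∀ y ∈ O, x * y = y * x := by
    intro x hx y hy
    have h1 : O ≤ Subgroup.centralizer gens :=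
      (Subgroup.closure_le _).mpr fun g hg => Subgroup.mem_centralizer_iff.mpr fun h hh => hgc h hh g hg
    have h2 : O ≤ Subgroup.centralizer (O : Set S) := by
      refine (Subgroup.closure_le _).mpr fun g hg => Subgroup.mem_centralizer_iff.mpr fun h hh => ?_
      exact (Subgroup.mem_centralizer_iff.mp (h1 hh) g hg).symm
    exact (Subgroup.mem_centralizer_iff.mp (h2 hx) y hy).symm
  have hOcomm : IsMulCommutative O := ⟨⟨fun x y => Subtype.ext (hOc x x.2 y y.2)⟩⟩
  have hKO : K ≤ O := fun x hx => Subgroup.subset_closure (Or.inl hx)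
  have hδO : ∀ a ∈ A, δ a ∈ O := fun a ha => Subgroup.subset_closure (Or.inr ⟨a, ha, rfl⟩)
  have hmulK : ∀ a ∈ A, ∀ c ∈ A, (δ a * δ c)⁻¹ * δ (a * c) = (β c a)⁻¹ := by
    intro a ha c hc
    have h1 : δ (a * c) = δ a * ((β c a)⁻¹ * δ c) := by
      calc δ (a * c) = δ a * (a * δ c) * a⁻¹ := by simp [δ, mul_assoc]
        _ = _ := by rw [hswap' c hc a ha]; group
    rw [h1, (hβδ c hc a ha c hc).inv_left.eq]
    group
  have hpre : ∀ a ∈ A, (δ a ∈ K ↔ a ∈ K) := fun a ha =>
    ⟨fun h => (hKδ a ha).mpr h.1, fun h => hABK ⟨(hKδ a ha).mp h, hδB a ha⟩⟩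
  have hcard : Nat.card O = Nat.card A := by
    refine ((card_transfer_step A O K inf_le_left hKO hOcomm δ hδO ?_ hpre).2 ?_).symm
    · intro a ha c hc
      rw [hmulK a ha c hc]
      exact inv_mem (hABK ⟨hβA c hc a ha, hβB c hc a ha⟩)
    · refine (Subgroup.closure_le _).mpr ?_
      rintro x (hx | hx)
      · exact Subgroup.mem_sup_left hx
      · exact Subgroup.mem_sup_right (Subgroup.subset_closure hx)
  have hpow : ∀ n : ℕ, Odd n → ∀ a ∈ A, a ^ n = 1 → δ a ^ n = 1 := by
    intro n hn a ha han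
    refine pow_eq_one_of_mul_pow (z := (β a a)⁻¹) (hβδ a ha a ha a ha).inv_left
      (Commute.inv_left (hAc _ (hβA a ha a ha) a ha)) (hswap' a ha a ha) hn ?_ han
    rw [← hφ, ← map_pow, han, map_one]

  have hBBK : ⁅B, B⁆ ≤ K := fun x hx => hABK ⟨hBA hx, Subgroup.commutator_le_right _ _ hx⟩
  have hKeq : A ⊓ A.map (MulAut.conj (b⁻¹)).toMonoidHom = K := by
    ext x
    simp only [hK, Subgroup.mem_inf, Subgroup.mem_map, Subgroup.mem_comap, MulEquiv.coe_toMonoidHom,
      MulAut.conj_apply, hφdef]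
    constructor
    · rintro ⟨hx, a, ha, rfl⟩
      exact ⟨hx, by simpa [mul_assoc] using ha⟩
    · rintro ⟨hx, hx'⟩
      exact ⟨hx, b * x * b⁻¹, hx', by group⟩
  have hψ : ∀ x ∈ B, x⁻¹ * (b⁻¹ * x * b) ∈ O := by
    intro x hx
    refine hKO (hBBK ?_)
    have := hBBmem x⁻¹ (inv_mem hx) b⁻¹ (inv_mem hbB)
    simpa [mul_assoc] using this
  set O' := (A ⊓ A.map (MulAut.conj (b⁻¹)).toMonoidHom) ⊔
    Subgroup.closure {g : S | ∃ a ∈ A, g = a * b⁻¹ * a⁻¹ * b} with hO'
  have hOO' : O' = O := by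
    have hle : K ≤ O' := hKeq ▸ le_sup_left
    refine le_antisymm (sup_le (hKeq.le.trans hKO) ((Subgroup.closure_le _).mpr ?_)) ((Subgroup.closure_le _).mpr ?_)
    · rintro _ ⟨a, ha, rfl⟩
      have e : a * b⁻¹ * a⁻¹ * b = ((δ a) * ((δ a)⁻¹ * (b⁻¹ * δ a * b))) := by
        simp [δ, hφdef, mul_assoc]
      rw [SetLike.mem_coe, e]
      exact mul_mem (hδO a ha) (hψ _ (hδB a ha))
    · rintro x (hx | ⟨a, ha, rfl⟩)
      · exact hle hx
      · have e : δ a = (a * b⁻¹ * a⁻¹ * b) * ((δ a)⁻¹ * (b⁻¹ * δ a * b))⁻¹ := by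
          simp [δ, hφdef, mul_assoc]
        rw [SetLike.mem_coe, e]
        refine mul_mem (Subgroup.mem_sup_right (Subgroup.subset_closure ⟨a, ha, rfl⟩)) (inv_mem ?_)
        apply hle
        apply hBBK
        have := hBBmem (δ a)⁻¹ (inv_mem (hδB a ha)) b⁻¹ (inv_mem hbB)
        simpa [mul_assoc] using this
  rw [hOO']
  clear hOO' hO'
  clear_value O'
  clear O'
  rename' O => O'
  have hNA : O' ≤ Subgroup.normalizer (A : Set S) := by
    refine (Subgroup.closure_le _).mpr ?_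
    rintro x (hx | ⟨a, ha, rfl⟩)
    · exact Subgroup.le_normalizer hx.1
    · exact (hδN a ha).2
  have hnormO : ∀ n : S, (∀ x ∈ gens, n * x * n⁻¹ ∈ O') → n ∈ Subgroup.normalizer (O' : Set S) := by
    intro n hn
    refine Subgroup.mem_normalizer_iff_map_conj_eq.mpr ?_
    refine Subgroup.eq_of_le_of_card_ge ?_ (Subgroup.card_map_of_injective (MulAut.conj n).injective).ge
    rw [Subgroup.map_le_iff_le_comap]
    exact (Subgroup.closure_le _).mpr fun x hx => hn x hx
  have hbO : b ∈ Subgroup.normalizer (O' : Set S) := by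
    refine hnormO b ?_
    rintro x (hx | ⟨a, ha, rfl⟩)
    · have e : b * x * b⁻¹ = δ x * x := hφ x
      rw [e]
      exact mul_mem (hδO x hx.1) (hKO hx)
    · have h := hKO (hBBK (hBBmem b hbB _ (hδB a ha)))
      simpa [mul_assoc] using mul_mem h (hδO a ha)
  have hAO : Subgroup.normalizer (A : Set S) ≤ Subgroup.normalizer (O' : Set S) := by
    intro n hn
    refine hnormO n ?_
    rintro x (hx | ⟨a, ha, rfl⟩)
    · refine hKO ⟨hnorm n hn x hx.1, ?_⟩
      have h1 : φ x ∈ A := hx.2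
      have h2 := hnorm _ (hconjN n hn) _ h1
      show φ (n * x * n⁻¹) ∈ A
      simpa [hφdef, mul_assoc] using h2
    · set m := b⁻¹ * (n * b * n⁻¹) with hm
      have hmN : m ∈ Subgroup.normalizer (A : Set S) := by
        have h1 : b⁻¹ * n * b⁻¹⁻¹ ∈ Subgroup.normalizer (A : Set S) := by
          obtain ⟨n', hn', hnn⟩ : ∃ n' ∈ Subgroup.normalizer (A : Set S), b * n' * b⁻¹ = n := by
            have hle : (Subgroup.normalizer (A : Set S)).map (MulAut.conj b).toMonoidHom ≤
                Subgroup.normalizer (A : Set S) := by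
              rintro _ ⟨k, hk, rfl⟩
              exact hconjN k hk
            have := Subgroup.eq_of_le_of_card_ge hle
              (Subgroup.card_map_of_injective (MulAut.conj b).injective).ge
            rw [← this] at hn
            exact hn
          rw [← hnn]
          simpa [mul_assoc] using hn'
        simpa [hm, mul_assoc] using mul_mem h1 (inv_mem hn)
      have hmB : m ∈ B := mul_mem (inv_mem hbB) (hconjB n b hbB)
      set a' := n * a * n⁻¹ with ha'
      have ha'A : a' ∈ A := hnorm n hn a ha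
      set a'' := m * a' * m⁻¹ with ha''
      have ha''A : a'' ∈ A := hnorm m hmN a' ha'A
      have hK'' : a'' * a'⁻¹ ∈ K := by
        refine hABK (Subgroup.mem_inf.mpr ⟨mul_mem ha''A (inv_mem ha'A), ?_⟩)
        have : a'' * a'⁻¹ = m * (a' * m⁻¹ * a'⁻¹) := by rw [ha'']; group
        rw [this]
        exact mul_mem hmB (hconjB a' _ (inv_mem hmB))
      have e : n * δ a * n⁻¹ = δ a'' * (a'' * a'⁻¹) := by
        simp [δ, hφdef, ha'', ha', hm, mul_assoc]
      rw [e]
      exact mul_mem (hδO a'' ha''A) (hKO hK'')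
  have hlt : A ⊓ B < O' ⊓ B := by
    refine lt_of_le_of_ne (fun x hx => ⟨hKO (hABK hx), hx.2⟩) fun heq => hbA ?_
    refine Subgroup.mem_normalizer_iff_map_conj_eq.mpr ?_
    refine Subgroup.eq_of_le_of_card_ge ?_ (Subgroup.card_map_of_injective φ.injective).ge
    rintro _ ⟨a, ha, rfl⟩
    show φ a ∈ A
    have h : δ a ∈ A ⊓ B := heq ▸ ⟨hδO a ha, hδB a ha⟩
    rw [hφ]
    exact mul_mem h.1 ha
  refine ⟨hcard, hOcomm, fun x hx => hKO (hBBK hx), hlt, ?_, Subgroup.le_normalizer.trans hAO, hNA,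
    hbO, lt_of_le_of_ne hAO fun heq => hbA (heq ▸ hbO), fun hp => ?_⟩
  · refine lt_of_le_of_ne inf_le_right fun heq => hnot ?_
    exact (inf_eq_right.mp heq).trans hNA
  · rw [Monoid.exponent_dvd_iff_forall_pow_eq_one]
    have hexp : ∀ a ∈ A, a ^ Monoid.exponent A = 1 := fun a ha =>
      congrArg Subtype.val (Monoid.pow_exponent_eq_one (⟨a, ha⟩ : A))
    have hodd : Odd (Monoid.exponent A) := by
      obtain ⟨k, hk⟩ := (IsPGroup.iff_card).mp (hS.to_subgroup A)
      obtain ⟨j, -, hj⟩ := (Nat.dvd_prime_pow (Fact.out : p.Prime)).mp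
        (hk ▸ Group.exponent_dvd_nat_card (G := A))
      rw [hj]
      exact ((Fact.out : p.Prime).odd_of_ne_two hp).pow
    rintro ⟨x, hx⟩
    apply Subtype.ext
    show x ^ Monoid.exponent A = 1
    induction hx using Subgroup.closure_induction with
    | mem y hy =>
      rcases hy with hy | ⟨a, ha, rfl⟩
      · exact hexp y hy.1
      · exact hpow _ hodd a ha (hexp a ha)
    | one => exact one_pow _
    | mul y z hy hz iy iz => rw [(Commute.mul_pow (hOc y hy z hz) _), iy, iz, one_mul]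
    | inv y _ iy => rw [inv_pow, iy, inv_one]

end Cfsg.Agent.S0650
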