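import Cfsg.Statements.S0651
import Cfsg.Agent.GlaubermanZJ.Replacement
import Cfsg.Agent.Eq.Def_PLocal

set_option autoImplicit false
open Cfsg

namespace Cfsg.Agent.S0651

/-- For odd p and D normal in the p-group S, the abelian subgroups of D of largest order satisfy the replacement property: a class-2 normal subgroup B of S with a member containing [B, B] but not B normalizes some such member. -/
theorem result {S : Type*} [Group S] [Finite S] {p : ℕ} [Fact p.Prime] (hS : IsPGroup p S) (hp : p ≠ 2) (D : Subgroup S) [D.Normal] : ∀ (B : Subgroup S) [B.Normal], ⁅⁅B, B⁆, B⁆ = ⊥ → (∃ U ∈ (Set.image (fun A : Subgroup ↥D => A.map D.subtype) (Cfsg.maxAbelianSubgroups ↥D)), ⁅B, B⁆ ≤ U ∧ ¬ B ≤ U) → ∃ A ∈ (Set.image (fun A : Subgroup ↥D => A.map D.subtype) (Cfsg.maxAbelianSubgroups ↥D)), ⁅B, B⁆ ≤ A ∧ ¬ B ≤ A ∧ B ≤ Subgroup.normalizer (A : Set S) := by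

  intro B hBn hB2 hex
  classical
  haveI : Fintype (Subgroup S) := Fintype.ofFinite _
  set 𝒜 := Set.image (fun A : Subgroup ↥D => A.map D.subtype) (Cfsg.maxAbelianSubgroups ↥D) with h𝒜
  obtain ⟨U, hU, hBU, hnU⟩ := hex
  obtain ⟨A, hA, hmax⟩ := Finset.exists_max_image
    (Finset.univ.filter fun A : Subgroup S => A ∈ 𝒜 ∧ ⁅B, B⁆ ≤ A ∧ ¬ B ≤ A)
    (fun A => Nat.card ↥(A ⊓ B)) ⟨U, by simp [hU, hBU, hnU]⟩
  simp only [Finset.mem_filter, Finset.mem_univ, true_and] at hA hmax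
  obtain ⟨hA𝒜, hBA, hnA⟩ := hA
  refine ⟨A, hA𝒜, hBA, hnA, ?_⟩
  by_contra hnot
  obtain ⟨A₁, hA₁, rfl⟩ := hA𝒜
  have hab : IsMulCommutative ↥(A₁.map D.subtype) :=
    CfsgLib.GlaubermanZJ.isMulCommutative_map _ hA₁.1
  have hnorm : A₁.map D.subtype ≤ Subgroup.normalizer (B : Set S) :=
    le_top.trans (Subgroup.normalizer_eq_top_iff.mpr hBn).ge
  obtain ⟨A', hA'D, hA'c, hA'card, hlt, hA'N, hexp⟩ :=
    CfsgLib.GlaubermanZJ.glauberman_replacement_in_le (T := ⊤) (U := D) hp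
      (hS.to_subgroup ⊤) le_top
      (le_of_eq (Subgroup.normalizer_eq_top_iff.mpr inferInstance).symm)
      (Subgroup.map_subtype_le A₁) le_top hab hB2 hBA hnorm hnot
  have hA'map : (A'.subgroupOf D).map D.subtype = A' := Subgroup.map_subgroupOf_eq_of_le hA'D
  have hmem : A' ∈ 𝒜 := by
    refine ⟨A'.subgroupOf D, ⟨CfsgLib.GlaubermanZJ.isMulCommutative_subgroupOf hA'c, fun C hC => ?_⟩, hA'map⟩
    rw [Nat.card_congr (Subgroup.subgroupOfEquivOfLe hA'D).toEquiv, hA'card,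
      Subgroup.card_map_of_injective D.subtype_injective]
    exact hA₁.2 C hC
  have hBA' : ¬ B ≤ A' := fun h => hnot (h.trans hA'N)
  have hBB : ⁅B, B⁆ ≤ A' := fun x hx =>
    (hlt.le (Subgroup.mem_inf.mpr ⟨hBA hx, Subgroup.commutator_le_right _ _ hx⟩)).1
  have hcardlt : Nat.card ↥(A₁.map D.subtype ⊓ B) < Nat.card ↥(A' ⊓ B) :=
    lt_of_le_of_ne (Subgroup.card_le_of_le hlt.le) fun h =>
      hlt.ne (Subgroup.eq_of_le_of_card_ge hlt.le h.ge)
  exact absurd (hmax A' ⟨hmem, hBB, hBA'⟩) (not_le.mpr hcardlt)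

end Cfsg.Agent.S0651
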