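import Cfsg.Statements.S0655
import Cfsg.Agent.LocalP.ThompsonJ
import Cfsg.Agent.Eq.Def_PLocal

set_option autoImplicit false
open Cfsg

namespace Cfsg.Agent.S0655

/-- In a p-group the intersection of all elementary abelian subgroups of largest order is the subgroup generated by the elements of order dividing p in the centre (equivalently the centralizer) of the elementary-version Thompson subgroup. -/
theorem result {S : Type*} [Group S] [Finite S] {p : ℕ} [Fact p.Prime] (hS : IsPGroup p S) : sInf (Cfsg.maxElementaryAbelianSubgroups p S) = Cfsg.omegaCenterThompson p S ∧ Cfsg.omegaCenterThompson p S = Cfsg.omegaOne p (Subgroup.centralizer (Cfsg.thompsonSubgroup p S : Set S)) := by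
  set J := thompsonSubgroup p S with hJ
  have hdef : omegaCenterThompson p S =
      omegaOne p (J ⊓ Subgroup.centralizer (J : Set S)) := rfl
  have hsub : ∀ x : S, x ∈ Subgroup.centralizer (J : Set S) → x ^ p = 1 →
      x ∈ omegaCenterThompson p S := fun x hx hxp => by
    rw [hdef]
    exact Subgroup.subset_closure
      ⟨⟨CfsgLib.LocalP.mem_thompsonSubgroup_of_centralizes hx hxp, hx⟩, hxp⟩
  refine ⟨le_antisymm ?_ ?_, le_antisymm ?_ ?_⟩
  · intro x hx
    obtain ⟨A, hA⟩ := CfsgLib.LocalP.exists_maxElementaryAbelian (p := p) (G := S)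
    refine hsub x ?_ (hA.1.2 x (sInf_le (a := A) hA hx))
    refine (Subgroup.le_centralizer_iff.1 (sSup_le fun B hB => ?_ :
      J ≤ Subgroup.centralizer ((sInf (maxElementaryAbelianSubgroups p S) : Subgroup S) : Set S))) hx
    intro b hb
    rw [Subgroup.mem_centralizer_iff]
    intro y hy
    exact (CfsgLib.LocalP.isElementaryAbelian_iff.1 hB.1).1 y (sInf_le (a := B) hB hy) b hb
  · rw [hdef, omegaOne, Subgroup.closure_le]
    rintro x ⟨⟨-, hxc⟩, hxp⟩
    rw [SetLike.mem_coe, Subgroup.mem_sInf]
    intro A hA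
    exact CfsgLib.LocalP.mem_of_centralizes (CfsgLib.LocalP.maxElementaryAbelian_eq (p := p) S ▸ hA)
      (Subgroup.mem_top x) hxp fun a ha =>
        Subgroup.mem_centralizer_iff.1 hxc a (CfsgLib.LocalP.le_thompsonSubgroup hA ha)
  · rw [hdef, omegaOne, Subgroup.closure_le]
    rintro x ⟨⟨-, hxc⟩, hxp⟩
    exact Subgroup.subset_closure ⟨hxc, hxp⟩
  · rw [omegaOne, Subgroup.closure_le]
    rintro x ⟨hxc, hxp⟩
    exact hsub x hxc hxp

end Cfsg.Agent.S0655
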