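import Cfsg.Statements.S0955
import Cfsg.Agent.Blocks.Defect.Induced
import Cfsg.Agent.Eq.Def_Blocks
import Cfsg.Agent.LocalP.Basic
import Cfsg.Agent.Eq.Def_Solvable

set_option autoImplicit false
open Cfsg

namespace Cfsg.Agent.S0955

/-- Let D be a defect group of a block of the finite group G relative to a maximal ideal M of the algebraic integers containing the prime p. Then D is the largest normal p-subgroup of its own normalizer: O_p(N_G(D)) = D. -/
theorem result {G : Type*} [Group G] [Finite G] (p : ℕ) [Fact p.Prime] (M : Ideal Cfsg.AlgInt) (hM : Cfsg.IsPModular p M) (B : Set (Cfsg.IrrCharacter G)) (hB : Cfsg.IsPBlock M B) (D : Subgroup G) (hD : Cfsg.IsDefectGroup p M B D) : (Cfsg.pCore p (Subgroup.normalizer (D : Set G))).map (Subgroup.normalizer (D : Set G)).subtype = D := by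
  haveI := hM.2.1
  haveI := CfsgLib.Blocks.charP_kres hM
  classical
  haveI := Fintype.ofFinite G
  have he := CfsgLib.Blocks.isBlockIdem_topEl hB (M := M)
  have heD := (CfsgLib.Blocks.isDefectGroup_topEl_iff hB D).mp hD
  have hb := heD.trunc_isBlockIdem he
  have hbD := heD.defect_over he hb (show CfsgLib.Blocks.BrOver D _ _ from hb.idem)
  set N := Subgroup.normalizer (D : Set G) with hN
  set O := (Cfsg.pCore p N).map N.subtype with hO
  haveI : (Cfsg.pCore p N).Normal := Cfsg.pCore_normal p N
  refine le_antisymm ?_ ?_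
  · refine hb.normal_le_defectGroup ((CfsgLib.LocalP.isPGroup_pCore (G := N) (p := p)).map _)
      (le_inf le_top (Subgroup.map_subtype_le _)) ?_ hbD
    intro n hn
    rw [Subgroup.mem_normalizer_iff]
    intro y
    constructor
    · rintro ⟨z, hz, rfl⟩
      exact ⟨⟨n, hn.2⟩ * z * ⟨n, hn.2⟩⁻¹,
        (inferInstance : (Cfsg.pCore p N).Normal).conj_mem z hz _, rfl⟩
    · rintro ⟨z, hz, hzy⟩
      refine ⟨⟨n, hn.2⟩⁻¹ * z * ⟨n, hn.2⟩, ?_, ?_⟩
      · simpa using (inferInstance : (Cfsg.pCore p N).Normal).conj_mem z hz ⟨n, hn.2⟩⁻¹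
      · simp only [Subgroup.coe_subtype] at hzy
        simp [hzy, mul_assoc]
  · rw [← Subgroup.map_subgroupOf_eq_of_le (Subgroup.le_normalizer (H := D)), hO]
    exact Subgroup.map_mono (CfsgLib.LocalP.le_pCore
      ((Subgroup.normal_subgroupOf_iff_le_normalizer Subgroup.le_normalizer).mpr le_rfl)
      (heD.2.1.of_equiv (Subgroup.subgroupOfEquivOfLe Subgroup.le_normalizer).symm))

end Cfsg.Agent.S0955
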