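import Cfsg.Statements.S0998
import Cfsg.Agent.Blocks.OrderP.BrauerTuan.Main
import Cfsg.Agent.Blocks.OrderP.BrauerTuan.Arith
import Cfsg.Agent.PTerminal.Diagonal
import Cfsg.Agent.SmallIso.PSLTwo
-- import your own Cfsg.Agent.* helpers here

set_option autoImplicit false
open Cfsg

namespace Cfsg.Agent.S0998

theorem isNonabelian {G : Type*} [Group G] (hG : ¬ IsCyclic G) [IsSimpleGroup G] :
    ¬ IsMulCommutative G := fun h => by
  letI : CommGroup G :=
    { (inferInstance : Group G) with mul_comm := fun a b => h.is_comm.comm a b }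
  exact hG inferInstance

theorem aux {G : Type*} [Group G] [Finite G] [IsSimpleGroup G] (hG : ¬ IsCyclic G) (p q r b : ℕ)
    (hp : p.Prime) (hq : q.Prime) (hr : r.Prime) (hpq : p ≠ q) (hqr : q ≠ r) (hrp : r < p)
    (hG' : Nat.card G = p * r * q ^ b) :
    (∃ (F : Type) (_ : Field F) (_ : Fintype F), Fintype.card F = 5 ∧
      Nonempty (G ≃* Matrix.ProjectiveSpecialLinearGroup (Fin 2) F)) ∨
    (∃ (F : Type) (_ : Field F) (_ : Fintype F), Fintype.card F = 7 ∧
      Nonempty (G ≃* Matrix.ProjectiveSpecialLinearGroup (Fin 2) F)) := by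
  classical
  haveI := Fintype.ofFinite G
  haveI : Fact p.Prime := ⟨hp⟩
  have hna := isNonabelian hG
  have hr2 := hr.two_le
  have hsmall : r < p - 1 := by
    by_contra hcon
    have hpr : p = r + 1 := by omega
    obtain ⟨rfl, rfl⟩ : r = 2 ∧ p = 3 := by
      rcases hr.eq_two_or_odd with h | h
      · exact ⟨h, by omega⟩
      · rcases hp.eq_two_or_odd with h' | h' <;> omega
    have h4 := CfsgLib.PTerminal.four_dvd_of_isSimpleGroup (A := G) (fun h => hna ⟨⟨h⟩⟩)
      (by rw [hG']; exact (dvd_mul_left 2 3).mul_right _)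
    rw [hG', show 3 * 2 * q ^ b = 2 * (3 * q ^ b) by ring] at h4
    have h2 : 2 ∣ 3 * q ^ b := Nat.dvd_of_mul_dvd_mul_left two_pos h4
    rcases Nat.prime_two.dvd_mul.1 h2 with h | h
    · norm_num at h
    · exact hqr ((Nat.prime_dvd_prime_iff_eq Nat.prime_two hq).1 (Nat.prime_two.dvd_of_dvd_pow h)).symm
  obtain ⟨h3, h⟩ := CfsgLib.Blocks.OrderP.BrauerTuan.recognised_of_small_cofactor hna hq hpq
    (g₀ := r) (b := b) (by rw [hG']; ring) hsmall
  rcases h with ⟨hc, F, iF, iT, hF, hi⟩ | ⟨m, hm, hc, -, F, iF, iT, hF, hi⟩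
  · obtain ⟨k, hk⟩ := hp.odd_of_ne_two (by omega)
    have hc' : q ^ b * r = 2 * k * (k + 1) :=
      Nat.eq_of_mul_eq_mul_left (show 0 < 2 * (2 * k + 1) by omega) (by
        rw [hG', hk, show 2 * k + 1 - 1 = 2 * k by omega] at hc
        calc 2 * (2 * k + 1) * (q ^ b * r) = 2 * ((2 * k + 1) * r * q ^ b) := by ring
          _ = _ := by rw [hc]; ring)
    obtain ⟨-, h⟩ := CfsgLib.Blocks.OrderP.BrauerTuan.pow_two_of_cofactor_small hq (by omega) hc'
      (by omega)
    rcases CfsgLib.Blocks.OrderP.BrauerTuan.small_primes_of_power hp hr h3 hk h with h' | h'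
    · exact Or.inl ⟨F, iF, iT, hF.trans h', hi⟩
    · exact Or.inr ⟨F, iF, iT, hF.trans h', hi⟩
  · obtain ⟨T, hT⟩ : ∃ T, T = 2 ^ m := ⟨_, rfl⟩
    have hT4 : 4 ≤ T := by
      rw [hT]
      rcases m with _ | _ | m
      · simp at hm; omega
      · simp at hm; omega
      · exact (show (4 : ℕ) = 2 ^ 2 by norm_num) ▸ Nat.pow_le_pow_right two_pos (by omega)
    have hTe : 2 ∣ T := by
      rw [hT]
      refine dvd_pow_self 2 ?_
      rintro rfl
      omega
    rw [← hT] at hm hF
    rw [hG', mul_assoc, hm, show T + 1 - 1 = T by omega, show T + 1 - 2 = T - 1 by omega,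
      mul_assoc] at hc
    have hc' : r * q ^ b = T * (T - 1) := Nat.eq_of_mul_eq_mul_left (Nat.succ_pos T) hc
    have hq2 : q = 2 := by
      by_contra hq2
      have h2 : 2 ∣ r * q ^ b := hc' ▸ hTe.mul_right _
      rcases Nat.prime_two.dvd_mul.1 h2 with h | h
      · have h4 : 4 ∣ r * q ^ b := by
          rw [hc']
          refine Dvd.dvd.mul_right ?_ _
          rw [hT]
          refine (show 2 ^ 2 ∣ 2 ^ m from Nat.pow_dvd_pow 2 ?_)
          by_contra h5
          have := Nat.pow_le_pow_right two_pos (show m ≤ 1 by omega)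
          omega
        rw [← (Nat.prime_dvd_prime_iff_eq Nat.prime_two hr).1 h] at h4
        have h5 : 2 ∣ q ^ b := Nat.dvd_of_mul_dvd_mul_left two_pos h4
        exact hq2 ((Nat.prime_dvd_prime_iff_eq Nat.prime_two hq).1 (Nat.prime_two.dvd_of_dvd_pow h5)).symm
      · exact hq2 ((Nat.prime_dvd_prime_iff_eq Nat.prime_two hq).1 (Nat.prime_two.dvd_of_dvd_pow h)).symm
    subst hq2
    have hrT : r = T - 1 := by
      have h1 : T - 1 ∣ r := by
        have hcop : (T - 1).Coprime (2 ^ b) :=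
          (Nat.Coprime.pow_left b (Nat.prime_two.coprime_iff_not_dvd.2 (by omega))).symm
        exact hcop.dvd_of_dvd_mul_right (hc' ▸ dvd_mul_left _ _)
      rcases (Nat.dvd_prime hr).1 h1 with h | h <;> omega
    have hp5 : p = 5 := by
      have h0 : ∀ d, 3 ∣ d → d.Prime → d = 3 := fun d hd hdp =>
        ((Nat.prime_dvd_prime_iff_eq Nat.prime_three hdp).1 hd).symm
      have hmod : T % 3 ≠ 0 := fun h0' => by
        have := Nat.prime_three.dvd_of_dvd_pow (hT ▸ Nat.dvd_of_mod_eq_zero h0')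
        norm_num at this
      have hpm : p % 3 ≠ 0 := fun h0' => by have := h0 p (Nat.dvd_of_mod_eq_zero h0') hp; omega
      have hr3 : r % 3 = 0 := by
        have h : T % 3 = 1 ∨ T % 3 = 2 := by omega
        obtain ⟨c, hc⟩ : ∃ c, c = T / 3 := ⟨_, rfl⟩
        rcases h with h | h
        · have : T = 3 * c + 1 := by omega
          omega
        · have : T = 3 * c + 2 := by omega
          omega
      have := h0 r (Nat.dvd_of_mod_eq_zero hr3) hr
      omega
    haveI : Fact (Nat.Prime 5) := ⟨by norm_num⟩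
    obtain ⟨e4⟩ := CfsgLib.SmallIso.psl_two_card_four (F := F) (by rw [hF]; omega)
    obtain ⟨e5⟩ := CfsgLib.SmallIso.psl_two_card_five (F := ZMod 5) (ZMod.card 5)
    obtain ⟨i⟩ := hi
    exact Or.inl ⟨ZMod 5, inferInstance, inferInstance, ZMod.card 5,
      ⟨i.trans (e4.trans e5.symm)⟩⟩

/-- A non-cyclic finite simple group whose order has the form p * r * q^b for distinct primes p, q, r is isomorphic to the projective special linear group of dimension 2 over the field with 5 or with 7 elements. -/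
theorem result {G : Type*} [Group G] [Finite G] [IsSimpleGroup G] (hG : ¬ IsCyclic G) (p q r b : ℕ) (hp : p.Prime) (hq : q.Prime) (hr : r.Prime) (hpq : p ≠ q) (hpr : p ≠ r) (hqr : q ≠ r) (hG' : Nat.card G = p * r * q ^ b) : (∃ (F : Type) (_ : Field F) (_ : Fintype F), Fintype.card F = 5 ∧ Nonempty (G ≃* Matrix.ProjectiveSpecialLinearGroup (Fin 2) F)) ∨ (∃ (F : Type) (_ : Field F) (_ : Fintype F), Fintype.card F = 7 ∧ Nonempty (G ≃* Matrix.ProjectiveSpecialLinearGroup (Fin 2) F)) := by
  rcases lt_or_gt_of_ne hpr with h | h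
  · exact aux hG r q p b hr hq hp hqr.symm hpq.symm h (by rw [hG']; ring)
  · exact aux hG p q r b hp hq hr hpq hqr h hG'

end Cfsg.Agent.S0998
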