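import Cfsg.Statements.S1154
import Cfsg.Agent.Ree.Simple

set_option autoImplicit false
open Cfsg

namespace Cfsg.Agent.S1154

/-- In the small Ree group ²G₂(q), q = 3^(2m+1) with m ≥ 1, realised as G¹ inside the Chevalley group G₂ over the field with q elements (θ the 3^m-th power map), with `U¹ = G¹ ∩ U` (U the positive unipotent subgroup of the ambient G₂): `U¹` has exactly `q² - 1` elements of order 3. -/
theorem result {K : Type*} [Field K] [Fintype K] {m : ℕ} (hm : 1 ≤ m) (hK : Fintype.card K = 3 ^ (2 * m + 1)) :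
    Nat.card {u : ↥(Cfsg.Lie.chevG2.posUnipotent K ⊓ Cfsg.Lie.twistedG2 K (3 ^ m)) // orderOf u = 3} = (3 ^ (2 * m + 1)) ^ 2 - 1 := by
  haveI : CharP K 3 := CfsgLib.Ree.charP_of_card hK
  haveI : Fact (Nat.Prime 3) := ⟨Nat.prime_three⟩
  have hq := CfsgLib.Ree.Q_of_card hK
  rw [CfsgLib.Ree.twistedG2_eq hK]
  classical
  have key : ∀ (t u v : K) (h : CfsgLib.Ree.eU K m t u v ∈
      Cfsg.Lie.chevG2.posUnipotent K ⊓ CfsgLib.Ree.fixSub K m),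
      orderOf (⟨CfsgLib.Ree.eU K m t u v, h⟩ : ↥(Cfsg.Lie.chevG2.posUnipotent K ⊓ CfsgLib.Ree.fixSub K m)) = 3 ↔
        t = 0 ∧ (u, v) ≠ (0, 0) := by
    intro t u v h
    rw [orderOf_eq_prime_iff, Ne, Subtype.ext_iff, Subtype.ext_iff, Subgroup.coe_pow, Subgroup.coe_one,
      CfsgLib.Ree.eU_pow_three_iff]
    refine and_congr_right fun ht => ?_
    subst ht
    rw [Ne, not_iff_not, ← CfsgLib.Ree.eU_zero (K := K) (m := m), Prod.mk.injEq]
    exact ⟨fun e => (CfsgLib.Ree.eU_inj e).2, by rintro ⟨rfl, rfl⟩; rfl⟩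
  have e : Nat.card {p : K × K // p ≠ (0, 0)} = (3 ^ (2 * m + 1)) ^ 2 - 1 := by
    rw [Nat.card_eq_fintype_card, Fintype.card_subtype_compl, Fintype.card_prod, hK,
      Fintype.card_subtype_eq, sq]
  rw [← e]
  refine (Nat.card_eq_of_bijective (fun p : {p : K × K // p ≠ (0, 0)} =>
    (⟨⟨CfsgLib.Ree.eU K m 0 p.1.1 p.1.2, CfsgLib.Ree.eU_pos _ _ _, CfsgLib.Ree.eU_mem hq _ _ _⟩,
      (key _ _ _ _).2 ⟨rfl, p.2⟩⟩ :
      {u : ↥(Cfsg.Lie.chevG2.posUnipotent K ⊓ CfsgLib.Ree.fixSub K m) // orderOf u = 3}))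
    ⟨fun p p' h => ?_, fun g => ?_⟩).symm
  · obtain ⟨-, h2, h3⟩ := CfsgLib.Ree.eU_inj (congrArg Subtype.val (congrArg Subtype.val h))
    exact Subtype.ext (Prod.ext h2 h3)
  · obtain ⟨⟨g, hg⟩, ho⟩ := g
    obtain ⟨t, u, v, rfl⟩ := (CfsgLib.Ree.mem_fixU_iff hq).1 hg
    obtain ⟨rfl, hne⟩ := (key t u v hg).1 ho
    exact ⟨⟨(u, v), hne⟩, rfl⟩

end Cfsg.Agent.S1154
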