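import Cfsg.Statements.S1156
import Cfsg.Agent.Ree.Semisimple

set_option autoImplicit false
open Cfsg

namespace Cfsg.Agent.S1156

/-- In the small Ree group ²G₂(q), q = 3^(2m+1) with m ≥ 1, realised as G¹ inside the Chevalley group G₂ over the field with q elements (θ the 3^m-th power map): for every prime `p > 3` the Sylow `p`-subgroups of `G¹` are cyclic. -/
theorem result {K : Type*} [Field K] [Fintype K] {m : ℕ} (hm : 1 ≤ m) (hK : Fintype.card K = 3 ^ (2 * m + 1))
    {p : ℕ} [Fact p.Prime] (hp : 3 < p) (P : Sylow p ↥(Cfsg.Lie.twistedG2 K (3 ^ m))) : IsCyclic (P : Subgroup ↥(Cfsg.Lie.twistedG2 K (3 ^ m))) := by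
  haveI := CfsgLib.Ree.charP_of_card hK
  set G := ↥(Cfsg.Lie.twistedG2 K (3 ^ m))
  haveI : Finite G := inferInstance
  rcases eq_or_ne (P : Subgroup G) ⊥ with h | h
  · rw [h]; infer_instance
  haveI : Nontrivial ↥(P : Subgroup G) := (Subgroup.nontrivial_iff_ne_bot _).mpr h
  have hd : p ∣ Nat.card ↥(Subgroup.center ↥(P : Subgroup G)) := by
    haveI := P.2.center_nontrivial
    obtain ⟨n, hn, e⟩ := (P.2.to_subgroup (Subgroup.center ↥(P : Subgroup G))).nontrivial_iff_card.mp
      inferInstance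
    rw [e]; exact dvd_pow_self p (by omega)
  obtain ⟨z, hz⟩ := exists_prime_orderOf_dvd_card' p hd
  have ho : orderOf ((z : ↥(P : Subgroup G)) : G) = p := by
    rw [Subgroup.orderOf_coe, Subgroup.orderOf_coe, hz]
  have h5 : 5 ≤ p := by
    have hp' : p.Prime := Fact.out
    rcases Nat.lt_or_ge p 5 with h4 | h4
    · interval_cases p
      norm_num at hp'
    · exact h4
  have hP : (P : Subgroup G) ≤ Subgroup.centralizer {((z : ↥(P : Subgroup G)) : G)} := fun y hy =>
    Subgroup.mem_centralizer_singleton_iff.mpr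
      (congrArg Subtype.val (Subgroup.mem_center_iff.mp z.2 ⟨y, hy⟩))
  obtain ⟨-, hs, -⟩ := CfsgLib.Ree.toral_of_prime hK Fact.out h5 ho
  rcases hs with ⟨hc, -⟩ | ⟨-, hodd⟩
  · haveI := hc
    exact isCyclic_of_injective (Subgroup.inclusion hP) (Subgroup.inclusion_injective hP)
  · have e := Subgroup.subgroupOfEquivOfLe hP
    obtain ⟨n, hn⟩ := IsPGroup.iff_card.mp P.2
    haveI := hodd ((P : Subgroup G).subgroupOf _) (by
      rw [Nat.card_congr e.toEquiv, hn]
      exact Odd.pow ((Fact.out : p.Prime).odd_of_ne_two (by omega)))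
    exact isCyclic_of_surjective e.toMonoidHom e.surjective

end Cfsg.Agent.S1156
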