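import Cfsg.Statements.S1158
import Cfsg.Agent.Ree.Local

set_option autoImplicit false
open Cfsg

namespace Cfsg.Agent.S1158

/-- In the small Ree group ²G₂(q), q = 3^(2m+1) with m ≥ 1, realised as G¹ inside the Chevalley group G₂ over the field with q elements (θ the 3^m-th power map), with `r = 3^(m+1)` (so `r² = 3q`): for each `k ∈ {(q-1)/2, (q+1)/4, q - r + 1, q + r + 1}` there is a cyclic subgroup `A` of order `k` whose normaliser has order `2(q-1)`, `6(q+1)`, `6(q-r+1)`, `6(q+r+1)` respectively, and `N(A₀) = N(A)` for every non-trivial `A₀ ≤ A`. -/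
theorem result {K : Type*} [Field K] [Fintype K] {m : ℕ} (hm : 1 ≤ m) (hK : Fintype.card K = 3 ^ (2 * m + 1)) :
    ∀ kn ∈ ({((3 ^ (2 * m + 1) - 1) / 2, 2 * (3 ^ (2 * m + 1) - 1)), ((3 ^ (2 * m + 1) + 1) / 4, 6 * (3 ^ (2 * m + 1) + 1)),
        (3 ^ (2 * m + 1) - 3 ^ (m + 1) + 1, 6 * (3 ^ (2 * m + 1) - 3 ^ (m + 1) + 1)),
        (3 ^ (2 * m + 1) + 3 ^ (m + 1) + 1, 6 * (3 ^ (2 * m + 1) + 3 ^ (m + 1) + 1))} : Set (ℕ × ℕ)),
      ∃ A : Subgroup ↥(Cfsg.Lie.twistedG2 K (3 ^ m)), IsCyclic A ∧ Nat.card A = kn.1 ∧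
        Nat.card (Subgroup.normalizer (A : Set ↥(Cfsg.Lie.twistedG2 K (3 ^ m)))) = kn.2 ∧
        ∀ A₀ : Subgroup ↥(Cfsg.Lie.twistedG2 K (3 ^ m)), A₀ ≤ A → A₀ ≠ ⊥ →
          Subgroup.normalizer (A₀ : Set ↥(Cfsg.Lie.twistedG2 K (3 ^ m))) = Subgroup.normalizer (A : Set ↥(Cfsg.Lie.twistedG2 K (3 ^ m))) := by
  haveI : CharP K 3 := CfsgLib.Ree.charP_of_card hK
  intro kn hkn
  have hP := CfsgLib.Ree.params hm
  have h8 := hP.mod8
  have hr := hP.rle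
  obtain ⟨i, e1, e2⟩ : ∃ i : Fin 4, kn.1 = CfsgLib.Ree.torusHall m i ∧
      kn.2 = (if i = 0 then 2 else 6) * CfsgLib.Ree.torusNum m i := by
    simp only [Set.mem_insert_iff, Set.mem_singleton_iff] at hkn
    rcases hkn with rfl | rfl | rfl | rfl
    · exact ⟨0, rfl, rfl⟩
    · exact ⟨1, rfl, rfl⟩
    · refine ⟨2, ?_, ?_⟩ <;>
        simp [CfsgLib.Ree.torusHall, CfsgLib.Ree.torusNum, CfsgLib.Ree.torusSmall] <;> omega
    · refine ⟨3, ?_, ?_⟩ <;>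
        simp [CfsgLib.Ree.torusHall, CfsgLib.Ree.torusNum, CfsgLib.Ree.torusSmall]
  obtain ⟨x, p, hp, h5, ho, hd⟩ := CfsgLib.Ree.exists_prime_torus hm hK i
  have hz := CfsgLib.Ree.isRoot_mk hp h5 ho hd
  have hc := CfsgLib.Ree.isCyclic_hallPart hm hK hz
  have hcard := CfsgLib.Ree.card_hallPart hm hK hz
  have hle : CfsgLib.Ree.hallPart hm hK i hz ≤ Subgroup.centralizer {x} := fun a ha => ha.1
  have hne : CfsgLib.Ree.hallPart hm hK i hz ≠ ⊥ := fun h => by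
    rw [h, Subgroup.card_bot] at hcard
    have := CfsgLib.Ree.torusHall_one_lt hm i
    omega
  have hN := CfsgLib.Ree.normalizer_eq_of_le hm hK hz hc hcard.dvd hle hne
  refine ⟨_, hc, hcard.trans e1.symm, ?_, fun A₀ h0 hne0 => ?_⟩
  · rw [hN, CfsgLib.Ree.card_normalizer_of_root hm hK hz, e2]
  · haveI := hc
    rw [hN]
    exact CfsgLib.Ree.normalizer_eq_of_le hm hK hz
      (isCyclic_of_injective (Subgroup.inclusion h0) (Subgroup.inclusion_injective h0))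
      ((Subgroup.card_dvd_of_le h0).trans hcard.dvd) (h0.trans hle) hne0

end Cfsg.Agent.S1158
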