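import Cfsg.Statements.S1249

set_option autoImplicit false
open Cfsg

namespace Cfsg.Agent.S1249

/-- Let P and Q be Sylow p-subgroups of the finite group G both containing the subgroup A. If A is strongly closed in P, then A is strongly closed in Q. -/
theorem result {G : Type*} [Group G] [Finite G] {p : ℕ} [Fact p.Prime] (P Q : Sylow p G) (A : Subgroup G) (hAQ : A ≤ Q) (hA : Cfsg.IsStronglyClosed A (P : Subgroup G)) : Cfsg.IsStronglyClosed A (Q : Subgroup G) := by
  obtain ⟨g, hg⟩ := MulAction.exists_smul_eq G P Q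
  have hQ : ∀ x : G, x ∈ (Q : Subgroup G) ↔ g⁻¹ * x * g ∈ (P : Subgroup G) := by
    intro x
    rw [← hg, Sylow.coe_subgroup_smul, Subgroup.mem_pointwise_smul_iff_inv_smul_mem]
    simp [MulAut.smul_def]
  refine ⟨hAQ, fun x hx k hk => ?_⟩
  have hA2 : ∀ a ∈ A, g⁻¹ * a * g ∈ A := by
    intro a ha
    have := hA.2 a ha g⁻¹ (by simpa using (hQ a).1 (hAQ ha))
    simpa using this
  have hA3 : ∀ a ∈ A, g * a * g⁻¹ ∈ A := by
    intro a ha
    have hsurj : Function.Surjective (fun a : A => (⟨g⁻¹ * a * g, hA2 a a.2⟩ : A)) :=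
      Finite.injective_iff_surjective.1 (fun a b h => by
        apply Subtype.ext
        have h' : g⁻¹ * (a : G) * g = g⁻¹ * (b : G) * g := congrArg Subtype.val h
        exact mul_left_cancel (mul_right_cancel h'))
    obtain ⟨b, hb⟩ := hsurj ⟨a, ha⟩
    have : g⁻¹ * (b : G) * g = a := congrArg Subtype.val hb
    rw [← this]
    simp [mul_assoc]
  have h1 := hA.2 x hx (g⁻¹ * k) (by simpa [mul_assoc] using (hQ _).1 hk)
  have h2 := hA3 _ h1
  simpa [mul_assoc] using h2

end Cfsg.Agent.S1249
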