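import Cfsg.Statements.S1292
import Cfsg.Agent.Eq.Def_Local
import Cfsg.Agent.FStar.SelfCentralizing

set_option autoImplicit false
open Cfsg

namespace Cfsg.Agent.S1292

open CfsgLib.CharPClimb

theorem exists_central_order_two {G : Type*} [Group G] [Finite G] {T : Subgroup G}
    (hT : IsPGroup 2 ↥T) (hT1 : T ≠ ⊥) : ∃ t ∈ T, orderOf t = 2 := by
  obtain ⟨k, hk⟩ := IsPGroup.iff_card.mp hT
  rcases k with _ | k
  · exact absurd (Subgroup.card_eq_one.mp hk) hT1
  obtain ⟨⟨t, ht⟩, hto⟩ := exists_prime_orderOf_dvd_card' (G := ↥T) 2 (hk ▸ dvd_pow_self 2 (Nat.succ_ne_zero k))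
  exact ⟨t, ht, by rwa [← Subgroup.orderOf_coe] at hto⟩

/-- Let G be a finite group such that F*(C_G(t)) = O_2(C_G(t)) for every involution t. Then F*(N_G(T)) = O_2(N_G(T)) for every nontrivial 2-subgroup T of G. -/
theorem result {G : Type*} [Group G] [Finite G] (h : ∀ t : G, orderOf t = 2 → Cfsg.generalizedFittingSubgroup ↥(Subgroup.centralizer ({t} : Set G)) = Cfsg.pCore 2 ↥(Subgroup.centralizer ({t} : Set G))) (T : Subgroup G) (hT : IsPGroup 2 ↥T) (hT1 : T ≠ ⊥) : Cfsg.generalizedFittingSubgroup ↥(Subgroup.normalizer (T : Set G)) = Cfsg.pCore 2 ↥(Subgroup.normalizer (T : Set G)) := by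
  obtain ⟨t, htT, hto⟩ := exists_central_order_two hT hT1
  have hV : Subgroup.centralizer ((Subgroup.zpowers t : Subgroup G) : Set G) =
      Subgroup.centralizer ({t} : Set G) := by
    rw [Subgroup.zpowers_eq_closure, Subgroup.centralizer_closure]
  have hc : CharP 2 (Subgroup.centralizer ({t} : Set G)) :=
    CfsgLib.FStar.generalizedFitting_eq_pCore_iff.mp (h t hto)
  exact generalizedFitting_eq_pCore
    (charP_normalizer hT (charP_centralizer_of_le hT _ (Subgroup.zpowers_le.mpr htT) (hV ▸ hc)))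

end Cfsg.Agent.S1292
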