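import Cfsg.Statements.S1323
import Cfsg.Agent.Eq.Def_Local
import Cfsg.Agent.Eq.Def_CaseTheorems

set_option autoImplicit false
open Cfsg

namespace Cfsg.Agent.S1323

open Equiv
open scoped commutatorElement

theorem isQuasisimple_of_isSimple_nc {H : Type*} [Group H] [IsSimpleGroup H] (hne : ∃ a b : H, a * b ≠ b * a) :
    Cfsg.IsQuasisimple H := by
  obtain ⟨a, b, hab⟩ := hne
  have hc : Subgroup.center H = ⊥ := by
    rcases (inferInstance : (Subgroup.center H).Normal).eq_bot_or_eq_top with h | h
    · exact h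
    · exact absurd ((Subgroup.mem_center_iff.mp (h ▸ Subgroup.mem_top a : a ∈ Subgroup.center H)) b).symm hab
  refine ⟨⟨?_⟩, ?_⟩
  · rcases (inferInstance : (commutator H).Normal).eq_bot_or_eq_top with h | h
    · exfalso
      have h1 : ⁅a, b⁆ ∈ commutator H := Subgroup.commutator_mem_commutator (Subgroup.mem_top a) (Subgroup.mem_top b)
      rw [h, Subgroup.mem_bot, commutatorElement_eq_one_iff_commute] at h1
      exact hab h1
    · exact h
  · exact ((QuotientGroup.quotientMulEquivOfEq hc).trans QuotientGroup.quotientBot).isSimpleGroup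

theorem standard_four_point_stabiliser (n : ℕ) (h4 : 4 ≤ n) (hn : 9 ≤ n) :
    Cfsg.IsStandardSubgroup (⨅ i : Fin 4, MulAction.stabilizer ↥(alternatingGroup (Fin n)) (Fin.castLE h4 i : Fin n)) := by
  classical
  set A := alternatingGroup (Fin n)
  set L := ⨅ i : Fin 4, MulAction.stabilizer ↥A (Fin.castLE h4 i : Fin n) with hLdef
  let B : Finset (Fin n) := Finset.univ.filter fun x => x.val < 4
  have hBcard : B.card = 4 := by
    have : B = Finset.univ.map ⟨Fin.castLE h4, Fin.castLE_injective h4⟩ := by
      ext x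
      simp only [B, Finset.mem_filter, Finset.mem_univ, true_and, Finset.mem_map, Function.Embedding.coeFn_mk]
      exact ⟨fun h => ⟨⟨x.val, h⟩, rfl⟩, fun ⟨i, hi⟩ => hi ▸ i.2⟩
    rw [this, Finset.card_map]; rfl
  have hL : ∀ g : A, g ∈ L ↔ ∀ x ∈ B, (g : Perm (Fin n)) x = x := by
    intro g
    simp only [hLdef, Subgroup.mem_iInf, MulAction.mem_stabilizer_iff, B, Finset.mem_filter, Finset.mem_univ, true_and]
    constructor
    · intro h x hx; exact h ⟨x.val, hx⟩
    · intro h i; exact h _ (by simp [i.2])
  have hpick : ∀ T : Finset (Fin n), T.card < n → ∃ u, u ∉ T := by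
    intro T hT
    by_contra h
    push Not at h
    rw [Finset.eq_univ_of_forall h, Finset.card_univ, Fintype.card_fin] at hT
    exact lt_irrefl _ hT
  let tri : Fin n → Fin n → Fin n → Perm (Fin n) := fun x y z => Equiv.swap x y * Equiv.swap y z
  have htriA : ∀ {x y z : Fin n}, x ≠ y → y ≠ z → tri x y z ∈ A := by
    intro x y z hxy hyz
    rw [Equiv.Perm.mem_alternatingGroup, map_mul, Equiv.Perm.sign_swap hxy, Equiv.Perm.sign_swap hyz]; rfl
  have htrifix : ∀ {x y z w : Fin n}, w ≠ x → w ≠ y → w ≠ z → tri x y z w = w := by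
    intro x y z w h1 h2 h3
    simp [tri, Equiv.swap_apply_of_ne_of_ne, h1, h2, h3]
  have htrix : ∀ {x y z : Fin n}, x ≠ y → x ≠ z → tri x y z x = y := by
    intro x y z h1 h2
    simp [tri, Equiv.swap_apply_of_ne_of_ne, h1, h2]
  -- the centraliser of `L` consists of the permutations supported in `B`
  have hC : ∀ g : A, g ∈ Subgroup.centralizer (L : Set A) ↔ ∀ x ∉ B, (g : Perm (Fin n)) x = x := by
    intro g
    rw [Subgroup.mem_centralizer_iff]
    constructor
    · intro h x hx
      by_contra hne
      obtain ⟨u, hu⟩ := hpick (B ∪ {x, (g : Perm (Fin n)) x}) (by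
        have := Finset.card_union_le B {x, (g : Perm (Fin n)) x}
        have := Finset.card_le_two (a := x) (b := (g : Perm (Fin n)) x)
        omega)
      obtain ⟨v, hv⟩ := hpick (B ∪ {x, (g : Perm (Fin n)) x, u}) (by
        have := Finset.card_union_le B {x, (g : Perm (Fin n)) x, u}
        have := Finset.card_le_three (a := x) (b := (g : Perm (Fin n)) x) (c := u)
        omega)
      simp only [Finset.mem_union, Finset.mem_insert, Finset.mem_singleton, not_or] at hu hv
      have hxu : x ≠ u := Ne.symm hu.2.1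
      have hxv : x ≠ v := Ne.symm hv.2.1
      have huv : u ≠ v := Ne.symm hv.2.2.2
      have hmem : (⟨tri x u v, htriA hxu huv⟩ : A) ∈ L := by
        rw [hL]; intro b hb
        exact htrifix (fun e => hx (e ▸ hb)) (fun e => hu.1 (e ▸ hb)) (fun e => hv.1 (e ▸ hb))
      have := congrArg (fun p : A => (p : Perm (Fin n)) x) (h _ hmem)
      simp only [Subgroup.coe_mul, Perm.mul_apply] at this
      rw [htrix hxu hxv, htrifix hne (Ne.symm hu.2.2) (Ne.symm hv.2.2.1)] at this
      exact hxu ((g : Perm (Fin n)).injective this)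
    · intro h l hl
      have hl' := (hL l).mp hl
      apply Subtype.ext
      apply Equiv.ext
      intro x
      simp only [Subgroup.coe_mul, Perm.mul_apply]
      by_cases hx : x ∈ B
      · have hgx : (g : Perm (Fin n)) x ∈ B := by
          by_contra hh
          exact hh (by rw [(g : Perm (Fin n)).injective (h _ hh)]; exact hx)
        rw [hl' _ hgx, hl' x hx]
      · have hlx : (l : Perm (Fin n)) x ∉ B := fun hh => hx ((l : Perm (Fin n)).injective (hl' _ hh) ▸ hh)
        rw [h _ hlx, h x hx]
  have hmoveL : ∀ x, x ∉ B → ∃ l ∈ L, (l : Perm (Fin n)) x ≠ x := by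
    intro x hx
    obtain ⟨u, hu⟩ := hpick (B ∪ {x}) (by have := Finset.card_union_le B {x}; simp at this ⊢; omega)
    obtain ⟨v, hv⟩ := hpick (B ∪ {x, u}) (by
      have := Finset.card_union_le B {x, u}; have := Finset.card_le_two (a := x) (b := u); omega)
    simp only [Finset.mem_union, Finset.mem_insert, Finset.mem_singleton, not_or] at hu hv
    refine ⟨⟨tri x u v, htriA (Ne.symm hu.2) (Ne.symm hv.2.2)⟩, ?_, ?_⟩
    · rw [hL]; intro b hb
      exact htrifix (fun e => hx (e ▸ hb)) (fun e => hu.1 (e ▸ hb)) (fun e => hv.1 (e ▸ hb))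
    · show tri x u v x ≠ x
      rw [htrix (Ne.symm hu.2) (Ne.symm hv.2.1)]; exact hu.2
  have hmoveC : ∀ x, x ∈ B → ∃ c ∈ Subgroup.centralizer (L : Set A), (c : Perm (Fin n)) x ≠ x := by
    intro x hx
    obtain ⟨y, hy⟩ := Finset.card_pos.mp (show 0 < (B.erase x).card by rw [Finset.card_erase_of_mem hx, hBcard]; norm_num)
    obtain ⟨z, hz⟩ := Finset.card_pos.mp (show 0 < ((B.erase x).erase y).card by
      rw [Finset.card_erase_of_mem hy, Finset.card_erase_of_mem hx, hBcard]; norm_num)
    simp only [Finset.mem_erase] at hy hz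
    refine ⟨⟨tri x y z, htriA (Ne.symm hy.1) (Ne.symm hz.1)⟩, ?_, ?_⟩
    · rw [hC]; intro b hb
      exact htrifix (fun e => hb (e ▸ hx)) (fun e => hb (e ▸ hy.2)) (fun e => hb (e ▸ hz.2.2))
    · show tri x y z x ≠ x
      rw [htrix (Ne.symm hy.1) (Ne.symm hz.2.1)]; exact hy.1
  -- membership in the normalisers
  have hNL : ∀ g : A, g ∈ Subgroup.normalizer (L : Set A) ↔ ∀ x, x ∈ B ↔ (g : Perm (Fin n)) x ∈ B := by
    intro g
    rw [Subgroup.mem_normalizer_iff]
    constructor
    · intro h x
      constructor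
      · intro hx
        by_contra hgx
        obtain ⟨l, hl, hne⟩ := hmoveL _ hgx
        have hl' : g * (g⁻¹ * l * g) * g⁻¹ ∈ L := by simpa [mul_assoc] using hl
        have := (hL _).mp ((h _).mpr hl') x hx
        simp only [Subgroup.coe_mul, Subgroup.coe_inv, Perm.mul_apply] at this
        exact hne (by simpa using congrArg (g : Perm (Fin n)) this)
      · intro hgx
        by_contra hx
        obtain ⟨l, hl, hne⟩ := hmoveL _ hx
        have := (hL _).mp ((h _).mp hl) _ hgx
        simp only [Subgroup.coe_mul, Subgroup.coe_inv, Perm.mul_apply] at this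
        exact hne (by simpa using this)
    · intro h l
      simp only [hL, Subgroup.coe_mul, Subgroup.coe_inv, Perm.mul_apply]
      constructor
      · intro hl x hx
        have := hl ((g : Perm (Fin n))⁻¹ x) ((h _).mpr (by simpa using hx))
        rw [this]; simp
      · intro hl x hx
        have := hl ((g : Perm (Fin n)) x) ((h x).mp hx)
        simpa using this
  have hNC : ∀ g : A, g ∈ Subgroup.normalizer (Subgroup.centralizer (L : Set A) : Set A) ↔
      ∀ x, x ∈ B ↔ (g : Perm (Fin n)) x ∈ B := by
    intro g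
    rw [Subgroup.mem_normalizer_iff]
    constructor
    · intro h x
      constructor
      · intro hx
        by_contra hgx
        obtain ⟨c, hc, hne⟩ := hmoveC _ hx
        have := (hC _).mp ((h _).mp hc) _ hgx
        simp only [Subgroup.coe_mul, Subgroup.coe_inv, Perm.mul_apply] at this
        exact hne (by simpa using this)
      · intro hgx
        by_contra hx
        obtain ⟨c, hc, hne⟩ := hmoveC _ hgx
        have hc' : g * (g⁻¹ * c * g) * g⁻¹ ∈ Subgroup.centralizer (L : Set A) := by simpa [mul_assoc] using hc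
        have := (hC _).mp ((h _).mpr hc') x hx
        simp only [Subgroup.coe_mul, Subgroup.coe_inv, Perm.mul_apply] at this
        exact hne (by simpa using congrArg (g : Perm (Fin n)) this)
    · intro h l
      simp only [hC, Subgroup.coe_mul, Subgroup.coe_inv, Perm.mul_apply]
      constructor
      · intro hl x hx
        have := hl ((g : Perm (Fin n))⁻¹ x) (fun hh => hx (by simpa using (h _).mp hh))
        rw [this]; simp
      · intro hl x hx
        have := hl ((g : Perm (Fin n)) x) (fun hh => hx ((h x).mpr hh))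
        simpa using this
  have hfinimg : ∀ g : A, ¬ (∀ x, x ∈ B ↔ (g : Perm (Fin n)) x ∈ B) →
      ∃ x ∈ B.image (g : Perm (Fin n)), x ∉ B := by
    intro g hg
    by_contra h
    push Not at h
    apply hg
    have hsub : B.image (g : Perm (Fin n)) = B := Finset.eq_of_subset_of_card_le h
      (by rw [Finset.card_image_of_injective _ (Equiv.injective _)])
    intro x
    conv_rhs => rw [← hsub]
    rw [(Equiv.injective (g : Perm (Fin n))).mem_finset_image]
  refine ⟨?_, ⟨?_, ?_⟩, ?_, ?_⟩
  · -- quasisimple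
    let p : Fin n → Prop := fun x => x ∉ B
    have hcard : 5 ≤ Nat.card {x : Fin n // p x} := by
      rw [Nat.card_eq_fintype_card, Fintype.card_subtype_compl, Fintype.card_coe, Fintype.card_fin, hBcard]
      omega
    haveI := alternatingGroup.isSimpleGroup hcard
    let f : alternatingGroup {x : Fin n // p x} →* L :=
      { toFun := fun q => ⟨⟨Perm.ofSubtype (q : Perm {x : Fin n // p x}), by
          rw [Equiv.Perm.mem_alternatingGroup, Perm.sign_ofSubtype]; exact Equiv.Perm.mem_alternatingGroup.mp q.2⟩, by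
          rw [hL]; intro x hx
          exact Perm.ofSubtype_apply_of_not_mem _ (fun h => h hx)⟩
        map_one' := by apply Subtype.ext; apply Subtype.ext; simp
        map_mul' := fun q r => by apply Subtype.ext; apply Subtype.ext; simp }
    have hf : Function.Bijective f := by
      constructor
      · intro q r h
        exact Subtype.ext (Perm.ofSubtype_injective (congrArg Subtype.val (congrArg Subtype.val h)))
      · rintro ⟨⟨l, hlA⟩, hl⟩
        have hl' := (hL _).mp hl
        have hinv : ∀ x, p (l x) ↔ p x := fun x =>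
          ⟨fun h hx => h (by rw [hl' x hx]; exact hx), fun h hx => h (l.injective (hl' _ hx) ▸ hx)⟩
        refine ⟨⟨l.subtypePerm hinv, ?_⟩, Subtype.ext (Subtype.ext ?_)⟩
        · rw [Equiv.Perm.mem_alternatingGroup, Perm.sign_subtypePerm l hinv (fun x hx hx' => hx (hl' x hx'))]
          exact Equiv.Perm.mem_alternatingGroup.mp hlA
        · show Perm.ofSubtype (l.subtypePerm hinv) = l
          exact Perm.ofSubtype_subtypePerm _ (fun x hx hx' => hx (hl' x hx'))
    let e := MulEquiv.ofBijective f hf
    haveI : IsSimpleGroup L := e.symm.isSimpleGroup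
    obtain ⟨a, ha⟩ := hpick B (by omega)
    obtain ⟨b, hb⟩ := hpick (B ∪ {a}) (by have := Finset.card_union_le B {a}; simp at this ⊢; omega)
    obtain ⟨c, hc⟩ := hpick (B ∪ {a, b}) (by
      have := Finset.card_union_le B {a, b}; have := Finset.card_le_two (a := a) (b := b); omega)
    obtain ⟨d, hd⟩ := hpick (B ∪ {a, b, c}) (by
      have := Finset.card_union_le B {a, b, c}; have := Finset.card_le_three (a := a) (b := b) (c := c); omega)
    simp only [Finset.mem_union, Finset.mem_insert, Finset.mem_singleton, not_or] at hb hc hd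
    refine isQuasisimple_of_isSimple_nc ⟨⟨⟨tri a b c, htriA (Ne.symm hb.2) (Ne.symm hc.2.2)⟩, ?_⟩,
      ⟨⟨tri b c d, htriA (Ne.symm hc.2.2) (Ne.symm hd.2.2.2)⟩, ?_⟩, ?_⟩
    · rw [hL]; intro x hx
      exact htrifix (fun e => ha (e ▸ hx)) (fun e => hb.1 (e ▸ hx)) (fun e => hc.1 (e ▸ hx))
    · rw [hL]; intro x hx
      exact htrifix (fun e => hb.1 (e ▸ hx)) (fun e => hc.1 (e ▸ hx)) (fun e => hd.1 (e ▸ hx))
    · intro h
      have := congrArg (fun q : L => ((q : A) : Perm (Fin n)) a) h
      simp only [Subgroup.coe_mul, Perm.mul_apply] at this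
      rw [htrifix (Ne.symm hb.2) (Ne.symm hc.2.1) (Ne.symm hd.2.1), htrix (Ne.symm hb.2) (Ne.symm hc.2.1),
        htrix (Ne.symm hc.2.2) (Ne.symm hd.2.2.1)] at this
      exact hc.2.2 this.symm
  · -- even order
    obtain ⟨a, ha⟩ := Finset.card_pos.mp (show 0 < B.card by omega)
    obtain ⟨b, hb⟩ := Finset.card_pos.mp (show 0 < (B.erase a).card by rw [Finset.card_erase_of_mem ha]; omega)
    obtain ⟨c, hc⟩ := Finset.card_pos.mp (show 0 < ((B.erase a).erase b).card by
      rw [Finset.card_erase_of_mem hb, Finset.card_erase_of_mem ha]; omega)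
    obtain ⟨d, hd⟩ := Finset.card_pos.mp (show 0 < (((B.erase a).erase b).erase c).card by
      rw [Finset.card_erase_of_mem hc, Finset.card_erase_of_mem hb, Finset.card_erase_of_mem ha]; omega)
    simp only [Finset.mem_erase] at hb hc hd
    let t : Perm (Fin n) := Equiv.swap a b * Equiv.swap c d
    have htA : t ∈ A := by
      rw [Equiv.Perm.mem_alternatingGroup, map_mul, Perm.sign_swap (Ne.symm hb.1), Perm.sign_swap (Ne.symm hd.1)]; rfl
    have htC : (⟨t, htA⟩ : A) ∈ Subgroup.centralizer (L : Set A) := by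
      rw [hC]; intro x hx
      have h1 : x ≠ a := fun e => hx (e ▸ ha)
      have h2 : x ≠ b := fun e => hx (e ▸ hb.2)
      have h3 : x ≠ c := fun e => hx (e ▸ hc.2.2)
      have h4 : x ≠ d := fun e => hx (e ▸ hd.2.2.2)
      simp [t, Equiv.swap_apply_of_ne_of_ne, h1, h2, h3, h4]
    have ho : orderOf (⟨⟨t, htA⟩, htC⟩ : Subgroup.centralizer (L : Set A)) = 2 := by
      apply orderOf_eq_prime
      · apply Subtype.ext; apply Subtype.ext
        show t ^ 2 = 1
        have hcomm : Commute (Equiv.swap a b) (Equiv.swap c d) :=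
          (Perm.disjoint_iff_eq_or_eq.mpr fun x => by
            by_cases h1 : x = a <;> by_cases h2 : x = b
            · exact absurd (h2.symm.trans h1) hb.1
            · right; subst h1; exact Equiv.swap_apply_of_ne_of_ne (Ne.symm hc.2.1) (Ne.symm hd.2.2.1)
            · right; subst h2; exact Equiv.swap_apply_of_ne_of_ne (Ne.symm hc.1) (Ne.symm hd.2.1)
            · left; exact Equiv.swap_apply_of_ne_of_ne h1 h2).commute
        rw [pow_two]
        show Equiv.swap a b * Equiv.swap c d * (Equiv.swap a b * Equiv.swap c d) = 1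
        rw [hcomm.symm.mul_mul_mul_comm, Equiv.swap_mul_self, Equiv.swap_mul_self, one_mul]
      · intro h
        have := congrArg (fun q : Subgroup.centralizer (L : Set A) => ((q : A) : Perm (Fin n)) a) h
        simp [t, Equiv.swap_apply_of_ne_of_ne (Ne.symm hc.2.1) (Ne.symm hd.2.2.1)] at this
        exact hb.1 this
    rw [even_iff_two_dvd, ← ho]
    exact orderOf_dvd_natCard _
  · -- trivial intersection
    intro g hg
    rw [hNC] at hg
    obtain ⟨z, hz, hzB⟩ := hfinimg g hg
    obtain ⟨y, hy, rfl⟩ := Finset.mem_image.mp hz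
    rw [← Nat.not_even_iff_odd, even_iff_two_dvd]
    intro h2
    obtain ⟨k, hk⟩ := exists_prime_orderOf_dvd_card' 2 h2
    obtain ⟨hk1, c, hc, hck⟩ := k.2
    have hko : orderOf ((k : A) : Perm (Fin n)) = 2 := by
      rw [Subgroup.orderOf_coe, Subgroup.orderOf_coe, hk]
    have hfix1 := (hC _).mp hk1
    have hfix2 : ((k : A) : Perm (Fin n)) ((g : Perm (Fin n)) y) = (g : Perm (Fin n)) y := hfix1 _ hzB
    have hsupp : ((k : A) : Perm (Fin n)).support ⊆ B ∩ B.image (g : Perm (Fin n)) := by
      intro x hx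
      rw [Perm.mem_support] at hx
      rw [Finset.mem_inter]
      refine ⟨by_contra fun hh => hx (hfix1 x hh), by_contra fun hh => hx ?_⟩
      have hcx : (c : Perm (Fin n)) ((g : Perm (Fin n))⁻¹ x) = (g : Perm (Fin n))⁻¹ x :=
        (hC c).mp hc _ (fun hmem => hh (Finset.mem_image.mpr ⟨_, hmem, by simp⟩))
      rw [← hck]
      simp only [MulEquiv.coe_toMonoidHom, MulAut.conj_apply, Subgroup.coe_mul, Subgroup.coe_inv, Perm.mul_apply, hcx]
      simp
    have hcard3 : (B ∩ B.image (g : Perm (Fin n))).card ≤ 3 := by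
      have hss : B ∩ B.image (g : Perm (Fin n)) ⊂ B.image (g : Perm (Fin n)) :=
        Finset.ssubset_iff_subset_ne.mpr ⟨Finset.inter_subset_right, fun e => hzB (Finset.mem_inter.mp (e ▸ hz)).1⟩
      have := Finset.card_lt_card hss
      rw [Finset.card_image_of_injective _ (Equiv.injective _), hBcard] at this
      omega
    have h3 := le_trans (Finset.card_le_card hsupp) hcard3
    have hk0 : ((k : A) : Perm (Fin n)).support.card = 2 := by
      obtain ⟨m, hm⟩ := Perm.cycleType_prime_order (by rw [hko]; exact Nat.prime_two)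
      have := Perm.sum_cycleType ((k : A) : Perm (Fin n))
      rw [hm, hko, Multiset.sum_replicate, smul_eq_mul] at this
      omega
    have hsw := Perm.card_support_eq_two.mp hk0
    have := Equiv.Perm.mem_alternatingGroup.mp (k : A).2
    rw [hsw.sign_eq] at this
    exact absurd this (by decide)
  · -- no commuting distinct conjugate
    intro g hg hbot
    have hg' : ¬ (∀ x, x ∈ B ↔ (g : Perm (Fin n)) x ∈ B) := fun h =>
      hg (Subgroup.mem_normalizer_iff_map_conj_eq.mp ((hNL g).mpr h))
    obtain ⟨x, hxI, hxB⟩ := hfinimg g hg'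
    set B' := B.image (g : Perm (Fin n)) with hB'
    have hB'card : B'.card = 4 := by rw [hB', Finset.card_image_of_injective _ (Equiv.injective _), hBcard]
    have hxB' : x ∈ B' := hxI
    obtain ⟨u, hu⟩ := hpick (B ∪ B') (by have := Finset.card_union_le B B'; omega)
    obtain ⟨v, hv⟩ := hpick (B ∪ {x, u}) (by
      have := Finset.card_union_le B {x, u}; have := Finset.card_le_two (a := x) (b := u); omega)
    obtain ⟨z, hz⟩ := hpick (B' ∪ {u}) (by have := Finset.card_union_le B' {u}; simp at this ⊢; omega)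
    obtain ⟨w, hw⟩ := hpick (B' ∪ {u, z}) (by
      have := Finset.card_union_le B' {u, z}; have := Finset.card_le_two (a := u) (b := z); omega)
    simp only [Finset.mem_union, Finset.mem_insert, Finset.mem_singleton, not_or] at hu hv hz hw
    have hxu : x ≠ u := fun e => hu.2 (e ▸ hxB')
    have hxv : x ≠ v := Ne.symm hv.2.1
    have ha : (⟨tri x u v, htriA hxu (Ne.symm hv.2.2)⟩ : A) ∈ L := by
      rw [hL]; intro y hy
      exact htrifix (fun e => hxB (e ▸ hy)) (fun e => hu.1 (e ▸ hy)) (fun e => hv.1 (e ▸ hy))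
    have hb : (⟨tri u z w, htriA (Ne.symm hz.2) (Ne.symm hw.2.2)⟩ : A) ∈ L.map (MulAut.conj g).toMonoidHom := by
      refine ⟨g⁻¹ * ⟨tri u z w, htriA (Ne.symm hz.2) (Ne.symm hw.2.2)⟩ * g, ?_, by simp [mul_assoc]⟩
      rw [SetLike.mem_coe, hL]; intro y hy
      simp only [Subgroup.coe_mul, Subgroup.coe_inv, Perm.mul_apply]
      have hgy : (g : Perm (Fin n)) y ∈ B' := Finset.mem_image_of_mem _ hy
      rw [htrifix (x := u) (y := z) (z := w) (w := (g : Perm (Fin n)) y) (fun e => hu.2 (e ▸ hgy)) (fun e => hz.1 (e ▸ hgy)) (fun e => hw.1 (e ▸ hgy))]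
      simp
    have h1 := Subgroup.commutator_mem_commutator ha hb
    rw [hbot, Subgroup.mem_bot, commutatorElement_eq_one_iff_commute] at h1
    have h2 := congrArg (fun p : A => (p : Perm (Fin n)) x) h1.eq
    simp only [Subgroup.coe_mul, Perm.mul_apply] at h2
    rw [htrifix (x := u) (y := z) (z := w) (w := x) hxu (fun e => hz.1 (e ▸ hxB')) (fun e => hw.1 (e ▸ hxB')), htrix hxu hxv,
      htrix (Ne.symm hz.2) (Ne.symm hw.2.1)] at h2
    exact hz.2 h2.symm
  · ext g; rw [hNL, hNC]


/-- For n ≥ 9, the subgroup of the alternating group on Fin n fixing each of the points 0, 1, 2, 3 is a standard subgroup. -/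
theorem result (n : ℕ) (h4 : 4 ≤ n) (hn : 9 ≤ n) : Cfsg.IsStandardSubgroup (⨅ i : Fin 4, MulAction.stabilizer ↥(alternatingGroup (Fin n)) (Fin.castLE h4 i : Fin n)) := by
  exact standard_four_point_stabiliser n h4 hn

end Cfsg.Agent.S1323
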