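import Cfsg.Statements.S1339
import Cfsg.Agent.Balance.SelfCentralPCore
import Mathlib.LinearAlgebra.Matrix.Transvection

set_option autoImplicit false
open Cfsg

namespace Cfsg.Agent.S1339

open Matrix

variable {F : Type*} [Field F] {n : ℕ}

theorem eq_zero_or_one [Fintype F] [DecidableEq F] (hF : Fintype.card F = 2) (x : F) :
    x = 0 ∨ x = 1 := by
  by_contra h
  push_neg at h
  have : ({0, 1, x} : Finset F).card = 3 := by
    rw [Finset.card_insert_of_notMem (by simp [h.1.symm]), Finset.card_pair h.2.symm]
  have := ({0, 1, x} : Finset F).card_le_univ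
  omega

/-- Let F be a field with 2 elements, n ≥ 3, and t ∈ SL(n, F) a transvection (t = 1 + E_{ij}, i ≠ j). Then the generalized Fitting subgroup of C(t) is O_2(C(t)). -/
theorem result {F : Type*} [Field F] [Fintype F] [DecidableEq F] (hF : Fintype.card F = 2) (n : ℕ) (hn : 3 ≤ n) (i j : Fin n) (hij : i ≠ j) (t : Matrix.SpecialLinearGroup (Fin n) F) (ht : (t : Matrix (Fin n) (Fin n) F) = Matrix.transvection i j 1) : Cfsg.generalizedFittingSubgroup ↥(Subgroup.centralizer ({t} : Set (Matrix.SpecialLinearGroup (Fin n) F))) = Cfsg.pCore 2 ↥(Subgroup.centralizer ({t} : Set (Matrix.SpecialLinearGroup (Fin n) F))) := by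
  haveI : Fact (Nat.Prime 2) := ⟨Nat.prime_two⟩
  refine CfsgLib.Balance.generalizedFitting_eq_pCore_of_selfCentralizing 2 ?_
  set C := Subgroup.centralizer ({t} : Set (Matrix.SpecialLinearGroup (Fin n) F)) with hC
  -- shape of the elements of the centralizer
  have hcomm : ∀ g : C, ((g : SpecialLinearGroup (Fin n) F) : Matrix (Fin n) (Fin n) F) *
      single i j 1 = single i j 1 *
        ((g : SpecialLinearGroup (Fin n) F) : Matrix (Fin n) (Fin n) F) := by
    intro g
    have h := congrArg (fun a : SpecialLinearGroup (Fin n) F => (a : Matrix (Fin n) (Fin n) F))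
      (Subgroup.mem_centralizer_singleton_iff.mp g.2)
    replace h : ((g : SpecialLinearGroup (Fin n) F) : Matrix (Fin n) (Fin n) F) * (t : Matrix (Fin n) (Fin n) F) = (t : Matrix (Fin n) (Fin n) F) * ((g : SpecialLinearGroup (Fin n) F) : Matrix (Fin n) (Fin n) F) := h
    rw [ht, transvection, mul_add, add_mul, mul_one, one_mul] at h
    first | exact add_left_cancel h | exact (add_left_cancel h).symm
  let e : C → Matrix (Fin n) (Fin n) F := fun g =>
    ((g : SpecialLinearGroup (Fin n) F) : Matrix (Fin n) (Fin n) F)
  have hki : ∀ (g : C) (k : Fin n), k ≠ i → e g k i = 0 := by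
    intro g k hk
    have h : (e g * single i j 1 : Matrix (Fin n) (Fin n) F) k j = (single i j 1 * e g : Matrix (Fin n) (Fin n) F) k j :=
      congrFun (congrFun (hcomm g) k) j
    rw [mul_single_apply_same, single_mul_apply_of_ne _ _ _ _ _ hk, mul_one] at h
    exact h
  have hjl : ∀ (g : C) (l : Fin n), l ≠ j → e g j l = 0 := by
    intro g l hl
    have h : (e g * single i j 1 : Matrix (Fin n) (Fin n) F) i l = (single i j 1 * e g : Matrix (Fin n) (Fin n) F) i l :=
      congrFun (congrFun (hcomm g) i) l
    rw [mul_single_apply_of_ne _ _ _ _ _ hl, single_mul_apply_same, one_mul] at h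
    exact h.symm
  have hii : ∀ g : C, e g i i = 1 := by
    intro g
    refine (eq_zero_or_one hF _).resolve_left fun h => ?_
    have hd : (e g).det = 1 := (g : SpecialLinearGroup (Fin n) F).det_coe
    rw [det_eq_zero_of_column_eq_zero i fun k => ?_] at hd
    · exact zero_ne_one hd
    · by_cases hk : k = i
      · rw [hk]; exact h
      · exact hki g k hk
  have hjj : ∀ g : C, e g j j = 1 := by
    intro g
    have h : (e g * single i j 1 : Matrix (Fin n) (Fin n) F) i j = (single i j 1 * e g : Matrix (Fin n) (Fin n) F) i j :=
      congrFun (congrFun (hcomm g) i) j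
    rw [mul_single_apply_same, single_mul_apply_same, mul_one, one_mul] at h
    rw [← h]
    exact hii g
  -- the middle block
  let S := {k : Fin n // k ≠ i ∧ k ≠ j}
  let φ : C →* Matrix S S F :=
    { toFun := fun g => (e g).submatrix Subtype.val Subtype.val
      map_one' := submatrix_one (α := F) _ Subtype.val_injective
      map_mul' := fun g h => by
        have hsub : ∀ k l : S, (e g * e h) k l = ∑ m : S, e g k m * e h m l := by
          intro k l
          rw [mul_apply, ← Finset.sum_filter_of_ne (p := fun m : Fin n => m ≠ i ∧ m ≠ j)]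
          · exact Finset.sum_subtype _ (by simp) _
          · intro m _ hm
            refine ⟨?_, ?_⟩
            · rintro rfl
              exact hm (by rw [hki g k k.2.1, zero_mul])
            · rintro rfl
              exact hm (by rw [hjl h l l.2.2, mul_zero])
        ext k l
        show (e g * e h) k l = _
        rw [hsub k l, mul_apply]
        rfl }
  have hchar : ∀ x : F, x + x = 0 := by
    have h11 : (1 : F) + 1 = 0 := (eq_zero_or_one hF _).resolve_right fun h =>
      one_ne_zero (add_left_cancel (a := (1 : F)) (by rw [h, add_zero]))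
    intro x
    rcases eq_zero_or_one hF x with rfl | rfl
    · exact add_zero 0
    · exact h11
  have hφ : IsPGroup 2 ↥φ.ker := by
    intro g
    refine ⟨2, ?_⟩
    apply Subtype.ext
    apply Subtype.ext
    apply Subtype.ext
    set M := e (g : C) with hM
    set A := M - 1 with hA
    have hk : ∀ k l : Fin n, k ≠ i → l ≠ j → A k l = 0 := by
      intro k l hk hl
      simp only [A, M, Matrix.sub_apply]
      by_cases hkj : k = j
      · rw [hkj, hjl _ l hl, one_apply_ne (Ne.symm hl), sub_zero]
      · by_cases hli : l = i
        · rw [hli, hki _ k hk, one_apply_ne hk, sub_zero]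
        · have hg : e (g : C) k l = (1 : Matrix S S F) ⟨k, hk, hkj⟩ ⟨l, hli, hl⟩ :=
            congrFun (congrFun (MonoidHom.mem_ker.mp g.2 : φ (g : C) = 1) ⟨k, hk, hkj⟩) ⟨l, hli, hl⟩
          rw [hg, one_apply, one_apply]
          simp [Subtype.ext_iff]
    have hAii : A i i = 0 := by simp [A, M, hii]
    have hAjj : A j j = 0 := by simp [A, M, hjj]
    have hAj : ∀ l, A j l = 0 := by
      intro l
      by_cases hl : l = j
      · rw [hl]; exact hAjj
      · exact hk j l hij.symm hl
    have hAi : ∀ k, A k i = 0 := by
      intro k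
      by_cases hk' : k = i
      · rw [hk']; exact hAii
      · exact hk k i hk' hij
    have hA3 : A * A * A = 0 := by
      ext a d
      simp only [mul_apply, Finset.sum_mul, Matrix.zero_apply]
      refine Finset.sum_eq_zero fun c _ => Finset.sum_eq_zero fun b _ => ?_
      by_contra h
      have hb : b ≠ i := fun hb => h (by simp [hb, hAi])
      have hb' : b ≠ j := fun hb => h (by simp [hb, hAj])
      have hc : c ≠ j := fun hc => h (by simp [hc, hAj])
      exact h (by simp [hk b c hb hc])
    have hAA : A + A = 0 := by ext a b; exact hchar _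
    have hM1 : M = 1 + A := by simp [A]
    have h2 : M * M = 1 + A * A := by
      rw [hM1, mul_add, add_mul, add_mul, one_mul, one_mul, mul_one, ← add_assoc, add_assoc 1 A A,
        hAA, add_zero]
    have h22 : A * A + A * A = 0 := by ext a b; exact hchar _
    simp only [SubgroupClass.coe_pow, SpecialLinearGroup.coe_pow, OneMemClass.coe_one,
      SpecialLinearGroup.coe_one]
    show M ^ (2 ^ 2) = 1
    rw [show (2 : ℕ) ^ 2 = 2 * 2 from rfl, pow_mul, pow_two, pow_two, h2, mul_add, add_mul,
      add_mul, one_mul, one_mul, mul_one, ← add_assoc, add_assoc 1 (A * A) (A * A), h22, add_zero,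
      ← mul_assoc, hA3, Matrix.zero_mul, add_zero]
  have hle : φ.ker ≤ pCore 2 C := le_sSup ⟨inferInstance, hφ⟩
  refine le_trans (le_trans (Subgroup.centralizer_le hle) ?_) hle
  intro h hh
  rw [MonoidHom.mem_ker]
  ext k l
  show e h k l = (1 : Matrix S S F) k l
  -- the transvection at (i, k) lies in the kernel
  let x : SpecialLinearGroup (Fin n) F :=
    ⟨transvection i (k : Fin n) 1, det_transvection_of_ne i k k.2.1.symm 1⟩
  have hxC : x ∈ C := by
    rw [hC, Subgroup.mem_centralizer_singleton_iff]
    apply Subtype.ext
    show transvection i (k : Fin n) 1 * (t : Matrix (Fin n) (Fin n) F) =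
      (t : Matrix (Fin n) (Fin n) F) * transvection i (k : Fin n) 1
    rw [ht]
    simp only [transvection, mul_add, add_mul, mul_one, one_mul]
    rw [single_mul_single_of_ne (1 : F) i (k : Fin n) i k.2.1 1,
      single_mul_single_of_ne (1 : F) i j i hij.symm 1]
    abel
  have hx : (⟨x, hxC⟩ : C) ∈ φ.ker := by
    rw [MonoidHom.mem_ker]
    ext a b
    show transvection i (k : Fin n) 1 (a : Fin n) (b : Fin n) = (1 : Matrix S S F) a b
    simp [transvection, one_apply, single, a.2.1.symm]
    by_cases hab : a = b
    · simp [hab]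
    · simp [hab, Subtype.coe_injective.ne hab]
  have hc := congrArg e (Subgroup.mem_centralizer_iff.mp hh ⟨x, hxC⟩ hx)
  have hc' : transvection i (k : Fin n) 1 * e h = e h * transvection i (k : Fin n) 1 := hc
  simp only [transvection, mul_add, add_mul, mul_one, one_mul, add_right_inj] at hc'
  have := congrFun (congrFun hc' i) (l : Fin n)
  by_cases hkl : l = k
  · subst hkl
    rw [one_apply_eq]
    simpa [hii] using this
  · rw [one_apply_ne (Ne.symm hkl)]
    simpa [Subtype.coe_injective.ne hkl] using this

end Cfsg.Agent.S1339
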