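import Cfsg.Statements.S1340
import Cfsg.Agent.Classical.Linear.HyperplaneLevi
import Cfsg.Agent.Eq.Def_CaseTheorems


set_option autoImplicit false
open Cfsg

namespace Cfsg.Agent.S1340

open Matrix CfsgLib.Classical.Linear.HyperplaneLevi


/-- Let F be a finite field of odd order and n ≥ 3 with (n, |F|) ≠ (3, 3). Then GL(n, F) has a non-central involution t such that C(t) / O(C(t)) has a component. -/
theorem result {F : Type*} [Field F] [Fintype F] [DecidableEq F] (hF : Odd (Fintype.card F)) (n : ℕ) (hn : 3 ≤ n) (h33 : ¬ (n = 3 ∧ Fintype.card F = 3)) : ∃ t : Matrix.GeneralLinearGroup (Fin n) F, orderOf t = 2 ∧ t ∉ Subgroup.center (Matrix.GeneralLinearGroup (Fin n) F) ∧ Cfsg.HasComponent (↥(Subgroup.centralizer ({t} : Set (Matrix.GeneralLinearGroup (Fin n) F))) ⧸ Cfsg.oddCore ↥(Subgroup.centralizer ({t} : Set (Matrix.GeneralLinearGroup (Fin n) F)))) := by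
  obtain ⟨m, rfl⟩ : ∃ m, n = m + 1 := ⟨n - 1, by omega⟩
  have h2 : (-1 : F) ≠ 1 := by
    intro h
    have hc : ringChar F = 2 := by
      by_contra hne
      exact Ring.neg_one_ne_one_of_char_ne_two hne h
    have := FiniteField.even_card_of_char_two hc
    obtain ⟨a, ha⟩ := hF
    omega
  classical
  let d : Fin (m + 1) → F := Fin.snoc (fun _ => 1) (-1)
  have hd : ∀ i : Fin m, d i.castSucc ≠ d (Fin.last m) := fun i => by simpa [d] using h2.symm
  have hdd : Matrix.diagonal d * Matrix.diagonal d = 1 := by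
    rw [Matrix.diagonal_mul_diagonal, ← Matrix.diagonal_one]
    congr 1
    ext i
    refine Fin.lastCases ?_ (fun i => ?_) i <;> simp [d]
  let t : GL (Fin (m + 1)) F := ⟨Matrix.diagonal d, Matrix.diagonal d, hdd, hdd⟩
  have ht1 : orderOf t = 2 := by
    refine orderOf_eq_prime (by rw [sq]; exact Units.ext hdd) fun he => h2 ?_
    simpa [t, d] using congrArg (fun X : GL (Fin (m + 1)) F => X.1 (Fin.last m) (Fin.last m)) he
  have htc : t ∉ Subgroup.center (GL (Fin (m + 1)) F) := by
    intro hc
    let i0 : Fin m := ⟨0, by omega⟩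
    have hne : Fin.last m ≠ i0.castSucc := (Fin.castSucc_lt_last i0).ne'
    let T : SpecialLinearGroup (Fin (m + 1)) F :=
      ⟨transvection (Fin.last m) i0.castSucc 1, det_transvection_of_ne _ _ hne 1⟩
    have h := congrArg Units.val (Subgroup.mem_center_iff.mp hc (SpecialLinearGroup.toGL T))
    change transvection (Fin.last m) i0.castSucc 1 * Matrix.diagonal d = Matrix.diagonal d * transvection (Fin.last m) i0.castSucc 1 at h
    have h' := congrFun (congrFun h (Fin.last m)) i0.castSucc
    simp [transvection, d, Matrix.mul_diagonal, Matrix.diagonal_mul, hne, h2.symm] at h'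
  refine ⟨t, ht1, htc, ?_⟩
  set C := Subgroup.centralizer ({t} : Set (GL (Fin (m + 1)) F))
  have hblock : ∀ X : ↥C, ∃ A c, (X : GL (Fin (m + 1)) F).1 = blockMat A c := fun X =>
    ⟨_, _, eq_blockMat_of_commute hd (congrArg Units.val (Subgroup.mem_centralizer_singleton_iff.mp X.2))⟩
  let corner : ↥C →* F :=
    { toFun := fun X => (X : GL (Fin (m + 1)) F).1 (Fin.last m) (Fin.last m)
      map_one' := by simp
      map_mul' := fun X Y => by
        obtain ⟨A, c, hA⟩ := hblock X
        obtain ⟨B, e, hB⟩ := hblock Y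
        simp [hA, hB, blockMat_mul] }
  let dt : ↥C →* F :=
    { toFun := fun X => (X : GL (Fin (m + 1)) F).1.det
      map_one' := by simp
      map_mul' := fun X Y => by simp [Matrix.det_mul] }
  let ι : SpecialLinearGroup (Fin m) F →* ↥C :=
    ((SpecialLinearGroup.toGL).comp emb).codRestrict C fun A => by
      refine Subgroup.mem_centralizer_singleton_iff.mpr (Units.ext ?_)
      show blockMat A.1 1 * Matrix.diagonal d = Matrix.diagonal d * blockMat A.1 1
      rw [← blockMat_diagonal, blockMat_mul, blockMat_mul, Matrix.diagonal_one, mul_one, one_mul, one_mul, mul_one]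
  have hι : Function.Injective ι := fun A B h =>
    emb_injective (Subtype.ext (congrArg (fun X : ↥C => (X : GL (Fin (m + 1)) F).1) h))
  have hrange : ι.range = (corner.prod dt).ker := by
    refine le_antisymm ?_ fun X hX => ?_
    · rintro _ ⟨A, rfl⟩
      refine MonoidHom.mem_ker.mpr (Prod.ext ?_ ?_)
      · exact blockMat_ll A.1 1
      · show (blockMat A.1 1).det = 1
        rw [det_blockMat, A.2, one_mul]
    · obtain ⟨A, c, hA⟩ := hblock X
      have h0 := MonoidHom.mem_ker.mp hX
      have hc : c = 1 := by simpa [corner, hA] using congrArg Prod.fst h0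
      subst hc
      have hA1 : A.det = 1 := by simpa [dt, hA, det_blockMat] using congrArg Prod.snd h0
      exact ⟨⟨A, hA1⟩, Subtype.ext (Units.ext hA.symm)⟩
  haveI : Fact (Nat.Prime 2) := ⟨Nat.prime_two⟩
  have hq : m = 2 → 4 ≤ Nat.card F := by
    rintro rfl
    rw [Nat.card_eq_fintype_card]
    have h3 : Fintype.card F ≠ 3 := fun h => h33 ⟨rfl, h⟩
    have h1 : 1 < Fintype.card F := Fintype.one_lt_card
    obtain ⟨a, ha⟩ := hF
    omega
  have hqs := isQuasisimple_sl (F := F) (by omega) hq
  set O := Cfsg.oddCore ↥C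
  haveI : O.Normal := Cfsg.pPrimeCore_normal 2 _
  have hKn : (ι.range.map (QuotientGroup.mk' O)).Normal := by
    rw [hrange]
    exact (MonoidHom.normal_ker _).map _ (QuotientGroup.mk'_surjective _)
  refine ⟨ι.range.map (QuotientGroup.mk' O), hKn.isSubnormal, ?_⟩
  haveI : Nontrivial ↥(ι.range.map (QuotientGroup.mk' O)) := by
    rw [Subgroup.nontrivial_iff_ne_bot, ne_eq, Subgroup.map_eq_bot_iff, QuotientGroup.ker_mk']
    intro hle
    have h3 : Nat.card ↥ι.range ∣ Nat.card ↥O := Subgroup.card_dvd_of_le hle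
    rw [Nat.card_congr (MonoidHom.ofInjective hι).toEquiv.symm] at h3
    exact Nat.not_even_iff_odd.mpr
      (Nat.coprime_two_right.mp (CfsgLib.Constrained.pPrimeCore_coprime (p := 2) (G := ↥C)))
      (even_iff_two_dvd.mpr ((even_iff_two_dvd.mp (even_card_sl h2 (by omega : 2 ≤ m))).trans h3))
  exact CfsgLib.Cores.isQuasisimple_of_surjective hqs
    (((QuotientGroup.mk' O).subgroupMap ι.range).comp ι.rangeRestrict)
    ((MonoidHom.subgroupMap_surjective _ _).comp ι.rangeRestrict_surjective)

end Cfsg.Agent.S1340
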