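import Cfsg.Statements.S1628
import Cfsg.Agent.RuLattice.Root

set_option autoImplicit false
open Cfsg

namespace Cfsg.Agent.S1628

/-- The Conway–Wales lattice as stored is even with no vectors of true norm 2: stored norms are multiples of 8, never equal to 8, and the minimum over nonzero vectors is 16. -/
theorem result : (∀ x ∈ Cfsg.Spor.ruLattice, (8 : ℤ) ∣ Cfsg.Spor.ruNorm x) ∧ (∀ x ∈ Cfsg.Spor.ruLattice, Cfsg.Spor.ruNorm x ≠ 8) ∧ (∀ x ∈ Cfsg.Spor.ruLattice, x ≠ 0 → 16 ≤ Cfsg.Spor.ruNorm x) ∧ ∃ x ∈ Cfsg.Spor.ruLattice, Cfsg.Spor.ruNorm x = 16 := by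
  have h8 : ∀ x ∈ Cfsg.Spor.ruLattice, (8 : ℤ) ∣ Cfsg.Spor.ruNorm x := fun x hx => by
    rw [CfsgLib.RuLattice.ruNorm_eq]
    exact (CfsgLib.RuLattice.span_norm (CfsgLib.RuLattice.flat_mem hx)).1
  have hne : ∀ x ∈ Cfsg.Spor.ruLattice, Cfsg.Spor.ruNorm x ≠ 8 := fun x hx => by
    rw [CfsgLib.RuLattice.ruNorm_eq]
    exact CfsgLib.RuLattice.norm_ne_eight (CfsgLib.RuLattice.flat_mem hx)
  refine ⟨h8, hne, fun x hx hx0 => ?_, ?_⟩
  · have h0 : ∀ p, 0 ≤ (x p).norm := fun p => GaussianInt.norm_nonneg _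
    have hpos : Cfsg.Spor.ruNorm x ≠ 0 := fun h => hx0 (funext fun p => by
      have := (Finset.sum_eq_zero_iff_of_nonneg fun q _ => h0 q).1 h p (Finset.mem_univ p)
      exact GaussianInt.norm_eq_zero.1 this)
    have hnn : 0 ≤ Cfsg.Spor.ruNorm x := Finset.sum_nonneg fun p _ => h0 p
    have := h8 x hx
    have := hne x hx
    omega
  · refine ⟨Cfsg.Spor.ruTable.head (by simp [Cfsg.Spor.ruTable]), ?_, by decide +kernel⟩
    rw [Cfsg.Spor.ruLattice, AddSubgroup.mem_sInf]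
    exact fun L hL => hL.1 _ (List.head_mem _)

end Cfsg.Agent.S1628
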