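import Cfsg.Statements.S1644
import Cfsg.Agent.S0448
import Cfsg.Agent.JankoUnique.Main
import Cfsg.Agent.JankoOne.Centralizer

set_option autoImplicit false
open Cfsg

namespace Cfsg.Agent.S1644

/-- The first Janko group recognised by an involution centraliser, at the level of isomorphism: a finite simple group with abelian Sylow 2-subgroups of order 8 and an involution whose centraliser is isomorphic to Z/2 × A₅ is isomorphic to the subgroup of GL(7, 11) generated by the two explicit Janko matrices. -/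
theorem result {G : Type*} [Group G] [Finite G] [IsSimpleGroup G] (S : Sylow 2 G) (hS : IsMulCommutative (S : Subgroup G)) (h8 : Nat.card S = 8) (t : G) (ht : orderOf t = 2) (e : (Subgroup.centralizer ({t} : Set G)) ≃* Multiplicative (ZMod 2) × alternatingGroup (Fin 5)) : Cfsg.Spor.IsoJ1 G := by
  have h2c : Cfsg.IsTwoCentralInvolution t := by
    haveI : Fact (Nat.Prime 2) := ⟨Nat.prime_two⟩
    refine ⟨ht, ?_⟩
    obtain ⟨P, hP⟩ := (IsPGroup.of_card (p := 2) (n := 1) (show Nat.card (Subgroup.zpowers t) = 2 ^ 1 by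
      rw [Nat.card_zpowers, ht, pow_one])).exists_le_sylow
    refine ⟨P, hP (Subgroup.mem_zpowers t), fun x hx => ?_⟩
    haveI := hS
    haveI : IsMulCommutative (P : Subgroup G) :=
      ⟨⟨fun a b => (Sylow.equiv P S).injective (by
        rw [map_mul, map_mul]; exact hS.is_comm.comm _ _)⟩⟩
    exact congrArg Subtype.val
      (IsMulCommutative.is_comm.comm (⟨x, hx⟩ : (P : Subgroup G)) ⟨t, hP (Subgroup.mem_zpowers t)⟩)
  obtain ⟨-, hG⟩ := Cfsg.Agent.S0448.result t h2c e
  obtain ⟨MG, -⟩ := CfsgLib.JankoUnique.cent_of_equiv ht e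
  haveI := CfsgLib.JankoOne.isSimpleGroup_J1
  obtain ⟨MH, -⟩ := CfsgLib.JankoUnique.cent_of_equiv CfsgLib.JankoOne.orderOf_theInvolution
    CfsgLib.JankoOne.centralizerEquiv
  exact CfsgLib.JankoUnique.iso_of_card hG CfsgLib.JankoOne.card_J1 MG MH

end Cfsg.Agent.S1644
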