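import Cfsg.Statements.S1893
import Cfsg.Agent.Constrained.PiCore
import Cfsg.Agent.CharP.PCore
import Cfsg.Agent.ClassSizes.NotDvdIndex
import Cfsg.Agent.ClassSizes.TwoSizes
import Cfsg.Agent.GlaubermanZJ.PStable
import Cfsg.Agent.GlaubermanZJ.QuadStable
import Cfsg.Agent.FPFNilpotent.Basic
import Cfsg.Agent.Eq.Def_OddOrderLocal

set_option autoImplicit false
open Cfsg

namespace Cfsg.Agent.S1893

section Aux

open scoped commutatorElement

variable {S : Type*} [Group S] [Finite S]

/-- A quadratically acting `q`-element, `q ≥ 5`, of a solvable group lies in the Fitting subgroup. -/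
theorem mem_fitting_of_quadratic [Group.IsSolvable S] {q : ℕ} [hq : Fact q.Prime] (hq5 : 5 ≤ q) {x : S}
    (hx : ∃ k : ℕ, x ^ q ^ k = 1)
    (hquad : ⁅⁅fittingSubgroup S, Subgroup.zpowers x⁆, Subgroup.zpowers x⁆ = ⊥) :
    x ∈ fittingSubgroup S := by
  classical
  set F0 := fittingSubgroup S with hF0
  have hFn : Group.IsNilpotent F0 := CfsgLib.Constrained.isNilpotent_fitting
  obtain ⟨Q0, T0, hT0n, hT0⟩ := CfsgLib.FPFNilpotent.hasNormalPComplement_of_isNilpotent (p := q) hFn
  haveI := hT0n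
  obtain ⟨j, hj⟩ := Q0.isPGroup'.exists_card_eq
  have hT0cop : (Nat.card T0).Coprime q := by
    rw [← hT0.index_eq_card]
    exact (hq.out.coprime_iff_not_dvd.2 Q0.not_dvd_index).symm
  have hT0mem : ∀ f : F0, f ∈ T0 ↔ (orderOf f).Coprime q :=
    CfsgLib.Transfer.mem_iff_coprime_of_pPower_index hT0cop (k := j) (by rw [hT0.symm.index_eq_card, hj])
  set T := T0.map F0.subtype with hT
  have hTmem : ∀ f : S, f ∈ T ↔ f ∈ F0 ∧ (orderOf f).Coprime q := by
    intro f
    constructor
    · rintro ⟨g, hg, rfl⟩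
      exact ⟨g.2, by rw [Subgroup.coe_subtype, Subgroup.orderOf_coe]; exact (hT0mem g).1 hg⟩
    · rintro ⟨h1, h2⟩
      exact ⟨⟨f, h1⟩, (hT0mem _).2 (by rwa [Subgroup.orderOf_mk]), rfl⟩
  have hTn : T.Normal := by
    refine ⟨fun f hf g => (hTmem _).2 ⟨?_, ?_⟩⟩
    · exact CfsgLib.Constrained.instNormalFitting.conj_mem f ((hTmem f).1 hf).1 g
    · rw [← MulAut.conj_apply, MulEquiv.orderOf_eq]; exact ((hTmem f).1 hf).2
  have hTcop : (Nat.card T).Coprime q := by
    rwa [hT, Subgroup.card_map_of_injective F0.subtype_injective]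
  obtain ⟨k, hk⟩ := hx
  -- `x` centralizes the `q'`-part of the Fitting subgroup
  set K := Subgroup.centralizer (T : Set S) with hK
  haveI := hTn
  haveI hKn : K.Normal := inferInstance
  have hxK : x ∈ K := by
    have h1 : x ^ Nat.card T ∈ K := by
      refine CfsgLib.GlaubermanZJ.pow_card_mem_centralizer_of_quadratic
        (CfsgLib.GlaubermanZJ.mem_normalizer_top T x) ?_
      rw [eq_bot_iff, ← hquad]
      exact Subgroup.commutator_mono
        (Subgroup.commutator_mono (Subgroup.map_subtype_le T0) le_rfl) le_rfl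
    obtain ⟨n, hn⟩ := exists_pow_eq_self_of_coprime (x := x) (n := Nat.card T)
      ((hTcop.pow_right k).of_dvd_right (orderOf_dvd_of_pow_eq_one hk))
    rw [← hn]
    exact pow_mem h1 n
  -- stability on the `q`-part
  set Q := pCore q S with hQ
  have hQp : IsPGroup q Q := CfsgLib.Constrained.isPGroup_pCore
  have hstab := CfsgLib.GlaubermanZJ.isPStableOn_of_isPSolvable_five_le (p := q) hq5
    CfsgLib.Constrained.isPSolvable_of_isSolvable Q hQp
  have hxD := hstab x (by
    rw [eq_bot_iff, ← hquad]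
    exact Subgroup.commutator_mono
      (Subgroup.commutator_mono CfsgLib.Constrained.pCore_le_fitting le_rfl) le_rfl)
  set π := QuotientGroup.mk' (Subgroup.centralizer (Q : Set S)) with hπ
  set M := (pCore q (S ⧸ Subgroup.centralizer (Q : Set S))).comap π ⊓ K with hM
  have hMn : M.Normal := inferInstance
  -- elements of order prime to `q` are central in `M`
  have hcen : ∀ y : M, (orderOf y).Coprime q → y ∈ Subgroup.center M := by
    intro y hy
    have hy1 : π (y : S) = 1 := by
      rw [← orderOf_eq_one_iff]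
      have h1 : π (y : S) ∈ pCore q (S ⧸ Subgroup.centralizer (Q : Set S)) := y.2.1
      obtain ⟨i, hi⟩ := CfsgLib.Constrained.isPGroup_pCore (⟨_, h1⟩ : pCore q (S ⧸ _))
      refine CfsgLib.Transfer.eq_one_of_coprime_of_dvd_pow (p := q) (k := i) ?_
        (orderOf_dvd_of_pow_eq_one (congrArg Subtype.val hi))
      exact hy.coprime_dvd_left ((orderOf_map_dvd π (y : S)).trans (Subgroup.orderOf_coe y).dvd)
    have hyQ : (y : S) ∈ Subgroup.centralizer (Q : Set S) := (QuotientGroup.eq_one_iff _).1 hy1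
    have hle : F0 ≤ Subgroup.centralizer ({(y : S)} : Set S) := by
      refine CfsgLib.TwoSizes.le_of_forall_pElt fun r hr f hf hfr => ?_
      rw [Subgroup.mem_centralizer_singleton_iff]
      obtain ⟨i, hi⟩ := hfr
      by_cases hrq : r = q
      · subst hrq
        have hz : IsPGroup r (Subgroup.zpowers (⟨f, hf⟩ : F0)) := by
          obtain ⟨l, -, hl⟩ := (Nat.dvd_prime_pow hr).1 (orderOf_dvd_of_pow_eq_one hi)
          exact IsPGroup.of_card (n := l) (by rw [Nat.card_zpowers, Subgroup.orderOf_mk, hl])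
        obtain ⟨R, hR⟩ := hz.exists_le_sylow
        exact Subgroup.mem_centralizer_iff.1 hyQ f (CfsgLib.Constrained.map_sylow_le_pCore
          CfsgLib.Constrained.instNormalFitting hFn R ⟨_, hR (Subgroup.mem_zpowers _), rfl⟩)
      · refine Subgroup.mem_centralizer_iff.1 y.2.2 f ((hTmem f).2 ⟨hf, ?_⟩)
        exact (((Nat.coprime_primes hr hq.out).2 hrq).pow_left i).coprime_dvd_left
          (orderOf_dvd_of_pow_eq_one hi)
    have hyF : (y : S) ∈ F0 := CfsgLib.Constrained.centralizer_fitting_le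
      (Subgroup.mem_centralizer_iff.2 fun f hf => Subgroup.mem_centralizer_singleton_iff.1 (hle hf))
    refine Subgroup.mem_center_iff.2 fun m => Subtype.ext ?_
    exact (Subgroup.mem_centralizer_iff.1 m.2.2 (y : S)
      ((hTmem _).2 ⟨hyF, by rwa [Subgroup.orderOf_coe]⟩)).symm
  have hMnil : Group.IsNilpotent M := by
    have hquot : IsPGroup q (M ⧸ Subgroup.center M) := by
      rintro ⟨m⟩
      obtain ⟨a, b, -, -, hab, ⟨i, hi⟩, hb⟩ := CfsgLib.Transfer.exists_pPart_decomposition (p := q) m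
      refine ⟨i, ?_⟩
      show (QuotientGroup.mk' (Subgroup.center M) m) ^ q ^ i = 1
      rw [hab, map_mul, show QuotientGroup.mk' (Subgroup.center M) b = 1 from
        (QuotientGroup.eq_one_iff b).2 (hcen b hb), mul_one, ← map_pow,
        orderOf_dvd_iff_pow_eq_one.1 hi, map_one]
    haveI := hquot.isNilpotent
    exact Subgroup.isNilpotent_of_ker_le_center (QuotientGroup.mk' (Subgroup.center M))
      (QuotientGroup.ker_mk' (Subgroup.center M)).le
  exact CfsgLib.Constrained.le_fitting hMn hMnil ⟨hxD, hxK⟩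

/-- The case `O_{π'}(S) = 1`. -/
theorem centralizer_le_of_core_eq_bot [Group.IsSolvable S] {π : Set ℕ} (h2 : 2 ∉ π) (h3 : 3 ∉ π)
    (hO : piCore {q : ℕ | q.Prime ∧ q ∉ π} S = ⊥) {A F : Subgroup S} (hF : fittingSubgroup S ≤ F)
    (hA : IsSCN F A) : Subgroup.centralizer (A : Set S) ≤ A := by
  obtain ⟨hAF, hFN, hFC⟩ := hA
  refine CfsgLib.TwoSizes.le_of_forall_pElt fun q hq x hxC hxq => ?_
  haveI : Fact q.Prime := ⟨hq⟩
  have hcomm : ⁅fittingSubgroup S, Subgroup.zpowers x⁆ ≤ A := by
    rw [Subgroup.commutator_le]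
    intro f hf c hc
    rw [← hFC]
    refine ⟨hF ?_, ?_⟩
    · exact Subgroup.commutator_le_left (fittingSubgroup S) ⊤
        (Subgroup.commutator_mem_commutator hf (Subgroup.mem_top c))
    · have hcC : c ∈ Subgroup.centralizer (A : Set S) := Subgroup.zpowers_le.2 hxC hc
      have hfc : f * c * f⁻¹ ∈ Subgroup.centralizer (A : Set S) := by
        rw [Subgroup.mem_centralizer_iff]
        intro a ha
        have ha' : f⁻¹ * a * f ∈ A := by
          have := (Subgroup.mem_normalizer_iff.1 (hFN (hF hf)) (f⁻¹ * a * f)).2 (by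
            rw [show f * (f⁻¹ * a * f) * f⁻¹ = a by group]; exact ha)
          exact this
        have h := Subgroup.mem_centralizer_iff.1 hcC _ ha'
        calc a * (f * c * f⁻¹) = f * (f⁻¹ * a * f * c) * f⁻¹ := by group
          _ = f * (c * (f⁻¹ * a * f)) * f⁻¹ := by rw [h]
          _ = f * c * f⁻¹ * a := by group
      exact Subgroup.mul_mem _ hfc (Subgroup.inv_mem _ hcC)
  have hquad : ⁅⁅fittingSubgroup S, Subgroup.zpowers x⁆, Subgroup.zpowers x⁆ = ⊥ := by
    rw [Subgroup.commutator_eq_bot_iff_le_centralizer]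
    intro a ha
    rw [Subgroup.mem_centralizer_iff]
    rintro _ ⟨i, rfl⟩
    exact (Subgroup.mem_centralizer_iff.1 (zpow_mem hxC i) a (hcomm ha)).symm
  have hxF : x ∈ fittingSubgroup S := by
    by_cases hqπ : q ∈ π
    · have hq5 : 5 ≤ q := by
        have := hq.two_le
        rcases lt_or_ge q 5 with h | h
        · interval_cases q <;> first | exact absurd hqπ h2 | exact absurd hqπ h3 | exact absurd hq (by decide)
        · exact h
      exact mem_fitting_of_quadratic hq5 hxq hquad
    · have h1 := CfsgLib.GlaubermanZJ.pow_card_mem_centralizer_of_quadratic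
        (CfsgLib.GlaubermanZJ.mem_normalizer_top (fittingSubgroup S) x) hquad
      obtain ⟨k, hk⟩ := hxq
      have hpi := CfsgLib.Constrained.isPiCard_mono CfsgLib.Constrained.piCore_isPiCard
        (Subgroup.card_dvd_of_le (CfsgLib.Constrained.fitting_le_piCore (π := π) hO))
      have hcop : (Nat.card (fittingSubgroup S)).Coprime (orderOf x) := by
        refine Nat.Coprime.of_dvd_right (orderOf_dvd_of_pow_eq_one hk) (Nat.Coprime.pow_right k ?_)
        exact (hq.coprime_iff_not_dvd.2 fun h => hqπ (hpi q hq h)).symm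
      obtain ⟨n, hn⟩ := exists_pow_eq_self_of_coprime (x := x) hcop
      exact CfsgLib.Constrained.centralizer_fitting_le (hn ▸ pow_mem h1 n)
  rw [← hFC]
  exact ⟨hF hxF, hxC⟩

end Aux

/-- Let S be a finite solvable group, π a set of primes containing neither 2 nor 3, H a Hall π-subgroup of S, and A a self-centralizing normal subgroup of the Fitting subgroup F(H). Then C_S(A) = A × D for a normal subgroup D of C_S(A) whose order has no prime divisor in π. -/
theorem result {S : Type*} [Group S] [Finite S] [Group.IsSolvable S]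
    (π : Set ℕ) (h2 : 2 ∉ π) (h3 : 3 ∉ π) (H : Subgroup S) (hH : Cfsg.IsPiHall π H)
    (A : Subgroup S) (hA : Cfsg.IsSCN ((Cfsg.fittingSubgroup H).map H.subtype) A) :
    ∃ D : Subgroup S, D ≤ Subgroup.centralizer (A : Set S) ∧
      (∀ c ∈ Subgroup.centralizer (A : Set S), ∀ d ∈ D, c * d * c⁻¹ ∈ D) ∧
      A ⊓ D = ⊥ ∧ A ⊔ D = Subgroup.centralizer (A : Set S) ∧
      ∀ q : ℕ, q.Prime → q ∣ Nat.card D → q ∉ π := by
  classical
  set R := piCore {q : ℕ | q.Prime ∧ q ∉ π} S with hR
  set F := (fittingSubgroup H).map H.subtype with hFdef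
  set f := QuotientGroup.mk' R with hf
  obtain ⟨hAF, hFN, hFC⟩ := hA
  have hFH : F ≤ H := Subgroup.map_subtype_le _
  have hHR : ∀ h ∈ H, h ∈ R → h = 1 := by
    intro h hh hr
    rw [← orderOf_eq_one_iff]
    by_contra hne
    obtain ⟨q, hq, hqd⟩ := Nat.exists_prime_and_dvd hne
    exact (CfsgLib.Constrained.piCore_isPiCard q hq (hqd.trans (Subgroup.orderOf_dvd_natCard R hr))).2
      (hH.1 q hq (hqd.trans (Subgroup.orderOf_dvd_natCard H hh)))
  -- the Fitting subgroup of the quotient lies in the image of that of `H`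
  have hle : fittingSubgroup (S ⧸ R) ≤ F.map f := by
    have h1 : fittingSubgroup (S ⧸ R) ≤ H.map f := by
      rw [CfsgLib.Constrained.fitting_eq_iSup_pCore]
      refine iSup₂_le fun q hq => ?_
      haveI : Fact q.Prime := ⟨hq⟩
      by_cases hqπ : q ∈ π
      · obtain ⟨Q, hQ⟩ := CfsgLib.ClassSizes.exists_sylow_le_of_not_dvd_index (p := q) (H.map f)
          (fun h => hH.2 q hq hqπ (h.trans (Subgroup.index_map_dvd _ (QuotientGroup.mk'_surjective R))))
        exact (CfsgLib.CharP.pCore_le_sylow Q).trans hQ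
      · refine le_trans (CfsgLib.Constrained.le_piCore inferInstance (π := {q : ℕ | q.Prime ∧ q ∉ π}) ?_)
          (CfsgLib.Constrained.piCore_quotient_piCore.le.trans bot_le)
        intro r hr hd
        obtain ⟨n, hn⟩ := IsPGroup.iff_card.mp (CfsgLib.Constrained.isPGroup_pCore (p := q) (G := S ⧸ R))
        exact ⟨hr, (Nat.prime_dvd_prime_iff_eq hr hq).mp (hr.dvd_of_dvd_pow (hn ▸ hd)) ▸ hqπ⟩
    intro x hx
    obtain ⟨h, hh, rfl⟩ := h1 hx
    refine ⟨h, ?_, rfl⟩
    let φ : H →* S ⧸ R := f.comp H.subtype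
    have hφ : Function.Injective φ := (injective_iff_map_eq_one φ).2 fun y hy =>
      Subtype.ext (hHR y y.2 ((QuotientGroup.eq_one_iff _).1 hy))
    have hN : (fittingSubgroup (S ⧸ R)).comap φ ≤ fittingSubgroup H := by
      refine CfsgLib.Constrained.le_fitting (Subgroup.Normal.comap inferInstance φ) ?_
      haveI : Group.IsNilpotent (fittingSubgroup (S ⧸ R)) := CfsgLib.Constrained.isNilpotent_fitting
      refine Subgroup.isNilpotent_of_ker_le_center (φ.subgroupComap (fittingSubgroup (S ⧸ R))) ?_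
      intro y hy
      have : y = 1 := Subtype.ext (hφ (by
        rw [Subgroup.coe_one, map_one]; exact congrArg Subtype.val (MonoidHom.mem_ker.1 hy)))
      rw [this]; exact one_mem _
    exact ⟨⟨h, hh⟩, hN hx, rfl⟩
  have hSCN : IsSCN (F.map f) (A.map f) := by
    refine ⟨Subgroup.map_mono hAF, (Subgroup.map_mono hFN).trans (Subgroup.le_normalizer_map f), ?_⟩
    refine le_antisymm ?_ (le_inf (Subgroup.map_mono hAF) ?_)
    · rintro _ ⟨⟨x, hx, rfl⟩, hxc⟩
      refine ⟨x, hFC.le ⟨hx, ?_⟩, rfl⟩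
      show x ∈ Subgroup.centralizer (A : Set S)
      rw [Subgroup.mem_centralizer_iff]
      intro a ha
      have h1 := Subgroup.mem_centralizer_iff.1 hxc (f a) ⟨a, ha, rfl⟩
      rw [← map_mul, ← map_mul] at h1
      have h2 := hHR _ (H.mul_mem (H.inv_mem (H.mul_mem (hFH (hAF ha)) (hFH hx)))
        (H.mul_mem (hFH hx) (hFH (hAF ha)))) (QuotientGroup.eq.1 h1)
      exact inv_mul_eq_one.1 h2
    · rintro _ ⟨a, ha, rfl⟩
      rw [Subgroup.mem_centralizer_iff]
      rintro _ ⟨b, hb, rfl⟩
      rw [← map_mul, ← map_mul, Subgroup.mem_centralizer_iff.1 (hFC.ge ha).2 b hb]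
  have hcore := centralizer_le_of_core_eq_bot h2 h3 CfsgLib.Constrained.piCore_quotient_piCore hle hSCN
  set C := Subgroup.centralizer (A : Set S) with hC
  have hAC : A ≤ C := fun a ha => (hFC.ge ha).2
  refine ⟨R ⊓ C, inf_le_right, fun c hc d hd => ?_, ?_, ?_, fun q hq hqd => ?_⟩
  · exact ⟨(inferInstance : R.Normal).conj_mem d hd.1 c, C.mul_mem (C.mul_mem hc hd.2) (C.inv_mem hc)⟩
  · rw [Subgroup.eq_bot_iff_forall]
    exact fun a ha => hHR a (hFH (hAF ha.1)) ha.2.1
  · refine le_antisymm (sup_le hAC inf_le_right) fun c hc => ?_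
    have h1 : f c ∈ Subgroup.centralizer ((A.map f : Subgroup (S ⧸ R)) : Set (S ⧸ R)) := by
      rw [Subgroup.mem_centralizer_iff]
      rintro _ ⟨a, ha, rfl⟩
      rw [← map_mul, ← map_mul, Subgroup.mem_centralizer_iff.1 hc a ha]
    obtain ⟨a, ha, hac⟩ := hcore h1
    rw [show c = a * (a⁻¹ * c) by group]
    exact Subgroup.mul_mem_sup ha ⟨QuotientGroup.eq.1 hac, C.mul_mem (C.inv_mem (hAC ha)) hc⟩
  · exact (CfsgLib.Constrained.piCore_isPiCard q hq
      (hqd.trans (Subgroup.card_dvd_of_le inf_le_left))).2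

end Cfsg.Agent.S1893
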