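import Cfsg.Statements.S1903
import Cfsg.Agent.UThreeFour.Source
import Cfsg.Agent.UThreeFour.Target

set_option autoImplicit false
open Cfsg
open scoped commutatorElement

namespace Cfsg.Agent.S1903

open CfsgLib.UThreeFour in
/-- A finite group of order 320 whose derived subgroup has order 64 and has centre a Klein four-group is isomorphic to the centralizer of an involution in PSU₃(4). -/
theorem result {G : Type*} [Group G] [Finite G] (hG : Nat.card G = 320) (hD : Nat.card (commutator G) = 64)
    (hZ : IsKleinFour (Subgroup.center (commutator G)))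
    {F : Type*} [Field F] [Fintype F] (hF : Fintype.card F = 16) :
    ∃ t : Cfsg.PSU 3 F 4, orderOf t = 2 ∧ Nonempty (G ≃* Subgroup.centralizer ({t} : Set (Cfsg.PSU 3 F 4))) := by
  classical
  obtain ⟨c, v, hrel, hgen, hinj⟩ := exists_rel hG hD hZ
  obtain ⟨t, c', v', ht, hrel', hc, ha, hb, hab, hcard⟩ := target hF
  obtain ⟨φ, hφc, hφv⟩ := hrel.exists_hom hrel' hG hgen
  have hi : Function.Injective φ := by
    have e1 : φ ⁅v, cv c v⁆ = ⁅v', cv c' v'⁆ := by simp [cv, map_commutatorElement, hφc, hφv]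
    have e2 : φ ⁅v, cv c (cv c v)⁆ = ⁅v', cv c' (cv c' v')⁆ := by
      simp [cv, map_commutatorElement, hφc, hφv]
    exact hinj φ (hφc ▸ hc) (e1 ▸ ha) (e2 ▸ hb) (by rw [e1, e2]; exact hab)
  have hb' : Function.Bijective φ := (Nat.bijective_iff_injective_and_card φ).2
    ⟨hi, le_antisymm (Nat.card_le_card_of_injective φ hi) (hG ▸ hcard)⟩
  have hz : Subgroup.center (SU 3 F 4) = ⊥ := by
    apply Subgroup.card_eq_one.1
    rw [CfsgLib.Unitary.card_center_SU (q := 4) (by rw [hF]; norm_num) (by norm_num)]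
    decide
  let π : SU 3 F 4 ≃* PSU 3 F 4 := MulEquiv.ofBijective (QuotientGroup.mk' _)
    ⟨(MonoidHom.ker_eq_bot_iff _).1 (by rw [QuotientGroup.ker_mk', hz]), QuotientGroup.mk'_surjective _⟩
  refine ⟨π t, by rw [MulEquiv.orderOf_eq]; exact ht, ⟨(MulEquiv.ofBijective φ hb').trans
    ((π.subgroupMap (Subgroup.centralizer {t})).trans (MulEquiv.subgroupCongr ?_))⟩⟩
  ext g
  rw [Subgroup.mem_map, Subgroup.mem_centralizer_singleton_iff]
  constructor
  · rintro ⟨s, hs, rfl⟩
    show π s * π t = π t * π s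
    rw [← map_mul, ← map_mul, Subgroup.mem_centralizer_singleton_iff.1 hs]
  · intro h
    refine ⟨π.symm g, Subgroup.mem_centralizer_singleton_iff.2 (π.injective ?_), π.apply_symm_apply g⟩
    rw [map_mul, map_mul, π.apply_symm_apply]
    exact h

end Cfsg.Agent.S1903
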