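import Cfsg.Statements.S1910
import Mathlib.GroupTheory.Nilpotent
import Cfsg.Agent.Eq.Def_Local

set_option autoImplicit false
open Cfsg

namespace Cfsg.Agent.S1910

section Aux

variable {G : Type*} [Group G] [Finite G]

/-- A 2-subgroup meeting a subgroup of odd order only trivially. -/
theorem two_inter_odd (A B : Subgroup G) (hA : IsPGroup 2 A) (hB : Odd (Nat.card B)) :
    A ⊓ B = ⊥ := by
  obtain ⟨k, hk⟩ := IsPGroup.iff_card.mp hA
  have h1 : Nat.card ↥(A ⊓ B) ∣ 2 ^ k := hk ▸ Subgroup.card_dvd_of_le inf_le_left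
  have h2 : Nat.card ↥(A ⊓ B) ∣ Nat.card B := Subgroup.card_dvd_of_le inf_le_right
  exact Subgroup.eq_bot_of_card_eq _
    (Nat.eq_one_of_dvd_coprimes ((Nat.coprime_two_left.mpr hB).pow_left k) h1 h2)

/-- A tightly embedded subgroup and a nontrivial 2-subgroup inside two conjugates. -/
theorem normalizes_of_two (Q : Subgroup G) (hQ : Cfsg.IsTightlyEmbedded Q) (T : Subgroup G)
    (hTp : IsPGroup 2 T) (hT1 : T ≠ ⊥) (hTQ : T ≤ Q) (r : G)
    (hr : T ≤ Q.map (MulAut.conj r).toMonoidHom) : r ∈ Subgroup.normalizer (Q : Set G) := by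
  by_contra h
  exact hT1 ((inf_eq_left.mpr (le_inf hTQ hr)).symm.trans (two_inter_odd T _ hTp (hQ.2 r h)))

/-- Data of the lemma: `Q'` and `T ≤ Q' ∩ N(Q)`. -/
theorem main_injection (Q Q' : Subgroup G) (hQ' : Cfsg.IsTightlyEmbedded Q')
    (hodd : Odd (Nat.card ↥(Q ⊓ Q'))) (g : G) (hconj : Q' = Q.map (MulAut.conj g).toMonoidHom)
    (T : Subgroup G) (hTp : IsPGroup 2 T) (hT1 : T ≠ ⊥) (hTQ' : T ≤ Q')
    (hTN : T ≤ Subgroup.normalizer (Q : Set G)) (S : Subgroup G) (hTS : T ≤ S) (hS : S ≤ Q ⊔ T)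
    (hSp : IsPGroup 2 S) (hSsyl : ¬ 2 ∣ S.relIndex (Q ⊔ T)) :
    T ⊓ Q = ⊥ ∧
      (S ⊓ Subgroup.normalizer (T : Set G) ⊓ Q ≤ Q ⊓ Subgroup.normalizer (Q' : Set G)) ∧
      ⁅T, S ⊓ Subgroup.normalizer (T : Set G) ⊓ Q⁆ = ⊥ ∧
      T ⊔ (S ⊓ Subgroup.normalizer (T : Set G) ⊓ Q) = S ⊓ Subgroup.normalizer (T : Set G) ∧
      ∃ φ : T →* ↥(S ⊓ Subgroup.normalizer (T : Set G) ⊓ Q), Function.Injective φ := by
  classical
  have hTQ : T ⊓ Q = ⊥ := by
    rw [eq_bot_iff, ← two_inter_odd T (Q ⊓ Q') hTp hodd]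
    exact le_inf inf_le_left (le_inf inf_le_right (inf_le_left.trans hTQ'))
  set R := S ⊓ Subgroup.normalizer (T : Set G) ⊓ Q with hR
  have hcomm : ∀ t ∈ T, ∀ r ∈ R, t * r = r * t := by
    intro t ht r hr
    have hrN : r ∈ Subgroup.normalizer (T : Set G) := hr.1.2
    have h1 : r * t * r⁻¹ * t⁻¹ ∈ T ⊓ Q := by
      refine ⟨T.mul_mem ((Subgroup.mem_normalizer_iff.mp hrN t).mp ht) (T.inv_mem ht), ?_⟩
      have := (Subgroup.mem_normalizer_iff.mp (hTN ht) r⁻¹).mp (Q.inv_mem hr.2)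
      have e : r * t * r⁻¹ * t⁻¹ = r * (t * r⁻¹ * t⁻¹) := by group
      rw [e]
      exact Q.mul_mem hr.2 this
    rw [hTQ, Subgroup.mem_bot] at h1
    calc t * r = (r * t * r⁻¹ * t⁻¹) * (t * r) := by rw [h1, one_mul]
      _ = r * t := by group
  have hRA : R ≤ Q ⊓ Subgroup.normalizer (Q' : Set G) := by
    intro r hr
    refine ⟨hr.2, normalizes_of_two Q' hQ' T hTp hT1 hTQ' r ?_⟩
    intro t ht
    exact ⟨t, hTQ' ht, by simp [← hcomm t ht r hr]⟩
  have hdec : ∀ s ∈ S, ∃ q ∈ S ⊓ Q, ∃ t ∈ T, q * t = s := by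
    intro s hs
    have h := hS hs
    rw [← SetLike.mem_coe, Subgroup.coe_mul_of_right_le_normalizer_left Q T hTN] at h
    obtain ⟨q, hq, t, ht, rfl⟩ := h
    refine ⟨q, ⟨?_, hq⟩, t, ht, rfl⟩
    have := S.mul_mem hs (S.inv_mem (hTS ht))
    simpa using this
  have hsup : T ⊔ R = S ⊓ Subgroup.normalizer (T : Set G) := by
    refine le_antisymm (sup_le (le_inf hTS Subgroup.le_normalizer) inf_le_left) ?_
    intro s hs
    obtain ⟨q, hq, t, ht, rfl⟩ := hdec s hs.1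
    have hqR : q ∈ R := by
      refine ⟨⟨hq.1, ?_⟩, hq.2⟩
      have := (Subgroup.normalizer (T : Set G)).mul_mem hs.2 (Subgroup.le_normalizer (T.inv_mem ht))
      simpa using this
    exact Subgroup.mul_mem _ (Subgroup.mem_sup_right hqR) (Subgroup.mem_sup_left ht)
  refine ⟨hTQ, hRA, ?_, hsup, ?_⟩
  · rw [Subgroup.commutator_eq_bot_iff_le_centralizer]
    exact fun t ht => Subgroup.mem_centralizer_iff.mpr fun r hr => (hcomm t ht r hr).symm
  by_cases hWS : S ≤ Subgroup.normalizer (T : Set G)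
  · -- `R = S ⊓ Q` is a Sylow subgroup of `Q`
    have hRSQ : R = S ⊓ Q := by rw [hR, inf_eq_left.mpr hWS]
    let U : Subgroup Q := R.subgroupOf Q
    have hUp : IsPGroup 2 U :=
      (hSp.to_le (inf_le_left.trans inf_le_left : R ≤ S)).of_equiv (Subgroup.subgroupOfEquivOfLe inf_le_right).symm
    obtain ⟨U', hU'⟩ := hUp.exists_le_sylow
    have hUU' : (U' : Subgroup Q).map Q.subtype ≤ R := by
      have hn : (Q.subgroupOf (Q ⊔ T)).Normal := by
        rw [Subgroup.normal_subgroupOf_iff_le_normalizer le_sup_left]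
        exact sup_le Subgroup.le_normalizer hTN
      let S0 : Sylow 2 ↥(Q ⊔ T) :=
        (hSp.of_equiv (Subgroup.subgroupOfEquivOfLe hS).symm : IsPGroup 2 (S.subgroupOf (Q ⊔ T))).toSylow hSsyl
      have hp0 : IsPGroup 2 (((U' : Subgroup Q).map Q.subtype).subgroupOf (Q ⊔ T)) :=
        (U'.2.map Q.subtype).of_equiv (Subgroup.subgroupOfEquivOfLe ((Subgroup.map_subtype_le _).trans le_sup_left)).symm
      obtain ⟨P', hP'⟩ := hp0.exists_le_sylow
      obtain ⟨a, ha⟩ := MulAction.exists_smul_eq ↥(Q ⊔ T) P' S0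
      have hle : ((U' : Subgroup Q).map Q.subtype).map (MulAut.conj (a : G)).toMonoidHom ≤ R := by
        rintro _ ⟨z, hz, rfl⟩
        rw [hRSQ]
        refine ⟨?_, ?_⟩
        · have hzQT : z ∈ Q ⊔ T := Subgroup.mem_sup_left (Subgroup.map_subtype_le _ hz)
          have h1 : a * ⟨z, hzQT⟩ * a⁻¹ ∈ (S0 : Subgroup ↥(Q ⊔ T)) := by
            rw [← ha]
            exact ⟨⟨z, hzQT⟩, hP' hz, rfl⟩
          exact h1
        · have hzq : z ∈ Q := Subgroup.map_subtype_le _ hz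
          exact hn.conj_mem ⟨z, Subgroup.mem_sup_left hzq⟩ hzq a
      have hc : Nat.card ((U' : Subgroup Q).map Q.subtype) ≤ Nat.card R := by
        have := Subgroup.card_le_of_le hle
        rwa [Subgroup.card_map_of_injective (MulAut.conj (a : G)).injective] at this
      have hRle : R ≤ (U' : Subgroup Q).map Q.subtype := by
        intro r hr
        exact ⟨⟨r, hr.2⟩, hU' hr, rfl⟩
      exact (Subgroup.eq_of_le_of_card_ge hRle hc).ge
    have hT' : T.map (MulAut.conj g⁻¹).toMonoidHom ≤ Q := by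
      rintro _ ⟨t, ht, rfl⟩
      obtain ⟨q, hq, rfl⟩ := hconj ▸ hTQ' ht
      simpa [mul_assoc] using hq
    let f : T →* Q :=
      { toFun := fun t => ⟨MulAut.conj g⁻¹ (t : G), hT' ⟨t, t.2, rfl⟩⟩
        map_one' := Subtype.ext (by simp)
        map_mul' := fun a b => Subtype.ext (map_mul (MulAut.conj g⁻¹) (a : G) b) }
    have hfinj : Function.Injective f := fun a b h =>
      Subtype.ext ((MulAut.conj g⁻¹).injective (congrArg Subtype.val h))
    have hTtop : IsPGroup 2 f.range := hTp.of_surjective f.rangeRestrict f.rangeRestrict_surjective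
    obtain ⟨V, hV⟩ := hTtop.exists_le_sylow
    obtain ⟨a, ha⟩ := MulAction.exists_smul_eq Q V U'
    have hmem : ∀ t : T, ((a * f t * a⁻¹ : Q) : G) ∈ R := by
      intro t
      refine hUU' (Subgroup.mem_map.mpr ⟨a * f t * a⁻¹, ?_, rfl⟩)
      rw [← ha]
      exact ⟨f t, hV ⟨t, rfl⟩, rfl⟩
    refine ⟨{ toFun := fun t => ⟨((a * f t * a⁻¹ : Q) : G), hmem t⟩, map_one' := ?_, map_mul' := ?_ }, ?_⟩
    · exact Subtype.ext (by simp)
    · exact fun x y => Subtype.ext (by simp [mul_assoc])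
    · intro x y h
      have h1 := congrArg Subtype.val h
      have h' : a * f x * a⁻¹ = a * f y * a⁻¹ := Subtype.ext h1
      exact hfinj (mul_left_cancel (mul_right_cancel h'))
  · -- some `s` normalises `T × R` but not `T`
    let W := S ⊓ Subgroup.normalizer (T : Set G)
    haveI := hSp.isNilpotent
    have hlt : W.subgroupOf S < ⊤ := lt_top_iff_ne_top.mpr fun h =>
      hWS fun s hs => (Subgroup.subgroupOf_eq_top.mp h hs).2
    obtain ⟨s, hs, hsW⟩ := SetLike.exists_of_lt (normalizerCondition_of_isNilpotent (G := ↥S) _ hlt)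
    have hsT : (s : G) ∉ Subgroup.normalizer (T : Set G) := fun h => hsW ⟨s.2, h⟩
    have hconjW : ∀ t ∈ T, (s : G) * t * (s : G)⁻¹ ∈ T ⊔ R := by
      intro t ht
      rw [hsup]
      exact (Subgroup.mem_normalizer_iff.mp hs ⟨t, hTS ht⟩).mp ⟨hTS ht, Subgroup.le_normalizer ht⟩
    have hWQ : ∀ w ∈ T ⊔ R, ∃ a ∈ T, ∃ r ∈ R, a * r = w := by
      intro w hw
      have hle : R ≤ Subgroup.normalizer (T : Set G) := inf_le_left.trans inf_le_right
      rw [← SetLike.mem_coe, Subgroup.coe_mul_of_right_le_normalizer_left T R hle] at hw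
      exact hw
    have hsQ' : (s : G) ∉ Subgroup.normalizer (Q' : Set G) := by
      intro hsN
      have hmapT : T.map (MulAut.conj (s : G)).toMonoidHom ≤ T := by
        rintro _ ⟨t, ht, rfl⟩
        obtain ⟨a, ha, r, hr, har⟩ := hWQ _ (hconjW t ht)
        have hQ'w : (s : G) * t * (s : G)⁻¹ ∈ Q' := (Subgroup.mem_normalizer_iff.mp hsN t).mp (hTQ' ht)
        rw [← har] at hQ'w
        have hrQ' : r ∈ Q' := by
          have := Q'.mul_mem (Q'.inv_mem (hTQ' ha)) hQ'w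
          simpa using this
        have : r ∈ S ⊓ (Q ⊓ Q') := ⟨hr.1.1, hr.2, hrQ'⟩
        rw [two_inter_odd S _ hSp hodd, Subgroup.mem_bot] at this
        show (s : G) * t * (s : G)⁻¹ ∈ T
        rw [← har, this, mul_one]
        exact ha
      have heq : T.map (MulAut.conj (s : G)).toMonoidHom = T :=
        Subgroup.eq_of_le_of_card_ge hmapT (Subgroup.card_map_of_injective (MulAut.conj (s : G)).injective).ge
      refine hsT (Subgroup.mem_normalizer_iff.mpr fun h => ⟨fun hh => hmapT ⟨h, hh, rfl⟩, fun hh => ?_⟩)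
      rw [← heq] at hh
      obtain ⟨w, hw, hwe⟩ := hh
      rwa [← (MulAut.conj (s : G)).injective hwe]
    choose fa hfa fr hfr hfar using fun t : T => hWQ _ (hconjW t t.2)
    have huniq : ∀ a ∈ T, ∀ r ∈ R, ∀ a' ∈ T, ∀ r' ∈ R, a * r = a' * r' → r = r' := by
      intro a ha r hr a' ha' r' hr' h
      have h' : a'⁻¹ * a = r' * r⁻¹ := by
        rw [inv_mul_eq_iff_eq_mul, ← mul_assoc, ← h, mul_inv_cancel_right]
      have : a'⁻¹ * a ∈ T ⊓ Q := ⟨T.mul_mem (T.inv_mem ha') ha, h' ▸ Q.mul_mem hr'.2 (Q.inv_mem hr.2)⟩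
      rw [hTQ, Subgroup.mem_bot, h', mul_inv_eq_one] at this
      exact this.symm
    let φ : T →* R := MonoidHom.mk' (fun t => ⟨fr t, hfr t⟩) fun x y => Subtype.ext (by
      refine huniq _ (hfa (x * y)) _ (hfr (x * y)) (fa x * fa y) (T.mul_mem (hfa x) (hfa y)) (fr x * fr y)
        (R.mul_mem (hfr x) (hfr y)) ?_
      calc fa (x * y) * fr (x * y) = (s : G) * ((x * y : T) : G) * (s : G)⁻¹ := hfar (x * y)
        _ = ((s : G) * x * (s : G)⁻¹) * ((s : G) * y * (s : G)⁻¹) := by rw [Subgroup.coe_mul]; group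
        _ = (fa x * fr x) * (fa y * fr y) := by rw [hfar x, hfar y]
        _ = fa x * (fr x * fa y) * fr y := by simp [mul_assoc]
        _ = fa x * (fa y * fr x) * fr y := by rw [hcomm _ (hfa y) _ (hfr x)]
        _ = _ := by simp [mul_assoc])
    refine ⟨φ, (injective_iff_map_eq_one φ).mpr fun t ht => ?_⟩
    have h1 : fr t = 1 := congrArg Subtype.val ht
    have h2 := hfar t
    rw [h1, mul_one] at h2
    have hmem : fa t ∈ T ⊓ (Q' ⊓ Q'.map (MulAut.conj (s : G)).toMonoidHom) :=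
      ⟨hfa t, hTQ' (hfa t), ⟨t, hTQ' t.2, h2.symm⟩⟩
    rw [two_inter_odd T _ hTp (hQ'.2 _ hsQ'), Subgroup.mem_bot] at hmem
    rw [hmem] at h2
    exact Subtype.ext (conj_eq_one_iff.mp h2.symm)

/-- A Sylow 2-subgroup of `A = Q ∩ N(Q')` centralised by `T`. -/
theorem exists_centralised (Q Q' : Subgroup G) (hodd : Odd (Nat.card ↥(Q ⊓ Q'))) (T : Subgroup G)
    (hTp : IsPGroup 2 T) (hTQ' : T ≤ Q') (hTN : T ≤ Subgroup.normalizer (Q : Set G)) :
    ∃ R1 : Subgroup G, IsPGroup 2 R1 ∧ R1 ≤ Q ⊓ Subgroup.normalizer (Q' : Set G) ∧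
      ¬ 2 ∣ R1.relIndex (Q ⊓ Subgroup.normalizer (Q' : Set G)) ∧ ∀ t ∈ T, ∀ r ∈ R1, t * r = r * t := by
  classical
  set A := Q ⊓ Subgroup.normalizer (Q' : Set G) with hA
  set K := A ⊔ T with hK
  have hAT : T ≤ Subgroup.normalizer (A : Set G) := by
    intro t ht
    have hQt := hTN ht
    have hQ't : t ∈ Subgroup.normalizer (Q' : Set G) := Subgroup.le_normalizer (hTQ' ht)
    refine Subgroup.mem_normalizer_iff.mpr fun h => ?_
    simp only [hA, Subgroup.mem_inf]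
    refine and_congr (Subgroup.mem_normalizer_iff.mp hQt h) ?_
    refine ⟨fun hh => mul_mem (mul_mem hQ't hh) (inv_mem hQ't), fun hh => ?_⟩
    have := mul_mem (mul_mem (inv_mem hQ't) hh) hQ't
    simpa [mul_assoc] using this
  have hn : (A.subgroupOf K).Normal := by
    rw [Subgroup.normal_subgroupOf_iff_le_normalizer le_sup_left]
    exact sup_le Subgroup.le_normalizer hAT
  obtain ⟨W, hW⟩ := (hTp.of_equiv (Subgroup.subgroupOfEquivOfLe (le_sup_right : T ≤ K)).symm).exists_le_sylow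
  refine ⟨((W : Subgroup K) ⊓ A.subgroupOf K).map K.subtype, (W.2.to_le inf_le_left).map _, ?_, ?_, ?_⟩
  · rintro _ ⟨z, hz, rfl⟩
    exact hz.2
  · intro h2
    obtain ⟨V⟩ : Nonempty (Sylow 2 ↥(A.subgroupOf K)) := inferInstance
    have hVp : IsPGroup 2 ((V : Subgroup ↥(A.subgroupOf K)).map (A.subgroupOf K).subtype) := V.2.map _
    obtain ⟨W', hW'⟩ := hVp.exists_le_sylow
    obtain ⟨a, ha⟩ := MulAction.exists_smul_eq K W' W
    have hle : ((V : Subgroup ↥(A.subgroupOf K)).map (A.subgroupOf K).subtype).map (MulAut.conj a).toMonoidHom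
        ≤ (W : Subgroup K) ⊓ A.subgroupOf K := by
      rintro _ ⟨z, hz, rfl⟩
      refine ⟨?_, hn.conj_mem z (Subgroup.map_subtype_le _ hz) a⟩
      rw [← ha]
      exact ⟨z, hW' hz, rfl⟩
    have hc := Subgroup.card_le_of_le hle
    rw [Subgroup.card_map_of_injective (MulAut.conj a).injective,
      Subgroup.card_map_of_injective (A.subgroupOf K).subtype_injective] at hc
    have hmul := (((W : Subgroup K) ⊓ A.subgroupOf K).map K.subtype).relIndex_bot_left
    have hcR : Nat.card (((W : Subgroup K) ⊓ A.subgroupOf K).map K.subtype) = Nat.card ↥((W : Subgroup K) ⊓ A.subgroupOf K) :=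
      Subgroup.card_map_of_injective K.subtype_injective
    have hleA : ((W : Subgroup K) ⊓ A.subgroupOf K).map K.subtype ≤ A := by rintro _ ⟨z, hz, rfl⟩; exact hz.2
    have hcA : Nat.card (((W : Subgroup K) ⊓ A.subgroupOf K).map K.subtype) *
        (((W : Subgroup K) ⊓ A.subgroupOf K).map K.subtype).relIndex A = Nat.card A := by
      rw [← Subgroup.relIndex_bot_left, ← Subgroup.relIndex_bot_left]
      exact Subgroup.relIndex_mul_relIndex _ _ _ bot_le hleA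
    have hcV : Nat.card V * (V : Subgroup ↥(A.subgroupOf K)).index = Nat.card A := by
      rw [Subgroup.card_mul_index, Nat.card_congr (Subgroup.subgroupOfEquivOfLe (le_sup_left : A ≤ K)).toEquiv]
    obtain ⟨i, hi⟩ := IsPGroup.iff_card.mp (W.2.to_le (inf_le_left : (W : Subgroup K) ⊓ A.subgroupOf K ≤ W))
    obtain ⟨j, hj⟩ := IsPGroup.iff_card.mp V.2
    have hji : j ≤ i := (Nat.pow_le_pow_iff_right (by norm_num)).mp (hi ▸ hj ▸ hc)
    obtain ⟨m, hm⟩ := h2
    have hd : 2 ^ (i + 1) ∣ 2 ^ j * (V : Subgroup ↥(A.subgroupOf K)).index := by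
      rw [← hj, hcV, ← hcA, hcR, hi, hm]
      exact ⟨m, by ring⟩
    have hd2 : 2 ^ (j + 1) ∣ 2 ^ j * (V : Subgroup ↥(A.subgroupOf K)).index :=
      (Nat.pow_dvd_pow 2 (by omega)).trans hd
    rw [pow_succ] at hd2
    exact V.not_dvd_index (Nat.dvd_of_mul_dvd_mul_left (by positivity) hd2)
  · rintro t ht _ ⟨z, hz, rfl⟩
    have hzA : (z : G) ∈ A := hz.2
    have htK : t ∈ K := Subgroup.mem_sup_right ht
    have h1 : (⟨t, htK⟩ * z * ⟨t, htK⟩⁻¹ * z⁻¹ : K) ∈ (W : Subgroup K) :=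
      mul_mem (mul_mem (mul_mem (hW ht) hz.1) (inv_mem (hW ht))) (inv_mem hz.1)
    have h2 : t * z * t⁻¹ * (z : G)⁻¹ ∈ Q ⊓ Q' := by
      refine ⟨Q.mul_mem ((Subgroup.mem_normalizer_iff.mp (hTN ht) z).mp hzA.1) (Q.inv_mem hzA.1), ?_⟩
      have := (Subgroup.mem_normalizer_iff.mp hzA.2 t⁻¹).mp (Q'.inv_mem (hTQ' ht))
      have e : t * z * t⁻¹ * (z : G)⁻¹ = t * ((z : G) * t⁻¹ * (z : G)⁻¹) := by group
      rw [e]
      exact Q'.mul_mem (hTQ' ht) this
    have h3 : t * z * t⁻¹ * (z : G)⁻¹ ∈ ((W : Subgroup K).map K.subtype) ⊓ (Q ⊓ Q') := ⟨⟨_, h1, rfl⟩, h2⟩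
    rw [two_inter_odd _ _ (W.2.map _) hodd, Subgroup.mem_bot] at h3
    show t * (z : G) = z * t
    calc t * (z : G) = (t * z * t⁻¹ * (z : G)⁻¹) * (z * t) := by group
      _ = z * t := by rw [h3, one_mul]

/-- A 2-subgroup of a group is no larger than a subgroup of odd index. -/
theorem card_le_sylow (A R R1 : Subgroup G) (hR : R ≤ A) (hR1 : R1 ≤ A) (hRp : IsPGroup 2 R)
    (hR1p : IsPGroup 2 R1) (h : ¬ 2 ∣ R1.relIndex A) : Nat.card R ≤ Nat.card R1 := by
  obtain ⟨i, hi⟩ := IsPGroup.iff_card.mp hRp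
  obtain ⟨j, hj⟩ := IsPGroup.iff_card.mp hR1p
  have hA : Nat.card R1 * R1.relIndex A = Nat.card A := by
    rw [← Subgroup.relIndex_bot_left, ← Subgroup.relIndex_bot_left]
    exact Subgroup.relIndex_mul_relIndex _ _ _ bot_le hR1
  have hd : Nat.card R ∣ Nat.card R1 * R1.relIndex A := hA ▸ Subgroup.card_dvd_of_le hR
  have hc : Nat.Coprime (Nat.card R) (R1.relIndex A) := by
    rw [hi]
    exact (Nat.prime_two.coprime_iff_not_dvd.mpr h).pow_left i
  exact Nat.le_of_dvd Nat.card_pos (hc.dvd_of_dvd_mul_right hd)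

/-- A Sylow 2-subgroup over a given 2-subgroup. -/
theorem exists_sylow_over (T K : Subgroup G) (hT : IsPGroup 2 T) (hle : T ≤ K) :
    ∃ S : Subgroup G, T ≤ S ∧ S ≤ K ∧ IsPGroup 2 S ∧ ¬ 2 ∣ S.relIndex K := by
  obtain ⟨W, hW⟩ := (hT.of_equiv (Subgroup.subgroupOfEquivOfLe hle).symm).exists_le_sylow
  refine ⟨(W : Subgroup K).map K.subtype, fun t ht => ⟨⟨t, hle ht⟩, hW ht, rfl⟩,
    Subgroup.map_subtype_le _, W.2.map _, ?_⟩
  rw [Subgroup.relIndex, ← Subgroup.comap_subtype, Subgroup.comap_map_eq_self_of_injective K.subtype_injective]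
  exact W.not_dvd_index

end Aux


/-- Let Q be a tightly embedded subgroup of a finite group G, g an element outside N_G(Q), T a nontrivial Sylow 2-subgroup of Q^g ∩ N_G(Q), and S a Sylow 2-subgroup of QT containing T. Then T ∩ Q = 1, and N_S(T) is the direct product of T and N_S(T) ∩ Q, with N_S(T) ∩ Q isomorphic to T. -/
theorem result {G : Type*} [Group G] [Finite G] (Q : Subgroup G) (hQ : Cfsg.IsTightlyEmbedded Q)
    (g : G) (hg : g ∉ Subgroup.normalizer (Q : Set G))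
    (T : Subgroup G) (hT1 : T ≠ ⊥) (hT : T ≤ Q.map (MulAut.conj g).toMonoidHom ⊓ Subgroup.normalizer (Q : Set G))
    (hTsyl : IsPGroup 2 T ∧ ¬ 2 ∣ T.relIndex (Q.map (MulAut.conj g).toMonoidHom ⊓ Subgroup.normalizer (Q : Set G)))
    (S : Subgroup G) (hTS : T ≤ S) (hS : S ≤ Q ⊔ T) (hSsyl : IsPGroup 2 S ∧ ¬ 2 ∣ S.relIndex (Q ⊔ T)) :
    T ⊓ Q = ⊥ ∧
      T ⊓ (S ⊓ Subgroup.normalizer (T : Set G) ⊓ Q) = ⊥ ∧
      ⁅T, S ⊓ Subgroup.normalizer (T : Set G) ⊓ Q⁆ = ⊥ ∧
      T ⊔ (S ⊓ Subgroup.normalizer (T : Set G) ⊓ Q) = S ⊓ Subgroup.normalizer (T : Set G) ∧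
      Nonempty (↥(S ⊓ Subgroup.normalizer (T : Set G) ⊓ Q) ≃* T) := by
  classical
  set Q' := Q.map (MulAut.conj g).toMonoidHom with hQ'def
  have hodd : Odd (Nat.card ↥(Q ⊓ Q')) := hQ.2 g hg
  have hQ'te : Cfsg.IsTightlyEmbedded Q' := by
    refine ⟨?_, fun x hx => ?_⟩
    · rw [Subgroup.card_map_of_injective (MulAut.conj g).injective]
      exact hQ.1
    have hx' : g⁻¹ * x * g ∉ Subgroup.normalizer (Q : Set G) := by
      intro h
      apply hx
      rw [hQ'def, Subgroup.mem_normalizer_iff]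
      intro y
      have hmem : ∀ z, z ∈ Q' ↔ g⁻¹ * z * g ∈ Q := fun z => by
        rw [hQ'def]
        constructor
        · rintro ⟨w, hw, rfl⟩; simpa [mul_assoc] using hw
        · intro hz; exact ⟨_, hz, by simp [mul_assoc]⟩
      rw [← hQ'def, hmem, hmem, Subgroup.mem_normalizer_iff.mp h (g⁻¹ * y * g)]
      congr! 1
      group
    have h1 := hQ.2 _ hx'
    have e : Q' ⊓ Q'.map (MulAut.conj x).toMonoidHom =
        (Q ⊓ Q.map (MulAut.conj (g⁻¹ * x * g)).toMonoidHom).map (MulAut.conj g).toMonoidHom := by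
      rw [Subgroup.map_inf _ _ _ (MulAut.conj g).injective, Subgroup.map_map, hQ'def, Subgroup.map_map]
      congr 2
      ext a
      simp [mul_assoc]
    rw [e, Subgroup.card_map_of_injective (MulAut.conj g).injective]
    exact h1
  have hTQ' : T ≤ Q' := hT.trans inf_le_left
  have hTN : T ≤ Subgroup.normalizer (Q : Set G) := hT.trans inf_le_right
  obtain ⟨h1, hRA, h2, h3, φ, hφ⟩ := main_injection Q Q' hQ'te hodd g rfl T hTsyl.1 hT1 hTQ' hTN S hTS hS hSsyl.1 hSsyl.2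
  refine ⟨h1, ?_, h2, h3, ?_⟩
  · rw [eq_bot_iff, ← h1]
    exact le_inf inf_le_left (inf_le_right.trans inf_le_right)
  have hle : Nat.card T ≤ Nat.card ↥(S ⊓ Subgroup.normalizer (T : Set G) ⊓ Q) :=
    Nat.card_le_card_of_injective φ hφ
  obtain ⟨R1, hR1p, hR1A, hR1syl, hR1c⟩ := exists_centralised Q Q' hodd T hTsyl.1 hTQ' hTN
  have hRp : IsPGroup 2 ↥(S ⊓ Subgroup.normalizer (T : Set G) ⊓ Q) :=
    hSsyl.1.to_le (inf_le_left.trans inf_le_left)
  have hc1 := card_le_sylow _ _ R1 hRA hR1A hRp hR1p hR1syl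
  have hR1ne : R1 ≠ ⊥ := by
    intro h
    rw [h, Subgroup.card_bot] at hc1
    exact hT1 (Subgroup.eq_bot_of_card_le _ (hle.trans hc1))
  obtain ⟨S', hR1S', hS'le, hS'p, hS'syl⟩ := exists_sylow_over R1 (Q' ⊔ R1) hR1p le_sup_right
  have hodd' : Odd (Nat.card ↥(Q' ⊓ Q)) := by rwa [inf_comm]
  have hQeq : Q = Q'.map (MulAut.conj g⁻¹).toMonoidHom := by
    rw [hQ'def, Subgroup.map_map]
    conv_lhs => rw [← Subgroup.map_id Q]
    congr 1
    ext a
    simp [mul_assoc]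
  obtain ⟨-, hR'B, -, -, ψ, hψ⟩ := main_injection Q' Q hQ hodd' g⁻¹ hQeq R1 hR1p hR1ne (hR1A.trans inf_le_left)
    (hR1A.trans inf_le_right) S' hR1S' hS'le hS'p hS'syl
  have hc2 : Nat.card R1 ≤ Nat.card T :=
    (Nat.card_le_card_of_injective ψ hψ).trans
      (card_le_sylow _ _ T hR'B hT (hS'p.to_le (inf_le_left.trans inf_le_left)) hTsyl.1 hTsyl.2)
  exact ⟨(MulEquiv.ofBijective φ ((Nat.bijective_iff_injective_and_card φ).mpr ⟨hφ, by omega⟩)).symm⟩

end Cfsg.Agent.S1910
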