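import Cfsg.Statements.S1914
import Cfsg.Agent.CyclicFourFix23.Core
import Cfsg.Agent.Eq.Def_CaseTheorems
import Cfsg.Agent.Eq.Def_Local
import Cfsg.Agent.Constrained.Basic

set_option autoImplicit false
open Cfsg

namespace Cfsg.Agent.S1914

open CfsgLib.CyclicFourFix23

set_option linter.style.haveILetI false

/-- Commuting involutions coincide, without assuming a trivial core. -/
theorem eq_of_commute_aux {B : Type*} [Group B] [Finite B] (hperf : commutator B = ⊤)
    {σ : MulAut B} {f : B} (H : FixHyp σ f) {a b : B} (ha : orderOf a = 2) (hb : orderOf b = 2)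
    (hab : Commute a b) : a = b := by
  classical
  haveI : Fact (Nat.Prime 2) := ⟨Nat.prime_two⟩
  set N := Cfsg.pPrimeCore 2 B with hN
  haveI : N.Normal := Cfsg.pPrimeCore_normal 2 B
  have hNodd : ¬ 2 ∣ Nat.card N := CfsgLib.Constrained.pPrimeCore_not_dvd
  have hσN : ∀ x ∈ N, σ x ∈ N := fun x hx =>
    CfsgLib.Constrained.map_pPrimeCore_le σ.toMonoidHom σ.surjective ⟨x, hx, rfl⟩
  have hmap : N.map σ.toMonoidHom = N := by
    refine Subgroup.eq_of_le_of_card_ge ?_ ?_
    · rintro _ ⟨x, hx, rfl⟩; exact hσN x hx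
    · rw [Subgroup.card_map_of_injective σ.injective]
  let τ : MulAut (B ⧸ N) := QuotientGroup.congr N N σ hmap
  have hτ : ∀ x : B, τ (x : B ⧸ N) = ((σ x : B) : B ⧸ N) := fun x => rfl
  have hsmall : ∀ x ∈ N, x * x = 1 → x = 1 := by
    intro x hx hx2
    have h1 : orderOf (⟨x, hx⟩ : N) ∣ 2 :=
      orderOf_dvd_of_pow_eq_one (Subtype.ext (by rw [SubgroupClass.coe_pow, pow_two]; exact hx2))
    rcases (Nat.dvd_prime Nat.prime_two).mp h1 with h | h
    · exact congrArg Subtype.val (orderOf_eq_one_iff.mp h)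
    · exact absurd (h ▸ orderOf_dvd_natCard _) hNodd
  have hlift : ∀ y : B, y⁻¹ * σ y ∈ N → ∃ x, σ x = x ∧ y⁻¹ * x ∈ N := by
    intro y hy
    set w := y⁻¹ * σ y with hw
    have hσw : σ w = w⁻¹ := by rw [hw, map_mul, map_inv, H.sq, mul_inv_rev, inv_inv]
    obtain ⟨j, hj⟩ : Odd (orderOf (⟨w, hy⟩ : N)) := by
      rw [← Nat.not_even_iff_odd, even_iff_two_dvd]
      exact fun h => hNodd (h.trans (orderOf_dvd_natCard _))
    have hwo : w ^ (2 * j + 1) = 1 := by
      have := congrArg Subtype.val (pow_orderOf_eq_one (⟨w, hy⟩ : N))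
      rw [hj, SubgroupClass.coe_pow] at this
      exact this
    refine ⟨y * w ^ (j + 1), ?_, by rw [inv_mul_cancel_left]; exact N.pow_mem hy _⟩
    rw [map_mul, map_pow, hσw, show σ y = y * w by rw [hw, mul_inv_cancel_left], mul_assoc]
    congr 1
    rw [inv_pow, eq_comm, eq_mul_inv_iff_mul_eq, ← pow_add,
      show j + 1 + (j + 1) = 2 * j + 1 + 1 by omega, pow_succ, hwo, one_mul]
  have H' : FixHyp τ (f : B ⧸ N) :=
    { sq := fun y => by
        induction y using QuotientGroup.induction_on with
        | H x => rw [hτ, hτ, H.sq]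
      fix2 := fun P hP hfix => by
        let K : Subgroup B := P.comap (QuotientGroup.mk' N) ⊓ fixedSubgroup σ
        let ψ : K →* P := ((QuotientGroup.mk' N).comp K.subtype).codRestrict P fun x => x.2.1
        have hψ : Function.Surjective ψ := by
          rintro ⟨y, hy⟩
          obtain ⟨y, rfl⟩ := QuotientGroup.mk'_surjective N y
          obtain ⟨x, hx, hxy⟩ := hlift y (QuotientGroup.eq.mp (by
            have := hfix _ hy
            exact this.symm))
          have he : (x : B ⧸ N) = (y : B ⧸ N) := (QuotientGroup.eq.mpr hxy).symm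
          exact ⟨⟨x, (show (x : B ⧸ N) ∈ P from he ▸ hy), hx⟩, Subtype.ext he⟩
        obtain ⟨R⟩ : Nonempty (Sylow 2 K) := inferInstance
        have hR : ((R : Subgroup K).map ψ) = ⊤ := by
          have h2 := (R.mapSurjective hψ).is_maximal' (Q := ⊤) (hP.to_subgroup ⊤)
            le_top
          exact h2.symm
        obtain ⟨h1, h4⟩ := H.fix2 ((R : Subgroup K).map K.subtype) (R.isPGroup'.map _) (by
          rintro _ ⟨x, -, rfl⟩; exact x.2.2)
        haveI := h1
        have e := Subgroup.equivMapOfInjective (R : Subgroup K) K.subtype K.subtype_injective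
        have hs : Function.Surjective (ψ.comp (R : Subgroup K).subtype) := fun y => by
          obtain ⟨x, hx, hxy⟩ : y ∈ (R : Subgroup K).map ψ := hR ▸ Subgroup.mem_top y
          exact ⟨⟨x, hx⟩, hxy⟩
        haveI : IsCyclic (R : Subgroup K) := isCyclic_of_surjective e.symm e.symm.surjective
        refine ⟨isCyclic_of_surjective _ hs, le_trans (Nat.card_le_card_of_surjective _ hs) ?_⟩
        rw [Nat.card_congr e.toEquiv]; exact h4
      f_fix := by rw [hτ, H.f_fix]
      f_ord := orderOf_eq_prime_pow (p := 2) (n := 1) (by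
          rw [pow_one, ← QuotientGroup.mk_pow, QuotientGroup.eq_one_iff, pow_two]
          exact fun h => H.z_ne_one (hsmall _ h H.z_sq)) (by
          rw [show (2 : ℕ) ^ (1 + 1) = 4 by norm_num, ← QuotientGroup.mk_pow, ← H.f_ord,
            pow_orderOf_eq_one, QuotientGroup.mk_one]) }
  have hord : ∀ x : B, orderOf x = 2 → orderOf (x : B ⧸ N) = 2 := by
    intro x hx
    have hx2 : x * x = 1 := by
      have := pow_orderOf_eq_one x; rwa [hx, pow_two] at this
    refine orderOf_eq_prime (by rw [pow_two, ← QuotientGroup.mk_mul, hx2, QuotientGroup.mk_one])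
      fun h => ?_
    rw [hsmall x ((QuotientGroup.eq_one_iff x).mp h) hx2, orderOf_one] at hx
    omega
  have hperf' : commutator (B ⧸ N) = ⊤ := by
    rw [commutator_def, eq_top_iff]
    rintro y -
    obtain ⟨x, rfl⟩ := QuotientGroup.mk'_surjective N y
    have hx : x ∈ commutator B := hperf ▸ Subgroup.mem_top x
    have := Subgroup.mem_map_of_mem (QuotientGroup.mk' N) hx
    rw [commutator_def, Subgroup.map_commutator] at this
    exact Subgroup.commutator_mono le_top le_top this
  have h := H'.eq_of_commute hperf' CfsgLib.Constrained.pPrimeCore_quotient_pPrimeCore (hord a ha)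
    (hord b hb) (hab.map (QuotientGroup.mk' N))
  have hmem := QuotientGroup.eq.mp h
  have ha2 : a * a = 1 := by
    have := pow_orderOf_eq_one a; rwa [ha, pow_two] at this
  have hb2 : b * b = 1 := by
    have := pow_orderOf_eq_one b; rwa [hb, pow_two] at this
  rw [inv_eq_of_mul_eq_one_right ha2] at hmem
  have h1 := hsmall _ hmem (by
    calc a * b * (a * b) = a * (b * a) * b := by group
      _ = a * a * (b * b) := by rw [← hab.eq]; group
      _ = 1 := by rw [ha2, hb2, mul_one])
  rw [← inv_eq_of_mul_eq_one_right h1, inv_eq_of_mul_eq_one_right ha2]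

/-- Let A be a semisimple subgroup (a central product of quasisimple groups, A = E(A)) of a finite group and t an involution normalizing A such that the Sylow 2-subgroups of C_A(t) are cyclic of order 4. Then A has 2-rank exactly 1. -/
theorem result {G : Type*} [Group G] [Finite G] (A : Subgroup G) (hA : Cfsg.layer ↥A = ⊤)
    (t : G) (ht : orderOf t = 2) (htA : t ∈ Subgroup.normalizer (A : Set G))
    (hC : ∀ R : Sylow 2 ↥(A ⊓ Subgroup.centralizer ({t} : Set G)), IsCyclic R ∧ Nat.card R = 4) :
    Cfsg.PRankLE 2 1 A ∧ ¬ Cfsg.PRankLE 2 0 A := by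
  classical
  haveI : Fact (Nat.Prime 2) := ⟨Nat.prime_two⟩
  set C := A ⊓ Subgroup.centralizer ({t} : Set G) with hCdef
  have hconj : ∀ x ∈ A, t * x * t⁻¹ ∈ A := fun x hx => (Subgroup.mem_normalizer_iff.mp htA x).mp hx
  have htt : t * t = 1 := by
    have := pow_orderOf_eq_one t; rwa [ht, pow_two] at this
  have hti : t⁻¹ = t := inv_eq_of_mul_eq_one_right htt
  have hinvol : ∀ x : G, t * (t * x * t⁻¹) * t⁻¹ = x := fun x => by
    rw [hti]
    calc t * (t * x * t) * t = t * t * x * (t * t) := by group
      _ = x := by rw [htt, one_mul, mul_one]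
  let σ : MulAut A :=
    { toFun := fun x => ⟨t * x * t⁻¹, hconj x x.2⟩
      invFun := fun x => ⟨t * x * t⁻¹, hconj x x.2⟩
      left_inv := fun x => Subtype.ext (hinvol x)
      right_inv := fun x => Subtype.ext (hinvol x)
      map_mul' := fun x y => Subtype.ext (by
        show t * ((x : G) * y) * t⁻¹ = t * (x : G) * t⁻¹ * (t * (y : G) * t⁻¹)
        group) }
  obtain ⟨R0⟩ : Nonempty (Sylow 2 C) := inferInstance
  haveI := (hC R0).1
  obtain ⟨g, hg⟩ := IsCyclic.exists_generator (α := (R0 : Subgroup C))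
  have hgord : orderOf g = 4 := (orderOf_eq_card_of_forall_mem_zpowers hg).trans (hC R0).2
  have hgA : ((g : C) : G) ∈ A := (g : C).2.1
  let f : A := ⟨((g : C) : G), hgA⟩
  have hfix : ∀ x : A, σ x = x ↔ (x : G) ∈ Subgroup.centralizer ({t} : Set G) := fun x => by
    rw [Subgroup.mem_centralizer_singleton_iff]
    refine ⟨fun h => ?_, fun h => Subtype.ext ?_⟩
    · have : t * (x : G) * t⁻¹ = x := congrArg Subtype.val h
      exact (mul_inv_eq_iff_eq_mul.mp this).symm
    · show t * (x : G) * t⁻¹ = x
      rw [← h, mul_inv_cancel_right]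
  have H : FixHyp σ f :=
    { sq := fun x => Subtype.ext (hinvol x)
      fix2 := fun P hP hPfix => by
        let ψ : P →* C :=
          (A.subtype.comp P.subtype).codRestrict C fun x => ⟨(x : A).2, (hfix _).mp (hPfix x x.2)⟩
        have hψ : Function.Injective ψ := fun x y h =>
          Subtype.ext (Subtype.ext (congrArg (fun z : C => (z : G)) h))
        obtain ⟨R, hR⟩ := (hP.of_equiv (MonoidHom.ofInjective hψ)).exists_le_sylow
        obtain ⟨hc, h4⟩ := hC R
        haveI := hc
        haveI : IsCyclic ψ.range := Subgroup.isCyclic_of_le hR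
        refine ⟨isCyclic_of_surjective (MonoidHom.ofInjective hψ).symm (MulEquiv.surjective _), ?_⟩
        rw [Nat.card_congr (MonoidHom.ofInjective hψ).toEquiv]
        exact le_trans (Subgroup.card_le_of_le hR) h4.le
      f_fix := (hfix f).mpr (g : C).2.2
      f_ord := by
        rw [← hgord, ← Subgroup.orderOf_coe f, ← Subgroup.orderOf_coe g, ← Subgroup.orderOf_coe (g : C)] }
  have hperf : commutator A = ⊤ := by
    rw [eq_top_iff, ← hA]
    refine sSup_le fun K hK => ?_
    obtain ⟨-, hKp, -⟩ := hK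
    haveI := hKp
    calc K = ⁅K, K⁆ := (Subgroup.commutator_eq_self (H := K)).symm
      _ ≤ commutator A := Subgroup.commutator_mono le_top le_top
  refine ⟨fun U hUc hU2 => ?_, fun h => ?_⟩
  · by_contra hlt
    push Not at hlt
    haveI : Fintype U := Fintype.ofFinite U
    rw [Nat.card_eq_fintype_card, pow_one, Fintype.two_lt_card_iff] at hlt
    obtain ⟨a, b, c, hab, hac, hbc⟩ := hlt
    have key : ∀ x y : U, x ≠ 1 → y ≠ 1 → x = y := fun x y hx hy => by
      have ho : ∀ x : U, x ≠ 1 → orderOf (x : A) = 2 := fun x hx =>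
        orderOf_eq_prime (hU2 x x.2) fun h => hx (Subtype.ext h)
      exact Subtype.ext (eq_of_commute_aux hperf H (ho x hx) (ho y hy)
        (congrArg Subtype.val (hUc.is_comm.comm x y)))
    by_cases ha : a = 1
    · exact hbc (key b c (fun h => hab (ha.trans h.symm)) (fun h => hac (ha.trans h.symm)))
    · by_cases hb : b = 1
      · exact hac (key a c ha (fun h => hbc (hb.trans h.symm)))
      · exact hab (key a b ha hb)
  · have h1 := h (Subgroup.zpowers (f * f)) inferInstance (fun a ha => by
      obtain ⟨k, rfl⟩ := Subgroup.mem_zpowers_iff.mp ha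
      have hz : (f * f) ^ (2 : ℤ) = 1 := by rw [zpow_two]; exact H.z_sq
      rw [← zpow_natCast, ← zpow_mul, mul_comm, zpow_mul]
      push_cast
      rw [hz, one_zpow])
    rw [Nat.card_zpowers, H.orderOf_z, pow_zero] at h1
    omega

end Cfsg.Agent.S1914
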