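import Cfsg.Statements.S1915
import Cfsg.Agent.Cores.Layer
import Cfsg.Agent.RankOneSemisimple.Main

set_option autoImplicit false
open Cfsg

namespace Cfsg.Agent.S1915

open CfsgLib.RankOneSemisimple

/-- A commutative exponent-two subgroup of a group of 2-rank at most one has no two distinct
involutions. -/
theorem rankOne_eq {H : Type*} [Group H] [Finite H] (h : Cfsg.PRankLE 2 1 H) {a b : H}
    (ha : a * a = 1) (hb : b * b = 1) (hab : a * b = b * a) : a = 1 ∨ b = 1 ∨ a = b := by
  by_contra hcon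
  simp only [not_or] at hcon
  obtain ⟨ha1, hb1, hne⟩ := hcon
  let K : Subgroup H := Subgroup.closure {a, b}
  have hcom : IsMulCommutative K := by
    refine Subgroup.isMulCommutative_closure ?_
    rintro x (rfl | rfl) y (rfl | rfl) <;> simp [hab]
  have hc : ∀ p ∈ K, ∀ q ∈ K, p * q = q * p := fun p hp q hq =>
    congrArg Subtype.val (hcom.is_comm.comm (⟨p, hp⟩ : K) ⟨q, hq⟩)
  have h2 : ∀ x ∈ K, x ^ 2 = 1 := by
    intro x hx
    induction hx using Subgroup.closure_induction with
    | mem y hy => rcases hy with rfl | rfl <;> simp [pow_two, ha, hb]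
    | one => simp
    | mul p q hp hq ihp ihq =>
        rw [(show Commute p q from hc p hp q hq).mul_pow, ihp, ihq, one_mul]
    | inv p _ ihp => rw [inv_pow, ihp, inv_one]
  have hle := h K hcom h2
  rw [pow_one] at hle
  have hsub : ({1, a, b} : Set H) ⊆ K := by
    rintro x (rfl | rfl | rfl)
    exacts [one_mem _, Subgroup.subset_closure (by simp), Subgroup.subset_closure (by simp)]
  have h3 := Set.ncard_le_ncard hsub (Set.toFinite _)
  rw [Set.ncard_eq_three.2 ⟨1, a, b, Ne.symm ha1, Ne.symm hb1, hne, rfl⟩,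
    ← Nat.card_coe_set_eq] at h3
  exact absurd (h3.trans hle) (by norm_num)

/-- Let A be a semisimple subgroup (A = E(A)) of a finite group and U a Klein four-group normalizing A. If the subgroup of A generated by the normalizers N_A(V) of the nontrivial subgroups V of U has 2-rank exactly 1, then A has 2-rank exactly 1. -/
theorem result {G : Type*} [Group G] [Finite G] (A : Subgroup G) (hA : Cfsg.layer ↥A = ⊤)
    (U : Subgroup G) (hU : IsKleinFour U) (hUA : U ≤ Subgroup.normalizer (A : Set G))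
    (hΓ : Cfsg.PRankLE 2 1 ↥(⨆ V : {V : Subgroup G // V ≤ U ∧ V ≠ ⊥}, A ⊓ Subgroup.normalizer ((V : Subgroup G) : Set G)) ∧
      ¬ Cfsg.PRankLE 2 0 ↥(⨆ V : {V : Subgroup G // V ≤ U ∧ V ≠ ⊥}, A ⊓ Subgroup.normalizer ((V : Subgroup G) : Set G))) :
    Cfsg.PRankLE 2 1 A ∧ ¬ Cfsg.PRankLE 2 0 A := by
  set Γ : Subgroup G := ⨆ V : {V : Subgroup G // V ≤ U ∧ V ≠ ⊥},
    A ⊓ Subgroup.normalizer ((V : Subgroup G) : Set G)
  have hΓA : Γ ≤ A := iSup_le fun _ => inf_le_left
  refine ⟨?_, fun h0 => hΓ.2 ?_⟩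
  swap
  · intro B hB hB2
    haveI := hB
    have hinj : Function.Injective (Subgroup.inclusion hΓA) := Subgroup.inclusion_injective hΓA
    have := h0 (B.map (Subgroup.inclusion hΓA)) inferInstance (by
      rintro _ ⟨x, hx, rfl⟩
      rw [← map_pow, hB2 x hx, map_one])
    rwa [Subgroup.card_map_of_injective hinj] at this
  -- perfectness
  have hperf : ⁅A, A⁆ = A := by
    have h1 : ⁅(⊤ : Subgroup A), (⊤ : Subgroup A)⁆ = (⊤ : Subgroup A) := by rw [← hA]; exact CfsgLib.Cores.isPerfect_layer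
    have h2 := congrArg (Subgroup.map A.subtype) h1
    rwa [Subgroup.map_commutator, ← MonoidHom.range_eq_map, Subgroup.range_subtype] at h2
  set N : Subgroup G := Subgroup.normalizer (A : Set G)
  have hAN : A ≤ N := Subgroup.le_normalizer
  let A' : Subgroup N := A.subgroupOf N
  let U' : Subgroup N := U.subgroupOf N
  haveI : A'.Normal := Subgroup.normal_in_normalizer
  have hperf' : ⁅A', A'⁆ = A' := by
    refine Subgroup.map_injective N.subtype_injective ?_
    rw [Subgroup.map_commutator, Subgroup.map_subgroupOf_eq_of_le hAN, hperf]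
  have hsqU : ∀ x : U, x * x = 1 := fun x => by
    have := Monoid.pow_exponent_eq_one x
    rwa [hU.exponent_two, pow_two] at this
  obtain ⟨u, v, hu, hv, hu1, hv1, huv⟩ : ∃ u v : G, u ∈ U ∧ v ∈ U ∧ u ≠ 1 ∧ v ≠ 1 ∧ u ≠ v := by
    classical
    haveI : Fintype U := Fintype.ofFinite U
    have h4 : 2 < (Finset.univ : Finset U).card := by
      rw [Finset.card_univ, ← Nat.card_eq_fintype_card, hU.card_four]; norm_num
    obtain ⟨p, q, r, -, -, -, hpq, hpr, hqr⟩ := Finset.two_lt_card_iff.1 h4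
    by_cases hp : (p : G) = 1
    · exact ⟨q, r, q.2, r.2, fun h => hpq (Subtype.ext (hp.trans h.symm)),
        fun h => hpr (Subtype.ext (hp.trans h.symm)), fun h => hqr (Subtype.ext h)⟩
    · by_cases hq : (q : G) = 1
      · exact ⟨p, r, p.2, r.2, hp, fun h => hqr (Subtype.ext (hq.trans h.symm)),
          fun h => hpr (Subtype.ext h)⟩
      · exact ⟨p, q, p.2, q.2, hp, hq, fun h => hpq (Subtype.ext h)⟩
  have hfix : FixRankOne A' U' := by
    intro w hw hw1 a ha b hb ha2 hb2 hab hwa hwb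
    have hV : Subgroup.zpowers (w : G) ≤ U ∧ Subgroup.zpowers (w : G) ≠ ⊥ :=
      ⟨Subgroup.zpowers_le.2 (Subgroup.mem_subgroupOf.1 hw),
        fun e => hw1 (Subtype.ext (Subgroup.zpowers_eq_bot.1 e))⟩
    have hmem : ∀ c : N, c ∈ A' → w * c = c * w → (c : G) ∈ Γ := by
      intro c hc hwc
      refine le_iSup (fun V : {V : Subgroup G // V ≤ U ∧ V ≠ ⊥} =>
        A ⊓ Subgroup.normalizer ((V : Subgroup G) : Set G)) ⟨_, hV⟩
        ⟨Subgroup.mem_subgroupOf.1 hc, Subgroup.mem_normalizer_iff.2 fun x => ?_⟩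
      have hcw : (c : G) * (w : G) * (c : G)⁻¹ = w := by
        rw [show (c : G) * (w : G) = w * c from (congrArg Subtype.val hwc).symm,
          mul_inv_cancel_right]
      have hz : ∀ j : ℤ, (c : G) * (w : G) ^ j * (c : G)⁻¹ = (w : G) ^ j := fun j => by
        rw [← conj_zpow, hcw]
      constructor
      · rintro ⟨j, rfl⟩; exact ⟨j, (hz j).symm⟩
      · rintro ⟨j, hj⟩
        refine ⟨j, ?_⟩
        have h5 : (w : G) ^ j = (c : G) * x * (c : G)⁻¹ := hj
        calc (w : G) ^ j = (c : G)⁻¹ * ((c : G) * (w : G) ^ j * (c : G)⁻¹) * c := by group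
          _ = x := by rw [hz, h5]; group
    have h3 := rankOne_eq hΓ.1 (a := ⟨a, hmem a ha hwa⟩) (b := ⟨b, hmem b hb hwb⟩)
      (Subtype.ext (congrArg Subtype.val ha2 :)) (Subtype.ext (congrArg Subtype.val hb2 :))
      (Subtype.ext (congrArg Subtype.val hab :))
    rcases h3 with h | h | h
    · exact Or.inl (Subtype.ext (congrArg Subtype.val h :))
    · exact Or.inr (Or.inl (Subtype.ext (congrArg Subtype.val h :)))
    · exact Or.inr (Or.inr (Subtype.ext (congrArg Subtype.val h :)))
  intro B hB hB2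
  haveI := hB
  rw [pow_one]
  by_contra hlt
  classical
  haveI : Fintype B := Fintype.ofFinite B
  obtain ⟨x, y, z, -, -, -, hxy, hxz, hyz⟩ := Finset.two_lt_card_iff.1
    (show 2 < (Finset.univ : Finset B).card by
      rw [Finset.card_univ, ← Nat.card_eq_fintype_card]; omega)
  have main : ∀ p q : B, p ≠ 1 → q ≠ 1 → p = q := by
    intro p q hp hq
    have hsq : ∀ t : B, ((t : A) : G) * ((t : A) : G) = 1 := fun t => by
      have := congrArg Subtype.val (hB2 t t.2)
      simpa [pow_two] using this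
    have hne : ∀ t : B, t ≠ 1 → ((t : A) : G) ≠ 1 := fun t ht h =>
      ht (Subtype.ext (Subtype.ext h))
    have hUp : IsPGroup 2 U' := (IsPGroup.of_card (n := 2) (show Nat.card U = 2 ^ 2 by
      rw [hU.card_four]; norm_num)).of_equiv (Subgroup.subgroupOfEquivOfLe hUA).symm
    have := eq_of_perfect_normal A' hperf' U'
      (u := ⟨u, hUA hu⟩) (v := ⟨v, hUA hv⟩) hu hv
      (fun h => hu1 (congrArg Subtype.val h)) (fun h => hv1 (congrArg Subtype.val h))
      (fun h => huv (congrArg Subtype.val h))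
      (Subtype.ext (congrArg Subtype.val (hsqU ⟨u, hu⟩) :))
      (Subtype.ext (congrArg Subtype.val (hsqU ⟨v, hv⟩) :))
      (Subtype.ext (congrArg Subtype.val (mul_comm_of_exponent_two hU.exponent_two ⟨u, hu⟩ ⟨v, hv⟩) :))
      hUp hfix
      (a₀ := ⟨((p : A) : G), hAN (p : A).2⟩) (b₀ := ⟨((q : A) : G), hAN (q : A).2⟩)
      (p : A).2 (q : A).2 (Subtype.ext (hsq p)) (Subtype.ext (hsq q))
      (Subtype.ext (congrArg (fun t : B => ((t : A) : G)) (hB.is_comm.comm p q) :))
      (fun h => hne p hp (congrArg Subtype.val h)) (fun h => hne q hq (congrArg Subtype.val h))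
    exact Subtype.ext (Subtype.ext (congrArg Subtype.val this :))
  by_cases hx : x = 1
  · subst hx; exact hyz (main y z hxy.symm hxz.symm)
  · by_cases hy : y = 1
    · subst hy; exact hxz (main x z hx hyz.symm)
    · exact hxy (main x y hx hy)

end Cfsg.Agent.S1915
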