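import Cfsg.Statements.S1922
import Cfsg.Agent.IsolatedPoint.Central

set_option autoImplicit false
open Cfsg

namespace Cfsg.Agent.S1922

/-- Let z be an involution of a finite group G and H a proper subgroup such that z lies in gHg⁻¹ exactly when g ∈ H. Then the following are equivalent: (1) for every conjugate t ≠ z of z commuting with z, the product zt lies in gHg⁻¹ exactly when g ∈ H; (2) z lies in the centre of some Sylow 2-subgroup of G, and for every conjugate t ≠ z of z commuting with z, the centralizer of zt is contained in H. -/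
theorem result {G : Type*} [Group G] [Finite G] (z : G) (hz : orderOf z = 2) (H : Subgroup G) (hH : H ≠ ⊤)
    (h0 : ∀ g : G, z ∈ H.map (MulAut.conj g).toMonoidHom ↔ g ∈ H) :
    (∀ t : G, IsConj z t → t ≠ z → t * z = z * t → ∀ g : G, z * t ∈ H.map (MulAut.conj g).toMonoidHom ↔ g ∈ H) ↔
      ((∃ P : Sylow 2 G, z ∈ (Subgroup.center ↥(P : Subgroup G)).map (P : Subgroup G).subtype) ∧
        ∀ t : G, IsConj z t → t ≠ z → t * z = z * t → Subgroup.centralizer ({z * t} : Set G) ≤ H) := by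
  have hmem : ∀ g x : G, x ∈ H.map (MulAut.conj g).toMonoidHom ↔ g⁻¹ * x * g ∈ H := by
    intro g x
    constructor
    · rintro ⟨y, hy, rfl⟩
      simpa [mul_assoc] using hy
    · intro h
      exact ⟨_, h, by simp [mul_assoc]⟩
  have hu : ∀ g : G, g⁻¹ * z * g ∈ H ↔ g ∈ H := fun g => (hmem g z).symm.trans (h0 g)
  constructor
  · intro h1
    have hI : CfsgLib.IsolatedPoint.Isol z H :=
      ⟨hz, hH, hu, fun t ht hne hc g hg =>
        (h1 t (CfsgLib.IsolatedPoint.conj'_iff.mp ht) hne hc.eq g).mp ((hmem g _).mpr hg)⟩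
    refine ⟨?_, fun t ht hne hc g hg => ?_⟩
    · obtain ⟨P, hzP, hc⟩ := hI.isTwoCentral
      exact ⟨P, ⟨z, hzP⟩, Subgroup.mem_center_iff.mpr fun s => Subtype.ext (hc s s.2), rfl⟩
    · have he : z * t ∈ H := H.mul_mem hI.mem (hI.mem_of_commute hc)
      refine (h1 t ht hne hc g).mp ((hmem g _).mpr ?_)
      have hg' := Subgroup.mem_centralizer_singleton_iff.mp hg
      rw [show g⁻¹ * (z * t) * g = g⁻¹ * ((z * t) * g) by group, ← hg', inv_mul_cancel_left]
      exact he
  · rintro ⟨⟨P, hzP⟩, h2⟩ t ht hne hc g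
    obtain ⟨z0, hz0, rfl⟩ := hzP
    simp only [Subgroup.coe_subtype] at hz hu h2 hne hc ht hmem ⊢
    have hcz : ∀ s ∈ P, s * (z0 : G) = (z0 : G) * s := fun s hs =>
      congrArg Subtype.val (Subgroup.mem_center_iff.mp hz0 ⟨s, hs⟩)
    have hzH : (z0 : G) ∈ H := by simpa using (hu 1).mpr H.one_mem
    have hcent : ∀ s : G, s * (z0 : G) = (z0 : G) * s → s ∈ H := by
      intro s hs
      refine (hu s).mp ?_
      rw [show s⁻¹ * (z0 : G) * s = s⁻¹ * ((z0 : G) * s) by group, ← hs, inv_mul_cancel_left]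
      exact hzH
    have he : (z0 : G) * t ∈ H := H.mul_mem hzH (hcent t hc)
    constructor
    swap
    · intro hg
      rw [hmem]
      exact H.mul_mem (H.mul_mem (H.inv_mem hg) he) hg
    intro hg
    rw [hmem] at hg
    haveI : Fact (Nat.Prime 2) := ⟨Nat.prime_two⟩
    have hPH : (P : Subgroup G) ≤ H := fun s hs => hcent s (hcz s hs)
    have hz1 : (z0 : G) * (z0 : G) = 1 :=
      CfsgLib.StronglyEmbedded.mul_self_eq_one hz
    have h1 : ((z0 : G) * t) * ((z0 : G) * t) = 1 := by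
      obtain ⟨c, rfl⟩ := isConj_iff.mp ht
      calc ((z0 : G) * (c * (z0 : G) * c⁻¹)) * ((z0 : G) * (c * (z0 : G) * c⁻¹))
          = (z0 : G) * ((c * (z0 : G) * c⁻¹) * (z0 : G)) * (c * (z0 : G) * c⁻¹) := by group
        _ = (z0 : G) * ((z0 : G) * (c * (z0 : G) * c⁻¹)) * (c * (z0 : G) * c⁻¹) := by rw [hc]
        _ = ((z0 : G) * (z0 : G)) * c * ((z0 : G) * (z0 : G)) * c⁻¹ := by group
        _ = 1 := by rw [hz1]; group
    set e : G := g⁻¹ * ((z0 : G) * t) * g with hedef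
    have he2 : e * e = 1 := by
      rw [hedef, show g⁻¹ * ((z0 : G) * t) * g * (g⁻¹ * ((z0 : G) * t) * g) =
        g⁻¹ * (((z0 : G) * t) * ((z0 : G) * t)) * g by group, h1]
      group
    have hep : IsPGroup 2 (Subgroup.zpowers (⟨e, hg⟩ : H)) := by
      have h2 : Nat.card (Subgroup.zpowers (⟨e, hg⟩ : H)) ∣ 2 := by
        rw [Nat.card_zpowers, orderOf_dvd_iff_pow_eq_one, sq]
        exact Subtype.ext he2
      rcases (Nat.dvd_prime Nat.prime_two).mp h2 with h | h
      · exact IsPGroup.of_card (n := 0) h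
      · exact IsPGroup.of_card (n := 1) h
    obtain ⟨Q, hQ⟩ := hep.exists_le_sylow
    obtain ⟨c, hcQ⟩ := MulAction.exists_smul_eq H Q (P.subtype hPH)
    have heP : (c : G) * e * (c : G)⁻¹ ∈ P := by
      have h1 : (c * ⟨e, hg⟩ * c⁻¹ : H) ∈ ((c • Q : Sylow 2 H) : Subgroup H) := by
        rw [Sylow.coe_subgroup_smul]
        exact ⟨⟨e, hg⟩, hQ (Subgroup.mem_zpowers _), rfl⟩
      rw [hcQ] at h1
      exact h1
    have h3 := hcz _ heP
    have hd : (g * (c : G)⁻¹) * (z0 : G) * (g * (c : G)⁻¹)⁻¹ ∈ H := by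
      refine h2 t ht hne hc (Subgroup.mem_centralizer_singleton_iff.mpr ?_)
      show _ * ((z0 : G) * t) = ((z0 : G) * t) * _
      rw [hedef] at h3
      calc (g * (c : G)⁻¹) * (z0 : G) * (g * (c : G)⁻¹)⁻¹ * ((z0 : G) * t)
          = g * (c : G)⁻¹ * ((z0 : G) *
              ((c : G) * (g⁻¹ * ((z0 : G) * t) * g) * (c : G)⁻¹)) * ((c : G) * g⁻¹) := by group
        _ = g * (c : G)⁻¹ * (((c : G) * (g⁻¹ * ((z0 : G) * t) * g) * (c : G)⁻¹) *
              (z0 : G)) * ((c : G) * g⁻¹) := by rw [h3]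
        _ = (z0 : G) * t * ((g * (c : G)⁻¹) * (z0 : G) * (g * (c : G)⁻¹)⁻¹) := by group
    have h4 : (g * (c : G)⁻¹)⁻¹ ∈ H := by
      refine (hu _).mp ?_
      rwa [inv_inv]
    have h5 := H.mul_mem (H.inv_mem h4) c.2
    rwa [inv_inv, inv_mul_cancel_right] at h5

end Cfsg.Agent.S1922
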