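import Cfsg.Statements.S1948
import Cfsg.Agent.Constrained.HallHigman
import Cfsg.Agent.GlaubermanZJ.Constrained
import Cfsg.Agent.Alperin.Centric

set_option autoImplicit false
open Cfsg

namespace Cfsg.Agent.S1948

/-- Let S be a Sylow p-subgroup of the finite group G. Then G = N_G(S)·O_{p'}(G) if and only if G is p-constrained and N_G(S) controls fusion in S, in the sense that whenever a subgroup Q of S has a conjugate g Q g⁻¹ inside S, the element g is a product n c with n normalizing S and c centralizing Q. -/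
theorem result {G : Type*} [Group G] [Finite G] {p : ℕ} [Fact p.Prime] (S : Sylow p G) :
    Subgroup.normalizer ((S : Subgroup G) : Set G) ⊔ Cfsg.pPrimeCore p G = ⊤ ↔
      (Cfsg.IsPConstrained p G ∧
        ∀ Q : Subgroup G, Q ≤ (S : Subgroup G) → ∀ g : G, Q.map (MulAut.conj g).toMonoidHom ≤ (S : Subgroup G) →
          ∃ n ∈ Subgroup.normalizer ((S : Subgroup G) : Set G), ∃ c ∈ Subgroup.centralizer (Q : Set G), g = n * c) := by
  haveI := pPrimeCore_normal p G
  set K := Cfsg.pPrimeCore p G with hK
  have hKc : (Nat.card K).Coprime p := CfsgLib.Constrained.pPrimeCore_coprime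
  have hmemK : ∀ x : G, x ∈ Subgroup.normalizer ((S : Subgroup G) : Set G) ⊔ K →
      ∃ n ∈ Subgroup.normalizer ((S : Subgroup G) : Set G), ∃ k ∈ K, x = n * k := by
    intro x hx
    rw [← SetLike.mem_coe, Subgroup.mul_normal] at hx
    obtain ⟨n, hn, k, hk, rfl⟩ := Set.mem_mul.mp hx
    exact ⟨n, hn, k, hk, rfl⟩
  constructor
  · intro htop
    refine ⟨CfsgLib.Constrained.isPConstrained_iff.mpr ?_, fun Q hQ g hg => ?_⟩
    · have hidx : ¬ p ∣ ((S : Subgroup G) ⊓ Subgroup.normalizer ((S : Subgroup G) : Set G)).relIndex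
          (Subgroup.normalizer ((S : Subgroup G) : Set G)) := by
        rw [inf_eq_left.mpr Subgroup.le_normalizer]
        exact fun h => S.not_dvd_index (h.trans (Subgroup.relIndex_dvd_index_of_le Subgroup.le_normalizer))
      obtain ⟨D, hDC, hDn, hDc, -, -, hsup⟩ :=
        CfsgLib.Alperin.exists_centralizer_complement S le_rfl hidx inf_le_left
      have hDK : D ≤ K := by
        set L := K ⊔ D with hL
        have hLn : L.Normal := by
          refine Subgroup.normalizer_eq_top_iff.mp (eq_top_iff.mpr ?_)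
          rw [← htop]
          refine sup_le (fun n hn => ?_) (le_sup_left.trans Subgroup.le_normalizer)
          rw [Subgroup.mem_normalizer_iff_map_conj_eq, hL, Subgroup.map_sup,
            Subgroup.mem_normalizer_iff_map_conj_eq.mp (hDn hn),
            Subgroup.mem_normalizer_iff_map_conj_eq.mp (show n ∈ Subgroup.normalizer (K : Set G) by
              rw [Subgroup.normalizer_eq_top]; trivial)]
        refine le_sup_right.trans (CfsgLib.Constrained.le_pPrimeCore_of_not_dvd hLn ?_)
        exact CfsgLib.Constrained.not_dvd_card_sup CfsgLib.Constrained.pPrimeCore_not_dvd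
          (((Fact.out : p.Prime).coprime_iff_not_dvd).mp hDc.symm)
      set f := QuotientGroup.mk' K with hf
      have hfs : Function.Surjective f := QuotientGroup.mk'_surjective K
      have hSn : ((S : Subgroup G).map f).Normal := by
        refine Subgroup.normalizer_eq_top_iff.mp (eq_top_iff.mpr ?_)
        rw [← Subgroup.map_top_of_surjective f hfs, ← htop, Subgroup.map_sup,
          show K.map f = ⊥ from (Subgroup.map_eq_bot_iff K).mpr (by rw [QuotientGroup.ker_mk']), sup_bot_eq]
        exact Subgroup.le_normalizer_map _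
      have hSO : (S : Subgroup G).map f ≤ Cfsg.pCore p (G ⧸ K) :=
        CfsgLib.Constrained.le_pCore hSn (S.2.map _)
      refine (Subgroup.centralizer_le (SetLike.coe_subset_coe.mpr hSO)).trans ?_
      rw [← CfsgLib.Constrained.map_centralizer_eq K CfsgLib.Constrained.pPrimeCore_not_dvd _ S.2, hsup,
        Subgroup.map_sup]
      exact sup_le ((Subgroup.map_mono inf_le_left).trans hSO)
        (((Subgroup.map_eq_bot_iff D).mpr (hDK.trans (QuotientGroup.ker_mk' K).ge)).le.trans bot_le)
    · obtain ⟨n, hn, k, hk, rfl⟩ := hmemK g (htop ▸ Subgroup.mem_top g)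
      refine ⟨n, hn, k, fun q hq => ?_, rfl⟩
      have h1 : n * (k * q * k⁻¹) * n⁻¹ ∈ (S : Subgroup G) := by
        have := hg ⟨q, hq, rfl⟩
        simpa [mul_assoc] using this
      have h2 := (S : Subgroup G).mul_mem ((Subgroup.mem_normalizer_iff.mp hn _).mpr h1)
        ((S : Subgroup G).inv_mem (hQ hq))
      have h3 : k * q * k⁻¹ * q⁻¹ ∈ K := by
        have := K.mul_mem hk (‹K.Normal›.conj_mem _ (K.inv_mem hk) q)
        simpa [mul_assoc] using this
      have h4 : k * q * k⁻¹ * q⁻¹ ∈ ((S : Subgroup G) ⊓ K : Subgroup G) := ⟨h2, h3⟩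
      rw [CfsgLib.Constrained.disjoint_of_isPGroup_of_not_dvd S.2 CfsgLib.Constrained.pPrimeCore_not_dvd,
        Subgroup.mem_bot, mul_inv_eq_one, mul_inv_eq_iff_eq_mul] at h4
      exact h4.symm
  · rintro ⟨hc, hctl⟩
    set M := Cfsg.pPrimePCore p G with hM
    obtain ⟨P, hP⟩ := CfsgLib.GlaubermanZJ.exists_sylow_map_eq_inf S M
    set Q := (P : Subgroup ↥M).map M.subtype with hQ
    have hQS : Q ≤ (S : Subgroup G) := hP ▸ inf_le_left
    have hKQ : K ⊔ Q = M := CfsgLib.Constrained.pPrimeCore_sup_sylow_eq P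
    have hS : (S : Subgroup G) ≤ Subgroup.normalizer ((S : Subgroup G) : Set G) := Subgroup.le_normalizer
    have hCM : Subgroup.centralizer (Q : Set G) ≤ Subgroup.normalizer ((S : Subgroup G) : Set G) ⊔ K :=
      ((hc P).trans hKQ.ge).trans (sup_le le_sup_right ((hQS.trans hS).trans le_sup_left))
    rw [eq_top_iff, ← Sylow.normalizer_sup_eq_top P]
    refine sup_le (fun g hg => ?_) (hKQ.ge.trans (sup_le le_sup_right ((hQS.trans hS).trans le_sup_left)))
    obtain ⟨n, hn, c, hc', rfl⟩ := hctl Q hQS g (by
      have e : Q.map (MulAut.conj g).toMonoidHom = Q := Subgroup.mem_normalizer_iff_map_conj_eq.mp hg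
      rw [e]; exact hQS)
    exact Subgroup.mul_mem _ (Subgroup.mem_sup_left hn) (hCM hc')

end Cfsg.Agent.S1948
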