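import Cfsg.Statements.S1953
import Cfsg.Agent.ConjFunctor.AutomizerSections
import Cfsg.Agent.ConjFunctor.LeastCentricRadical

set_option autoImplicit false
open Cfsg

namespace Cfsg.Agent.S1953

/-- Let p be an odd prime and P a Sylow p-subgroup of the finite group G, and suppose that for no p-subgroup Q of G does N_G(Q)/C_G(Q) have a section isomorphic to SL₂(p). Call a subgroup Q of P centric-radical when Z(Q) is a Sylow p-subgroup of C_G(Q) and the only normal subgroup X of N_G(Q) containing Q·C_G(Q) such that the index of Q·C_G(Q) in X is a power of p is Q·C_G(Q) itself (that is, N_G(Q)/Q·C_G(Q) has no nontrivial normal p-subgroup). Then there is a centric-radical subgroup Q of P contained in every centric-radical subgroup of P; it is normal in P, and N_G(Q) controls strong fusion in P: whenever a subgroup A of P has g A g⁻¹ ≤ P, the element g is a product h c with h in N_G(Q) and c centralizing A. -/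
theorem result {G : Type*} [Group G] [Finite G] {p : ℕ} [Fact p.Prime] (hp : p ≠ 2) (P : Sylow p G)
    (hfree : ∀ Q : Subgroup G, IsPGroup p ↥Q → ¬ ∃ (H K : Subgroup G) (_ : (K.subgroupOf H).Normal),
      Subgroup.centralizer (Q : Set G) ≤ K ∧ K ≤ H ∧ H ≤ Subgroup.normalizer (Q : Set G) ∧
      Nonempty ((↥H ⧸ K.subgroupOf H) ≃* Matrix.SpecialLinearGroup (Fin 2) (ZMod p)))
    (cr : Subgroup G → Prop)
    (hcr : ∀ Q : Subgroup G, cr Q ↔ (Q ≤ (P : Subgroup G) ∧
      (∃ R : Sylow p ↥(Subgroup.centralizer (Q : Set G)),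
        (R : Subgroup ↥(Subgroup.centralizer (Q : Set G))).map (Subgroup.centralizer (Q : Set G)).subtype = Q ⊓ Subgroup.centralizer (Q : Set G)) ∧
      ∀ X : Subgroup G, X ≤ Subgroup.normalizer (Q : Set G) →
        (∀ n ∈ Subgroup.normalizer (Q : Set G), X.map (MulAut.conj n).toMonoidHom = X) →
        Q ⊔ Subgroup.centralizer (Q : Set G) ≤ X → (∃ k : ℕ, (Q ⊔ Subgroup.centralizer (Q : Set G)).relIndex X = p ^ k) →
        X = Q ⊔ Subgroup.centralizer (Q : Set G))) :
    ∃ Q : Subgroup G, cr Q ∧ (∀ R : Subgroup G, cr R → Q ≤ R) ∧ (∀ x ∈ (P : Subgroup G), Q.map (MulAut.conj x).toMonoidHom = Q) ∧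
      ∀ A : Subgroup G, A ≤ (P : Subgroup G) → ∀ g : G, A.map (MulAut.conj g).toMonoidHom ≤ (P : Subgroup G) →
        ∃ h ∈ Subgroup.normalizer (Q : Set G), ∃ c ∈ Subgroup.centralizer (A : Set G), g = h * c := by
  have hqd : ¬ Cfsg.Involves (Cfsg.qd p) G := fun h => by
    obtain ⟨Q, hQ, hs⟩ := CfsgLib.ConjFunctor.exists_automizer_section_of_involves_qd h
    exact hfree Q hQ hs
  have hst : ∀ (K R : Subgroup G) [(R.subgroupOf K).Normal],
      Cfsg.IsNormalizerPStable p (↥K ⧸ R.subgroupOf K) := fun K R _ =>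
    CfsgLib.QdSection.isNormalizerPStable_of_qdFree hp fun h => hqd (CfsgLib.QdSection.involves_of_section K R h)
  set K := Cfsg.inducedFunctor Cfsg.kInfLower (P : Subgroup G) with hK
  have hKP : K ≤ (P : Subgroup G) := Subgroup.map_subtype_le _
  have hW := CfsgLib.ConjFunctor.isCharPFunctor_kInfLower (p := p)
  have hKn : (P : Subgroup G) ≤ Subgroup.normalizer (K : Set G) := fun x hx =>
    CfsgLib.ConjFunctor.mem_normalizer_iff_conjOf.mpr (by
      have h1 := ((CfsgLib.ConjFunctor.isConjugacyFunctor_inducedFunctor (G := G) hW) (P : Subgroup G) P.2).2.2 x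
      have h2 := CfsgLib.ConjFunctor.mem_normalizer_iff_conjOf.mp
        (Subgroup.le_normalizer (H := (P : Subgroup G)) hx)
      simp only [CfsgLib.ConjFunctor.conjOf] at h1 h2 ⊢
      rw [h2] at h1
      exact h1.symm)
  have hKc : (P : Subgroup G) ⊓ Subgroup.centralizer (K : Set G) ≤ K := fun x hx =>
    ⟨⟨x, hx.1⟩, CfsgLib.ConjFunctor.centralizer_kInfLower_le P.2.isNilpotent (fun y hy =>
      Subtype.ext (hx.2 (y : G) ⟨y, hy, rfl⟩)), rfl⟩
  have hctrl : ∀ A : Subgroup G, A ≤ (P : Subgroup G) → ∀ g, CfsgLib.ConjFunctor.conjOf g A ≤ (P : Subgroup G) →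
      CfsgLib.ConjFunctor.SplitsIn (Subgroup.normalizer (K : Set G)) A g := by
    intro A hA g hg
    have h := CfsgLib.SectionFunctors.fusionControlledAt_top_of_factorization (p := p) Cfsg.kInfLower Cfsg.kInfLower hW hW
      {Cfsg.kInfLower} rfl rfl (fun W' h' => by cases h'; exact hW) _ G rfl (fun K' R' _ hc T x =>
        ⟨x, by
          haveI := (CfsgLib.ConjFunctor.kInf_normal_of_sections hst K' R' hc T).1
          rw [Subgroup.normalizer_eq_top]; trivial, 1, one_mem _, (mul_one x).symm⟩) P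
    rw [Set.image_singleton] at h
    have h1 := h A g trivial hA hg
    have hN : CfsgLib.ConjFunctor.functorNormalizers {Cfsg.inducedFunctor Cfsg.kInfLower} ⊤ (P : Subgroup G) =
        {Subgroup.normalizer (K : Set G)} := by
      simp [CfsgLib.ConjFunctor.functorNormalizers, hK]
    rw [hN] at h1
    obtain ⟨x, hx, hxa⟩ := h1.exists_mem_of_singleton
    refine ⟨x, hx, x⁻¹ * g, fun a ha => ?_, by group⟩
    have e := hxa a ha
    calc a * (x⁻¹ * g) = x⁻¹ * (x * a * x⁻¹) * g := by group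
      _ = x⁻¹ * (g * a * g⁻¹) * g := by rw [e]
      _ = x⁻¹ * g * a := by group
  obtain ⟨Q, hQP, hPQ, hQc, hQrad, hQmin, hQctrl⟩ :=
    CfsgLib.ConjFunctor.exists_least_centric_radical P hKP hKn hKc hctrl
  have hinf : Q ⊓ Subgroup.centralizer (Q : Set G) = (P : Subgroup G) ⊓ Subgroup.centralizer (Q : Set G) :=
    le_antisymm (inf_le_inf_right _ hQP) (le_inf hQc inf_le_right)
  have hFN : ¬ p ∣ ((P : Subgroup G) ⊓ Subgroup.normalizer (Q : Set G)).relIndex (Subgroup.normalizer (Q : Set G)) := by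
    rw [inf_eq_left.mpr hPQ]
    exact fun h => P.not_dvd_index (h.trans (Subgroup.relIndex_dvd_index_of_le hPQ))
  refine ⟨Q, (hcr Q).mpr ⟨hQP, ?_, ?_⟩, ?_, fun x hx => CfsgLib.ConjFunctor.mem_normalizer_iff_conjOf.mp (hPQ hx),
    fun A hA g hg => hQctrl A hA g hg⟩
  · have hC := CfsgLib.Alperin.not_dvd_relIndex_inf P hFN (Subgroup.centralizer_le_normalizer _)
      (fun m hm => CfsgLib.ConjFunctor.mem_normalizer_iff_conjOf.mpr (CfsgLib.ConjFunctor.conjOf_centralizer_eq hm))
    refine ⟨((P.2.to_le inf_le_left).comap_subtype (K := Subgroup.centralizer (Q : Set G))).toSylow hC, ?_⟩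
    rw [hinf]
    exact Subgroup.map_subgroupOf_eq_of_le inf_le_right
  · intro X hXN hXinv hle ⟨k, hk⟩
    refine le_antisymm (hQrad X hXN (fun m hm => CfsgLib.ConjFunctor.mem_normalizer_iff_conjOf.mpr (hXinv m hm)) ?_) hle
    rw [← Subgroup.relIndex_eq_one]
    refine Nat.eq_one_of_dvd_coprimes ((((Fact.out : p.Prime).coprime_iff_not_dvd).mpr
      (CfsgLib.Alperin.not_dvd_relIndex_inf P hFN hXN fun m hm =>
        CfsgLib.ConjFunctor.mem_normalizer_iff_conjOf.mpr (hXinv m hm))).symm.pow_right k) ?_ ?_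
    · exact Subgroup.relIndex_dvd_of_le_left X le_sup_right
    · rw [← hk]
      exact Subgroup.relIndex_dvd_of_le_left X le_sup_left
  · intro U hU
    obtain ⟨hUP, ⟨R, hR⟩, hUrad⟩ := (hcr U).mp hU
    have hUc : (P : Subgroup G) ⊓ Subgroup.centralizer (U : Set G) ≤ U := by
      intro x hx
      have h1 : (R : Subgroup ↥(Subgroup.centralizer (U : Set G))) ≤
          ((P : Subgroup G) ⊓ Subgroup.centralizer (U : Set G)).subgroupOf (Subgroup.centralizer (U : Set G)) := by
        intro y hy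
        have : (y : G) ∈ U ⊓ Subgroup.centralizer (U : Set G) := hR ▸ ⟨y, hy, rfl⟩
        exact ⟨hUP this.1, y.2⟩
      have h2 := R.3 (P.2.to_le inf_le_left).comap_subtype h1
      have h3 : x ∈ U ⊓ Subgroup.centralizer (U : Set G) := hR ▸ ⟨⟨x, hx.2⟩, h2 ▸ hx, rfl⟩
      exact h3.1
    refine hQmin U hUP fun W hCW hWN hNW hWgen => ?_
    set A := U ⊔ Subgroup.centralizer (U : Set G) with hA
    set X := U ⊔ W with hX
    have hAX : A ≤ X := sup_le_sup_left hCW U
    have hXN' : X ≤ Subgroup.normalizer (U : Set G) := sup_le Subgroup.le_normalizer hWN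
    have hXinv : ∀ n ∈ Subgroup.normalizer (U : Set G), CfsgLib.ConjFunctor.conjOf n X = X := fun n hn =>
      CfsgLib.ConjFunctor.mem_normalizer_iff_conjOf.mp (CfsgLib.ConjFunctor.mem_normalizer_sup hn (hNW hn))
    haveI : (A.subgroupOf X).Normal := (Subgroup.normal_subgroupOf_iff_le_normalizer hAX).mpr fun m hm =>
      CfsgLib.ConjFunctor.mem_normalizer_sup (hXN' hm) (CfsgLib.ConjFunctor.mem_normalizer_iff_conjOf.mpr
        (CfsgLib.ConjFunctor.conjOf_centralizer_eq (hXN' hm)))
    set B := (((P : Subgroup G) ⊓ X).subgroupOf X).map (QuotientGroup.mk' (A.subgroupOf X)) with hB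
    have hBp : IsPGroup p ↥B := (P.2.to_le inf_le_left).comap_subtype.map _
    have hgen : X ≤ A ⊔ ((P : Subgroup G) ⊓ X) :=
      sup_le (le_sup_left.trans le_sup_left) (hWgen.trans (sup_le_sup le_sup_right (inf_le_inf_left _ le_sup_right)))
    have hBtop : B = ⊤ := by
      refine eq_top_iff.mpr fun q _ => ?_
      obtain ⟨x, rfl⟩ := QuotientGroup.mk'_surjective _ q
      have hx : x ∈ A.subgroupOf X ⊔ ((P : Subgroup G) ⊓ X).subgroupOf X := by
        rw [← Subgroup.subgroupOf_sup hAX inf_le_right]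
        exact hgen x.2
      obtain ⟨a, ha, b, hb, rfl⟩ := Subgroup.mem_sup_of_normal_left.mp hx
      exact ⟨b, hb, by rw [map_mul, show QuotientGroup.mk' (A.subgroupOf X) a = 1 from (QuotientGroup.eq_one_iff _).mpr ha, one_mul]⟩
    obtain ⟨k, hk⟩ := IsPGroup.iff_card.mp hBp
    rw [hBtop, Subgroup.card_top] at hk
    have hXA : X = A := hUrad X hXN' hXinv hAX ⟨k, by rw [Subgroup.relIndex, Subgroup.index_eq_card]; exact hk⟩
    refine (inf_le_inf_left _ (le_sup_right.trans hXA.le)).trans fun x hx => ?_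
    have hx' : x ∈ ((U ⊔ Subgroup.centralizer (U : Set G) : Subgroup G) : Set G) := hx.2
    rw [Subgroup.coe_mul_of_left_le_normalizer_right U (Subgroup.centralizer (U : Set G)) (fun m hm =>
      CfsgLib.ConjFunctor.mem_normalizer_iff_conjOf.mpr (CfsgLib.ConjFunctor.conjOf_centralizer_eq
        (Subgroup.le_normalizer hm)))] at hx'
    obtain ⟨u, hu, c, hc, rfl⟩ := Set.mem_mul.mp hx'
    refine U.mul_mem hu (hUc ⟨?_, hc⟩)
    have := (P : Subgroup G).mul_mem ((P : Subgroup G).inv_mem (hUP hu)) hx.1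
    rwa [inv_mul_cancel_left] at this

end Cfsg.Agent.S1953
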