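import Cfsg.Statements.S2113
import Cfsg.Agent.Eq.Def_KGroupFacts
import Cfsg.Agent.Ree.SylowTwo
import Cfsg.Agent.S1156
import Cfsg.Agent.ReeMult.Unipotent
import Cfsg.Agent.ReeMult.Two

set_option autoImplicit false
open Cfsg

namespace Cfsg.Agent.S2113

/-- Schur multipliers of the small Ree groups: for q = 3^(2m+1) with m ≥ 1 the Schur multiplier of ²G₂(q) is trivial (here the Schur multiplier is described through stem extensions, as in the definitions). -/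
theorem result {K : Type*} [Field K] [Fintype K] {m : ℕ} (hm : 1 ≤ m) (hK : Fintype.card K = 3 ^ (2 * m + 1)) : Cfsg.HasCyclicSchurMultiplier ↥(Cfsg.Lie.twistedG2 K (3 ^ m)) 1 := by
  haveI : CharP K 3 := CfsgLib.Ree.charP_of_card hK
  haveI : Finite ↥(Cfsg.Lie.twistedG2 K (3 ^ m)) := inferInstance
  refine CfsgLib.Schur.hasCyclicSchurMultiplier_one fun Γ _ _ σ hσ p hp => ?_
  haveI : Fact p.Prime := ⟨hp⟩
  by_cases h2 : p = 2
  · subst h2
    obtain ⟨S⟩ := (inferInstance : Nonempty (Sylow 2 ↥(Cfsg.Lie.twistedG2 K (3 ^ m))))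
    obtain ⟨h8, hsq⟩ := CfsgLib.Ree.sylow_two_twisted hK S
    exact CfsgLib.ReeMult.not_two_dvd_card_ker hσ S S.not_dvd_index h8 hsq
      (CfsgLib.Ree.centralizer_sylow_two hK hm S) (CfsgLib.Ree.card_normalizer_sylow_two hK hm S)
  by_cases h3 : p = 3
  · subst h3
    have hq := CfsgLib.Ree.Q_of_card hK
    obtain ⟨S, hS⟩ := CfsgLib.Ree.exists_uSylow hK
    obtain ⟨T, hT2, ⟨L₁⟩, ⟨L₂⟩, ⟨L₃⟩⟩ := CfsgLib.ReeMult.exists_layers hm hK
    have h27 : 27 ≤ Fintype.card K := by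
      rw [hK]
      exact le_trans (by norm_num) (Nat.pow_le_pow_right (by norm_num) (show 3 ≤ 2 * m + 1 by omega))
    have hfr := CfsgLib.ReeMult.isDeg_hom (CfsgLib.Ree.fr K m).toAddMonoidHom
    have hid := CfsgLib.ReeMult.isDeg_hom (AddMonoidHom.id K)
    have hd2 : CfsgLib.ReeMult.IsDeg 2 fun x : K => CfsgLib.Ree.fr K m x * x :=
      CfsgLib.ReeMult.IsDeg.bilin AddMonoidHom.mul hfr hid
    have hd3 : CfsgLib.ReeMult.IsDeg 3 fun x : K => CfsgLib.Ree.fr K m x * x * x :=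
      CfsgLib.ReeMult.IsDeg.bilin AddMonoidHom.mul hd2 hid
    refine CfsgLib.ReeMult.not_dvd_card_ker_of_layers hσ _ _ _ (hS ▸ S.not_dvd_index)
      (CfsgLib.ReeMult.commutator_uSub3 hm hK) (CfsgLib.ReeMult.commutator_uSub3_uTwo hq)
      (CfsgLib.ReeMult.commutator_uThree hq) CfsgLib.ReeMult.uThree_le CfsgLib.ReeMult.uTwo_le
      T hT2 L₁ L₂ L₃ hd2 hd3 (by omega) ?_
    rw [Nat.card_units, Nat.card_eq_fintype_card, hK]
    have : 3 ∣ 3 ^ (2 * m + 1) := dvd_pow_self 3 (by omega)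
    omega
  · obtain ⟨S⟩ := (inferInstance : Nonempty (Sylow p ↥(Cfsg.Lie.twistedG2 K (3 ^ m))))
    haveI : IsCyclic (S : Subgroup ↥(Cfsg.Lie.twistedG2 K (3 ^ m))) :=
      Cfsg.Agent.S1156.result hm hK (by have := hp.two_le; omega) S
    exact CfsgLib.Schur.not_dvd_card_ker_of_isCyclic hσ _ S.not_dvd_index

end Cfsg.Agent.S2113
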