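import Cfsg.Statements.S2189
import Cfsg.Agent.ChevSubfield.Main

set_option autoImplicit false
open Cfsg

namespace Cfsg.Agent.S2189

/-- Finite subgroups of an adjoint Chevalley group over an algebraically closed field that contain the group over a finite subfield. Let k be an algebraically closed field of prime characteristic p, G the Chevalley group of type G₂, B₂, D₄, F₄, E₆, E₇ or E₈ over k (the matrix group generated by the root elements x_s(t), t ∈ k), and q = p^a with a ≥ 1. Let L be the subgroup generated by the root elements x_s(t) with t^q = t (the Chevalley group over the field of q elements inside G), and let M be a finite subgroup of G containing L. Then for some r ≥ 1, M contains every root element x_s(t) with t^(q^r) = t and every element of M is a matrix all of whose entries c satisfy c^(q^r) = c (so M lies between the Chevalley group over the field with q^r elements and the group of points of G fixed by the q^r-th power map). -/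
theorem result {k : Type*} [Field k] [IsAlgClosed k] (p : ℕ) [Fact p.Prime] [CharP k p] (D : Cfsg.Lie.ChevalleyDatum) (hD : D ∈ [Cfsg.Lie.chevG2, Cfsg.Lie.chevB2, Cfsg.Lie.chevD4, Cfsg.Lie.chevF4, Cfsg.Lie.chevE6, Cfsg.Lie.chevE7, Cfsg.Lie.chevE8]) (a : ℕ) (ha : 1 ≤ a) (M : Subgroup (GL D.Idx k)) (hMfin : Finite ↥M) (hMG : M ≤ D.group k)
    (hLM : Subgroup.closure {g : GL D.Idx k | ∃ (s : ℕ) (t : k), t ^ (p ^ a) = t ∧ (g : Matrix D.Idx D.Idx k) = D.x k s t} ≤ M) :
    ∃ r : ℕ, 1 ≤ r ∧ Subgroup.closure {g : GL D.Idx k | ∃ (s : ℕ) (t : k), t ^ ((p ^ a) ^ r) = t ∧ (g : Matrix D.Idx D.Idx k) = D.x k s t} ≤ M ∧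
      ∀ g ∈ M, ∀ i j : D.Idx, ((g : Matrix D.Idx D.Idx k) i j) ^ ((p ^ a) ^ r) = (g : Matrix D.Idx D.Idx k) i j := by
  classical
  obtain ⟨S, Y⟩ := CfsgLib.ChevSubfield.exists_typeData (K := k) (p := p) hD
  have hq1 : 1 < p ^ a := Nat.one_lt_pow (by omega) (Fact.out : p.Prime).one_lt
  let σ₀ : k →+* k := iterateFrobenius k p a
  have hσ₀ : ∀ x : k, σ₀ x = x ^ p ^ a := fun x => iterateFrobenius_def p a x
  have hc₀ := CfsgLib.ChevSubfield.card_fixField_of_isAlgClosed p (n := a) (by omega) hσ₀
  have : Finite (CfsgLib.ChevSubfield.fixField σ₀) :=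
    Nat.finite_of_card_ne_zero (by rw [hc₀]; omega)
  have P₀ : CfsgLib.ChevSubfield.FrobData σ₀ p (p ^ a) :=
    ⟨Fact.out, inferInstance, hσ₀, fun hne =>
      CfsgLib.ChevSubfield.exists_ne_zero_one_of_card _ (by rw [hc₀]; exact hne)⟩
  have hroots₀ : CfsgLib.ChevSubfield.RootsIn S σ₀ M := fun s _ t ht =>
    hLM (Subgroup.subset_closure ⟨s, t, (hσ₀ t).symm.trans ht, S.xG_val k s t⟩)
  obtain ⟨R, hRfin, hle, htop, hR⟩ := CfsgLib.ChevSubfield.param_subfield Y P₀ hroots₀
  -- the parameters form the field with `q ^ r` elements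
  let _ := (Subfield.inclusion hle).toAlgebra
  set r := Module.finrank (CfsgLib.ChevSubfield.fixField σ₀) R
  have hcard : Nat.card R = (p ^ a) ^ r := by
    rw [Module.natCard_eq_pow_finrank (K := ↥(CfsgLib.ChevSubfield.fixField σ₀)), hc₀]
  have hr : 1 ≤ r := Nat.one_le_iff_ne_zero.mpr fun h => by
    have h1 := Finite.one_lt_card (α := R)
    rw [hcard, h, pow_zero] at h1
    omega
  have hn : a * r ≠ 0 := Nat.mul_ne_zero (by omega) (by omega)
  let σ : k →+* k := iterateFrobenius k p (a * r)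
  have hσ : ∀ x : k, σ x = x ^ p ^ (a * r) := fun x => iterateFrobenius_def p (a * r) x
  have hc := CfsgLib.ChevSubfield.card_fixField_of_isAlgClosed p (n := a * r) hn hσ
  have hQ : p ^ (a * r) = (p ^ a) ^ r := pow_mul p a r
  have hsub : R ≤ CfsgLib.ChevSubfield.fixField σ := by
    intro x hx
    have := Fintype.ofFinite R
    have h1 := FiniteField.pow_card (⟨x, hx⟩ : R)
    rw [CfsgLib.ChevSubfield.mem_fixField, hσ, hQ, ← hcard, Nat.card_eq_fintype_card]
    exact congrArg Subtype.val h1
  have hfin : Finite (CfsgLib.ChevSubfield.fixField σ) :=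
    Nat.finite_of_card_ne_zero (by rw [hc]; exact pow_ne_zero _ (Nat.Prime.ne_zero Fact.out))
  have hiff : ∀ t : k, σ t = t → t ∈ R := by
    intro t ht
    have hb : Function.Bijective (Subfield.inclusion hsub) :=
      (Nat.bijective_iff_injective_and_card _).2
        ⟨(Subfield.inclusion hsub).injective, by rw [hc, hcard, hQ]⟩
    obtain ⟨y, hy⟩ := hb.2 ⟨t, ht⟩
    have hy' : (y : k) = t := congrArg Subtype.val hy
    exact hy' ▸ y.2
  have P : CfsgLib.ChevSubfield.FrobData σ p (p ^ (a * r)) :=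
    ⟨Fact.out, inferInstance, hσ, fun hne =>
      CfsgLib.ChevSubfield.exists_ne_zero_one_of_card _ (by rw [hc]; exact hne)⟩
  have hC : CfsgLib.ChevSubfield.Ctx S σ M :=
    ⟨fun s hs t ht => hR s hs t (hiff t ht), hMG, fun t ht => hsub ((htop t).mp ht)⟩
  have hfixed := CfsgLib.ChevSubfield.gmap_fixed Y P hC
  refine ⟨r, hr, (Subgroup.closure_le _).mpr ?_, fun g hg i j => ?_⟩
  · rintro g ⟨s, t, ht, hg⟩
    rw [← hQ, ← hσ] at ht
    by_cases hs : s < D.nroots
    · rw [S.eq_xG k hg]
      exact hC.roots s hs t ht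
    · have h1 : g = 1 := Units.ext (hg.trans (CfsgLib.Chevalley.x_out hs t))
      rw [h1]
      exact one_mem M
  · rw [← hQ, ← hσ, ← CfsgLib.ChevField.gmap_val, hfixed g hg]

end Cfsg.Agent.S2189
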