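import Cfsg.Statements.S2190
import Cfsg.Agent.ChevSubfield.Main

set_option autoImplicit false
open Cfsg

namespace Cfsg.Agent.S2190

/-- Subfield subgroups of prime degree are maximal. Let K be a finite field with q^r elements, r a prime, q a power of the characteristic, and G the Chevalley group of type G₂, B₂, D₄, F₄, E₆, E₇ or E₈ over K (the matrix group generated by the root elements). Let M be the subgroup of G consisting of the matrices all of whose entries lie in the subfield with q elements (entries c with c^q = c). Then M is a proper subgroup of G and is maximal: every subgroup of G containing M is M or G. -/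
theorem result {K : Type*} [Field K] [Fintype K] (p : ℕ) [Fact p.Prime] [CharP K p] (D : Cfsg.Lie.ChevalleyDatum) (hD : D ∈ [Cfsg.Lie.chevG2, Cfsg.Lie.chevB2, Cfsg.Lie.chevD4, Cfsg.Lie.chevF4, Cfsg.Lie.chevE6, Cfsg.Lie.chevE7, Cfsg.Lie.chevE8]) (a r : ℕ) (ha : 1 ≤ a) (hr : r.Prime) (hK : Fintype.card K = (p ^ a) ^ r) (M : Subgroup (GL D.Idx K))
    (hM : ∀ g : GL D.Idx K, g ∈ M ↔ g ∈ D.group K ∧ ∀ i j : D.Idx, ((g : Matrix D.Idx D.Idx K) i j) ^ (p ^ a) = (g : Matrix D.Idx D.Idx K) i j) :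
    M ≠ D.group K ∧ ∀ H : Subgroup (GL D.Idx K), M ≤ H → H ≤ D.group K → H = M ∨ H = D.group K := by
  classical
  set q := p ^ a
  let σ : K →+* K := iterateFrobenius K p a
  have hσ : ∀ x : K, σ x = x ^ q := fun x => iterateFrobenius_def p a x
  have P : CfsgLib.ChevSubfield.PowData σ p q r :=
    ⟨Fact.out, inferInstance, ⟨a, ha, rfl⟩, hr, by rw [Nat.card_eq_fintype_card, hK], hσ⟩
  obtain ⟨S, Y⟩ := CfsgLib.ChevSubfield.exists_typeData (K := K) (p := p) hD
  have hmem : ∀ g : GL D.Idx K,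
      g ∈ M ↔ g ∈ D.group K ∧ CfsgLib.ChevField.gmap D σ g = g := by
    intro g
    rw [hM g]
    refine and_congr_right fun _ => ⟨fun h => Units.ext (Matrix.ext fun i j => ?_),
      fun h i j => ?_⟩
    · rw [CfsgLib.ChevField.gmap_val, hσ]; exact h i j
    · rw [← hσ, ← CfsgLib.ChevField.gmap_val, h]
  refine ⟨fun hMG => ?_, fun H hMH hHG => ?_⟩
  · obtain ⟨t, ht⟩ := P.exists_not_mem
    obtain ⟨e, ℓ, T, -⟩ := Y.core
    have h1 := ((hmem _).mp (hMG.symm ▸ S.xG_mem K T.high.lt t)).2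
    rw [CfsgLib.ChevField.gmap_xG S] at h1
    exact ht (CfsgLib.ChevField.xG_inj S T.high.lt h1)
  · rcases CfsgLib.ChevSubfield.overgroup Y P
      (fun g hg hgσ => hMH ((hmem g).mpr ⟨hg, hgσ⟩)) hHG with h | h
    · exact Or.inr h
    · exact Or.inl (le_antisymm (fun g hg => (hmem g).mpr ⟨hHG hg, h g hg⟩) hMH)

end Cfsg.Agent.S2190
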