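import Cfsg.Statements.S2271
-- import your own Cfsg.Agent.* helpers here

set_option autoImplicit false
open Cfsg

namespace Cfsg.Agent.S2271

open Equiv

variable {n : ℕ}

/-- The number of fixed points. -/
def fixNum (a : Perm (Fin n)) : ℕ := (Finset.univ.filter fun x => a x = x).card

theorem natCard_fixedPoints (a : Perm (Fin n)) :
    Nat.card (Function.fixedPoints ⇑a) = fixNum a := by
  rw [fixNum, ← Fintype.card_subtype, ← Nat.card_eq_fintype_card]
  rfl

theorem fixNum_comm (a b : Perm (Fin n)) : fixNum (a * b) = fixNum (b * a) := by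
  refine Finset.card_bij' (fun x _ => b x) (fun x _ => a x) ?_ ?_ ?_ ?_
  · intro x hx
    have hx' : _ = x := (Finset.mem_filter.mp hx).2
    refine Finset.mem_filter.mpr ⟨Finset.mem_univ _, ?_⟩
    simp only [Perm.mul_apply] at hx' ⊢
    rw [hx']
  · intro x hx
    have hx' : _ = x := (Finset.mem_filter.mp hx).2
    refine Finset.mem_filter.mpr ⟨Finset.mem_univ _, ?_⟩
    simp only [Perm.mul_apply] at hx' ⊢
    rw [hx']
  · intro x hx
    exact (Finset.mem_filter.mp hx).2
  · intro x hx
    exact (Finset.mem_filter.mp hx).2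

theorem inv_apply (g : Perm (Fin n)) (x : Fin n) : g⁻¹ (g x) = x := g.symm_apply_apply x

theorem apply_inv (g : Perm (Fin n)) (x : Fin n) : g (g⁻¹ x) = x := g.apply_symm_apply x

theorem inj_two {α : Type*} {a b : α} (h : a ≠ b) : Function.Injective ![a, b] := by
  intro i j e
  fin_cases i <;> fin_cases j <;>
    first
    | rfl
    | (exfalso; simp at e; tauto)

theorem inj_three {α : Type*} {a b c : α} (h1 : a ≠ b) (h2 : a ≠ c) (h3 : b ≠ c) :
    Function.Injective ![a, b, c] := by
  have := h1.symm; have := h2.symm; have := h3.symm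
  intro i j e
  fin_cases i <;> fin_cases j <;>
    first
    | rfl
    | (exfalso; simp at e; tauto)

theorem inj_four {α : Type*} {a b c d : α} (h1 : a ≠ b) (h2 : a ≠ c) (h3 : a ≠ d) (h4 : b ≠ c)
    (h5 : b ≠ d) (h6 : c ≠ d) : Function.Injective ![a, b, c, d] := by
  have := h1.symm; have := h2.symm; have := h3.symm; have := h4.symm; have := h5.symm
  have := h6.symm
  intro i j e
  fin_cases i <;> fin_cases j <;>
    first
    | rfl
    | (exfalso; simp at e; tauto)

theorem exists_perm (k : ℕ) (f f' : Fin k → Fin n) (hf : Function.Injective f)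
    (hf' : Function.Injective f') : ∃ g : Perm (Fin n), ∀ i, g (f i) = f' i := by
  classical
  refine ⟨((Equiv.ofInjective f hf).symm.trans (Equiv.ofInjective f' hf')).extendSubtype,
    fun i => ?_⟩
  rw [Equiv.extendSubtype_apply_of_mem _ _ ⟨i, rfl⟩]
  simp [Equiv.ofInjective_symm_apply]

theorem exists_even (k : ℕ) (hk : k + 2 ≤ n) (f f' : Fin k → Fin n) (hf : Function.Injective f)
    (hf' : Function.Injective f') :
    ∃ g : Perm (Fin n), g ∈ alternatingGroup (Fin n) ∧ ∀ i, g (f i) = f' i := by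
  classical
  obtain ⟨g, hg⟩ := exists_perm k f f' hf hf'
  rcases Int.units_eq_one_or (Perm.sign g) with h | h
  · exact ⟨g, h, hg⟩
  have hc : 1 < (Finset.univ.image f')ᶜ.card := by
    rw [Finset.card_compl, Fintype.card_fin, Finset.card_image_of_injective _ hf',
      Finset.card_univ, Fintype.card_fin]
    omega
  obtain ⟨u, hu, v, hv, huv⟩ := Finset.one_lt_card.mp hc
  simp only [Finset.mem_compl, Finset.mem_image, Finset.mem_univ, true_and, not_exists] at hu hv
  refine ⟨swap u v * g, ?_, fun i => ?_⟩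
  · rw [Equiv.Perm.mem_alternatingGroup, map_mul, Perm.sign_swap huv, h]; decide
  · rw [Perm.mul_apply, hg]
    exact swap_apply_of_ne_of_ne (hu i) (hv i)

set_option maxRecDepth 100000 in
theorem five_odd_centralizer : ∀ a : Perm (Fin 5), fixNum a = 1 → a * a = 1 ∨ Perm.sign a = -1 := by
  decide +kernel

/-- In degree five a permutation with one fixed point has the same classes under both groups. -/
theorem exists_even_conj_five (a : Perm (Fin 5)) (ha : fixNum a = 1) (g : Perm (Fin 5)) :
    ∃ g' : Perm (Fin 5), g' ∈ alternatingGroup (Fin 5) ∧ g' * a * g'⁻¹ = g * a * g⁻¹ := by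
  rcases Int.units_eq_one_or (Perm.sign g) with h | h
  · exact ⟨g, h, rfl⟩
  obtain ⟨z, hz, hcomm⟩ : ∃ z : Perm (Fin 5), Perm.sign z = -1 ∧ z * a = a * z := by
    rcases five_odd_centralizer a ha with h2 | h2
    · have h4 : ∃ x, a x ≠ x := by
        by_contra! h'
        have : fixNum a = 5 := by simp [fixNum, h']
        omega
      obtain ⟨x, hx⟩ := h4
      refine ⟨swap x (a x), Perm.sign_swap (Ne.symm hx), ?_⟩
      have h3 := Equiv.mul_swap_eq_swap_mul a x (a x)
      rw [show a (a x) = x from congrArg (fun p : Perm (Fin 5) => p x) h2, swap_comm (a x) x] at h3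
      exact h3.symm
    · exact ⟨a, h2, rfl⟩
  refine ⟨g * z, ?_, ?_⟩
  · rw [Equiv.Perm.mem_alternatingGroup, map_mul, h, hz]; decide
  · calc g * z * a * (g * z)⁻¹ = g * (z * a) * z⁻¹ * g⁻¹ := by group
      _ = g * a * g⁻¹ := by rw [hcomm]; group

theorem exists_two_fixed (hn : 5 ≤ n) (a b : Perm (Fin n)) (hb : b ≠ 1) (ha1 : fixNum a = 1) :
    ∃ g : Perm (Fin n), g ∈ alternatingGroup (Fin n) ∧ 2 ≤ fixNum (g * a * g⁻¹ * b) := by
  classical
  obtain ⟨q, hq⟩ := Finset.card_eq_one.mp ha1
  have hqfix : ∀ x, a x = x ↔ x = q := fun x => by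
    have h := Finset.ext_iff.mp hq x
    simpa using h
  obtain ⟨u, hu⟩ : ∃ u, b u ≠ u := by
    by_contra! h
    exact hb (Equiv.ext h)
  have two : ∀ (g : Perm (Fin n)) (x y : Fin n), x ≠ y → (g * a * g⁻¹ * b) x = x →
      (g * a * g⁻¹ * b) y = y → 2 ≤ fixNum (g * a * g⁻¹ * b) := by
    intro g x y hxy hx hy
    exact Finset.one_lt_card.mpr ⟨x, Finset.mem_filter.mpr ⟨Finset.mem_univ _, hx⟩,
      y, Finset.mem_filter.mpr ⟨Finset.mem_univ _, hy⟩, hxy⟩
  obtain ⟨y₁, hy₁⟩ : ∃ y, y ≠ q := ⟨if q = ⟨0, by omega⟩ then ⟨1, by omega⟩ else ⟨0, by omega⟩, by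
    split_ifs with h
    · subst h; simp [Fin.ext_iff]
    · exact Ne.symm h⟩
  have hx₁ : a y₁ ≠ y₁ := fun h => hy₁ ((hqfix _).mp h)
  have hx₁q : a y₁ ≠ q := fun h => hy₁ (a.injective (h.trans ((hqfix q).mpr rfl).symm))
  by_cases hp : ∃ p, b p = p
  · obtain ⟨p, hp⟩ := hp
    have hpu : p ≠ u := fun h => hu (h ▸ hp)
    have hpv : p ≠ b u := fun h => hpu (b.injective (hp.trans h))
    obtain ⟨g, hgA, hg⟩ := exists_even 3 hn ![q, a y₁, y₁] ![p, u, b u]
      (inj_three hx₁q.symm hy₁.symm hx₁) (inj_three hpu hpv (Ne.symm hu))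
    have g0 : g q = p := hg 0
    have g1 : g (a y₁) = u := hg 1
    have g2 : g y₁ = b u := hg 2
    refine ⟨g, hgA, two g p u hpu ?_ ?_⟩
    · rw [Perm.mul_apply, Perm.mul_apply, Perm.mul_apply, hp, ← g0, inv_apply, (hqfix q).mpr rfl]
    · simp only [Perm.mul_apply, ← g2, inv_apply, g1]
  · push Not at hp
    obtain ⟨w, hw⟩ : ∃ w, w ∉ ({u, b u, b⁻¹ u} : Finset (Fin n)) := by
      by_contra! h
      have hsub := Finset.card_le_card (fun x _ => h x : Finset.univ ⊆ ({u, b u, b⁻¹ u} : Finset (Fin n)))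
      rw [Finset.card_univ, Fintype.card_fin] at hsub
      have := hsub.trans (Finset.card_le_three (a := u) (b := b u) (c := b⁻¹ u))
      omega
    obtain ⟨y₂, hy₂⟩ : ∃ y, y ∉ ({y₁, a y₁, a⁻¹ y₁, q} : Finset (Fin n)) := by
      by_contra! h
      have hsub := Finset.card_le_card (fun x _ => h x : Finset.univ ⊆ ({y₁, a y₁, a⁻¹ y₁, q} : Finset (Fin n)))
      rw [Finset.card_univ, Fintype.card_fin] at hsub
      have := hsub.trans (Finset.card_le_four (a := y₁) (b := a y₁) (c := a⁻¹ y₁) (d := q))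
      omega
    simp only [Finset.mem_insert, Finset.mem_singleton, not_or] at hw hy₂
    obtain ⟨hw1, hw2, hw3⟩ := hw
    obtain ⟨hy21, hy22, hy23, hy24⟩ := hy₂
    have e1 : b u ≠ b w := fun h => hw1 (b.injective h).symm
    have e2 : u ≠ b w := fun h => hw3 (by rw [h, inv_apply])
    have e3 := hp w
    have f1 : a y₁ ≠ a y₂ := fun h => hy21 (a.injective h).symm
    have f2 : y₁ ≠ a y₂ := fun h => hy23 (by rw [h, inv_apply])
    have f3 : a y₂ ≠ y₂ := fun h => hy24 ((hqfix _).mp h)
    obtain ⟨g, hg⟩ := exists_perm 4 ![a y₁, y₁, a y₂, y₂] ![u, b u, w, b w]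
      (inj_four hx₁ f1 (Ne.symm hy22) f2 (Ne.symm hy21) f3)
      (inj_four (Ne.symm hu) (Ne.symm hw1) e2 (Ne.symm hw2) e1 (Ne.symm e3))
    obtain ⟨g', hgA, hg'⟩ : ∃ g' : Perm (Fin n), g' ∈ alternatingGroup (Fin n) ∧
        (g' * a * g'⁻¹) (b u) = u ∧ (g' * a * g'⁻¹) (b w) = w := by
      have hvals : ∀ g : Perm (Fin n),
          (∀ i, g (![a y₁, y₁, a y₂, y₂] i) = ![u, b u, w, b w] i) →
          (g * a * g⁻¹) (b u) = u ∧ (g * a * g⁻¹) (b w) = w := by
        intro g hg
        have g0 : g (a y₁) = u := hg 0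
        have g1 : g y₁ = b u := hg 1
        have g2 : g (a y₂) = w := hg 2
        have g3 : g y₂ = b w := hg 3
        constructor
        · simp only [Perm.mul_apply, ← g1, inv_apply, g0]
        · simp only [Perm.mul_apply, ← g3, inv_apply, g2]
      rcases (show n = 5 ∨ 6 ≤ n by omega) with h5 | h6
      · subst h5
        obtain ⟨g', hg'A, hg'e⟩ := exists_even_conj_five a ha1 g
        exact ⟨g', hg'A, hg'e ▸ hvals g hg⟩
      · obtain ⟨g', hg'A, hg'⟩ := exists_even 4 h6 ![a y₁, y₁, a y₂, y₂] ![u, b u, w, b w]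
          (inj_four hx₁ f1 (Ne.symm hy22) f2 (Ne.symm hy21) f3)
          (inj_four (Ne.symm hu) (Ne.symm hw1) e2 (Ne.symm hw2) e1 (Ne.symm e3))
        exact ⟨g', hg'A, hvals g' hg'⟩
    exact ⟨g', hgA, two g' u w (Ne.symm hw1) hg'.1 hg'.2⟩

theorem fixNum_le_conj (hn : 5 ≤ n) (a b : Perm (Fin n)) (ha : a ≠ 1) (h : fixNum a ≤ fixNum b) :
    ∃ g : Perm (Fin n), g ∈ alternatingGroup (Fin n) ∧ fixNum a ≤ fixNum (g * a * g⁻¹ * b) := by
  classical
  set k := fixNum a
  let F : Finset (Fin n) := Finset.univ.filter fun x => a x = x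
  let F' : Finset (Fin n) := Finset.univ.filter fun x => b x = x
  let f : Fin k → Fin n := fun i => F.equivFin.symm i
  let f' : Fin k → Fin n := fun i => F'.equivFin.symm (Fin.castLE h i)
  have hf : Function.Injective f := Subtype.val_injective.comp F.equivFin.symm.injective
  have hf' : Function.Injective f' := Subtype.val_injective.comp
    (F'.equivFin.symm.injective.comp (Fin.castLE_injective h))
  have hk : k + 2 ≤ n := by
    have h2 : 2 ≤ a.support.card := Perm.two_le_card_support_of_ne_one ha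
    have h3 : Disjoint F a.support := Finset.disjoint_left.mpr fun x hx hx' =>
      Perm.mem_support.mp hx' (Finset.mem_filter.mp hx).2
    have := (Finset.card_union_of_disjoint h3).symm.trans_le (Finset.card_le_univ _)
    rw [Fintype.card_fin] at this
    show F.card + 2 ≤ n
    omega
  obtain ⟨g, hgA, hg⟩ := exists_even k hk f f' hf hf'
  refine ⟨g, hgA, ?_⟩
  refine le_of_eq_of_le (Fintype.card_fin k).symm ?_
  refine Finset.card_le_card_of_injOn f' (fun i _ => ?_) hf'.injOn
  have h1 : a (f i) = f i := (Finset.mem_filter.mp (F.equivFin.symm i).2).2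
  have h2 : b (f' i) = f' i := (Finset.mem_filter.mp (F'.equivFin.symm (Fin.castLE h i)).2).2
  have h3 : g⁻¹ (f' i) = f i := by rw [← hg i, inv_apply]
  refine Finset.mem_filter.mpr ⟨Finset.mem_univ _, ?_⟩
  rw [Perm.mul_apply, Perm.mul_apply, Perm.mul_apply, h2, h3, h1, hg i]

/-- The total number of fixed points over the products. -/
theorem average (hn : 5 ≤ n) (a b : Perm (Fin n)) (c : ℕ)
    (hc : ∀ g ∈ alternatingGroup (Fin n), fixNum (g * a * g⁻¹ * b) = c) :
    (c : ℤ) * n * (n - 1) = fixNum b * fixNum a * (n - 1) + (n - fixNum b) * (n - fixNum a) := by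
  classical
  let A := alternatingGroup (Fin n)
  let T : Fin n → Fin n → ℕ := fun x y =>
    (Finset.univ.filter fun g : A => a ((g : Perm (Fin n)) x) = (g : Perm (Fin n)) y).card
  have hmove : ∀ (h : A) (x y : Fin n), T ((h : Perm (Fin n)) x) ((h : Perm (Fin n)) y) = T x y := by
    intro h x y
    refine Finset.card_bij' (fun g _ => g * h) (fun g _ => g * h⁻¹) ?_ ?_ ?_ ?_
    all_goals intro g hg
    all_goals simp at hg ⊢
    all_goals try exact hg
  let i0 : Fin n := ⟨0, by omega⟩
  let i1 : Fin n := ⟨1, by omega⟩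
  have hT1 : ∀ x, T x x = T i0 i0 := by
    intro x
    obtain ⟨g, hgA, hg⟩ := exists_even 1 (by omega) ![i0] ![x]
      (Function.injective_of_subsingleton _) (Function.injective_of_subsingleton _)
    have g0 : g i0 = x := hg 0
    rw [← hmove ⟨g, hgA⟩ i0 i0, g0]
  have hT2 : ∀ x y, x ≠ y → T x y = T i0 i1 := by
    intro x y hxy
    have h01 : i0 ≠ i1 := by simp [i0, i1, Fin.ext_iff]
    obtain ⟨g, hgA, hg⟩ := exists_even 2 (by omega) ![i0, i1] ![x, y]
      (inj_two h01) (inj_two hxy)
    have g0 : g i0 = x := hg 0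
    have g1 : g i1 = y := hg 1
    rw [← hmove ⟨g, hgA⟩ i0 i1, g0, g1]
  have hsum1 : ∑ x, T x x = Fintype.card A * fixNum a := by
    simp only [T, Finset.card_filter]
    rw [Finset.sum_comm, ← Finset.card_univ (α := A), ← smul_eq_mul, ← Finset.sum_const]
    refine Finset.sum_congr rfl fun g _ => ?_
    rw [fixNum, Finset.card_filter]
    exact Equiv.sum_comp (g : Perm (Fin n)) (fun z => if a z = z then (1 : ℕ) else 0)
  have hsum2 : ∀ x, ∑ y, T x y = Fintype.card A := by
    intro x
    simp only [T, Finset.card_filter]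
    rw [Finset.sum_comm]
    rw [← Finset.card_univ (α := A), Finset.card_eq_sum_ones]
    refine Finset.sum_congr rfl fun g _ => ?_
    rw [Equiv.sum_comp (g : Perm (Fin n)) (fun z => if a ((g : Perm (Fin n)) x) = z then (1 : ℕ) else 0)]
    simp
  have e1 : (n : ℤ) * T i0 i0 = Fintype.card A * fixNum a := by
    simp only [hT1, Finset.sum_const, Finset.card_univ, Fintype.card_fin, smul_eq_mul] at hsum1
    exact_mod_cast hsum1
  have e2 : (T i0 i0 : ℤ) + (n - 1) * T i0 i1 = Fintype.card A := by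
    have h := hsum2 i0
    rw [← Finset.add_sum_erase _ _ (Finset.mem_univ i0),
      Finset.sum_congr rfl (fun y hy => hT2 i0 y (Finset.ne_of_mem_erase hy).symm),
      Finset.sum_const, Finset.card_erase_of_mem (Finset.mem_univ i0), Finset.card_univ,
      Fintype.card_fin, smul_eq_mul] at h
    have h2 : ((n - 1 : ℕ) : ℤ) = (n : ℤ) - 1 := by omega
    rw [← h2]
    exact_mod_cast h
  have e3 : (Fintype.card A * c : ℤ) = fixNum b * T i0 i0 + (n - fixNum b) * T i0 i1 := by
    have h : ∑ g : A, fixNum (((g⁻¹ : A) : Perm (Fin n)) * a * ((g⁻¹ : A) : Perm (Fin n))⁻¹ * b) = ∑ x, T (b x) x := by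
      simp only [fixNum, T, Finset.card_filter]
      rw [Finset.sum_comm]
      refine Finset.sum_congr rfl fun x _ => Finset.sum_congr rfl fun g _ => ?_
      refine if_congr ?_ rfl rfl
      simp only [InvMemClass.coe_inv, inv_inv, Perm.mul_apply]
      exact Perm.inv_eq_iff_eq
    simp only [fun g : A => hc _ (g⁻¹).2, Finset.sum_const, Finset.card_univ, smul_eq_mul] at h
    rw [← Finset.sum_filter_add_sum_filter_not Finset.univ (fun x => b x = x),
      Finset.sum_congr rfl (fun x hx => by rw [(Finset.mem_filter.mp hx).2, hT1]),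
      Finset.sum_congr (g := fun _ => T i0 i1) rfl
        (fun x hx => hT2 (b x) x (Finset.mem_filter.mp hx).2),
      Finset.sum_const, Finset.sum_const, Finset.filter_not,
      Finset.card_sdiff_of_subset (Finset.filter_subset _ _), Finset.card_univ, Fintype.card_fin,
      smul_eq_mul, smul_eq_mul] at h
    have hle : fixNum b ≤ n := (Finset.card_le_univ _).trans_eq (Fintype.card_fin n)
    have h2 : ((n - fixNum b : ℕ) : ℤ) = (n : ℤ) - fixNum b := by omega
    rw [← h2]
    exact_mod_cast h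
  have hA : (0 : ℤ) < Fintype.card A := by exact_mod_cast Fintype.card_pos
  refine mul_left_cancel₀ hA.ne' ?_
  linear_combination (n : ℤ) * (n - 1) * e3 + ((fixNum b : ℤ) * (n - 1) - (n - fixNum b)) * e1
    + (n : ℤ) * (n - fixNum b) * e2

/-- Let n ≥ 5 and let a, b be non-identity permutations in the symmetric group S_n. Then the number of fixed points is not constant on the set of products a′b′ with a′ conjugate to a and b′ conjugate to b under the alternating group: there are even permutations g₁, h₁, g₂, h₂ such that (g₁ a g₁⁻¹)(h₁ b h₁⁻¹) and (g₂ a g₂⁻¹)(h₂ b h₂⁻¹) have different numbers of fixed points. -/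
theorem result (n : ℕ) (hn : 5 ≤ n) (a b : Equiv.Perm (Fin n)) (ha : a ≠ 1) (hb : b ≠ 1) :
    ∃ g₁ h₁ g₂ h₂ : Equiv.Perm (Fin n), g₁ ∈ alternatingGroup (Fin n) ∧ h₁ ∈ alternatingGroup (Fin n) ∧ g₂ ∈ alternatingGroup (Fin n) ∧ h₂ ∈ alternatingGroup (Fin n) ∧
      Nat.card (Function.fixedPoints ⇑(g₁ * a * g₁⁻¹ * (h₁ * b * h₁⁻¹))) ≠
        Nat.card (Function.fixedPoints ⇑(g₂ * a * g₂⁻¹ * (h₂ * b * h₂⁻¹))) := by
  classical
  by_contra! hall
  have h1 : (1 : Equiv.Perm (Fin n)) ∈ alternatingGroup (Fin n) := one_mem _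
  have hL : ∀ g ∈ alternatingGroup (Fin n), fixNum (g * a * g⁻¹ * b) = fixNum (a * b) := by
    intro g hg
    have := hall g 1 1 1 hg h1 h1 h1
    rw [natCard_fixedPoints, natCard_fixedPoints] at this
    simpa only [inv_one, mul_one, one_mul] using this
  have hR : ∀ h ∈ alternatingGroup (Fin n), fixNum (h * b * h⁻¹ * a) = fixNum (a * b) := by
    intro g hg
    have := hall 1 g 1 1 h1 hg h1 h1
    rw [fixNum_comm]
    rw [natCard_fixedPoints, natCard_fixedPoints] at this
    simpa only [inv_one, mul_one, one_mul] using this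
  set c := fixNum (a * b)
  have hav := average hn a b c hL
  have hle : ∀ d : Equiv.Perm (Fin n), d ≠ 1 → fixNum d + 2 ≤ n := by
    intro d hd
    have h2 : 2 ≤ d.support.card := Equiv.Perm.two_le_card_support_of_ne_one hd
    have h3 : Disjoint (Finset.univ.filter fun x => d x = x) d.support :=
      Finset.disjoint_left.mpr fun x hx hx' =>
        Equiv.Perm.mem_support.mp hx' (Finset.mem_filter.mp hx).2
    have := (Finset.card_union_of_disjoint h3).symm.trans_le (Finset.card_le_univ _)
    rw [Fintype.card_fin] at this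
    show (Finset.univ.filter fun x => d x = x).card + 2 ≤ n
    omega
  have ha2 : (fixNum a : ℤ) + 2 ≤ n := by exact_mod_cast hle a ha
  have hb2 : (fixNum b : ℤ) + 2 ≤ n := by exact_mod_cast hle b hb
  have hn' : (5 : ℤ) ≤ n := by exact_mod_cast hn
  have heq : (c : ℤ) * (n - 1) = n - fixNum a - fixNum b + fixNum a * fixNum b := by
    refine mul_left_cancel₀ (show (n : ℤ) ≠ 0 by omega) ?_
    linear_combination hav
  have hc2 : fixNum a ≠ 1 ∧ fixNum b ≠ 1 := by
    constructor <;> intro h
    · obtain ⟨g, hg, hg2⟩ := exists_two_fixed hn a b hb h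
      have hc1 : (c : ℤ) * (n - 1) = 1 * (n - 1) := by rw [heq, h]; push_cast; ring
      have := mul_right_cancel₀ (show (n : ℤ) - 1 ≠ 0 by omega) hc1
      rw [hL g hg] at hg2
      omega
    · obtain ⟨g, hg, hg2⟩ := exists_two_fixed hn b a ha h
      have hc1 : (c : ℤ) * (n - 1) = 1 * (n - 1) := by rw [heq, h]; push_cast; ring
      have := mul_right_cancel₀ (show (n : ℤ) - 1 ≠ 0 by omega) hc1
      rw [hR g hg] at hg2
      omega
  have key : ∀ x y : ℕ, x ≤ c → x ≠ 1 → (y : ℤ) + 2 ≤ n → y ≠ 1 →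
      (c : ℤ) * (n - 1) = n - x - y + x * y → False := by
    intro x y hxc hx1 hy hy1 he
    rcases Nat.eq_zero_or_pos x with rfl | hxp
    · push_cast at he
      rcases Nat.lt_or_ge c 1 with hc0 | hc0
      · have : c = 0 := by omega
        rw [this] at he
        simp at he
        omega
      rcases Nat.lt_or_ge c 2 with hc1 | hc1
      · have : c = 1 := by omega
        rw [this] at he
        simp at he
        omega
      · have : (2 : ℤ) * (n - 1) ≤ (c : ℤ) * (n - 1) :=
          mul_le_mul_of_nonneg_right (by exact_mod_cast hc1) (by omega)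
        omega
    · have h2 : (2 : ℤ) ≤ x := by exact_mod_cast (show 2 ≤ x by omega)
      have h3 : (x : ℤ) * (n - 1) ≤ (c : ℤ) * (n - 1) :=
        mul_le_mul_of_nonneg_right (by exact_mod_cast hxc) (by omega)
      nlinarith
  rcases le_total (fixNum a) (fixNum b) with hab | hab
  · obtain ⟨g, hg, hg2⟩ := fixNum_le_conj hn a b ha hab
    rw [hL g hg] at hg2
    exact key _ _ hg2 hc2.1 hb2 hc2.2 heq
  · obtain ⟨g, hg, hg2⟩ := fixNum_le_conj hn b a hb hab
    rw [hR g hg] at hg2
    exact key _ _ hg2 hc2.2 ha2 hc2.1 (by rw [heq]; ring)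

end Cfsg.Agent.S2271
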