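import Cfsg.Statements.S2276
import Cfsg.Agent.PermGroups.FreePairThree54

set_option autoImplicit false
open Cfsg

namespace Cfsg.Agent.S2276


/-- Let n ≥ 5, p ≥ 3 a prime, and u, w non-identity elements of p-power order in the alternating group A_n. Then there is g ∈ A_n such that u·(g w g⁻¹) does not have p-power order and ⟨u, g w g⁻¹⟩ is not solvable. -/
theorem result (n : ℕ) (hn : 5 ≤ n) (p : ℕ) (hp : p.Prime) (hp3 : 3 ≤ p) (u w : alternatingGroup (Fin n)) (hu : u ≠ 1) (hw : w ≠ 1)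
    (hu' : ∃ k : ℕ, orderOf u = p ^ k) (hw' : ∃ k : ℕ, orderOf w = p ^ k) :
    ∃ g : alternatingGroup (Fin n), (¬ ∃ k : ℕ, orderOf (u * (g * w * g⁻¹)) = p ^ k) ∧
      ¬ Group.IsSolvable ↥(Subgroup.closure ({u, g * w * g⁻¹} : Set (alternatingGroup (Fin n)))) := by
  obtain ⟨g, hg, hb⟩ := CfsgLib.PermGroups.FreePair54.exists_bad hp hp3 hn (u : Equiv.Perm (Fin n))
    (w : Equiv.Perm (Fin n)) (fun h => hu (Subtype.ext h)) (fun h => hw (Subtype.ext h))
    (by obtain ⟨k, hk⟩ := hu'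
        exact ⟨k, by rw [← SubgroupClass.coe_pow, ← hk, pow_orderOf_eq_one]; rfl⟩)
    (by obtain ⟨k, hk⟩ := hw'
        exact ⟨k, by rw [← SubgroupClass.coe_pow, ← hk, pow_orderOf_eq_one]; rfl⟩)
  refine ⟨⟨g, Equiv.Perm.mem_alternatingGroup.2 hg⟩, fun ⟨k, hk⟩ => hb.1 ⟨k, ?_⟩, fun hs => hb.2 ?_⟩
  · have := pow_orderOf_eq_one (u * (⟨g, Equiv.Perm.mem_alternatingGroup.2 hg⟩ * w *
      ⟨g, Equiv.Perm.mem_alternatingGroup.2 hg⟩⁻¹) : alternatingGroup (Fin n))
    rw [hk] at this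
    exact congrArg Subtype.val this
  · set g' : alternatingGroup (Fin n) := ⟨g, Equiv.Perm.mem_alternatingGroup.2 hg⟩ with hg'
    have e : (Subgroup.closure {u, g' * w * g'⁻¹}).map (alternatingGroup (Fin n)).subtype =
        Subgroup.closure {(u : Equiv.Perm (Fin n)), g * (w : Equiv.Perm (Fin n)) * g⁻¹} := by
      rw [MonoidHom.map_closure, Set.image_pair]
      rfl
    rw [← e]
    haveI := hs
    exact Group.isSolvable_of_surjective
      ((alternatingGroup (Fin n)).subtype.subgroupMap_surjective _)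

end Cfsg.Agent.S2276
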