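import Cfsg.Statements.S2290
import Cfsg.Agent.SLPres77.Relations
import Cfsg.Agent.AltPres54.Tietze
import Cfsg.Agent.SLPres77.TwoGenThree
import Cfsg.Agent.S2279
import Cfsg.Agent.S2286
-- import your own Cfsg.Agent.* helpers here

set_option autoImplicit false
open Cfsg

namespace Cfsg.Agent.S2290

open CfsgLib.SLTwoPres CfsgLib.Psl2Unipotent in
theorem sl_two_two_generated {F : Type*} [Field F] [Fintype F] (h4 : 4 ≤ Fintype.card F) :
    ∃ u v : Matrix.SpecialLinearGroup (Fin 2) F,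
      Subgroup.closure ({u, v} : Set (Matrix.SpecialLinearGroup (Fin 2) F)) = ⊤ := by
  obtain ⟨ζ, hζ⟩ := IsCyclic.exists_generator (α := Fˣ)
  have D := slData_matrix (F := F) ζ
  refine ⟨diagA ζ, upperU 1 * weylSL, ?_⟩
  set K := Subgroup.closure ({diagA ζ, upperU 1 * weylSL} :
    Set (Matrix.SpecialLinearGroup (Fin 2) F)) with hK
  have hd : diagA ζ ∈ K := Subgroup.subset_closure (Or.inl rfl)
  have hg : upperU 1 * weylSL ∈ K := Subgroup.subset_closure (Or.inr rfl)
  have hs : upperU (1 - (ζ : F) ^ 2) ∈ K := by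
    -- `g d⁻¹ g⁻¹ d⁻¹` is upper unitriangular
    have h2 : upperU (-((ζ : F) ^ 2)) = diagA ζ * upperU (-1) * (diagA ζ)⁻¹ := by
      rw [D.conj_x]; congr 1; ring
    have e : upperU (1 - (ζ : F) ^ 2) =
        upperU 1 * weylSL * (diagA ζ)⁻¹ * (upperU 1 * weylSL)⁻¹ * (diagA ζ)⁻¹ := by
      have h3 : weylSL * (diagA ζ)⁻¹ * weylSL⁻¹ = diagA ζ := by
        have := congrArg (·⁻¹) D.conj_h
        simpa [mul_assoc] using this
      rw [sub_eq_add_neg, D.add, h2, D.x_neg]
      calc upperU 1 * (diagA ζ * (upperU 1)⁻¹ * (diagA ζ)⁻¹)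
          = upperU 1 * (weylSL * (diagA ζ)⁻¹ * weylSL⁻¹) * (upperU 1)⁻¹ * (diagA ζ)⁻¹ := by
            rw [h3]; group
        _ = _ := by group
    rw [e]
    exact K.mul_mem (K.mul_mem (K.mul_mem hg (K.inv_mem hd)) (K.inv_mem hg)) (K.inv_mem hd)
  have hne : (1 : F) - (ζ : F) ^ 2 ≠ 0 := by
    intro h
    have h2 : ζ ^ 2 = 1 := Units.ext (by
      rw [Units.val_pow_eq_pow_val, Units.val_one]; linear_combination -h)
    have h3 := Nat.le_of_dvd (by norm_num) (orderOf_dvd_of_pow_eq_one h2)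
    rw [orderOf_eq_card_of_forall_mem_zpowers hζ, Nat.card_units, Nat.card_eq_fintype_card] at h3
    omega
  let A : AddSubgroup F :=
    { carrier := {t | upperU (t * (1 - (ζ : F) ^ 2)) ∈ K}
      zero_mem' := by show upperU _ ∈ K; rw [zero_mul, D.x_zero]; exact K.one_mem
      add_mem' := fun {a b} ha hb => by
        show upperU _ ∈ K; rw [add_mul, D.add]; exact K.mul_mem ha hb
      neg_mem' := fun {a} ha => by
        show upperU _ ∈ K; rw [neg_mul, D.x_neg]; exact K.inv_mem ha }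
  have hx : ∀ t : F, upperU t ∈ K := by
    intro t
    have h := CfsgLib.SLThreePres.all_mem_of_mul_closed hζ 2 (Or.inl rfl) A (fun a ha => by
      show upperU _ ∈ K
      rw [mul_assoc, ← D.conj_x]
      exact K.mul_mem (K.mul_mem hd ha) (K.inv_mem hd))
      (by show upperU _ ∈ K; rwa [one_mul]) (t / (1 - (ζ : F) ^ 2))
    change upperU (t / (1 - (ζ : F) ^ 2) * (1 - (ζ : F) ^ 2)) ∈ K at h
    rwa [div_mul_cancel₀ _ hne] at h
  refine eq_top_iff.2 fun g _ => mem_of_generators hζ K hx hd ?_ g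
  have := K.mul_mem (K.inv_mem (hx 1)) hg
  rwa [inv_mul_cancel_left] at this

/-- For every finite field F with q elements and n ≥ 2, with q ≥ 4 when n = 2, the simple group PSL_n(F) has a presentation with 2 generators and at most 80 relations. -/
theorem result {F : Type*} [Field F] [Fintype F] (n : ℕ) (hn : 2 ≤ n) (h2 : n = 2 → 4 ≤ Fintype.card F) :
    ∃ rels : Finset (FreeGroup (Fin 2)), rels.card ≤ 80 ∧ Nonempty (PresentedGroup (↑rels : Set (FreeGroup (Fin 2))) ≃* Matrix.ProjectiveSpecialLinearGroup (Fin n) F) := by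
  classical
  -- a presentation with at most `78` relations and two generators of `SL_n`
  obtain ⟨m, R, hR, e, u, v, huv⟩ : ∃ (m : ℕ) (R : Finset (FreeGroup (Fin m))), R.card ≤ 78 ∧
      ∃ (_ : PresentedGroup (↑R : Set (FreeGroup (Fin m))) ≃*
        Matrix.ProjectiveSpecialLinearGroup (Fin n) F) (u v : Matrix.SpecialLinearGroup (Fin n) F),
        Subgroup.closure ({u, v} : Set (Matrix.SpecialLinearGroup (Fin n) F)) = ⊤ := by
    rcases (show n = 2 ∨ n = 3 ∨ 4 ≤ n by omega) with rfl | rfl | h4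
    · obtain ⟨-, ⟨R, hR, ⟨e⟩⟩, -⟩ := Cfsg.Agent.S2286.result (F := F)
      exact ⟨3, R, by omega, e, sl_two_two_generated (h2 rfl)⟩
    · obtain ⟨RB, eB, S1, S2, -, -, -, -, h15⟩ := CfsgLib.SLPres77.field_data (F := F)
      obtain ⟨R, hR, ⟨e⟩⟩ := CfsgLib.SLPres77.psl_of_sl (k := 16) (by norm_num) RB (by omega) eB
      exact ⟨4, R, by omega, e, CfsgLib.SLPres77.sl_three_two_generated⟩
    · obtain ⟨R, hR, ⟨e⟩⟩ := CfsgLib.SLPres77.sl_seven (F := F) h4
      obtain ⟨R', hR', ⟨e'⟩⟩ := CfsgLib.SLPres77.psl_of_sl (by omega) R hR e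
      obtain ⟨⟨u, v, -, -, huv⟩, -⟩ := Cfsg.Agent.S2279.result (F := F) n h4
      exact ⟨7, R', by omega, e', u, v, huv⟩
  let π := QuotientGroup.mk' (Subgroup.center (Matrix.SpecialLinearGroup (Fin n) F))
  have hgen : Subgroup.closure (Set.range
      (![π u, π v] : Fin 2 → Matrix.ProjectiveSpecialLinearGroup (Fin n) F)) = ⊤ := by
    have h := congrArg (Subgroup.map π) huv
    rw [MonoidHom.map_closure, ← MonoidHom.range_eq_map,
      MonoidHom.range_eq_top.2 (QuotientGroup.mk'_surjective _), Set.image_pair] at h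
    refine Eq.trans ?_ h
    congr 1
    ext x
    simp [or_comm]
  obtain ⟨R', hR', e', -⟩ := CfsgLib.AltPres54.change_all R e _ hgen
  exact ⟨R', by omega, ⟨e'⟩⟩

end Cfsg.Agent.S2290
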