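import Cfsg.Statements.S2291
import Cfsg.Agent.Eq.Def_Classical
import Cfsg.Agent.SUPres.Assemble
import Cfsg.Agent.SUThreePres.Pres
import Cfsg.Agent.TwoGenClassical.UnitGen
-- import your own Cfsg.Agent.* helpers here

set_option autoImplicit false
open Cfsg

namespace Cfsg.Agent.S2291

/-- Let F be a field with q² elements and n ≥ 3 with (n, q) ≠ (3, 2). Then the simple group PSU_n(q) (for the standard Hermitian form) has a presentation with 2 generators and at most 80 relations. -/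
theorem result {F : Type*} [Field F] [Fintype F] (q n : ℕ) (hF : Fintype.card F = q ^ 2) (hn : 3 ≤ n) (h32 : ¬ (n = 3 ∧ q = 2)) :
    ∃ rels : Finset (FreeGroup (Fin 2)), rels.card ≤ 80 ∧ Nonempty (PresentedGroup (↑rels : Set (FreeGroup (Fin 2))) ≃* Cfsg.PSU n F q) := by
  classical
  obtain ⟨a, b, hab⟩ := CfsgLib.TwoGenClassical.su_two_generated (N := n) hF hn
    (fun h h' => h32 ⟨h, h'⟩)
  obtain ⟨x, y, hxy⟩ := CfsgLib.TwoGenClassical.two_generated_quotient
    (Subgroup.center ↥(Cfsg.SU n F q)) hab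
  have htwo : ∀ {m : ℕ} (R : Finset (FreeGroup (Fin m))), R.card ≤ 78 →
      Nonempty (PresentedGroup (↑R : Set (FreeGroup (Fin m))) ≃* Cfsg.PSU n F q) →
      ∃ rels : Finset (FreeGroup (Fin 2)), rels.card ≤ 80 ∧
        Nonempty (PresentedGroup (↑rels : Set (FreeGroup (Fin 2))) ≃* Cfsg.PSU n F q) := by
    intro m R hR he
    obtain ⟨e⟩ := he
    obtain ⟨R', hR', e', -⟩ := CfsgLib.AltPres54.change_all R e
      (![x, y] : Fin 2 → Cfsg.PSU n F q) (by
        rw [Matrix.range_cons, Matrix.range_cons, Matrix.range_empty, Set.union_empty, ← Set.insert_eq]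
        exact hxy)
    exact ⟨R', by omega, ⟨e'⟩⟩
  rcases Nat.eq_or_lt_of_le hn with rfl | hn4
  · have h2 : q ≠ 2 := fun h => h32 ⟨rfl, h⟩
    obtain ⟨p, e, hp, hc, -, he⟩ := CfsgLib.Unitary.exists_char hF
    haveI := hc
    haveI : Fact p.Prime := ⟨hp⟩
    letI : Algebra (ZMod p) F := ZMod.algebra F p
    obtain ⟨ζ, hζ⟩ := IsCyclic.exists_generator (α := Fˣ)
    obtain ⟨rels, hcard, ⟨e0⟩⟩ := CfsgLib.SUThreePres.exists_presentation hF ζ hζ he h2
    obtain ⟨e1⟩ := CfsgLib.SUThreePres.exists_iso hF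
    obtain ⟨R', hR', hR''⟩ := CfsgLib.SUPres.psu_pres hF (by norm_num) rels (e0.trans e1)
    exact htwo R' (by omega) hR''
  · obtain ⟨R, hR, ⟨eR⟩⟩ : ∃ R : Finset (FreeGroup (Fin 6)), R.card ≤ 39 ∧
        Nonempty (PresentedGroup (↑R : Set (FreeGroup (Fin 6))) ≃* ↥(Cfsg.SU n F q)) := by
      rcases Nat.eq_or_lt_of_le (show 4 ≤ n from hn4) with rfl | h
      · obtain ⟨R4, hR4, e4, -⟩ := CfsgLib.SUPres.su_four_pres hF
        exact ⟨R4, hR4.trans (by split_ifs <;> omega), ⟨e4⟩⟩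
      · obtain ⟨R, hR, he⟩ := CfsgLib.SUPres.su_six hF (n := n) h
        exact ⟨R, hR.trans (by split_ifs <;> omega), he⟩
    obtain ⟨R', hR', hR''⟩ := CfsgLib.SUPres.psu_pres hF (show 2 ≤ n by omega) R eR
    exact htwo R' (by omega) hR''

end Cfsg.Agent.S2291
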