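import Cfsg.Statements.S2292
import Cfsg.Agent.SpPres77.Pres
import Cfsg.Agent.TwoGenClassical.Symplectic
import Cfsg.Agent.AltPres54.Tietze
import Cfsg.Agent.Eq.Def_Classical
-- import your own Cfsg.Agent.* helpers here

set_option autoImplicit false
open Cfsg

namespace Cfsg.Agent.S2292

/-- Let F be a finite field with q elements and m ≥ 2 with (m, q) ≠ (2, 2). Then the simple group PSp_2m(F) has a presentation with 2 generators and at most 80 relations. -/
theorem result {F : Type*} [Field F] [Fintype F] (m : ℕ) (hm : 2 ≤ m) (h22 : ¬ (m = 2 ∧ Fintype.card F = 2)) :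
    ∃ rels : Finset (FreeGroup (Fin 2)), rels.card ≤ 80 ∧ Nonempty (PresentedGroup (↑rels : Set (FreeGroup (Fin 2))) ≃* Cfsg.PSp m F) := by
  classical
  obtain ⟨k, R, hR, ⟨e⟩⟩ : ∃ (k : ℕ) (R : Finset (FreeGroup (Fin k))), R.card ≤ 78 ∧
      Nonempty (PresentedGroup (↑R : Set (FreeGroup (Fin k))) ≃* Cfsg.PSp m F) := by
    rcases (show m = 2 ∨ m = 3 ∨ 4 ≤ m by omega) with rfl | rfl | h4
    · obtain ⟨R, hR, he⟩ := (Cfsg.Agent.S2293.result (F := F)).2
      exact ⟨6, R, by omega, he⟩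
    · obtain ⟨R, hR, ⟨e⟩⟩ := CfsgLib.SpPres77.sp_six (F := F)
      obtain ⟨R', hR', he⟩ := CfsgLib.SpPres77.psp_of_sp R hR e
      exact ⟨8, R', by omega, he⟩
    · obtain ⟨R, hR, ⟨e⟩⟩ := CfsgLib.SpPres77.sp_ten (F := F) h4
      obtain ⟨R', hR', he⟩ := CfsgLib.SpPres77.psp_of_sp R hR e
      exact ⟨10, R', by omega, he⟩
  have hF : m = 2 → 2 < Nat.card F := fun h => by
    rw [Nat.card_eq_fintype_card]
    have h1 : 1 < Fintype.card F := Fintype.one_lt_card
    have h2 : Fintype.card F ≠ 2 := fun h' => h22 ⟨h, h'⟩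
    omega
  haveI : NeZero m := ⟨by omega⟩
  obtain ⟨u, v, huv⟩ := CfsgLib.TwoGenClassical.sp_two_generated (F := F) hm hF
  let π := QuotientGroup.mk' (Subgroup.center (Matrix.symplecticGroup (Fin m) F))
  have hgen : Subgroup.closure (Set.range (![π u, π v] : Fin 2 → Cfsg.PSp m F)) = ⊤ := by
    have h := congrArg (Subgroup.map π) huv
    rw [MonoidHom.map_closure, ← MonoidHom.range_eq_map,
      MonoidHom.range_eq_top.2 (QuotientGroup.mk'_surjective _), Set.image_pair] at h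
    refine Eq.trans ?_ h
    congr 1
    ext x
    simp [or_comm]
  obtain ⟨R', hR', e', -⟩ := CfsgLib.AltPres54.change_all R e _ hgen
  exact ⟨R', by omega, ⟨e'⟩⟩

end Cfsg.Agent.S2292
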