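import Cfsg.Statements.S2294
import Cfsg.Agent.Eq.Def_Classical
import Cfsg.Agent.SUPres.Assemble
-- import your own Cfsg.Agent.* helpers here

set_option autoImplicit false
open Cfsg

namespace Cfsg.Agent.S2294

/-- Let F be a field with q² elements and n ≥ 4, and SU_n(q), PSU_n(q) the special unitary group of the standard Hermitian form and its central quotient. Then SU_n(q) has a presentation with 6 generators and at most 39 relations and PSU_n(q) one with 6 generators and at most 40 relations; moreover SU_4(q) and SU_5(q) have presentations with 6 generators and at most 35 relations, and PSU_4(q) one with 6 generators and at most 36 relations. -/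
theorem result {F : Type*} [Field F] [Fintype F] (q : ℕ) (hF : Fintype.card F = q ^ 2) (n : ℕ) (hn : 4 ≤ n) :
    (∃ rels : Finset (FreeGroup (Fin 6)), rels.card ≤ 39 ∧ Nonempty (PresentedGroup (↑rels : Set (FreeGroup (Fin 6))) ≃* ↥(Cfsg.SU n F q))) ∧ (∃ rels : Finset (FreeGroup (Fin 6)), rels.card ≤ 40 ∧ Nonempty (PresentedGroup (↑rels : Set (FreeGroup (Fin 6))) ≃* Cfsg.PSU n F q)) ∧
    (∃ rels : Finset (FreeGroup (Fin 6)), rels.card ≤ 35 ∧ Nonempty (PresentedGroup (↑rels : Set (FreeGroup (Fin 6))) ≃* ↥(Cfsg.SU 4 F q))) ∧ (∃ rels : Finset (FreeGroup (Fin 6)), rels.card ≤ 35 ∧ Nonempty (PresentedGroup (↑rels : Set (FreeGroup (Fin 6))) ≃* ↥(Cfsg.SU 5 F q))) ∧ (∃ rels : Finset (FreeGroup (Fin 6)), rels.card ≤ 36 ∧ Nonempty (PresentedGroup (↑rels : Set (FreeGroup (Fin 6))) ≃* Cfsg.PSU 4 F q)) := by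
  obtain ⟨R4, hR4, e4, -⟩ := CfsgLib.SUPres.su_four_pres hF
  have h4 : R4.card ≤ 27 := hR4.trans (by split_ifs <;> omega)
  obtain ⟨R5, hR5, h5⟩ := CfsgLib.SUPres.su_six hF (n := 5) le_rfl
  obtain ⟨P4, hP4, hP4'⟩ := CfsgLib.SUPres.psu_pres hF (n := 4) (by norm_num) R4 e4
  obtain ⟨Rn, hRn, ⟨en⟩⟩ : ∃ R : Finset (FreeGroup (Fin 6)), R.card ≤ 39 ∧
      Nonempty (PresentedGroup (↑R : Set (FreeGroup (Fin 6))) ≃* ↥(Cfsg.SU n F q)) := by
    rcases Nat.eq_or_lt_of_le hn with rfl | h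
    · exact ⟨R4, by omega, ⟨e4⟩⟩
    · obtain ⟨R, hR, he⟩ := CfsgLib.SUPres.su_six hF (n := n) h
      exact ⟨R, hR.trans (by split_ifs <;> omega), he⟩
  obtain ⟨Pn, hPn, hPn'⟩ := CfsgLib.SUPres.psu_pres hF (show 2 ≤ n by omega) Rn en
  exact ⟨⟨Rn, hRn, ⟨en⟩⟩, ⟨Pn, by omega, hPn'⟩, ⟨R4, by omega, ⟨e4⟩⟩,
    ⟨R5, by simpa using hR5, h5⟩, ⟨P4, by omega, hP4'⟩⟩

end Cfsg.Agent.S2294
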