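import Cfsg.Statements.S2418
import Cfsg.Agent.Chevalley.All
import Cfsg.Agent.Chevalley.WeylCenter

set_option autoImplicit false
open Cfsg

namespace Cfsg.Agent.S2418

/-- For the Coxeter groups of types B₂, G₂, D₄, F₄, E₇, E₈ the centre has order 2 (the element acting as −1 on the root system) and is generated by a power of the Coxeter element `s₁ s₂ ⋯ s_l`; the Coxeter group of type E₆ has trivial centre. -/
theorem result (c : (Σ n : ℕ, CoxeterMatrix (Fin n)) × ℕ)
    (hc : c ∈ [(⟨2, CoxeterMatrix.B 2⟩, 2), (⟨2, CoxeterMatrix.G₂⟩, 2), (⟨4, Cfsg.Lie.coxeterD4⟩, 2), (⟨4, CoxeterMatrix.F₄⟩, 2),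
      (⟨6, CoxeterMatrix.E₆⟩, 1), (⟨7, CoxeterMatrix.E₇⟩, 2), (⟨8, CoxeterMatrix.E₈⟩, 2)]) :
    Nat.card (Subgroup.center c.1.2.Group) = c.2 ∧
      Subgroup.center c.1.2.Group ≤ Subgroup.zpowers ((List.finRange c.1.1).map c.1.2.simple).prod := by
  simp only [List.mem_cons, List.not_mem_nil, or_false] at hc
  rcases hc with rfl | rfl | rfl | rfl | rfl | rfl | rfl
  · exact CfsgLib.Chevalley.sysB2.center_of_neg_one (CoxeterMatrix.B 2) (by decide +kernel) (by decide +kernel) (T := 7) (by decide +kernel) (by decide +kernel)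
      (show ∀ m < 2, CfsgLib.Chevalley.tabB2.coord 2 m 7 ≠ 0 by decide +kernel)
      (List.finRange 2) 2 (by decide +kernel)
  · exact CfsgLib.Chevalley.sysG2.center_of_neg_one CoxeterMatrix.G₂ (by decide +kernel) (by decide +kernel) (T := 11) (by decide +kernel) (by decide +kernel)
      (show ∀ m < 2, CfsgLib.Chevalley.tabG2.coord 2 m 11 ≠ 0 by decide +kernel)
      (List.finRange 2) 3 (by decide +kernel)
  · exact CfsgLib.Chevalley.sysD4.center_of_neg_one Cfsg.Lie.coxeterD4 (by decide +kernel) (by decide +kernel) (T := 23) (by decide +kernel) (by decide +kernel)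
      (show ∀ m < 4, CfsgLib.Chevalley.tabD4.coord 4 m 23 ≠ 0 by decide +kernel)
      (List.finRange 4) 3 (by decide +kernel)
  · exact CfsgLib.Chevalley.sysF4.center_of_neg_one CoxeterMatrix.F₄ (by decide +kernel) (by decide +kernel) (T := 47) (by decide +kernel) (by decide +kernel)
      (show ∀ m < 4, CfsgLib.Chevalley.tabF4.coord 4 m 47 ≠ 0 by decide +kernel)
      (List.finRange 4) 6 (by decide +kernel)
  · have hb := CfsgLib.Chevalley.sysE6.center_eq_bot_of_longest CoxeterMatrix.E₆ (by decide +kernel) (by decide +kernel) (T := 71) (by decide +kernel) (by decide +kernel)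
      (show ∀ m < 6, CfsgLib.Chevalley.tabE6.coord 6 m 71 ≠ 0 by decide +kernel)
      ([0, 1, 2, 0, 3, 1, 2, 0, 3, 2, 4, 3, 1, 2, 0, 3, 2, 4, 3, 1, 5, 4, 3, 1, 2, 0, 3, 2, 4, 3, 1, 5, 4, 3, 2, 0] : List (Fin 6)) (by decide +kernel) (j₀ := (0 : Fin 6)) (by decide +kernel)
    exact ⟨(Subgroup.card_eq_one (H := Subgroup.center CoxeterMatrix.E₆.Group)).mpr hb,
      (le_of_eq hb).trans bot_le⟩
  · exact CfsgLib.Chevalley.sysE7.center_of_neg_one CoxeterMatrix.E₇ (by decide +kernel) (by decide +kernel) (T := 125) (by decide +kernel) (by decide +kernel)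
      (show ∀ m < 7, CfsgLib.Chevalley.tabE7.coord 7 m 125 ≠ 0 by decide +kernel)
      (List.finRange 7) 9 (by decide +kernel)
  · exact CfsgLib.Chevalley.sysE8.center_of_neg_one CoxeterMatrix.E₈ (by decide +kernel) (by decide +kernel) (T := 239) (by decide +kernel) (by decide +kernel)
      (show ∀ m < 8, CfsgLib.Chevalley.tabE8.coord 8 m 239 ≠ 0 by decide +kernel)
      (List.finRange 8) 15 (by decide +kernel)


end Cfsg.Agent.S2418
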