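import Cfsg.Statements.S2424
import Cfsg.Agent.S2420
import Cfsg.Agent.Eq.Def_LinearParabolics
import Cfsg.Agent.Eq.Def_ParabolicCharacters

set_option autoImplicit false
open scoped MatrixGroups
open Cfsg

namespace Cfsg.Agent.S2424

open Finset in
theorem degree_identity (q n : ℕ) (ν : Fin n → ℕ) (T : Equiv.Perm (Fin n) → ℂ)
    (hT : ∀ κ : Equiv.Perm (Fin n), (∀ i : Fin n, (κ i).val ≤ ν i + i.val) →
      T κ * ∏ i : Fin n, ∏ j ∈ range (ν i + i.val - (κ i).val),
          ((∑ l ∈ range (j + 1), q ^ l : ℕ) : ℂ) =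
        ∏ j ∈ range n, ((∑ l ∈ range (j + 1), q ^ l : ℕ) : ℂ)) :
    (∑ κ : Equiv.Perm (Fin n), if ∀ i : Fin n, (κ i).val ≤ ν i + i.val then
        ((Equiv.Perm.sign κ : ℤ) : ℂ) * T κ else 0) * (q : ℂ) ^ (n * (n - 1) * (n - 2) / 6) *
      ∏ i : Fin n, ∏ j ∈ range (ν i + i.val), ((∑ l ∈ range (j + 1), q ^ l : ℕ) : ℂ) =
    (∏ j ∈ range n, ((∑ l ∈ range (j + 1), q ^ l : ℕ) : ℂ)) *
      ∏ i : Fin n, ∏ j ∈ univ.filter (fun j : Fin n => i < j),
        (((∑ l ∈ range (ν j + j.val), q ^ l : ℕ) : ℂ) - ((∑ l ∈ range (ν i + i.val), q ^ l : ℕ) : ℂ)) := by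
  classical
  set Qc : ℕ → ℂ := fun r => ((∑ l ∈ range r, q ^ l : ℕ) : ℂ) with hQc
  have hQ0 : Qc 0 = 0 := by simp [hQc]
  have hshift : ∀ a t, t ≤ a → (q : ℂ) ^ t * Qc (a - t) = Qc a - Qc t := by
    intro a t hta
    rw [eq_sub_iff_add_eq, add_comm]
    conv_rhs => rw [show a = t + (a - t) by omega]
    simp only [hQc, sum_range_add, pow_add, ← mul_sum, Nat.cast_add, Nat.cast_mul, Nat.cast_pow]
  set F : ℕ → ℕ → ℂ := fun k a => ∏ t ∈ range k, Qc (a - t) with hF
  have hfact : ∀ k a, k ≤ a → F k a * ∏ j ∈ range (a - k), Qc (j + 1) = ∏ j ∈ range a, Qc (j + 1) := by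
    intro k a
    induction k with
    | zero => intro _; simp [hF]
    | succ k ih =>
      intro hk
      rw [← ih (by omega), show a - k = (a - (k + 1)) + 1 by omega, prod_range_succ]
      simp only [hF, prod_range_succ]
      rw [show a - (k + 1) + 1 = a - k by omega]
      ring
  have hzero : ∀ k a, a < k → F k a = 0 := by
    intro k a h
    refine prod_eq_zero (mem_range.mpr h) ?_
    rw [Nat.sub_self, hQ0]
  have hpoly : ∀ k a, (q : ℂ) ^ (∑ t ∈ range k, t) * F k a = ∏ t ∈ range k, (Qc a - Qc t) := by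
    intro k a
    rcases lt_or_ge a k with h | h
    · rw [hzero k a h, mul_zero, prod_eq_zero (mem_range.mpr h) (sub_self _)]
    · rw [← prod_pow_eq_pow_sum, hF, ← prod_mul_distrib]
      exact prod_congr rfl fun t ht => hshift a t (by have := mem_range.mp ht; omega)
  set lam : Fin n → ℕ := fun i => ν i + i.val with hlam
  set Z := ∏ j ∈ range n, Qc (j + 1) with hZ
  have hsum : (∑ κ : Equiv.Perm (Fin n), if ∀ i : Fin n, (κ i).val ≤ lam i then
        ((Equiv.Perm.sign κ : ℤ) : ℂ) * T κ else 0) * ∏ i : Fin n, ∏ j ∈ range (lam i), Qc (j + 1) =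
      Z * (Matrix.of fun i j : Fin n => F j.val (lam i)).det := by
    rw [← Matrix.det_transpose, Matrix.det_apply', mul_sum, sum_mul]
    refine sum_congr rfl fun κ _ => ?_
    split_ifs with h
    · rw [← hT κ h]
      simp only [Matrix.transpose_apply, Matrix.of_apply]
      rw [← prod_congr rfl (fun i _ => hfact (κ i).val (lam i) (h i)), prod_mul_distrib]
      ring
    · push Not at h
      obtain ⟨i, hi⟩ := h
      simp only [Matrix.transpose_apply, Matrix.of_apply]
      rw [zero_mul, prod_eq_zero (f := fun i : Fin n => F (κ i).val (lam i)) (mem_univ i) (hzero _ _ hi),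
        mul_zero, mul_zero]
  have hexp : ∀ m : ℕ, 6 * ∑ k ∈ range m, ∑ t ∈ range k, t = m * (m - 1) * (m - 2) := by
    intro m
    induction m with
    | zero => simp
    | succ m ih =>
      rw [sum_range_succ, mul_add, ih]
      have h2 := sum_range_id_mul_two m
      rcases m with _ | _ | m
      · simp
      · simp
      · simp only [show m + 1 + 1 - 1 = m + 1 by omega, show m + 1 + 1 - 2 = m by omega,
          show m + 1 + 1 + 1 - 1 = m + 2 by omega, show m + 1 + 1 + 1 - 2 = m + 1 by omega] at h2 ⊢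
        nlinarith
  have hdet : (q : ℂ) ^ (n * (n - 1) * (n - 2) / 6) * (Matrix.of fun i j : Fin n => F j.val (lam i)).det =
      ∏ i : Fin n, ∏ j ∈ Ioi i, (Qc (lam j) - Qc (lam i)) := by
    rw [← hexp n, Nat.mul_div_cancel_left _ (by norm_num), ← prod_pow_eq_pow_sum,
      ← Fin.prod_univ_eq_prod_range (fun k => (q : ℂ) ^ ∑ t ∈ range k, t) n, ← Matrix.det_mul_row]
    rw [← Matrix.det_vandermonde]
    let P : Fin n → Polynomial ℂ := fun j => ∏ t ∈ range j.val, (Polynomial.X - Polynomial.C (Qc t))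
    rw [Matrix.det_eval_matrixOfPolynomials_eq_det_vandermonde (fun i => Qc (lam i)) P
      (fun j => by
        rw [Polynomial.natDegree_prod_of_monic _ _ (fun t _ => Polynomial.monic_X_sub_C _)]
        simp)
      (fun j => Polynomial.monic_prod_of_monic _ _ (fun t _ => Polynomial.monic_X_sub_C _))]
    congr 1
    ext i j
    simp only [Matrix.of_apply, P, Polynomial.eval_prod, Polynomial.eval_sub, Polynomial.eval_X,
      Polynomial.eval_C]
    exact hpoly _ _
  have hfilter : ∀ i : Fin n, univ.filter (fun j : Fin n => i < j) = Ioi i := by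
    intro i; ext j; simp
  simp only [hfilter]
  rw [← hdet, mul_right_comm, hsum, mul_left_comm, mul_comm]


/-- Degrees of the partition-indexed irreducible characters of `GL_n(q)`: for `ν` a partition of `n` with `n` non-decreasing parts `ν_0 ≤ ⋯ ≤ ν_{n−1}` (zeros allowed; positions counted from 0) and `λ_i = ν_i + i`, write `Q(r)` for the q-integer `1 + q + ⋯ + q^(r−1)` and `Q!(r)` for `Q(1)Q(2)⋯Q(r)`; then the degree `γ(ν)` of the character satisfies `γ(ν) · q^(n(n−1)(n−2)/6) · ∏_i Q!(λ_i) = Q!(n) · ∏_{i<j} (Q(λ_j) − Q(λ_i))`. For `ν = (1,…,1)` this gives the Steinberg degree `q^(n(n−1)/2)`, for `ν = (0,…,0,n)` degree 1. -/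
theorem result {F : Type*} [Field F] [Fintype F] {q : ℕ} (hq : Fintype.card F = q) {n : ℕ} (ν : Fin n → ℕ) (hmono : Monotone ν) (hsum : ∑ i, ν i = n) :
    Cfsg.unipotentCharacterGL n F ν 1 * (q : ℂ) ^ (n * (n - 1) * (n - 2) / 6) *
        ∏ i : Fin n, ∏ j ∈ Finset.range (ν i + i.val), ((∑ l ∈ Finset.range (j + 1), q ^ l : ℕ) : ℂ) =
      (∏ j ∈ Finset.range n, ((∑ l ∈ Finset.range (j + 1), q ^ l : ℕ) : ℂ)) *
        ∏ i : Fin n, ∏ j ∈ Finset.univ.filter (fun j : Fin n => i < j),
          (((∑ l ∈ Finset.range (ν j + j.val), q ^ l : ℕ) : ℂ) - ((∑ l ∈ Finset.range (ν i + i.val), q ^ l : ℕ) : ℂ)) := by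
  classical
  have h1 : ∀ H : Subgroup (GL (Fin n) F),
      Cfsg.fixedPointCharacter H 1 = (Nat.card (GL (Fin n) F ⧸ H) : ℂ) := by
    intro H
    unfold Cfsg.fixedPointCharacter
    rw [show MulAction.fixedBy (GL (Fin n) F ⧸ H) (1 : GL (Fin n) F) = Set.univ by ext x; simp,
      Nat.card_univ]
  unfold Cfsg.unipotentCharacterGL
  simp only [h1]
  refine degree_identity q n ν
    (fun κ => (Nat.card (GL (Fin n) F ⧸ Cfsg.parabolicGL n F fun i => ν i + i.val - (κ i).val) : ℂ))
    fun κ hκ => ?_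
  have hμ : ∑ i : Fin n, (ν i + i.val - (κ i).val) = n := by
    have h2 : ∑ i : Fin n, (ν i + i.val - (κ i).val) + ∑ i : Fin n, (κ i).val =
        ∑ i : Fin n, ν i + ∑ i : Fin n, i.val := by
      rw [← Finset.sum_add_distrib, ← Finset.sum_add_distrib]
      exact Finset.sum_congr rfl fun i _ => Nat.sub_add_cancel (hκ i)
    rw [Equiv.sum_comp κ (fun i : Fin n => i.val), hsum] at h2
    omega
  exact_mod_cast Cfsg.Agent.S2420.result hq (fun i => ν i + i.val - (κ i).val) hμ

end Cfsg.Agent.S2424
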