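import Cfsg.Statements.S2468
import Cfsg.Agent.PrimeGraphPSL.OddAdjacent
-- import your own Cfsg.Agent.* helpers here

set_option autoImplicit false
open Cfsg

namespace Cfsg.Agent.S2468

open CfsgLib.Classical.Semisimple in
private theorem order_le {F : Type*} [Field F] [Fintype F] {n r p : ℕ} [Fact r.Prime] [CharP F p]
    (hp : p.Prime) (hn : 1 ≤ n) (hrp : r ≠ p)
    (h : r ∣ Nat.card (Matrix.ProjectiveSpecialLinearGroup (Fin n) F)) :
    orderOf (Fintype.card F : ZMod r) ≤ n := by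
  have hr : r.Prime := Fact.out
  have h1 := (h.mul_left (Fintype.card F - 1)).mul_left (Nat.gcd n (Fintype.card F - 1))
  rw [CfsgLib.Classical.Linear.card_psl n hn] at h1
  obtain ⟨i, -, hi⟩ := (hr.prime.dvd_finset_prod_iff _).1 h1
  have he : Fintype.card F ^ n - Fintype.card F ^ (i : ℕ) =
      Fintype.card F ^ (i : ℕ) * (Fintype.card F ^ (n - i) - 1) := by
    rw [Nat.mul_sub, mul_one, ← pow_add, show (i : ℕ) + (n - i) = n by omega]
  rw [he] at hi
  rcases hr.dvd_mul.1 hi with h2 | h2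
  · obtain ⟨j, -, hj⟩ := FiniteField.card F p
    exact absurd ((Nat.prime_dvd_prime_iff_eq hr hp).1
      (hr.dvd_of_dvd_pow (hj ▸ hr.dvd_of_dvd_pow h2))) hrp
  · exact (Nat.le_of_dvd (by omega) ((dvd_pow_sub_one_iff_orderOf_dvd _).1 h2)).trans (Nat.sub_le _ _)

/-- Adjacency of two odd primes in the prime graph of PSL(n,q): let F be a finite field of characteristic p with q elements, n ≥ 2 with PSL(n,F) simple, and let r ≠ s be odd primes different from p dividing the order of PSL(n,F). Let k and l be the multiplicative orders of q modulo r and modulo s, and suppose 2 ≤ k ≤ l. Then PSL(n,F) has NO element of order r·s if and only if k + l > n and k does not divide l. -/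
theorem result {F : Type*} [Field F] [Fintype F] (p : ℕ) [Fact p.Prime] [CharP F p] (n : ℕ) (hn : 2 ≤ n) (hsmall : n = 2 → 4 ≤ Fintype.card F)
    (r s : ℕ) (hr : r.Prime) (hs : s.Prime) (hr2 : r ≠ 2) (hs2 : s ≠ 2) (hrp : r ≠ p) (hsp : s ≠ p) (hrs : r ≠ s)
    (hrG : r ∣ Nat.card (Matrix.ProjectiveSpecialLinearGroup (Fin n) F)) (hsG : s ∣ Nat.card (Matrix.ProjectiveSpecialLinearGroup (Fin n) F))
    (k l : ℕ) (hk : k = orderOf ((Fintype.card F : ℕ) : ZMod r)) (hl : l = orderOf ((Fintype.card F : ℕ) : ZMod s))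
    (h2k : 2 ≤ k) (hkl : k ≤ l) :
    (r * s ∉ Set.range (orderOf : Matrix.ProjectiveSpecialLinearGroup (Fin n) F → ℕ)) ↔ (n < k + l ∧ ¬ k ∣ l) := by
  classical
  haveI : Fact r.Prime := ⟨hr⟩
  haveI : Fact s.Prime := ⟨hs⟩
  have hp : p.Prime := Fact.out
  have hrF : (r : F) ≠ 0 := fun h =>
    hrp ((Nat.prime_dvd_prime_iff_eq hp hr).1 ((CharP.cast_eq_zero_iff F p r).1 h)).symm
  have hsF : (s : F) ≠ 0 := fun h =>
    hsp ((Nat.prime_dvd_prime_iff_eq hp hs).1 ((CharP.cast_eq_zero_iff F p s).1 h)).symm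
  have hkn : k ≤ n := hk ▸ order_le hp (by omega) hrp hrG
  have hln : l ≤ n := hl ▸ order_le hp (by omega) hsp hsG
  have hrs1 : Nat.gcd r s = 1 := (Nat.coprime_primes hr hs).2 hrs
  have hcop : ∀ {t : ℕ} [Fact t.Prime], 2 ≤ orderOf (Fintype.card F : ZMod t) →
      Nat.Coprime t (Fintype.card F - 1) := by
    intro t ht h2
    refine ht.out.coprime_iff_not_dvd.2 fun h => ?_
    rw [← pow_one (Fintype.card F), CfsgLib.Classical.Semisimple.dvd_pow_sub_one_iff_orderOf_dvd,
      Nat.dvd_one] at h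
    omega
  have hcop2 : Nat.Coprime (r * s) (Fintype.card F - 1) :=
    Nat.Coprime.mul_left (hcop (hk ▸ h2k)) (hcop (hl ▸ (h2k.trans hkl)))
  constructor
  · intro hno
    refine ⟨?_, fun hdvd => ?_⟩
    · by_contra hle
      obtain ⟨A, hA⟩ := CfsgLib.PrimeGraphPSL.exists_gl_orderOf_of_dvd (F := F) (l := k) (d := r)
        (by omega) ((CfsgLib.Classical.Semisimple.dvd_pow_sub_one_iff_orderOf_dvd k).2 (hk ▸ dvd_rfl))
      obtain ⟨B, hB⟩ := CfsgLib.PrimeGraphPSL.exists_gl_orderOf_of_dvd (F := F) (l := l) (d := s)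
        (by omega) ((CfsgLib.Classical.Semisimple.dvd_pow_sub_one_iff_orderOf_dvd l).2 (hl ▸ dvd_rfl))
      refine hno (CfsgLib.PrimeGraphPSL.exists_orderOf_psl_of_matrix (a := k + l) (by omega)
        (Nat.mul_pos hr.pos hs.pos) (by omega) hcop2
        (Matrix.reindexAlgEquiv F F (CfsgLib.PrimeGraphPSL.blockEquiv (rfl : k + l = k + l))
          (Matrix.fromBlocks (A : Matrix (Fin k) (Fin k) F) 0 0 (B : Matrix (Fin l) (Fin l) F))) ?_)
      have key : ∀ m, (A : Matrix (Fin k) (Fin k) F) ^ m = 1 ↔ r ∣ m := fun m => by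
        rw [← hA, ← orderOf_units, orderOf_dvd_iff_pow_eq_one]
      have key' : ∀ m, (B : Matrix (Fin l) (Fin l) F) ^ m = 1 ↔ s ∣ m := fun m => by
        rw [← hB, ← orderOf_units, orderOf_dvd_iff_pow_eq_one]
      refine (orderOf_eq_iff (Nat.mul_pos hr.pos hs.pos)).2 ⟨?_, fun m hm hm0 h => ?_⟩
      · rw [CfsgLib.PrimeGraphPSL.reindex_fromBlocks_pow, key, key']
        exact ⟨dvd_mul_right r s, dvd_mul_left s r⟩
      · rw [CfsgLib.PrimeGraphPSL.reindex_fromBlocks_pow, key, key'] at h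
        exact absurd (Nat.le_of_dvd hm0 (Nat.Coprime.mul_dvd_of_dvd_of_dvd hrs1 h.1 h.2))
          (by omega)
    · obtain ⟨A, hA⟩ := CfsgLib.PrimeGraphPSL.exists_gl_orderOf_of_dvd (F := F) (l := l) (d := r * s)
        (by omega) (Nat.Coprime.mul_dvd_of_dvd_of_dvd hrs1
          ((CfsgLib.Classical.Semisimple.dvd_pow_sub_one_iff_orderOf_dvd l).2 (hk ▸ hdvd))
          ((CfsgLib.Classical.Semisimple.dvd_pow_sub_one_iff_orderOf_dvd l).2 (hl ▸ dvd_rfl)))
      exact hno (CfsgLib.PrimeGraphPSL.exists_orderOf_psl_of_matrix (a := l) (by omega)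
        (Nat.mul_pos hr.pos hs.pos) hln hcop2 (A : Matrix (Fin l) (Fin l) F)
        (by rw [orderOf_units, hA]))
  · rintro ⟨hlt, hndvd⟩ ⟨x, hx⟩
    set Z := Subgroup.center (Matrix.SpecialLinearGroup (Fin n) F)
    haveI : Nonempty (Fin n) := ⟨⟨0, by omega⟩⟩
    have hcz : Nat.Coprime (r * s) (Nat.card Z) := by
      rw [CfsgLib.Classical.Linear.center_sl_card]
      exact hcop2.coprime_dvd_right (Nat.gcd_dvd_right _ _)
    obtain ⟨g, hg, hgx, hgo⟩ := CfsgLib.CommutingOrderP.exists_lift_pow Z hcz x hx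
    have hg' : ∀ m, g ^ m = 1 → r * s ∣ m := fun m hm => by
      rw [← hgo, ← hgx]
      refine orderOf_dvd_of_pow_eq_one ?_
      rw [← QuotientGroup.mk_pow, hm, QuotientGroup.mk_one]
    set Φ := CfsgLib.PrimeGraphPSL.toEndHom n F
    have hY1 : Φ (g ^ s) ≠ 1 := fun h => by
      have h' := hg' _ (CfsgLib.PrimeGraphPSL.toEndHom_injective (h.trans (map_one Φ).symm))
      have := Nat.le_of_dvd hs.pos h'
      nlinarith [hr.two_le, hs.two_le]
    have hZ1 : Φ (g ^ r) ≠ 1 := fun h => by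
      have h' := hg' _ (CfsgLib.PrimeGraphPSL.toEndHom_injective (h.trans (map_one Φ).symm))
      have := Nat.le_of_dvd hr.pos h'
      nlinarith [hr.two_le, hs.two_le]
    have hY : Φ (g ^ s) ^ r = 1 := by rw [← map_pow, ← pow_mul, mul_comm, hg, map_one]
    have hZ : Φ (g ^ r) ^ s = 1 := by rw [← map_pow, ← pow_mul, hg, map_one]
    have hb := CfsgLib.PrimeGraphPSL.moved_spaces_bound hrF hsF (Φ (g ^ s)) (Φ (g ^ r)) hY hZ
      (((Commute.refl g).pow_pow s r).map Φ) hY1 hZ1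
    rw [← hk, ← hl, Module.finrank_fin_fun] at hb
    rcases hb with h | h
    · omega
    · obtain ⟨c, hc⟩ := Nat.dvd_lcm_right k l
      rcases c with _ | _ | c
      · simp [Nat.lcm_eq_zero_iff] at hc
        omega
      · rw [Nat.zero_add, mul_one] at hc
        exact hndvd (hc ▸ Nat.dvd_lcm_left k l)
      · rw [hc] at h
        nlinarith

end Cfsg.Agent.S2468
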