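import Cfsg.Statements.S2469
import Cfsg.Agent.Eq.Def_Classical
import Cfsg.Agent.Spec53.PSpPrimeGraph

set_option autoImplicit false
open Cfsg

namespace Cfsg.Agent.S2469

/-- Adjacency of two odd primes in the prime graph of PSp(2n,q): let F be a finite field of characteristic p with q elements, n ≥ 2 with PSp(2n,F) simple, and let r ≠ s be odd primes different from p dividing the order of PSp(2n,F). Let k, l be the multiplicative orders of q modulo r and s, put η(m) = m for odd m and η(m) = m/2 for even m, and suppose η(k) ≤ η(l). Then PSp(2n,F) has NO element of order r·s if and only if η(k) + η(l) > n and l/k is not an odd integer. -/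
theorem result {F : Type*} [Field F] [Fintype F] (p : ℕ) [Fact p.Prime] [CharP F p] (n : ℕ) (hn : 2 ≤ n) (hsmall : n = 2 → 3 ≤ Fintype.card F)
    (r s : ℕ) (hr : r.Prime) (hs : s.Prime) (hr2 : r ≠ 2) (hs2 : s ≠ 2) (hrp : r ≠ p) (hsp : s ≠ p) (hrs : r ≠ s)
    (hrG : r ∣ Nat.card (Cfsg.PSp n F)) (hsG : s ∣ Nat.card (Cfsg.PSp n F))
    (k l ηk ηl : ℕ) (hk : k = orderOf ((Fintype.card F : ℕ) : ZMod r)) (hl : l = orderOf ((Fintype.card F : ℕ) : ZMod s))
    (hηk : (Odd k ∧ ηk = k) ∨ (Even k ∧ 2 * ηk = k)) (hηl : (Odd l ∧ ηl = l) ∨ (Even l ∧ 2 * ηl = l)) (hkl : ηk ≤ ηl) :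
    (r * s ∉ Set.range (orderOf : Cfsg.PSp n F → ℕ)) ↔ (n < ηk + ηl ∧ ¬ ∃ t : ℕ, Odd t ∧ l = k * t) := by
  classical
  haveI : Fact r.Prime := ⟨hr⟩
  haveI : Fact s.Prime := ⟨hs⟩
  have hrF : (r : F) ≠ 0 := CfsgLib.Spec53.natCast_ne_zero_of_prime_ne hr hrp
  have hsF : (s : F) ≠ 0 := CfsgLib.Spec53.natCast_ne_zero_of_prime_ne hs hsp
  have hcop := CfsgLib.Spec53.coprime_center_Sp (F := F) (n := n) (d := r * s)
    (Or.inl ((hr.odd_of_ne_two hr2).mul (hs.odd_of_ne_two hs2)))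
  have hln : ηl ≤ n := CfsgLib.Spec53.eta_le hs2 hsF hsG hl hηl
  constructor
  · intro hno
    by_contra hcon
    have h : ηk + ηl ≤ n ∨ ∃ t, Odd t ∧ l = k * t := by
      by_contra h
      rw [not_or] at h
      exact hcon ⟨not_le.1 h.1, h.2⟩
    obtain ⟨g, hg⟩ :=
      CfsgLib.Spec53.exists_orderOf_mul hr2 hs2 hrs hrF hsF hk hl hηk hηl hln h
    exact hno (CfsgLib.Spec53.exists_psp_of_sp hcop g hg)
  · rintro ⟨hbig, hdiv⟩ ⟨x, hx⟩
    obtain ⟨g, hg⟩ := CfsgLib.Spec53.exists_sp_of_psp hcop x hx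
    exact CfsgLib.Spec53.not_orderOf_mul hr2 hs2 hrs hrF hsF hk hl hηk hηl hkl hbig hdiv g hg

end Cfsg.Agent.S2469
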