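import Cfsg.Statements.S2470
import Cfsg.Agent.PrimeGraphPSL.CharAdjacent
-- import your own Cfsg.Agent.* helpers here

set_option autoImplicit false
open Cfsg

namespace Cfsg.Agent.S2470

/-- Adjacency of an odd prime and the characteristic in the prime graph of PSL(n,q): let F be a finite field of characteristic p with q elements, n ≥ 2 with PSL(n,F) simple, and let r ≠ p be an odd prime dividing the order of PSL(n,F), with k the multiplicative order of q modulo r. Then PSL(n,F) has NO element of order r·p if and only if either k > n − 2, or n = 3, r = 3 and 3 divides q − 1 exactly once. -/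
theorem result {F : Type*} [Field F] [Fintype F] (p : ℕ) [Fact p.Prime] [CharP F p] (n : ℕ) (hn : 2 ≤ n) (hsmall : n = 2 → 4 ≤ Fintype.card F)
    (r : ℕ) (hr : r.Prime) (hr2 : r ≠ 2) (hrp : r ≠ p) (hrG : r ∣ Nat.card (Matrix.ProjectiveSpecialLinearGroup (Fin n) F))
    (k : ℕ) (hk : k = orderOf ((Fintype.card F : ℕ) : ZMod r)) :
    (r * p ∉ Set.range (orderOf : Matrix.ProjectiveSpecialLinearGroup (Fin n) F → ℕ)) ↔
      (n - 2 < k ∨ (n = 3 ∧ r = 3 ∧ 3 ∣ Fintype.card F - 1 ∧ ¬ 9 ∣ Fintype.card F - 1)) := by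
  classical
  haveI : Fact r.Prime := ⟨hr⟩
  have hp : p.Prime := Fact.out
  have hrF : (r : F) ≠ 0 := fun h =>
    hrp ((Nat.prime_dvd_prime_iff_eq hp hr).1 ((CharP.cast_eq_zero_iff F p r).1 h)).symm
  have hk0 : 0 < k := hk ▸ CfsgLib.Classical.Semisimple.orderOf_card_pos hrF
  constructor
  · intro hno
    by_contra hcon
    rw [not_or] at hcon
    apply hno
    rw [Set.mem_range]
    have hkn : k + 2 ≤ n := by omega
    by_cases hbig : 2 ≤ k ∨ 4 ≤ n
    · exact CfsgLib.PrimeGraphPSL.exists_rp_large hp hr2 hrp hk hkn hbig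
    · obtain rfl : n = 3 := by omega
      have hq : r ∣ Fintype.card F - 1 := by
        have h := (CfsgLib.Classical.Semisimple.dvd_pow_sub_one_iff_orderOf_dvd (F := F) (r := r) 1).2
          (by rw [← hk, show k = 1 by omega])
        simpa using h
      obtain ⟨c, hc⟩ := IsCyclic.exists_generator (α := Fˣ)
      have hord : orderOf c = Fintype.card F - 1 := by
        rw [orderOf_eq_card_of_forall_mem_zpowers hc, CfsgLib.Classical.Linear.natCard_units]
      obtain ⟨d, hdq, hd1, hd2⟩ : ∃ d, d ∣ Fintype.card F - 1 ∧ d ∣ 3 * (r * p) ∧ ¬ d ∣ 3 * p := by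
        by_cases h3 : r = 3
        · subst h3
          have h9 : 9 ∣ Fintype.card F - 1 := by
            by_contra h9
            exact hcon.2 ⟨rfl, rfl, hq, h9⟩
          refine ⟨9, h9, ⟨p, by ring⟩, fun h => ?_⟩
          have : 3 ∣ p := Nat.dvd_of_mul_dvd_mul_left (k := 3) (by norm_num) h
          exact hrp ((Nat.prime_dvd_prime_iff_eq hr hp).1 this)
        · refine ⟨r, hq, (dvd_mul_right r p).mul_left 3, fun h => ?_⟩
          rcases hr.dvd_mul.1 h with h | h
          · exact h3 ((Nat.prime_dvd_prime_iff_eq hr Nat.prime_three).1 h)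
          · exact hrp ((Nat.prime_dvd_prime_iff_eq hr hp).1 h)
      obtain ⟨e, he⟩ := hdq
      have hu : orderOf (c ^ e) = d := by
        have hq1 : 0 < Fintype.card F - 1 := Nat.sub_pos_of_lt Fintype.one_lt_card
        have he0 : e ≠ 0 := by rintro rfl; simp at he; omega
        rw [orderOf_pow' _ he0, hord, he, Nat.gcd_eq_right (dvd_mul_left e d),
          Nat.mul_div_cancel _ (Nat.pos_of_ne_zero he0)]
      exact CfsgLib.PrimeGraphPSL.exists_rp_three hp hr hrp (c ^ e)
        (orderOf_dvd_iff_pow_eq_one.1 (hu ▸ hd1))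
        (fun h => hd2 (hu ▸ orderOf_dvd_of_pow_eq_one h))
  · rintro hcase ⟨x, hx⟩
    rcases eq_or_lt_of_le hn with rfl | hn3
    · exact CfsgLib.PrimeGraphPSL.not_orderOf_rp_two hr hr2 hrp x hx
    · rcases hcase with hbig | ⟨rfl, rfl, h3, h9⟩
      · exact CfsgLib.PrimeGraphPSL.not_orderOf_rp_of_large hrp hn3 hk (by omega) hbig x hx
      · exact CfsgLib.PrimeGraphPSL.not_orderOf_rp_three (fun h => hrp h.symm) h3 h9 x hx

end Cfsg.Agent.S2470
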