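import Cfsg.Statements.S2472
import Cfsg.Agent.Eq.Def_Classical
import Cfsg.Agent.Spec53.PSpPrimeGraph

set_option autoImplicit false
open Cfsg

namespace Cfsg.Agent.S2472

/-- Adjacency of a prime and the characteristic in the prime graph of PSp(2n,q): let F be a finite field of characteristic p with q elements, n ≥ 2 with PSp(2n,F) simple, and let r ≠ p be an odd prime dividing the order of PSp(2n,F), with k the multiplicative order of q modulo r and η(k) = k for odd k, k/2 for even k. Then PSp(2n,F) has NO element of order r·p if and only if η(k) > n − 1. -/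
theorem result {F : Type*} [Field F] [Fintype F] (p : ℕ) [Fact p.Prime] [CharP F p] (n : ℕ) (hn : 2 ≤ n) (hsmall : n = 2 → 3 ≤ Fintype.card F)
    (r : ℕ) (hr : r.Prime) (hr2 : r ≠ 2) (hrp : r ≠ p) (hrG : r ∣ Nat.card (Cfsg.PSp n F))
    (k ηk : ℕ) (hk : k = orderOf ((Fintype.card F : ℕ) : ZMod r)) (hηk : (Odd k ∧ ηk = k) ∨ (Even k ∧ 2 * ηk = k)) :
    (r * p ∉ Set.range (orderOf : Cfsg.PSp n F → ℕ)) ↔ n - 1 < ηk := by
  classical
  haveI : Fact r.Prime := ⟨hr⟩
  have hp : p.Prime := Fact.out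
  have hrF : (r : F) ≠ 0 := CfsgLib.Spec53.natCast_ne_zero_of_prime_ne hr hrp
  have hcop : Nat.Coprime (r * p) (Nat.card (Subgroup.center (Matrix.symplecticGroup (Fin n) F))) :=
    CfsgLib.Spec53.coprime_center_Sp (by
      rcases hp.eq_two_or_odd' with rfl | ho
      · exact Or.inr (by exact_mod_cast CharP.cast_eq_zero F 2)
      · exact Or.inl ((hr.odd_of_ne_two hr2).mul ho))
  constructor
  · intro hno
    by_contra hcon
    obtain ⟨g, hg⟩ := CfsgLib.Spec53.exists_orderOf_mul_char (n := n) hrp hk hηk (by omega)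
    exact hno (CfsgLib.Spec53.exists_psp_of_sp hcop g hg)
  · rintro hbig ⟨x, hx⟩
    obtain ⟨g, hg⟩ := CfsgLib.Spec53.exists_sp_of_psp hcop x hx
    exact CfsgLib.Spec53.not_orderOf_mul_char hr2 hrp hk hηk (by omega) g hg

end Cfsg.Agent.S2472
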