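import Cfsg.Statements.S2493
import Cfsg.Agent.OreCover.Comm

set_option autoImplicit false
open Cfsg

namespace Cfsg.Agent.S2493

/-- Let n ≥ 5 and let G be a finite perfect group whose centre has order 2 with G/Z(G) isomorphic to the alternating group of degree n (the double cover of the alternating group). Then every element of G is a commutator. -/
theorem result {G : Type*} [Group G] [Finite G] (hperf : commutator G = ⊤) {n : ℕ} (hn : 5 ≤ n)
    (hZ : Nat.card (Subgroup.center G) = 2) (e : G ⧸ Subgroup.center G ≃* alternatingGroup (Fin n))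
    (g : G) :
    ∃ a b : G, a * b * a⁻¹ * b⁻¹ = g := by
  classical
  obtain ⟨z, hzc, hz1⟩ : ∃ z ∈ Subgroup.center G, z ≠ 1 := by
    haveI : Nontrivial (Subgroup.center G) := by
      rw [← Finite.one_lt_card_iff_nontrivial, hZ]; norm_num
    obtain ⟨⟨z, hz⟩, hne⟩ := exists_ne (1 : Subgroup.center G)
    exact ⟨z, hz, fun h => hne (Subtype.ext h)⟩
  have hel : ∀ x ∈ Subgroup.center G, x = 1 ∨ x = z := by
    intro x hx
    by_contra hcon
    simp only [not_or] at hcon
    have h3 : ({⟨1, one_mem _⟩, ⟨z, hzc⟩, ⟨x, hx⟩} : Set (Subgroup.center G)).ncard = 3 := by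
      rw [Set.ncard_eq_three]
      exact ⟨_, _, _, by simpa using hz1.symm, by simpa using Ne.symm hcon.1,
        by simpa using Ne.symm hcon.2, rfl⟩
    have := Set.ncard_le_ncard (Set.subset_univ ({⟨1, one_mem _⟩, ⟨z, hzc⟩, ⟨x, hx⟩} :
      Set (Subgroup.center G))) (Set.toFinite _)
    rw [h3, Set.ncard_univ, hZ] at this
    omega
  let q : G →* Equiv.Perm (Fin n) :=
    ((alternatingGroup (Fin n)).subtype.comp e.toMonoidHom).comp (QuotientGroup.mk' _)
  have hker : q.ker = Subgroup.center G := by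
    ext x
    simp [q, MonoidHom.mem_ker]
  have hext : CfsgLib.AltCover.IsExt q := by
    refine ⟨?_, hker.le⟩
    ext σ
    constructor
    · rintro ⟨x, rfl⟩; exact (e (QuotientGroup.mk' _ x)).2
    · intro hσ
      obtain ⟨x, hx⟩ := QuotientGroup.mk'_surjective _ (e.symm ⟨σ, hσ⟩)
      refine ⟨x, ?_⟩
      show ((e (QuotientGroup.mk' _ x)) : Equiv.Perm (Fin n)) = σ
      rw [hx, MulEquiv.apply_symm_apply]
  refine CfsgLib.OreCover.IsDoubleExt.exists_commutator (q := q) (z := z)
    ⟨hext, fun x hx => hel x (hker ▸ hx), hker ▸ hzc, ?_, hz1, hperf⟩ hn g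
  rcases hel _ (mul_mem hzc hzc) with h | h
  · exact h
  · exact absurd (mul_eq_left.1 h) hz1

end Cfsg.Agent.S2493
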