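import Cfsg.Statements.S2515
import Mathlib
import Cfsg.Agent.S2475

set_option autoImplicit false
open Cfsg

namespace Cfsg.Agent.S2515

open scoped Matrix

section Helpers

variable {F : Type} [Field F]

private abbrev W (F : Type) [Field F] := Matrix (Fin 2) (Fin 2) F
private abbrev L (F : Type) [Field F] := Matrix.SpecialLinearGroup (Fin 2) F
private abbrev PS (F : Type) [Field F] := Matrix.ProjectiveSpecialLinearGroup (Fin 2) F

/-- The transposed twist of an element. -/
private def tw [CharP F 3] [Fact (Nat.Prime 3)] (g : L F) : W F :=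
  ((g : W F).map (frobenius F 3))ᵀ

private theorem tw_mul [CharP F 3] [Fact (Nat.Prime 3)] (g h : L F) : tw (g * h) = tw h * tw g := by
  rw [tw, tw, tw, Matrix.SpecialLinearGroup.coe_mul, Matrix.map_mul, Matrix.transpose_mul]

private theorem tw_one [CharP F 3] [Fact (Nat.Prime 3)] : tw (1 : L F) = 1 := by
  rw [tw, Matrix.SpecialLinearGroup.coe_one, Matrix.map_one _ (map_zero _) (map_one _),
    Matrix.transpose_one]

/-- `g ⊗ σ(g)` on two by two matrices. -/
private def act [CharP F 3] [Fact (Nat.Prime 3)] : L F →* MulAut (Multiplicative (W F)) :=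
  MonoidHom.mk' (fun g =>
    AddEquiv.toMultiplicative
      { toFun := fun v => (g : W F) * v * tw g
        invFun := fun v => ((g⁻¹ : L F) : W F) * v * tw g⁻¹
        left_inv := fun v => by
          have h1 : ((g⁻¹ : L F) : W F) * (g : W F) = 1 := by
            rw [← Matrix.SpecialLinearGroup.coe_mul, inv_mul_cancel,
              Matrix.SpecialLinearGroup.coe_one]
          have h2 : tw g * tw g⁻¹ = 1 := by rw [← tw_mul, inv_mul_cancel, tw_one]
          calc ((g⁻¹ : L F) : W F) * ((g : W F) * v * tw g) * tw g⁻¹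
              = ((g⁻¹ : L F) : W F) * (g : W F) * v * (tw g * tw g⁻¹) := by simp only [mul_assoc]
            _ = v := by rw [h1, h2, one_mul, mul_one]
        right_inv := fun v => by
          have h1 : (g : W F) * ((g⁻¹ : L F) : W F) = 1 := by
            rw [← Matrix.SpecialLinearGroup.coe_mul, mul_inv_cancel,
              Matrix.SpecialLinearGroup.coe_one]
          have h2 : tw g⁻¹ * tw g = 1 := by rw [← tw_mul, mul_inv_cancel, tw_one]
          calc (g : W F) * (((g⁻¹ : L F) : W F) * v * tw g⁻¹) * tw g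
              = (g : W F) * ((g⁻¹ : L F) : W F) * v * (tw g⁻¹ * tw g) := by simp only [mul_assoc]
            _ = v := by rw [h1, h2, one_mul, mul_one]
        map_add' := fun v w => by rw [mul_add, add_mul] })
    fun g h => MulEquiv.ext fun v => by
      show Multiplicative.ofAdd (((g * h : L F) : W F) * v.toAdd * tw (g * h)) =
        Multiplicative.ofAdd ((g : W F) * ((h : W F) * v.toAdd * tw h) * tw g)
      rw [tw_mul, Matrix.SpecialLinearGroup.coe_mul]
      simp only [mul_assoc]

private theorem act_apply [CharP F 3] [Fact (Nat.Prime 3)] (g : L F) (v : Multiplicative (W F)) :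
    (act g v).toAdd = (g : W F) * v.toAdd * tw g := rfl

private theorem center_le [CharP F 3] [Fact (Nat.Prime 3)] :
    Subgroup.center (L F) ≤ (act (F := F)).ker := by
  intro g hg
  rw [MonoidHom.mem_ker]
  refine MulEquiv.ext fun v => Multiplicative.toAdd.injective ?_
  rw [act_apply]
  rcases CfsgLib.SL2.mem_center_iff'.1 hg with rfl | rfl
  · simp [tw_one]
  · have h : tw (-1 : L F) = -1 := by
      rw [tw]
      ext i j
      fin_cases i <;> fin_cases j <;> simp
    simp [h]

/-- The action of `PSL₂`. -/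
private def actP [CharP F 3] [Fact (Nat.Prime 3)] : PS F →* MulAut (Multiplicative (W F)) :=
  QuotientGroup.lift _ act center_le

/-- The action of `C₂ × PSL₂`. -/
private def phi [CharP F 3] [Fact (Nat.Prime 3)] : ℤˣ × PS F →* MulAut (Multiplicative (W F)) :=
  MonoidHom.mk' (fun x =>
    (if x.1 = 1 then 1 else MulEquiv.inv (Multiplicative (W F))) * actP x.2) fun x y => by
    refine MulEquiv.ext fun v => ?_
    obtain ⟨e, a⟩ := x
    obtain ⟨f, b⟩ := y
    rcases Int.units_eq_one_or e with rfl | rfl <;> rcases Int.units_eq_one_or f with rfl | rfl <;>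
      simp [MulAut.mul_apply, map_mul, map_inv]

private theorem phi_neg [CharP F 3] [Fact (Nat.Prime 3)] (v : Multiplicative (W F)) :
    phi ((-1 : ℤˣ), (1 : PS F)) v = v⁻¹ := by
  simp [phi, MulAut.mul_apply]

private theorem phi_pos [CharP F 3] [Fact (Nat.Prime 3)] (g : L F) (v : Multiplicative (W F)) :
    (phi ((1 : ℤˣ), CfsgLib.Psl2Cover.proj g) v).toAdd = (g : W F) * v.toAdd * tw g := by
  simp [phi, MulAut.mul_apply, actP, CfsgLib.Psl2Cover.proj, act_apply]

private theorem phi_apply [CharP F 3] [Fact (Nat.Prime 3)] (e : ℤˣ) (g : L F)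
    (v : Multiplicative (W F)) :
    (phi (e, CfsgLib.Psl2Cover.proj g) v).toAdd =
      (if e = 1 then (1 : F) else -1) • ((g : W F) * v.toAdd * tw g) := by
  rcases Int.units_eq_one_or e with rfl | rfl <;>
    simp [phi, MulAut.mul_apply, actP, CfsgLib.Psl2Cover.proj, act_apply]

private theorem sq_eq (g : L F) :
    (g : W F) * (g : W F) = (g : W F).trace • (g : W F) - 1 := by
  have hd := g.2
  rw [Matrix.det_fin_two] at hd
  ext i j
  fin_cases i <;> fin_cases j <;>
    simp [Matrix.mul_apply, Fin.sum_univ_two, Matrix.trace_fin_two] <;>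
    first | ring1 | linear_combination hd | linear_combination -hd

/-- No fixed vector unless the trace lies in the prime field. -/
private theorem trace_of_fixed [Fintype F] [CharP F 3] [Fact (Nat.Prime 3)]
    (hns : ¬ IsSquare (-1 : F)) (g : L F) {ε : F} (hε : ε = 1 ∨ ε = -1) {v : W F} (hv : v ≠ 0)
    (h : ε • ((g : W F) * v * tw g) = v) :
    (g : W F).trace = 0 ∨ (g : W F).trace = 1 ∨ (g : W F).trace = -1 := by
  set t := (g : W F).trace with ht
  set C := tw g⁻¹ with hC
  have hεε : ε * ε = 1 := by rcases hε with rfl | rfl <;> ring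
  have htC : tw g * C = 1 := by rw [hC, ← tw_mul, inv_mul_cancel, tw_one]
  have hgv : (g : W F) * v = ε • (v * C) := by
    conv_rhs => rw [← h, smul_mul_assoc, smul_smul, hεε, one_smul, mul_assoc, htC, mul_one]
  have hCC : C * C = t ^ 3 • C - 1 := by
    have h1 := sq_eq (g⁻¹)
    have htr : ((g⁻¹ : L F) : W F).trace = t := by
      rw [Matrix.SpecialLinearGroup.coe_inv, Matrix.adjugate_fin_two, ht, Matrix.trace_fin_two,
        Matrix.trace_fin_two]
      simp [add_comm]
    rw [htr, ← Matrix.SpecialLinearGroup.coe_mul] at h1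
    have h2 : (((g⁻¹ * g⁻¹ : L F) : W F).map (frobenius F 3))ᵀ =
        ((t • ((g⁻¹ : L F) : W F) - 1).map (frobenius F 3))ᵀ := by rw [h1]
    have h3 : tw (g⁻¹ * g⁻¹) = C * C := by rw [tw_mul]
    rw [← h3, tw]
    rw [h2, hC, tw, Matrix.map_sub _ (fun a b => map_sub (frobenius F 3) a b),
      Matrix.map_one _ (map_zero _) (map_one _),
      Matrix.map_smul' _ t _ (fun a b => map_mul (frobenius F 3) a b),
      Matrix.transpose_sub, Matrix.transpose_smul, Matrix.transpose_one, frobenius_def]
  have h4 : (g : W F) * ((g : W F) * v) = v * (C * C) := by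
    rw [hgv, mul_smul_comm, ← mul_assoc, hgv, smul_mul_assoc, smul_smul, hεε, one_smul, mul_assoc]
  rw [← mul_assoc, sq_eq, ← ht, sub_mul, smul_mul_assoc, one_mul, hCC, mul_sub, mul_one,
    mul_smul_comm, sub_left_inj] at h4
  rw [hgv, smul_smul] at h4
  have h5 : (t * ε - t ^ 3) • (v * C) = 0 := by rw [sub_smul, h4, sub_self]
  have hvC : v * C ≠ 0 := fun e => hv (by
    have := congrArg (· * tw g) e
    simp only [zero_mul, mul_assoc, hC, ← tw_mul, mul_inv_cancel, tw_one, mul_one] at this
    exact this)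
  have h6 : t * ε - t ^ 3 = 0 := (smul_eq_zero.1 h5).resolve_right hvC
  rcases eq_or_ne t 0 with h0 | h0
  · exact Or.inl h0
  have h7 : t * t = ε := mul_left_cancel₀ h0 (by linear_combination -h6)
  rcases hε with rfl | rfl
  · exact Or.inr (mul_self_eq_one_iff.1 h7)
  · exact absurd ⟨t, h7.symm⟩ hns

private theorem small_of_trace [CharP F 3] (g : L F)
    (h : (g : W F).trace = 0 ∨ (g : W F).trace = 1 ∨ (g : W F).trace = -1) :
    CfsgLib.Psl2Cover.proj g ^ 2 = 1 ∨ CfsgLib.Psl2Cover.proj g ^ 3 = 1 := by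
  have h3 : (3 : F) = 0 := by exact_mod_cast CharP.cast_eq_zero F 3
  rcases h with h | h | h
  · refine Or.inl ?_
    rw [← map_pow, CfsgLib.Psl2Cover.proj_eq_one_iff, CfsgLib.SL2.mem_center_iff']
    refine Or.inr (Subtype.ext ?_)
    rw [sq, Matrix.SpecialLinearGroup.coe_mul, sq_eq, h, zero_smul, zero_sub]
    rfl
  all_goals
    refine Or.inr ?_
    rw [← map_pow, CfsgLib.Psl2Cover.proj_eq_one_iff, CfsgLib.SL2.mem_center_iff']
  · refine Or.inr (Subtype.ext ?_)
    rw [pow_succ, sq, Matrix.SpecialLinearGroup.coe_mul, Matrix.SpecialLinearGroup.coe_mul, sq_eq, h,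
      one_smul, sub_mul, one_mul, sq_eq, h, one_smul, sub_sub_cancel_left]
    rfl
  · refine Or.inl (Subtype.ext ?_)
    rw [pow_succ, sq, Matrix.SpecialLinearGroup.coe_mul, Matrix.SpecialLinearGroup.coe_mul, sq_eq, h,
      Matrix.SpecialLinearGroup.coe_one, neg_smul, one_smul, sub_mul, neg_mul, one_mul, sq_eq, h,
      neg_smul, one_smul]
    abel

variable [Fintype F] [CharP F 3] [Fact (Nat.Prime 3)]

private abbrev HG (F : Type) [Field F] [Fintype F] [CharP F 3] [Fact (Nat.Prime 3)] : Type :=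
  Multiplicative (W F) ⋊[phi] (ℤˣ × PS F)

private theorem pow_three_w (v : Multiplicative (W F)) : v ^ 3 = 1 := by
  refine Multiplicative.toAdd.injective ?_
  have h3 : (3 : F) = 0 := by exact_mod_cast CharP.cast_eq_zero F 3
  rw [toAdd_pow, toAdd_one]
  ext i j
  rw [Matrix.smul_apply, nsmul_eq_mul, Matrix.zero_apply]
  push_cast
  rw [h3, zero_mul]

private theorem pow_three_right (x : HG F) (h : x.right = 1) : x ^ 3 = 1 := by
  have hx : x = SemidirectProduct.inl x.left := by
    refine SemidirectProduct.ext ?_ ?_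
    · simp
    · simp [h]
  rw [hx, ← map_pow, pow_three_w, map_one]

private theorem pow_right (x : HG F) (k : ℕ) : (x ^ k).right = x.right ^ k :=
  map_pow SemidirectProduct.rightHom x k

/-- The order of an element. -/
private theorem orderOf_cases (hns : ¬ IsSquare (-1 : F)) (x : HG F) :
    orderOf x ∣ 6 ∨ orderOf x ∣ 9 ∨
      orderOf x ∣ Nat.lcm 2 (orderOf x.right.2) ∧ ¬ x.right.2 ^ 2 = 1 ∧ ¬ x.right.2 ^ 3 = 1 := by
  set e := x.right.1 with he
  set a := x.right.2 with ha
  have he2 : e ^ 2 = 1 := Int.units_sq e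
  by_cases h2 : a ^ 2 = 1
  · refine Or.inl (orderOf_dvd_of_pow_eq_one ?_)
    rw [show 6 = 2 * 3 from rfl, pow_mul]
    refine pow_three_right _ ?_
    rw [pow_right]
    exact Prod.ext he2 h2
  by_cases h3 : a ^ 3 = 1
  · rcases Int.units_eq_one_or e with h1 | h1
    · refine Or.inr (Or.inl (orderOf_dvd_of_pow_eq_one ?_))
      rw [show 9 = 3 * 3 from rfl, pow_mul]
      refine pow_three_right _ ?_
      rw [pow_right]
      exact Prod.ext (by show e ^ 3 = 1; rw [h1, one_pow]) h3
    · refine Or.inl (orderOf_dvd_of_pow_eq_one ?_)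
      rw [show 6 = 3 * 2 from rfl, pow_mul]
      have hr : (x ^ 3).right = ((-1 : ℤˣ), (1 : PS F)) := by
        rw [pow_right]
        exact Prod.ext (by show e ^ 3 = -1; rw [h1]; decide) h3
      refine SemidirectProduct.ext ?_ ?_
      · rw [pow_two, SemidirectProduct.mul_left, hr, phi_neg, mul_inv_cancel]
        rfl
      · rw [pow_right, hr]
        exact Prod.ext (by decide : ((-1 : ℤˣ)) ^ 2 = 1) (one_pow 2)
  refine Or.inr (Or.inr ⟨orderOf_dvd_of_pow_eq_one ?_, h2, h3⟩)
  set N := Nat.lcm 2 (orderOf a)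
  have hr : (x ^ N).right = 1 := by
    rw [pow_right]
    refine Prod.ext ?_ (orderOf_dvd_iff_pow_eq_one.1 (Nat.dvd_lcm_right 2 _))
    obtain ⟨k, hk⟩ := Nat.dvd_lcm_left 2 (orderOf a)
    show e ^ N = 1
    rw [show N = 2 * k from hk, pow_mul, he2, one_pow]
  have hfix : phi x.right (x ^ N).left = (x ^ N).left := by
    have h1 := congrArg SemidirectProduct.left (pow_mul_comm' x N)
    rw [SemidirectProduct.mul_left, SemidirectProduct.mul_left, hr, map_one, MulAut.one_apply,
      mul_comm] at h1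
    exact (mul_left_cancel h1).symm
  refine SemidirectProduct.ext ?_ hr
  by_contra hne
  obtain ⟨g, hg⟩ := CfsgLib.Psl2Cover.proj_surjective a
  have h4 := congrArg Multiplicative.toAdd hfix
  rw [show x.right = (e, CfsgLib.Psl2Cover.proj g) from Prod.ext rfl hg.symm, phi_apply] at h4
  have hv : ((x ^ N).left).toAdd ≠ 0 := fun h => hne (Multiplicative.toAdd.injective h)
  have hε : (if e = 1 then (1 : F) else -1) = 1 ∨ (if e = 1 then (1 : F) else -1) = -1 := by
    split_ifs <;> simp
  rcases small_of_trace g (trace_of_fixed hns g hε hv h4) with h | h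
  · exact h2 (hg ▸ h)
  · exact h3 (hg ▸ h)


end Helpers

/-- Let q = 3^α with α ≥ 3 odd. There is a finite group H having a non-trivial normal 3-subgroup and whose element orders maximal under divisibility are exactly 6, 9, q − 1 and (q + 1)/2. -/
theorem result (α : ℕ) (hα : 3 ≤ α) (hodd : Odd α) :
    ∃ (H : Type) (_ : Group H) (_ : Fintype H), (∃ P : Subgroup H, P.Normal ∧ P ≠ ⊥ ∧ IsPGroup 3 ↥P) ∧
      {n : ℕ | n ∈ Set.range (orderOf : H → ℕ) ∧ ∀ m ∈ Set.range (orderOf : H → ℕ), n ∣ m → m = n} = ({6, 9, 3 ^ α - 1, (3 ^ α + 1) / 2} : Set ℕ) := by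
  haveI : Fact (Nat.Prime 3) := ⟨Nat.prime_three⟩
  let F : Type := GaloisField 3 α
  haveI : Fintype F := Fintype.ofFinite F
  have hα0 : α ≠ 0 := by omega
  have hq : Fintype.card F = 3 ^ α := by
    rw [← Nat.card_eq_fintype_card]; exact GaloisField.card 3 α hα0
  set q := 3 ^ α with hqdef
  obtain ⟨β, hβ⟩ := hodd
  have hq27 : 27 ≤ q := le_trans (by norm_num : 27 ≤ 3 ^ 3) (Nat.pow_le_pow_right (by norm_num) hα)
  have hq8 : q % 8 = 3 := by
    rw [hqdef, hβ, pow_succ, pow_mul, Nat.mul_mod, Nat.pow_mod]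
    norm_num
  have hq3 : q % 3 = 0 := by
    rw [hqdef, hβ, pow_succ]
    exact Nat.mul_mod_left _ 3
  have hns : ¬ IsSquare (-1 : F) := fun h => by
    have := FiniteField.isSquare_neg_one_iff.1 h
    rw [hq] at this
    omega
  have hgcd : Nat.gcd 2 (Fintype.card F - 1) = 2 := by
    rw [hq]
    exact Nat.gcd_eq_left (by omega)
  have hspec := Cfsg.Agent.S2475.result (F := F) 3 (by rw [hq]; omega)
  rw [hgcd, hq] at hspec
  haveI : Finite (HG F) := Finite.of_equiv _ SemidirectProduct.equivProd.symm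
  letI : Fintype (HG F) := Fintype.ofFinite _
  refine ⟨HG F, inferInstance, inferInstance, ⟨(SemidirectProduct.inl (φ := phi (F := F))).range,
    ?_, ?_, ?_⟩, ?_⟩
  · rw [SemidirectProduct.range_inl_eq_ker_rightHom]
    infer_instance
  · intro h
    have h1 : SemidirectProduct.inl (φ := phi (F := F)) (Multiplicative.ofAdd (1 : W F)) = 1 :=
      Subgroup.mem_bot.1 (h ▸ ⟨_, rfl⟩)
    rw [← map_one SemidirectProduct.inl, SemidirectProduct.inl_inj] at h1
    exact one_ne_zero (α := W F) (congrArg Multiplicative.toAdd h1)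
  · rintro ⟨_, v, rfl⟩
    exact ⟨1, Subtype.ext (by simp [← map_pow, pow_three_w])⟩
  have hdvd : ∀ x : HG F, orderOf x ∣ 6 ∨ orderOf x ∣ 9 ∨ orderOf x ∣ q - 1 ∨
      orderOf x ∣ (q + 1) / 2 := by
    intro x
    rcases orderOf_cases hns x with h | h | ⟨h, h2, h3⟩
    · exact Or.inl h
    · exact Or.inr (Or.inl h)
    have hm : orderOf x.right.2 ∈ Set.range (orderOf : PS F → ℕ) := ⟨_, rfl⟩
    rw [hspec] at hm
    rcases hm with hm | hm | hm
    · exact absurd (orderOf_dvd_iff_pow_eq_one.1 hm) h3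
    · exact Or.inr (Or.inr (Or.inl (h.trans (Nat.lcm_dvd (by omega)
        (hm.trans ⟨2, by omega⟩)))))
    · exact Or.inr (Or.inr (Or.inr (h.trans (Nat.lcm_dvd (by omega) hm))))
  have hinr : ∀ (e : ℤˣ) (a : PS F),
      orderOf (SemidirectProduct.inr (φ := phi (F := F)) (e, a)) = Nat.lcm (orderOf e) (orderOf a) :=
    fun e a => by rw [orderOf_injective _ SemidirectProduct.inr_injective, Prod.orderOf_mk]
  have hneg : orderOf (-1 : ℤˣ) = 2 := by
    haveI : Fact (Nat.Prime 2) := ⟨Nat.prime_two⟩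
    exact orderOf_eq_prime (Int.units_sq _) (by decide)
  have hA : ∃ x : HG F, orderOf x = q - 1 := by
    obtain ⟨a, ha⟩ : (q - 1) / 2 ∈ Set.range (orderOf : PS F → ℕ) := by
      rw [hspec]; exact Or.inr (Or.inl dvd_rfl)
    refine ⟨_, (hinr (-1) a).trans ?_⟩
    rw [hneg, ha, (Nat.prime_two.coprime_iff_not_dvd.2 (by omega)).lcm_eq_mul]
    omega
  have hB : ∃ x : HG F, orderOf x = (q + 1) / 2 := by
    obtain ⟨a, ha⟩ : (q + 1) / 2 ∈ Set.range (orderOf : PS F → ℕ) := by
      rw [hspec]; exact Or.inr (Or.inr dvd_rfl)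
    exact ⟨_, (hinr 1 a).trans (by rw [orderOf_one, Nat.lcm_one_left, ha])⟩
  have h30 : (3 : F) = 0 := by exact_mod_cast CharP.cast_eq_zero F 3
  have h20 : (2 : F) ≠ 0 := fun h => one_ne_zero (show (1 : F) = 0 by linear_combination h30 - h)
  have hS : ∃ x : HG F, orderOf x = 6 := by
    obtain ⟨g, hg⟩ : ∃ g : L F, (g : W F) = !![0, 1; -1, 0] :=
      ⟨⟨!![0, 1; -1, 0], by simp [Matrix.det_fin_two]⟩, rfl⟩
    have hp : CfsgLib.Psl2Cover.proj g ^ 2 = 1 := by
      rw [← map_pow, CfsgLib.Psl2Cover.proj_eq_one_iff, CfsgLib.SL2.mem_center_iff']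
      refine Or.inr (Subtype.ext ?_)
      rw [sq, Matrix.SpecialLinearGroup.coe_mul, hg]
      ext i j
      fin_cases i <;> fin_cases j <;> simp
    have hp1 : CfsgLib.Psl2Cover.proj g ≠ 1 := by
      rw [Ne, CfsgLib.Psl2Cover.proj_eq_one_iff, CfsgLib.SL2.mem_center_iff']
      rintro (e | e) <;>
      · have := congrArg (fun x : L F => (x : W F) 0 1) e
        simp [hg] at this
    let x : HG F := ⟨Multiplicative.ofAdd 1, (1, CfsgLib.Psl2Cover.proj g)⟩
    refine ⟨x, ?_⟩
    have h6 : orderOf x ∣ 6 := by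
      refine orderOf_dvd_of_pow_eq_one ?_
      rw [show 6 = 2 * 3 from rfl, pow_mul]
      refine pow_three_right _ ?_
      rw [pow_right]
      exact Prod.ext (one_pow 2) hp
    have h2' : x ^ 2 ≠ 1 := fun h => by
      have h1 := congrArg (fun y : HG F => (y.left).toAdd 0 0) h
      simp only [pow_two, SemidirectProduct.mul_left, toAdd_mul, SemidirectProduct.one_left,
        toAdd_one, Matrix.zero_apply, Matrix.add_apply] at h1
      rw [show x.right = (1, CfsgLib.Psl2Cover.proj g) from rfl, phi_pos] at h1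
      simp [x, tw, hg, Matrix.mul_apply, Fin.sum_univ_two] at h1
      exact h20 (by linear_combination h1)
    have h3' : x ^ 3 ≠ 1 := fun h => hp1 (by
      have h1 : x.right.2 ^ 3 = 1 := by
        have := congrArg (fun y : HG F => y.right.2) h
        simpa [pow_right] using this
      rwa [show x.right.2 = CfsgLib.Psl2Cover.proj g from rfl, pow_succ, hp, one_mul] at h1)
    have h7 : orderOf x ∈ Nat.divisors 6 := Nat.mem_divisors.2 ⟨h6, by norm_num⟩
    rw [show Nat.divisors 6 = {1, 2, 3, 6} from by decide] at h7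
    simp only [Finset.mem_insert, Finset.mem_singleton] at h7
    rcases h7 with h | h | h | h
    · exact absurd (by rw [orderOf_eq_one_iff.1 h, one_pow]) h2'
    · exact absurd (orderOf_dvd_iff_pow_eq_one.1 (dvd_of_eq h)) h2'
    · exact absurd (orderOf_dvd_iff_pow_eq_one.1 (dvd_of_eq h)) h3'
    · exact h
  have hN : ∃ x : HG F, orderOf x = 9 := by
    obtain ⟨g, hg⟩ : ∃ g : L F, (g : W F) = !![1, 1; 0, 1] :=
      ⟨⟨!![1, 1; 0, 1], by simp [Matrix.det_fin_two]⟩, rfl⟩
    have hp : CfsgLib.Psl2Cover.proj g ^ 3 = 1 := by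
      rw [← map_pow, CfsgLib.Psl2Cover.proj_eq_one_iff, CfsgLib.SL2.mem_center_iff']
      refine Or.inl (Subtype.ext ?_)
      rw [pow_succ, sq, Matrix.SpecialLinearGroup.coe_mul, Matrix.SpecialLinearGroup.coe_mul, hg]
      ext i j
      fin_cases i <;> fin_cases j <;> simp
      linear_combination h30
    let x : HG F := ⟨Multiplicative.ofAdd !![0, 0; 0, 1], (1, CfsgLib.Psl2Cover.proj g)⟩
    refine ⟨x, ?_⟩
    have h9 : x ^ 9 = 1 := by
      rw [show 9 = 3 * 3 from rfl, pow_mul]
      refine pow_three_right _ ?_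
      rw [pow_right]
      exact Prod.ext (one_pow 3) hp
    have h3' : x ^ 3 ≠ 1 := fun h => by
      have h1 := congrArg (fun y : HG F => (y.left).toAdd 0 0) h
      simp only [pow_three, SemidirectProduct.mul_left, toAdd_mul, SemidirectProduct.one_left,
        toAdd_one, Matrix.zero_apply, Matrix.add_apply, map_mul] at h1
      rw [show x.right = (1, CfsgLib.Psl2Cover.proj g) from rfl, phi_pos, phi_pos, phi_pos] at h1
      simp [x, tw, hg, Matrix.mul_apply, Fin.sum_univ_two, Matrix.vecMul, dotProduct] at h1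
      exact h20 (by linear_combination h1 - h30)
    exact orderOf_eq_prime_pow (p := 3) (n := 1) (by simpa using h3') (by simpa using h9)
  have hn3 : ∀ a : ℕ, 3 ∣ a → ¬ a ∣ q - 1 ∧ ¬ a ∣ (q + 1) / 2 := fun a ha => by
    constructor <;> intro h <;> have := ha.trans h <;> omega
  have hAB : ¬ (q + 1) / 2 ∣ q - 1 := fun h => by
    have h1 : (q + 1) / 2 ∣ q + 1 := ⟨2, by omega⟩
    have h2 := Nat.le_of_dvd (by omega) (Nat.dvd_sub h1 h)
    omega
  ext m
  constructor
  · rintro ⟨⟨x, rfl⟩, hmax⟩
    simp only [Set.mem_insert_iff, Set.mem_singleton_iff]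
    rcases hdvd x with h | h | h | h
    · exact Or.inl (hmax 6 hS h).symm
    · exact Or.inr (Or.inl (hmax 9 hN h).symm)
    · exact Or.inr (Or.inr (Or.inl (hmax _ hA h).symm))
    · exact Or.inr (Or.inr (Or.inr (hmax _ hB h).symm))
  · simp only [Set.mem_insert_iff, Set.mem_singleton_iff]
    rintro (rfl | rfl | rfl | rfl)
    · refine ⟨hS, ?_⟩
      rintro m ⟨y, rfl⟩ hd
      rcases hdvd y with h | h | h | h
      · exact Nat.dvd_antisymm h hd
      · exact absurd (hd.trans h) (by norm_num)
      · exact absurd (hd.trans h) (hn3 6 (by norm_num)).1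
      · exact absurd (hd.trans h) (hn3 6 (by norm_num)).2
    · refine ⟨hN, ?_⟩
      rintro m ⟨y, rfl⟩ hd
      rcases hdvd y with h | h | h | h
      · exact absurd (hd.trans h) (by norm_num)
      · exact Nat.dvd_antisymm h hd
      · exact absurd (hd.trans h) (hn3 9 (by norm_num)).1
      · exact absurd (hd.trans h) (hn3 9 (by norm_num)).2
    · refine ⟨hA, ?_⟩
      rintro m ⟨y, rfl⟩ hd
      rcases hdvd y with h | h | h | h
      · have := Nat.le_of_dvd (by norm_num) (hd.trans h); omega
      · have := Nat.le_of_dvd (by norm_num) (hd.trans h); omega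
      · exact Nat.dvd_antisymm h hd
      · have := Nat.le_of_dvd (by omega) (hd.trans h); omega
    · refine ⟨hB, ?_⟩
      rintro m ⟨y, rfl⟩ hd
      rcases hdvd y with h | h | h | h
      · have := Nat.le_of_dvd (by norm_num) (hd.trans h); omega
      · have := Nat.le_of_dvd (by norm_num) (hd.trans h); omega
      · exact absurd (hd.trans h) hAB
      · exact Nat.dvd_antisymm h hd

end Cfsg.Agent.S2515
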