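import Cfsg.Statements.S2518
import Cfsg.Agent.GraphG2Three.Graph
import Cfsg.Agent.G2Oct.Bridge
import Cfsg.Agent.S2371
import Cfsg.Agent.S4279
-- import your own Cfsg.Agent.* helpers here

set_option autoImplicit false
open Cfsg

namespace Cfsg.Agent.S2518

/-- Let F₃ be the field with 3 elements and F₁₃ the field with 13 elements. The Chevalley group G₂(F₃) and PSL(2, F₁₃) have the same prime graph: the same prime divisors of their orders, and for distinct primes r, s an element of order rs in one iff in the other. -/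
theorem result {F : Type*} [Field F] [Fintype F] (hF : Fintype.card F = 3) {E : Type*} [Field E] [Fintype E] (hE : Fintype.card E = 13) :
    ((∀ r : ℕ, r.Prime → (r ∣ Nat.card ↥(Cfsg.Lie.chevG2.group F) ↔ r ∣ Nat.card (Matrix.ProjectiveSpecialLinearGroup (Fin 2) E))) ∧
      (∀ r s : ℕ, r.Prime → s.Prime → r ≠ s → ((∃ x : ↥(Cfsg.Lie.chevG2.group F), orderOf x = r * s) ↔ (∃ y : (Matrix.ProjectiveSpecialLinearGroup (Fin 2) E), orderOf y = r * s)))) := by
  classical
  set G := ↥(Cfsg.Lie.chevG2.group F) with hG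
  have hcard := CfsgLib.G2Three.natCard_group_three (F := F) hF
  have hodd : Odd (Fintype.card F) := by rw [hF]; decide
  have hinv : ∀ t : G, orderOf t = 2 → Nat.card ↥(Subgroup.centralizer ({t} : Set G)) = 576 := by
    intro t ht
    rw [(Cfsg.Agent.S4279.result hodd t ht).1, hF]
    norm_num
  have hH : ∃ H : Subgroup G, Nat.card H = 13 ∧ Subgroup.centralizer (H : Set G) = H := by
    obtain ⟨H, -, h1, h2⟩ := Cfsg.Agent.S2371.result (F := F) 3 hF le_rfl
    exact ⟨H, h1.trans (by norm_num), h2⟩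
  let e : ↥(Cfsg.Lie.G2 F) ≃* G := CfsgLib.G2Oct.chevIso F
  have h6 : ∃ g : G, orderOf g = 6 := by
    obtain ⟨g, hg⟩ := CfsgLib.G2Three.exists_order_six (F := F) hF
    exact ⟨e g, by rw [MulEquiv.orderOf_eq, hg]⟩
  have h21 : ∀ g : G, orderOf g ≠ 21 := fun g => by
    rw [← MulEquiv.orderOf_eq e.symm g]
    exact CfsgLib.G2Three.no_order_twentyone hF _
  refine ⟨fun r hr => ?_, fun r s hr hs hrs => ?_⟩
  · rw [hcard, CfsgLib.G2Three.natCard_psl_thirteen hE]
    exact CfsgLib.G2Three.prime_dvd_iff hr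
  · rw [CfsgLib.G2Three.orderOf_mul_iff hcard hinv hH h6 h21 hr hs hrs,
      CfsgLib.G2Three.psl_orderOf_mul_iff hE hr hs hrs]

end Cfsg.Agent.S2518
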