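import Cfsg.Statements.S2649
import Cfsg.Agent.Eq.Def_Spor_Mathieu
import Cfsg.Agent.Golay.Cohom.Modules

set_option autoImplicit false
open Cfsg CfsgLib.Golay.Cohom

attribute [local irreducible] ev evF gM codeWord codeCoord mulV gaugeOK eqForm pick kapV

namespace Cfsg.Agent.S2649

/-- Extensions of the Mathieu group M₂₃ by its code module split. Let E be a finite group with a normal subgroup N, an isomorphism φ from E/N onto M₂₃ = `Spor.M23` (the stabiliser of the extra point `none` in M₂₄ acting on the 24 points `GolayPt`), and an injective additive homomorphism ψ from N onto the set of words of the binary Golay code `golayCode` that vanish at `none` (an 11-dimensional space over the field with two elements), such that conjugation by g ∈ E on N corresponds under ψ to the coordinate permutation w ↦ w ∘ σ⁻¹, σ the permutation φ(gN). Then N has a complement in E: some subgroup H meets N trivially and generates E together with N. (Equivalently, the second cohomology group of M₂₃ with coefficients in this module vanishes.) -/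
theorem result
    {E : Type*} [Group E] [Finite E] (N : Subgroup E) [hN : N.Normal]
    (φ : E ⧸ N ≃* ↥Cfsg.Spor.M23)
    (ψ : Additive ↥N →+ (Cfsg.GolayPt → ZMod 2)) (hinj : Function.Injective ψ)
    (hrange : ∀ w : Cfsg.GolayPt → ZMod 2, w ∈ Set.range ψ ↔ (w ∈ Cfsg.golayCode ∧ w none = 0))
    (hψ : ∀ (g : E) (n : ↥N),
      ψ (Additive.ofMul ⟨g * n * g⁻¹, hN.conj_mem n n.2 g⟩)
        = ψ (Additive.ofMul n) ∘ ⇑(((φ (QuotientGroup.mk g) : ↥Cfsg.Spor.M23) : Equiv.Perm Cfsg.GolayPt)⁻¹)) :
    ∃ H : Subgroup E, H ⊓ N = ⊥ ∧ H ⊔ N = ⊤ := by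
  choose n hn using fun v : Vec => (hrange (codeWord v)).2 (codeWord_mem v)
  let emb : Vec → E := fun v => ((n v).toMul : E)
  have hπψ : ∀ a : Additive ↥N, codeWord (codeCoord (ψ a)) = ψ a := fun a =>
    codeWord_coord ((hrange _).1 ⟨a, rfl⟩).1 ((hrange _).1 ⟨a, rfl⟩).2
  let X : Ext E (actOf codeWord codeCoord) :=
    { π := φ.toMonoidHom.comp (QuotientGroup.mk' N)
      emb := emb
      emb_add := fun u v => by
        have : n (u + v) = n u + n v := hinj (by rw [map_add, hn, hn, hn, map_add])
        show ((n (u + v)).toMul : E) = _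
        rw [this]
        rfl
      emb_inj := fun u v h => by
        have : n u = n v := Additive.toMul.injective (Subtype.ext h)
        rw [← codeCoord_word u, ← codeCoord_word v, ← hn u, ← hn v, this]
      ker_iff := fun e => by
        show φ (QuotientGroup.mk e) = 1 ↔ _
        rw [EmbeddingLike.map_eq_one_iff, QuotientGroup.eq_one_iff]
        refine ⟨fun he => ⟨codeCoord (ψ (Additive.ofMul ⟨e, he⟩)), ?_⟩, ?_⟩
        · have : n (codeCoord (ψ (Additive.ofMul ⟨e, he⟩))) = Additive.ofMul ⟨e, he⟩ :=
            hinj (by rw [hn, hπψ])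
          show ((n _).toMul : E) = e
          rw [this]
          rfl
        · rintro ⟨v, rfl⟩
          exact (n v).toMul.2
      surj := φ.surjective.comp (QuotientGroup.mk'_surjective N)
      conj := fun e v => by
        let a : Additive ↥N := Additive.ofMul
          ⟨e * (n v).toMul * e⁻¹, hN.conj_mem _ (n v).toMul.2 e⟩
        have ha : ψ a = codeWord v ∘
            ⇑(((φ (QuotientGroup.mk e) : ↥Cfsg.Spor.M23) : Equiv.Perm Cfsg.GolayPt)⁻¹) := by
          rw [← hn v]
          exact hψ e (n v).toMul
        have : n (actOf codeWord codeCoord (φ (QuotientGroup.mk e)) v) = a :=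
          hinj (by rw [hn, actOf, ← ha, hπψ])
        show e * ((n v).toMul : E) * e⁻¹ = ((n _).toMul : E)
        exact congrArg (fun b : Additive ↥N => (b.toMul : E)) this.symm }
  obtain ⟨s, hs, x, hx⟩ := X.exists_normalised code_act code_masks code_gauge
  obtain ⟨H, hH⟩ := X.split s hs fun r hr => by
    rw [hx r hr, codePhi, ev_zero, zero_smul, X.emb_zero, one_mul]
  have hker : X.π.ker = N := Subgroup.ext fun e => by
    rw [MonoidHom.mem_ker]
    show φ (QuotientGroup.mk e) = 1 ↔ e ∈ N
    rw [EmbeddingLike.map_eq_one_iff, QuotientGroup.eq_one_iff]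
  rw [hker] at hH
  exact ⟨H, by rw [inf_comm]; exact disjoint_iff.1 hH.disjoint, by rw [sup_comm]; exact hH.sup_eq_top⟩

end Cfsg.Agent.S2649
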