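import Cfsg.Statements.S2652
import Cfsg.Agent.FiSylTwoThree.Elementary
import Cfsg.Agent.Eq.Def_Transfer
-- import your own Cfsg.Agent.* helpers here

set_option autoImplicit false
open Cfsg

namespace Cfsg.Agent.S2652

/-- Let T be a Sylow 2-subgroup of the Fischer group Fi₂₃ (the finitely presented group `Spor.Fi23`; T has order 2¹⁸). Then every elementary abelian subgroup of Fi₂₃ contained in T and normal in T has order at most 2¹¹, and there is exactly one such subgroup of order 2¹¹. -/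
theorem result
    (T : Sylow 2 Cfsg.Spor.Fi23) :
    (∀ A : Subgroup Cfsg.Spor.Fi23, A ≤ T → (A.subgroupOf T).Normal → Cfsg.IsElementaryAbelian 2 A →
        Nat.card A ≤ 2 ^ 11) ∧
    ∃! A : Subgroup Cfsg.Spor.Fi23, A ≤ T ∧ (A.subgroupOf T).Normal ∧ Cfsg.IsElementaryAbelian 2 A ∧
        Nat.card A = 2 ^ 11 := by
  have : Finite Cfsg.Spor.Fi23 :=
    Nat.finite_of_card_ne_zero CfsgLib.CosetEnum.Fi23.card_le.2
  have hfac : (Nat.card Cfsg.Spor.Fi23).factorization 2 = 18 := by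
    rw [CfsgLib.CosetEnum.Fi23.card_fi23]
    rw [show (4089470473293004800 : ℕ) = 2 ^ 18 * 15600091832325 by norm_num]
    rw [Nat.factorization_mul (by norm_num) (by norm_num),
      Nat.Prime.factorization_pow (by norm_num : Nat.Prime 2), Finsupp.add_apply,
      Finsupp.single_eq_same, Nat.factorization_eq_zero_of_not_dvd (by norm_num)]
  let S0 : Sylow 2 Cfsg.Spor.Fi23 :=
    Sylow.ofCard CfsgLib.FiSylTwo3.T0 (by rw [CfsgLib.FiSylTwo3.card_T0, hfac])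
  obtain ⟨g, hg⟩ := MulAction.exists_smul_eq Cfsg.Spor.Fi23 S0 T
  let φ : Cfsg.Spor.Fi23 ≃* Cfsg.Spor.Fi23 := MulAut.conj g
  have hT : (T : Subgroup Cfsg.Spor.Fi23) = CfsgLib.FiSylTwo3.T0.map φ.toMonoidHom := by
    rw [← hg]; rfl
  have main : ∀ A : Subgroup Cfsg.Spor.Fi23, A ≤ T → Cfsg.IsElementaryAbelian 2 A →
      Nat.card A ≤ 2 ^ 11 ∧ (Nat.card A = 2 ^ 11 → A = CfsgLib.FiSylTwo3.E0.map φ.toMonoidHom) := by
    intro A hA hel
    set B := A.map φ.symm.toMonoidHom with hB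
    have hcard : Nat.card B = Nat.card A :=
      Subgroup.card_map_of_injective φ.symm.injective
    have hAB : A = B.map φ.toMonoidHom := by
      rw [hB, Subgroup.map_map]; ext x; simp
    have hBT : B ≤ CfsgLib.FiSylTwo3.T0 := by
      rintro _ ⟨a, ha, rfl⟩
      have h := hA ha
      rw [hT] at h
      obtain ⟨t, ht, rfl⟩ := h
      simpa using ht
    have hBel : Cfsg.IsElementaryAbelian 2 B := by
      refine ⟨⟨⟨fun x y => ?_⟩⟩, ?_⟩
      · obtain ⟨_, a, ha, rfl⟩ := x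
        obtain ⟨_, b, hb, rfl⟩ := y
        have h := congrArg Subtype.val (hel.1.is_comm.comm (⟨a, ha⟩ : A) ⟨b, hb⟩)
        refine Subtype.ext ?_
        simpa using congrArg φ.symm h
      · rintro _ ⟨a, ha, rfl⟩
        rw [← map_pow, hel.2 a ha, map_one]
    by_cases hle : B ≤ CfsgLib.FiSylTwo3.E0
    · have h1 := Subgroup.card_le_of_le hle
      rw [CfsgLib.FiSylTwo3.card_E0, hcard] at h1
      refine ⟨h1, fun h2 => ?_⟩
      rw [hAB, Subgroup.eq_of_le_of_card_ge hle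
        (by rw [CfsgLib.FiSylTwo3.card_E0, hcard, h2])]
    · have h1 := CfsgLib.FiSylTwo3.card_le_of_not_le hBT hBel hle
      rw [hcard] at h1
      exact ⟨h1.trans (by norm_num), fun h2 => absurd (h2 ▸ h1) (by norm_num)⟩
  refine ⟨fun A hA _ hel => (main A hA hel).1, CfsgLib.FiSylTwo3.E0.map φ.toMonoidHom,
    ⟨?_, ?_, ?_, ?_⟩, fun A hA => (main A hA.1 hA.2.2.1).2 hA.2.2.2⟩
  · rw [hT]
    exact Subgroup.map_mono (CfsgLib.FiSylTwo3.stage_mono (by norm_num))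
  · refine ⟨fun x hx t => ?_⟩
    rw [Subgroup.mem_subgroupOf] at hx ⊢
    obtain ⟨e, he, hex⟩ := hx
    have ht : (t : Cfsg.Spor.Fi23) ∈ CfsgLib.FiSylTwo3.T0.map φ.toMonoidHom := hT ▸ t.2
    obtain ⟨t0, ht0, hte⟩ := ht
    obtain ⟨w, hw, rfl⟩ := CfsgLib.FiSylTwo3.mem_E0.1 he
    obtain ⟨v, i, hv, hi, rfl⟩ := CfsgLib.FiSylTwo3.stage_form 7 le_rfl t0 ht0
    refine ⟨(CfsgLib.FiSylTwo3.eV v * CfsgLib.FiSylTwo3.sV i) * CfsgLib.FiSylTwo3.eV w *
      (CfsgLib.FiSylTwo3.eV v * CfsgLib.FiSylTwo3.sV i)⁻¹, ?_, ?_⟩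
    · rw [CfsgLib.FiSylTwo3.conj_form hi v hw]
      exact CfsgLib.FiSylTwo3.eV_mem _ _
    · rw [map_mul, map_mul, map_inv, hte, hex]
      push_cast
      rfl
  · refine ⟨⟨⟨fun x y => ?_⟩⟩, ?_⟩
    · obtain ⟨_, a, ha, rfl⟩ := x
      obtain ⟨_, b, hb, rfl⟩ := y
      obtain ⟨v, -, rfl⟩ := CfsgLib.FiSylTwo3.mem_E0.1 ha
      obtain ⟨w, -, rfl⟩ := CfsgLib.FiSylTwo3.mem_E0.1 hb
      refine Subtype.ext ?_
      show φ _ * φ _ = φ _ * φ _
      rw [← map_mul, (CfsgLib.FiSylTwo3.eV_comm v w).eq, map_mul]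
    · rintro _ ⟨a, ha, rfl⟩
      obtain ⟨v, -, rfl⟩ := CfsgLib.FiSylTwo3.mem_E0.1 ha
      rw [← map_pow, pow_two, ← CfsgLib.FiSylTwo3.eV_xor, Nat.xor_self,
        CfsgLib.FiSylTwo3.eV_zero, map_one]
  · rw [Subgroup.card_map_of_injective φ.injective, CfsgLib.FiSylTwo3.card_E0]


end Cfsg.Agent.S2652
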