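import Cfsg.Statements.S2755
import Cfsg.Agent.Eq.Def_LocalEven
import Cfsg.Agent.ReeSThree.Main
import Cfsg.Agent.ReeSThree.FamilyRest

set_option autoImplicit false
open Cfsg
open CfsgLib.ReeSThree

namespace Cfsg.Agent.S2755

/-- Every finite Goldschmidt group is S₄-free (the symmetric group of degree 4 is not involved in it); and for a finite Goldschmidt group G, the symmetric group of degree 3 is not involved in G exactly when G is a Suzuki group or PSL₂ over a field with 3^(2n+1) elements. -/
theorem result {G : Type*} [Group G] [Finite G] (hG : Cfsg.IsGoldschmidtGroup G) : ¬ Cfsg.Involves (Equiv.Perm (Fin 4)) G ∧ (¬ Cfsg.Involves (Equiv.Perm (Fin 3)) G ↔ Cfsg.IsSuzukiOrPSL2OddPowerThree G) := by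
  constructor
  · rcases hG with hR | ⟨F, _, _, n, _, hF, ⟨e⟩⟩ | hS | ⟨F, _, _, n, _, hF, ⟨e⟩⟩ |
      ⟨F, _, _, q, hF, _, hq, ⟨e⟩⟩ | ⟨⟨e⟩⟩
    · exact not_involves_four_of_comm (twoSubgroupsComm_ree hR)
    · have h2 : (2 : F) = 0 := by
        have := charP_of_card_eq_prime_pow (R := F) (p := 2) (f := n) hF
        exact CharTwo.two_eq_zero
      exact not_involves_four_of_comm ((twoSubgroupsComm_psl_two h2).of_equiv e)
    · exact not_involves_four_of_not_three_dvd (not_three_dvd_of_isoSuzuki hS)
    · exact fun h => not_involves_four_psu hF (involves_of_equiv e h)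
    · exact not_involves_four_of_comm ((twoSubgroupsComm_psl_odd hF hq).of_equiv e)
    · exact not_involves_four_of_comm (twoSubgroupsComm_janko.of_equiv e)
  · constructor
    · intro h
      rcases hG with hR | ⟨F, _, _, n, _, hF, ⟨e⟩⟩ | hS | ⟨F, _, _, n, _, hF, ⟨e⟩⟩ |
        ⟨F, _, _, q, hF, _, hq, ⟨e⟩⟩ | ⟨⟨e⟩⟩
      · exact absurd (involves_three_of_isReeType hR) h
      · have h3 : (3 : F) ≠ 0 := by
          have := charP_of_card_eq_prime_pow (R := F) (p := 2) (f := n) hF
          intro h3
          have h2 : (2 : F) = 0 := CharTwo.two_eq_zero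
          exact one_ne_zero (show (1 : F) = 0 by linear_combination h3 - h2)
        exact absurd (involves_of_equiv e.symm (involves_three_psl h3)) h
      · exact Or.inl hS
      · exact absurd (involves_of_equiv e.symm (involves_three_psu hF)) h
      · rcases involves_three_or_card hF hq with hi | ⟨n, hn⟩
        · exact absurd (involves_of_equiv e.symm hi) h
        · exact Or.inr ⟨F, inferInstance, inferInstance, n, hn, ⟨e⟩⟩
      · exact absurd (involves_of_equiv e.symm involves_three_janko) h
    · rintro (hS | ⟨F, _, _, n, hF, ⟨e⟩⟩)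
      · exact not_involves_three_of_not_three_dvd (not_three_dvd_of_isoSuzuki hS)
      · exact fun h => not_involves_three_psl hF (involves_of_equiv e h)

end Cfsg.Agent.S2755
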