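import Cfsg.Statements.S2756
import Cfsg.Agent.Inverted44.NormalTwo

set_option autoImplicit false
open Cfsg

namespace Cfsg.Agent.S2756


/-- For a finite group G the following are equivalent: (a) G has a normal Sylow 2-subgroup; (b) for every odd prime q dividing the order of G and every Sylow q-subgroup T, the normalizer of Z(J(T)) has a normal Sylow 2-subgroup; (c) for every odd prime q and every Sylow q-subgroup T, no nonidentity element of T is inverted by an element of the normalizer of Z(J(T)). Here J(T) is the Thompson subgroup generated by the abelian subgroups of T of largest order. Stated as the two equivalences (a) ⇔ (b) and (a) ⇔ (c). -/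
theorem result {G : Type*} [Group G] [Finite G] : ((∀ P : Sylow 2 G, (P : Subgroup G).Normal) ↔ ∀ (q : ℕ) [Fact q.Prime], q ≠ 2 → q ∣ Nat.card G → ∀ T : Sylow q G, ∀ P : Sylow 2 ↥(Subgroup.normalizer (Cfsg.centerThompsonAOf (T : Subgroup G) : Set G)), (P : Subgroup ↥(Subgroup.normalizer (Cfsg.centerThompsonAOf (T : Subgroup G) : Set G))).Normal) ∧ ((∀ P : Sylow 2 G, (P : Subgroup G).Normal) ↔ ∀ (q : ℕ) [Fact q.Prime], q ≠ 2 → ∀ T : Sylow q G, ∀ x ∈ (T : Subgroup G), x ≠ 1 → ∀ g ∈ Subgroup.normalizer (Cfsg.centerThompsonAOf (T : Subgroup G) : Set G), g * x * g⁻¹ ≠ x⁻¹) := by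
  have hSN : ∀ (q : ℕ) [Fact q.Prime] (T : Sylow q G), (T : Subgroup G) ≤
      Subgroup.normalizer (Cfsg.centerThompsonAOf (T : Subgroup G) : Set G) := fun q _ T =>
    Subgroup.le_normalizer.trans (CfsgLib.Inverted44.normalizer_le_normalizer_centerThompson _)
  have key : ∀ (q : ℕ) [Fact q.Prime] (T : Sylow q G),
      (∀ x ∈ (T : Subgroup G), x ≠ 1 → ∀ g ∈ Subgroup.normalizer
        (Cfsg.centerThompsonAOf (T : Subgroup G) : Set G), g * x * g⁻¹ ≠ x⁻¹) →
      ¬ CfsgLib.Inverted44.InvIn q (Subgroup.normalizer (Cfsg.centerThompsonAOf (T : Subgroup G) : Set G)) := by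
    intro q _ T hT hi
    obtain ⟨x, hx, hx1, g, hg, hgx⟩ := CfsgLib.Inverted44.exists_inverted_mem_sylow T _ (hSN q T) hi
    exact hT x hx hx1 g hg hgx
  refine ⟨⟨fun h q _ _ _ T P => CfsgLib.Inverted44.normal_two_subgroup h _ P, fun h P => ?_⟩,
    ⟨fun h q _ hq T x hx hx1 g _ hgx => ?_, fun h P => ?_⟩⟩
  · refine CfsgLib.Inverted44.normal_two_of_not_inverted (fun q _ hq hdvd T hi => ?_) P
    obtain ⟨x, hx, g, hg, ⟨k, hk⟩, hx1, hgx⟩ := hi
    exact CfsgLib.Inverted44.not_invIn_of_normal_two (h q hq hdvd T) hq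
      ⟨⟨x, hx⟩, trivial, ⟨g, hg⟩, trivial, ⟨k, Subtype.ext hk⟩, fun e => hx1 (congrArg Subtype.val e),
        Subtype.ext hgx⟩
  · obtain ⟨k, hk⟩ := T.isPGroup' ⟨x, hx⟩
    exact CfsgLib.Inverted44.not_invIn_of_normal_two h hq
      ⟨x, trivial, g, trivial, ⟨k, congrArg Subtype.val hk⟩, hx1, hgx⟩
  · exact CfsgLib.Inverted44.normal_two_of_not_inverted (fun q _ hq _ T => key q T (h q hq T)) P

end Cfsg.Agent.S2756
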