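import Cfsg.Statements.S2772
import Cfsg.Agent.SimsThree.Basic

set_option autoImplicit false
open Cfsg

namespace Cfsg.Agent.S2772

open scoped Pointwise
open CfsgLib.Amalgam (omegaCentre)

section
variable {G : Type*} [Group G] [Finite G]

/-- Elementary abelian 2-subgroup. -/
def Elem (A : Subgroup G) : Prop :=
  (∀ a ∈ A, a * a = 1) ∧ ∀ a ∈ A, ∀ b ∈ A, a * b = b * a

/-- Elementary abelian of largest order in `T`. -/
def MaxElem (T A : Subgroup G) : Prop :=
  A ≤ T ∧ Elem A ∧ ∀ B : Subgroup G, B ≤ T → Elem B → Nat.card B ≤ Nat.card A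

theorem elem_conj {A : Subgroup G} (h : Elem A) (g : G) : Elem (A.map (MulAut.conj g).toMonoidHom) := by
  refine ⟨?_, ?_⟩
  · rintro _ ⟨a, ha, rfl⟩
    rw [← map_mul, h.1 a ha, map_one]
  · rintro _ ⟨a, ha, rfl⟩ _ ⟨b, hb, rfl⟩
    rw [← map_mul, ← map_mul, h.2 a ha b hb]

theorem exists_maxElem (T : Subgroup G) : ∃ A, MaxElem T A := by
  classical
  haveI : Fintype (Subgroup G) := Fintype.ofFinite _
  have hne : ((Finset.univ : Finset (Subgroup G)).filter fun A => A ≤ T ∧ Elem A).Nonempty :=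
    ⟨⊥, Finset.mem_filter.2 ⟨Finset.mem_univ _, bot_le,
      fun a ha => by rw [Subgroup.mem_bot.1 ha, one_mul],
      fun a ha b hb => by rw [Subgroup.mem_bot.1 ha, Subgroup.mem_bot.1 hb]⟩⟩
  obtain ⟨A, hA, hmax⟩ := Finset.exists_max_image _ (fun A : Subgroup G => Nat.card A) hne
  obtain ⟨-, h1, h2⟩ := Finset.mem_filter.1 hA
  exact ⟨A, h1, h2, fun B hB hE => hmax B (Finset.mem_filter.2 ⟨Finset.mem_univ _, hB, hE⟩)⟩

/-- An element of a largest elementary abelian subgroup outside `Q` induces a transvection. -/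
theorem transvection {T Q V A : Subgroup G} (hQT : Q ≤ T) (hA : MaxElem T A)
    (hidx : ∀ a ∈ T, ∀ b ∈ T, a ∉ Q → b ∉ Q → a * b ∈ Q) (hV : Elem V) (hVQ : V ≤ Q)
    (hVc : ∀ v ∈ V, ∀ q ∈ Q, v * q = q * v) {a : G} (ha : a ∈ A) (haQ : a ∉ Q)
    {v w : G} (hv : v ∈ V) (hw : w ∈ V) (hva : a * v ≠ v * a) (hwa : a * w ≠ w * a) :
    a * (v * w) = v * w * a := by
  classical
  by_contra hvw
  obtain ⟨hAT, hAE, hmax⟩ := hA
  set A₀ := A ⊓ Q with hA₀
  have hE : Elem (V ⊔ A₀) := by
    have hle : V ⊔ A₀ ≤ Q := sup_le hVQ inf_le_right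
    have hmem : ∀ x ∈ V ⊔ A₀, ∃ s ∈ V, ∃ t ∈ A₀, s * t = x := by
      intro x hx
      have hn : A₀ ≤ Subgroup.normalizer (V : Set G) := fun t ht =>
        Subgroup.mem_normalizer_fintype fun s hs => by
          show t * s * t⁻¹ ∈ V
          rw [← hVc s hs t ht.2, mul_inv_cancel_right]; exact hs
      rw [← SetLike.mem_coe, Subgroup.coe_mul_of_right_le_normalizer_left V A₀ hn] at hx
      exact hx
    constructor
    · intro x hx
      obtain ⟨s, hs, t, ht, rfl⟩ := hmem x hx
      calc s * t * (s * t) = s * (t * s) * t := by group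
        _ = s * (s * t) * t := by rw [← hVc s hs t ht.2]
        _ = (s * s) * (t * t) := by group
        _ = 1 := by rw [hV.1 s hs, hAE.1 t ht.1, one_mul]
    · intro x hx y hy
      obtain ⟨s, hs, t, ht, rfl⟩ := hmem x hx
      obtain ⟨s', hs', t', ht', rfl⟩ := hmem y hy
      calc s * t * (s' * t') = s * (t * s') * t' := by group
        _ = s * (s' * t) * t' := by rw [← hVc s' hs' t ht.2]
        _ = (s * s') * (t * t') := by group
        _ = (s' * s) * (t' * t) := by rw [hV.2 s hs s' hs', hAE.2 t ht.1 t' ht'.1]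
        _ = s' * (s * t') * t := by group
        _ = s' * (t' * s) * t := by rw [hVc s hs t' ht'.2]
        _ = _ := by group
  have h2 : Nat.card A ≤ 2 * Nat.card A₀ := by
    let f : A → Bool × A₀ := fun x => if hx : (x : G) ∈ Q then (true, ⟨x, x.2, hx⟩)
      else (false, ⟨a * x, A.mul_mem ha x.2, hidx a (hAT ha) x (hAT x.2) haQ hx⟩)
    have hf : Function.Injective f := by
      intro x y hxy
      simp only [f] at hxy
      split at hxy <;> split at hxy
      · exact Subtype.ext (congrArg (fun t : Bool × A₀ => (t.2 : G)) hxy)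
      · exact absurd (congrArg Prod.fst hxy) (by simp)
      · exact absurd (congrArg Prod.fst hxy) (by simp)
      · exact Subtype.ext (mul_left_cancel (congrArg (fun t : Bool × A₀ => (t.2 : G)) hxy))
    have := Nat.card_le_card_of_injective f hf
    rwa [Nat.card_prod, Nat.card_eq_fintype_card (α := Bool), Fintype.card_bool] at this
  let ε : Fin 4 → G := ![1, v, w, v * w]
  have hε : ∀ i, ε i ∈ V := by
    intro i; fin_cases i
    · exact V.one_mem
    · exact hv
    · exact hw
    · exact V.mul_mem hv hw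
  have hva' : ∀ c : G, c ∈ V → c ∈ A₀ → a * c = c * a := fun c _ hc => hAE.2 a ha c hc.1
  have hdist : ∀ i j, ε i * ε j ∈ A₀ → i = j := by
    intro i j h
    have hc := hva' _ (V.mul_mem (hε i) (hε j)) h
    have e1 : ∀ s ∈ V, s * s = 1 := hV.1
    have c1 : v * (v * w) = w := by rw [← mul_assoc, e1 v hv, one_mul]
    have c2 : (v * w) * v = w := by rw [hV.2 _ (V.mul_mem hv hw) v hv, c1]
    have c3 : (v * w) * w = v := by rw [mul_assoc, e1 w hw, mul_one]
    have c4 : w * (v * w) = v := by rw [hV.2 w hw _ (V.mul_mem hv hw), c3]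
    have c5 : w * v = v * w := hV.2 w hw v hv
    fin_cases i <;> fin_cases j <;> simp [ε, c1, c2, c3, c4, c5] at hc ⊢ <;>
      first
        | exact hva hc
        | exact hwa hc
        | exact hvw hc
  let F : Fin 4 × A₀ → ↥(V ⊔ A₀) := fun t =>
    ⟨ε t.1 * t.2, Subgroup.mul_mem _ (Subgroup.mem_sup_left (hε t.1)) (Subgroup.mem_sup_right t.2.2)⟩
  have hF : Function.Injective F := by
    rintro ⟨i, s⟩ ⟨j, t⟩ h
    have h1 : ε i * (s : G) = ε j * t := congrArg Subtype.val h
    have h3 : ε j * ε i = (t : G) * (s : G)⁻¹ := by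
      rw [eq_mul_inv_iff_mul_eq, mul_assoc, h1, ← mul_assoc, hV.1 _ (hε j), one_mul]
    have h4 := hdist j i (h3 ▸ A₀.mul_mem t.2 (A₀.inv_mem s.2))
    subst h4
    exact Prod.ext rfl (Subtype.ext (mul_left_cancel h1))
  have h5 := Nat.card_le_card_of_injective F hF
  rw [Nat.card_prod, Nat.card_eq_fintype_card (α := Fin 4), Fintype.card_fin] at h5
  have h6 : Nat.card ↥(V ⊔ A₀) ≤ Nat.card A := hmax _ ((sup_le hVQ inf_le_right : V ⊔ A₀ ≤ Q).trans hQT) hE
  have : 0 < Nat.card A₀ := Nat.card_pos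
  omega

/-- An element of large prime order in a group generated by two transvections of `V` acts trivially. -/
theorem large_prime_centralizes {V : Subgroup G} (hV : Elem V) {a b u : G}
    (ha : ∀ v ∈ V, ∀ w ∈ V, a * v ≠ v * a → a * w ≠ w * a → a * (v * w) = v * w * a)
    (hb : ∀ v ∈ V, ∀ w ∈ V, b * v ≠ v * b → b * w ≠ w * b → b * (v * w) = v * w * b)
    (hu : u ∈ Subgroup.zpowers (a * b)) (huV : ∀ v ∈ V, u * v * u⁻¹ ∈ V)
    {q : ℕ} (hq : q.Prime) (h5 : 5 ≤ q) (huo : orderOf u = q) {v : G} (hv : v ∈ V) : u * v = v * u := by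
  classical
  have hpow : ∀ (n : ℕ), ∀ x ∈ V, u ^ n * x * (u ^ n)⁻¹ ∈ V := by
    intro n
    induction n with
    | zero => intro x hx; simpa using hx
    | succ n ih =>
      intro x hx
      have := huV _ (ih x hx)
      convert this using 1
      rw [pow_succ', mul_inv_rev]; group
  have hfix : ∀ c ∈ V, a * c = c * a → b * c = c * b → ∀ n : ℕ, u ^ n * c = c * u ^ n := by
    intro c _ hac hbc n
    obtain ⟨i, rfl⟩ := hu
    exact ((((show Commute a c from hac).mul_left hbc).zpow_left i).pow_left n).eq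
  let s : ℕ → Bool × Bool := fun n =>
    (decide (a * (u ^ n * v * (u ^ n)⁻¹) = u ^ n * v * (u ^ n)⁻¹ * a),
      decide (b * (u ^ n * v * (u ^ n)⁻¹) = u ^ n * v * (u ^ n)⁻¹ * b))
  obtain ⟨i, hi, j, hj, hne, hs⟩ := Finset.exists_ne_map_eq_of_card_lt_of_maps_to
    (s := Finset.range 5) (t := (Finset.univ : Finset (Bool × Bool))) (by simp) (f := s) (fun _ _ => Finset.mem_univ _)
  rw [Finset.mem_range] at hi hj
  wlog hij : i < j generalizing i j
  · exact this j hj i hi hne.symm hs.symm (by omega)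
  obtain ⟨m, rfl⟩ : ∃ m, j = i + m := ⟨j - i, by omega⟩
  set x := u ^ i * v * (u ^ i)⁻¹ with hx
  set y := u ^ (i + m) * v * (u ^ (i + m))⁻¹ with hy
  have hxV : x ∈ V := hpow i v hv
  have hyV : y ∈ V := hpow (i + m) v hv
  simp only [s, Prod.mk.injEq, decide_eq_decide] at hs
  have key : ∀ z : G, (∀ v ∈ V, ∀ w ∈ V, z * v ≠ v * z → z * w ≠ w * z → z * (v * w) = v * w * z) →
      (z * x = x * z ↔ z * y = y * z) → z * (x * y) = x * y * z := by
    intro z hz hiff
    by_cases hzx : z * x = x * z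
    · exact ((show Commute z x from hzx).mul_right (hiff.1 hzx)).eq
    · exact hz x hxV y hyV hzx (fun h => hzx (hiff.2 h))
  set c := x * y with hc
  have hcV : c ∈ V := V.mul_mem hxV hyV
  have hcfix := hfix c hcV (key a ha hs.1) (key b hb hs.2)
  have hstep : u ^ m * x * (u ^ m)⁻¹ = x * c := by
    have : x * c = y := by rw [hc, ← mul_assoc, hV.1 x hxV, one_mul]
    rw [this, hy, hx, add_comm, pow_add, mul_inv_rev]; group
  have hiter : ∀ n : ℕ, (u ^ m) ^ n * x * ((u ^ m) ^ n)⁻¹ = x * c ^ n := by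
    intro n
    induction n with
    | zero => simp
    | succ n ih =>
      have hcn : u ^ m * c ^ n = c ^ n * u ^ m := ((show Commute (u ^ m) c from hcfix m).pow_right n).eq
      calc (u ^ m) ^ (n + 1) * x * ((u ^ m) ^ (n + 1))⁻¹
          = u ^ m * ((u ^ m) ^ n * x * ((u ^ m) ^ n)⁻¹) * (u ^ m)⁻¹ := by rw [pow_succ']; group
        _ = u ^ m * x * (u ^ m)⁻¹ * (u ^ m * c ^ n * (u ^ m)⁻¹) := by rw [ih]; group
        _ = x * c ^ (n + 1) := by rw [hstep, hcn, mul_inv_cancel_right, pow_succ', mul_assoc]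
  have hq1 : (u ^ m) ^ q = 1 := by rw [← pow_mul, mul_comm, pow_mul, ← huo, pow_orderOf_eq_one, one_pow]
  have hcq : c ^ q = 1 := by
    have h := hiter q
    rw [hq1] at h
    simpa using h
  have hc1 : c = 1 := by
    obtain ⟨k, hk⟩ := hq.odd_of_ne_two (by omega)
    rwa [hk, pow_succ, pow_mul, sq, hV.1 c hcV, one_pow, one_mul] at hcq
  rw [hc1, mul_one] at hstep
  have hcom : Commute (u ^ m) x := mul_inv_eq_iff_eq_mul.1 hstep
  have hmu : u ∈ Subgroup.zpowers (u ^ m) := by
    have hco : Nat.Coprime m (orderOf u) := by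
      rw [huo, Nat.coprime_comm, hq.coprime_iff_not_dvd]
      exact fun h => absurd (Nat.le_of_dvd (by omega) h) (by omega)
    obtain ⟨k, hk⟩ := exists_pow_eq_self_of_coprime hco
    exact ⟨(k : ℤ), by show (u ^ m) ^ (k : ℤ) = u; rw [zpow_natCast, hk]⟩
  obtain ⟨k, hk⟩ := hmu
  have hk : (u ^ m) ^ k = u := hk
  have hux : Commute u x := hk ▸ hcom.zpow_left k
  have hxv : x = v := by
    have h1 : Commute (u ^ i) x := hux.pow_left i
    calc x = (u ^ i)⁻¹ * (x * u ^ i) := by rw [← h1.eq, inv_mul_cancel_left]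
      _ = v := by rw [hx]; group
  exact hxv ▸ hux.eq

end

/-- Sims' Theorem in local form: let H be a finite non-abelian simple group and G a maximal subgroup of H with C_G(O₂(G)) ≤ O₂(G), such that N_H(S) is not contained in G for a Sylow 2-subgroup S of G and G/O₂(G) is dihedral of order 2q for a prime q. Then G is isomorphic to the symmetric group of degree 4 or to its direct product with a group of order 2. -/
theorem result {H : Type*} [Group H] [Finite H] [IsSimpleGroup H] (hna : ¬ IsMulCommutative H) (G : Subgroup H) (hG : IsCoatom G) (hchar : Subgroup.centralizer (Cfsg.pCore 2 ↥G : Set ↥G) ≤ Cfsg.pCore 2 ↥G) (S : Sylow 2 ↥G) (hN : ¬ Subgroup.normalizer (((S : Subgroup ↥G).map G.subtype : Subgroup H) : Set H) ≤ G) (q : ℕ) (hq : q.Prime) (hD : Nonempty (↥G ⧸ Cfsg.pCore 2 ↥G ≃* DihedralGroup q)) : Nonempty (↥G ≃* Equiv.Perm (Fin 4)) ∨ Nonempty (↥G ≃* Equiv.Perm (Fin 4) × Multiplicative (ZMod 2)) := by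
  classical
  haveI := Fact.mk Nat.prime_two
  haveI hqf := Fact.mk hq
  obtain ⟨e⟩ := hD
  haveI : (Cfsg.pCore 2 ↥G).Normal := Subgroup.sSup_normal _ (fun _ h => h.1)
  set Q := pCore 2 ↥G with hQdef
  obtain ⟨kQ, hkQ⟩ := IsPGroup.iff_card.1 (CfsgLib.Amalgam.pCore_isPGroup 2 ↥G)
  have hcardG : Nat.card G = 2 * q * Nat.card Q := by
    rw [Subgroup.card_eq_card_quotient_mul_card_subgroup Q, Nat.card_congr e.toEquiv, DihedralGroup.nat_card]
  have hq2 : q ≠ 2 := by
    rintro rfl
    have h1 : IsPGroup 2 (⊤ : Subgroup ↥G) := IsPGroup.of_card (n := kQ + 2) (by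
      rw [Subgroup.card_top, hcardG, hkQ]; ring)
    have h2 : (⊤ : Subgroup ↥G) ≤ Q := le_sSup ⟨inferInstance, h1⟩
    have h3 := congrArg (fun X : Subgroup ↥G => Nat.card X) (top_le_iff.1 h2)
    simp only [Subgroup.card_top] at h3
    rw [hcardG] at h3
    have : 0 < Nat.card Q := Nat.card_pos
    omega
  have hScard : Nat.card (S : Subgroup ↥G) = 2 * Nat.card Q := by
    rw [S.card_eq_multiplicity, hcardG, hkQ, show 2 * q * 2 ^ kQ = q * 2 ^ (kQ + 1) by ring,
      Nat.factorization_mul hq.ne_zero (pow_ne_zero _ (by norm_num)), Nat.Prime.factorization_pow Nat.prime_two,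
      Nat.Prime.factorization hq]
    simp [Finsupp.single_apply, hq2]
    ring
  set T : Subgroup H := (S : Subgroup ↥G).map G.subtype with hTdef
  have hTG : T ≤ G := Subgroup.map_subtype_le _
  have hTp : IsPGroup 2 T := S.isPGroup'.map _
  have hTc : Nat.card T = 2 * Nat.card Q := by
    rw [hTdef, Subgroup.card_map_of_injective G.subtype_injective, hScard]
  set QH := pCoreOf 2 G with hQH
  have hQHT : QH ≤ T := Subgroup.map_mono (CfsgLib.Amalgam.pCore_mem_sylow S)
  have hQHc : Nat.card QH = Nat.card Q := Subgroup.card_map_of_injective G.subtype_injective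
  have hGQ : Nat.card G = q * Nat.card T := by rw [hTc, hcardG]; ring
  obtain ⟨x, hxN, hxG⟩ := SetLike.not_le_iff_exists.1 hN
  have hGbot : G ≠ ⊥ := by
    intro h
    have h1 : Nat.card G = 1 := Subgroup.card_eq_one.2 h
    rw [h1] at hcardG
    have : 0 < Nat.card Q := Nat.card_pos
    have := hq.two_le
    nlinarith
  have hno : ∀ N : Subgroup H, N ≤ T → G ≤ Subgroup.normalizer (N : Set H) →
      x ∈ Subgroup.normalizer (N : Set H) → N = ⊥ := by
    intro N hNT h1 h2
    haveI : N.Normal := by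
      rw [← Subgroup.normalizer_eq_top_iff]
      exact hG.2 _ (lt_of_le_of_ne h1 fun h => hxG (h ▸ h2))
    rcases IsSimpleGroup.eq_bot_or_eq_top_of_normal N inferInstance with h | h
    · exact h
    · exact absurd (top_le_iff.1 (h ▸ hNT.trans hTG)) hG.1
  have hQsq : ∀ a ∈ T, ∀ b ∈ T, a ∉ QH → b ∉ QH → a * b ∈ QH := by
    intro a ha b hb haQ hbQ
    have hidx : (QH.subgroupOf T).index = 2 := by
      have h := Subgroup.index_mul_card (QH.subgroupOf T)
      rw [Nat.card_congr (Subgroup.subgroupOfEquivOfLe hQHT).toEquiv, hQHc, hTc] at h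
      exact Nat.eq_of_mul_eq_mul_right Nat.card_pos h
    exact ((Subgroup.mul_mem_iff_of_index_two hidx (a := ⟨a, ha⟩) (b := ⟨b, hb⟩)).2 (iff_of_false haQ hbQ))
  -- `Ω₁(Z(T))` and its closure
  set Ω := omegaCentre 2 T with hΩdef
  have hΩle : Ω ≤ T ⊓ Subgroup.centralizer (T : Set H) := CfsgLib.Amalgam.omegaCentre_le_centralizer T
  have hxΩ : x ∈ Subgroup.normalizer (Ω : Set H) := by
    have himg : Ω.map (MulAut.conj x).toMonoidHom = Ω := by
      rw [hΩdef, CfsgLib.Amalgam.map_omegaCentre, CfsgLib.Amalgam.mem_normalizer_conj_eq hxN]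
    exact Subgroup.mem_normalizer_fintype fun z hz => himg ▸ ⟨z, hz, rfl⟩
  have hT1 : Nontrivial T := by
    rw [← Finite.one_lt_card_iff_nontrivial, hTc]
    have : 0 < Nat.card Q := Nat.card_pos
    omega
  obtain ⟨z, hzT, hzc, hz2⟩ : ∃ z ∈ T, z ∈ Subgroup.centralizer (T : Set H) ∧ orderOf z = 2 := by
    haveI := hTp.center_nontrivial
    obtain ⟨k, hk⟩ := IsPGroup.iff_card.1 (hTp.to_subgroup (Subgroup.center T))
    obtain ⟨w, hw⟩ := exists_prime_orderOf_dvd_card' (G := Subgroup.center T) 2 (by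
      rcases k with _ | k
      · have := Finite.one_lt_card (α := Subgroup.center T)
        omega
      · exact hk ▸ dvd_pow_self 2 (Nat.succ_ne_zero k))
    exact ⟨((w : T) : H), (w : T).2, fun t ht => congrArg Subtype.val (Subgroup.mem_center_iff.1 w.2 ⟨t, ht⟩),
      by rw [Subgroup.orderOf_coe, Subgroup.orderOf_coe, hw]⟩
  have hzΩ : z ∈ Ω := Subgroup.subset_closure ⟨⟨hzT, hzc⟩, by rw [← hz2, pow_orderOf_eq_one]⟩
  have hactive : ¬ G ≤ Subgroup.centralizer (Ω : Set H) := by
    intro h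
    have := hno Ω (hΩle.trans inf_le_left) (h.trans (Subgroup.centralizer_le_normalizer _)) hxΩ
    rw [this, Subgroup.mem_bot] at hzΩ
    rw [hzΩ, orderOf_one] at hz2
    omega
  by_cases hq3 : q = 3
  · -- the amalgam of index (3, 3)
    set G₂ := G.map (MulAut.conj x).toMonoidHom with hG₂
    let eG : G ≃* G₂ := G.equivMapOfInjective _ (MulAut.conj x).injective
    have hne : G₂ ≠ G := by
      intro h
      have hx' : x ∈ Subgroup.normalizer (G : Set H) :=
        Subgroup.mem_normalizer_fintype fun g hg => h ▸ ⟨g, hg, rfl⟩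
      haveI : G.Normal := by
        rw [← Subgroup.normalizer_eq_top_iff]
        exact hG.2 _ (lt_of_le_of_ne Subgroup.le_normalizer fun hh => hxG (hh ▸ hx'))
      rcases IsSimpleGroup.eq_bot_or_eq_top_of_normal G inferInstance with hh | hh
      · exact hGbot hh
      · exact hG.1 hh
    have hTG₂ : T ≤ G₂ := by
      rw [← CfsgLib.Amalgam.mem_normalizer_conj_eq hxN]; exact Subgroup.map_mono hTG
    have hc₂ : Nat.card G₂ = Nat.card G := (Nat.card_congr eG.toEquiv).symm
    have hnle : ¬ G ≤ G₂ := fun h => hne (Subgroup.eq_of_le_of_card_ge h hc₂.le).symm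
    have hinf : G ⊓ G₂ = T := by
      refine le_antisymm (fun g hg => ?_) (le_inf hTG hTG₂)
      by_contra hgT
      exact hnle (CfsgLib.SimsThree.le_normalizer_of_mem hTG (by rw [hGQ, hq3]) hTG₂ hg.1 hgT hg.2)
    have hcore₂ : Nat.card (pCore 2 G₂) = Nat.card Q := by
      rw [← CfsgLib.Amalgam.map_pCore_equiv (p := 2) eG,
        Subgroup.card_map_of_injective (f := eG.toMonoidHom) eG.injective]
    have htop : G ⊔ G₂ = ⊤ := hG.2 _ (lt_of_le_of_ne le_sup_left fun h => hne (Subgroup.eq_of_le_of_card_ge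
      (h ▸ le_sup_right : G₂ ≤ G) hc₂.ge))
    have hpair : CfsgLib.Amalgam.SThreePair G G₂ :=
      { pair := ⟨htop, hG.1, fun h => hnle (h ▸ le_top), fun N hN hn => hno N (hinf ▸ hN)
            (Subgroup.normalizer_eq_top_iff.2 hn ▸ le_top) (Subgroup.normalizer_eq_top_iff.2 hn ▸ Subgroup.mem_top x)⟩
        finite₁ := inferInstance
        finite₂ := inferInstance
        two := hinf.symm ▸ hTp
        card₁ := by rw [hinf, hGQ, hq3]
        card₂ := by rw [hinf, hc₂, hGQ, hq3]
        core₁ := by rw [hcardG, hq3]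
        core₂ := by rw [hcore₂, hc₂, hcardG, hq3] }
    have act : CfsgLib.Amalgam.SThreeActive G G₂ :=
      { hpair with
        charP₁ := hchar
        charP₂ := CfsgLib.SimsThree.charP_iso eG hchar
        active₁ := hinf.symm ▸ hactive
        active₂ := by
          rw [hinf]
          intro hh
          refine hactive fun g hg => ?_
          refine Subgroup.mem_centralizer_iff.2 fun w hw => ?_
          have hw' : x * w * x⁻¹ ∈ Ω := (Subgroup.mem_normalizer_iff.1 hxΩ w).1 hw
          have h1 : MulAut.conj x g ∈ Subgroup.centralizer (Ω : Set H) := hh ⟨g, hg, rfl⟩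
          have h2 := h1 (MulAut.conj x w) hw'
          rw [← map_mul, ← map_mul] at h2
          exact (MulAut.conj x).injective h2 }
    rcases act.groups with ⟨e1, -⟩ | ⟨⟨e1⟩, -⟩
    · exact Or.inl e1
    · exact Or.inr ⟨e1.trans MulEquiv.prodComm⟩
  exfalso
  have hq5 : 5 ≤ q := by
    have h2 := hq.two_le
    by_contra hlt
    interval_cases q <;> first | omega | exact absurd hq (by decide)
  have hGN : G ≤ Subgroup.normalizer (QH : Set H) := fun g hg =>
    Subgroup.mem_normalizer_fintype fun y hy => CfsgLib.Amalgam.conj_mem_pCoreOf hg hy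
  have hchar' : ∀ w ∈ G, (∀ r ∈ QH, r * w = w * r) → w ∈ QH := by
    intro w hw hc
    exact ⟨⟨w, hw⟩, hchar (fun r hr => Subtype.ext (hc r ⟨r, hr, rfl⟩)), rfl⟩
  set V : Subgroup H := Subgroup.closure {v | ∃ g ∈ G, ∃ w ∈ Ω, v = g * w * g⁻¹} with hVdef
  have hgen : ∀ v, (∃ g ∈ G, ∃ w ∈ Ω, v = g * w * g⁻¹) → v ∈ QH ∧ (∀ r ∈ QH, v * r = r * v) ∧ v * v = 1 := by
    rintro _ ⟨g, hg, w, hw, rfl⟩
    have hwc : ∀ r ∈ QH, r * w = w * r := fun r hr => (hΩle hw).2 r (hQHT hr)
    have hwQ : w ∈ QH := hchar' w (hTG (hΩle hw).1) hwc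
    refine ⟨CfsgLib.Amalgam.conj_mem_pCoreOf hg hwQ, fun r hr => ?_, ?_⟩
    · have hr' : g⁻¹ * r * g ∈ QH := by simpa using CfsgLib.Amalgam.conj_mem_pCoreOf (G.inv_mem hg) hr
      calc g * w * g⁻¹ * r = g * (w * (g⁻¹ * r * g)) * g⁻¹ := by group
        _ = g * ((g⁻¹ * r * g) * w) * g⁻¹ := by rw [hwc _ hr']
        _ = r * (g * w * g⁻¹) := by group
    · have hw2 : w * w = 1 := by
        have hle : Ω ≤ {carrier := {t | t ∈ T ⊓ Subgroup.centralizer (T : Set H) ∧ t * t = 1}
                        one_mem' := ⟨one_mem _, one_mul 1⟩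
                        mul_mem' := fun {a b} ha hb => ⟨mul_mem ha.1 hb.1, by
                          have hc := hb.1.2 a ha.1.1
                          rw [show a * b * (a * b) = a * (b * a) * b by group, ← hc,
                            show a * (a * b) * b = (a * a) * (b * b) by group, ha.2, hb.2, one_mul]⟩
                        inv_mem' := fun {a} ha => ⟨inv_mem ha.1, by rw [← mul_inv_rev, ha.2, inv_one]⟩ : Subgroup H} :=
          (Subgroup.closure_le _).2 fun t ht => ⟨ht.1, by rw [← sq]; exact ht.2⟩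
        exact (hle hw).2
      rw [show g * w * g⁻¹ * (g * w * g⁻¹) = g * (w * w) * g⁻¹ by group, hw2, mul_one, mul_inv_cancel]
  have hVQ : V ≤ QH := (Subgroup.closure_le _).2 fun v hv => (hgen v hv).1
  have hVc : ∀ v ∈ V, ∀ r ∈ QH, v * r = r * v := by
    intro v hv r hr
    have hle : V ≤ Subgroup.centralizer ({r} : Set H) :=
      (Subgroup.closure_le _).2 fun w hw => Subgroup.mem_centralizer_singleton_iff.2 ((hgen w hw).2.1 r hr)
    exact Subgroup.mem_centralizer_singleton_iff.1 (hle hv)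
  have hVE : Elem V := by
    refine ⟨fun v hv => ?_, fun v hv w hw => hVc v hv w (hVQ hw)⟩
    induction hv using Subgroup.closure_induction with
    | mem v hv => exact (hgen v hv).2.2
    | one => exact one_mul 1
    | mul a b ha hb iha ihb =>
      rw [show a * b * (a * b) = a * (b * a) * b by group, hVc b hb a (hVQ ha),
        show a * (a * b) * b = (a * a) * (b * b) by group, iha, ihb, one_mul]
    | inv a _ iha => rw [← mul_inv_rev, iha, inv_one]
  have hGV : ∀ g ∈ G, ∀ v ∈ V, g * v * g⁻¹ ∈ V := by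
    intro g hg v hv
    have hle : V ≤ V.comap (MulAut.conj g).toMonoidHom := by
      refine (Subgroup.closure_le _).2 ?_
      rintro _ ⟨k, hk, w, hw, rfl⟩
      exact Subgroup.subset_closure ⟨g * k, G.mul_mem hg hk, w, hw, by
        show g * (k * w * k⁻¹) * g⁻¹ = _
        group⟩
    exact hle hv
  -- an offender outside `QH`
  obtain ⟨A, hA, a, haA, haQ⟩ : ∃ A, MaxElem T A ∧ ∃ a ∈ A, a ∉ QH := by
    by_contra hcon
    push Not at hcon
    obtain ⟨A₁, hA₁⟩ := exists_maxElem T
    set J : Subgroup H := Subgroup.closure {t | ∃ A, MaxElem T A ∧ t ∈ A} with hJ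
    have hJQ : J ≤ QH := (Subgroup.closure_le _).2 fun t ⟨A, hA, ht⟩ => hcon A hA t ht
    have hinv : ∀ g : H, (∀ y ∈ QH, g * y * g⁻¹ ∈ T) → g ∈ Subgroup.normalizer (J : Set H) := by
      intro g hg
      refine Subgroup.mem_normalizer_fintype fun t ht => ?_
      have hle : J ≤ J.comap (MulAut.conj g).toMonoidHom := by
        refine (Subgroup.closure_le _).2 ?_
        rintro s ⟨A, hA, hs⟩
        refine Subgroup.subset_closure ⟨A.map (MulAut.conj g).toMonoidHom, ⟨?_, elem_conj hA.2.1 g, fun B hB hBE => ?_⟩, s, hs, rfl⟩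
        · rintro _ ⟨y, hy, rfl⟩
          exact hg y (hcon A hA y hy)
        · rw [Subgroup.card_map_of_injective (f := (MulAut.conj g).toMonoidHom) (MulAut.conj g).injective]
          exact hA.2.2 B hB hBE
      exact hle ht
    have hJbot := hno J (hJQ.trans hQHT)
      (fun g hg => hinv g fun y hy => hQHT (CfsgLib.Amalgam.conj_mem_pCoreOf hg hy))
      (hinv x fun y hy => (Subgroup.mem_normalizer_iff.1 hxN y).1 (hQHT hy))
    have hA₁bot : A₁ = ⊥ := by
      rw [Subgroup.eq_bot_iff_forall]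
      intro t ht
      have : t ∈ J := Subgroup.subset_closure ⟨A₁, hA₁, ht⟩
      rwa [hJbot, Subgroup.mem_bot] at this
    have hEz : Elem (Subgroup.zpowers z) := by
      refine ⟨fun s hs => ?_, fun s hs t ht => ?_⟩
      · obtain ⟨i, rfl⟩ := hs
        show z ^ i * z ^ i = 1
        rw [← (Commute.refl z).mul_zpow, ← sq, ← hz2, pow_orderOf_eq_one, one_zpow]
      · obtain ⟨i, rfl⟩ := hs
        obtain ⟨j, rfl⟩ := ht
        exact zpow_mul_comm z i j
    have := hA₁.2.2 _ (Subgroup.zpowers_le.2 hzT) hEz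
    rw [hA₁bot, Subgroup.card_bot, Nat.card_zpowers, hz2] at this
    omega
  have htra : ∀ v ∈ V, ∀ w ∈ V, a * v ≠ v * a → a * w ≠ w * a → a * (v * w) = v * w * a :=
    fun v hv w hw => transvection hQHT hA hQsq hVE hVQ hVc haA haQ hv hw
  have haT : a ∈ T := hA.1 haA
  obtain ⟨gq, hgq⟩ := exists_prime_orderOf_dvd_card' (G := ↥G) q (by rw [hGQ]; exact dvd_mul_right _ _)
  set g : H := (gq : H) with hgdef
  set b := g * a * g⁻¹ with hbdef
  have htrb : ∀ v ∈ V, ∀ w ∈ V, b * v ≠ v * b → b * w ≠ w * b → b * (v * w) = v * w * b := by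
    intro v hv w hw hbv hbw
    have hv' : g⁻¹ * v * g ∈ V := by simpa using hGV g⁻¹ (G.inv_mem gq.2) v hv
    have hw' : g⁻¹ * w * g ∈ V := by simpa using hGV g⁻¹ (G.inv_mem gq.2) w hw
    have hconv : ∀ y : H, a * (g⁻¹ * y * g) = g⁻¹ * y * g * a ↔ b * y = y * b := by
      intro y
      rw [hbdef]
      constructor
      · intro h
        calc g * a * g⁻¹ * y = g * (a * (g⁻¹ * y * g)) * g⁻¹ := by group
          _ = g * (g⁻¹ * y * g * a) * g⁻¹ := by rw [h]
          _ = y * (g * a * g⁻¹) := by group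
      · intro h
        calc a * (g⁻¹ * y * g) = g⁻¹ * (g * a * g⁻¹ * y) * g := by group
          _ = g⁻¹ * (y * (g * a * g⁻¹)) * g := by rw [h]
          _ = g⁻¹ * y * g * a := by group
    rw [← hconv]
    have h := htra _ hv' _ hw' (fun h => hbv ((hconv v).1 h)) (fun h => hbw ((hconv w).1 h))
    rwa [show g⁻¹ * v * g * (g⁻¹ * w * g) = g⁻¹ * (v * w) * g by group] at h
  set aG : ↥G := ⟨a, hTG haT⟩ with haG
  set dG : ↥G := aG * (gq * aG * gq⁻¹) with hdG
  have hdQ : ∀ i : ℕ, dG ^ (2 ^ i) ≠ 1 := by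
    intro i hi
    let φ : ↥G →* DihedralGroup q := e.toMonoidHom.comp (QuotientGroup.mk' Q)
    have hker : ∀ y : ↥G, φ y = 1 → y ∈ Q := by
      intro y hy
      simp only [φ, MonoidHom.comp_apply, MulEquiv.coe_toMonoidHom, EmbeddingLike.map_eq_one_iff] at hy
      exact (QuotientGroup.eq_one_iff y).1 hy
    haveI : NeZero q := ⟨hq.ne_zero⟩
    have h2ne : (2 : ZMod q) ≠ 0 := by
      intro h
      have : ((2 : ℕ) : ZMod q) = 0 := by exact_mod_cast h
      rw [ZMod.natCast_eq_zero_iff] at this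
      exact absurd (Nat.le_of_dvd (by norm_num) this) (by omega)
    have ha2 : aG * aG = 1 := Subtype.ext (hA.2.1.1 a haA)
    obtain ⟨k, hk⟩ : ∃ k, φ aG = DihedralGroup.sr k := by
      rcases hc : φ aG with k | k
      · exfalso
        have h1 : φ aG * φ aG = 1 := by rw [← map_mul, ha2, map_one]
        rw [hc, DihedralGroup.r_mul_r, ← DihedralGroup.r_zero, DihedralGroup.r.injEq] at h1
        have hk0 : k = 0 := by
          rw [← two_mul] at h1
          exact (mul_eq_zero.1 h1).resolve_left h2ne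
        exact haQ ⟨aG, hker aG (by rw [hc, hk0, DihedralGroup.r_zero]), rfl⟩
      · exact ⟨k, rfl⟩
    have hgq1 : φ gq ≠ 1 := by
      intro h
      have h1 : orderOf gq ∣ Nat.card Q := Subgroup.orderOf_dvd_natCard _ (hker gq h)
      rw [hgq, hkQ] at h1
      exact hq2 ((Nat.prime_dvd_prime_iff_eq hq Nat.prime_two).1 (hq.dvd_of_dvd_pow h1))
    have hgqq : orderOf (φ gq) = q := by
      rcases (Nat.dvd_prime hq).1 (hgq ▸ orderOf_map_dvd φ gq) with h | h
      · exact absurd (orderOf_eq_one_iff.1 h) hgq1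
      · exact h
    obtain ⟨l, hl⟩ : ∃ l, φ gq = DihedralGroup.r l := by
      rcases hc : φ gq with l | l
      · exact ⟨l, rfl⟩
      · rw [hc, DihedralGroup.orderOf_sr] at hgqq
        exact absurd hgqq.symm hq2
    have hl0 : l ≠ 0 := fun h => hgq1 (by rw [hl, h, DihedralGroup.r_zero])
    have hd : φ dG = DihedralGroup.r (-(2 * l)) := by
      rw [hdG, map_mul, map_mul, map_mul, map_inv, hk, hl, DihedralGroup.inv_r, DihedralGroup.r_mul_sr,
        DihedralGroup.sr_mul_r, DihedralGroup.sr_mul_sr]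
      congr 1; ring
    have h1 : φ (dG ^ 2 ^ i) = 1 := by rw [hi, map_one]
    rw [map_pow, hd, DihedralGroup.r_pow, ← DihedralGroup.r_zero, DihedralGroup.r.injEq] at h1
    rcases mul_eq_zero.1 h1 with h | h
    · rw [neg_eq_zero] at h
      exact hl0 ((mul_eq_zero.1 h).resolve_left h2ne)
    · push_cast at h
      exact h2ne (pow_eq_zero_iff'.1 h).1
  set d : H := a * b with hd
  have hdd : (dG : H) = d := rfl
  obtain ⟨i, m, hm, him⟩ := Nat.exists_eq_pow_mul_and_not_dvd (orderOf_pos dG).ne' 2 (by norm_num)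
  have hmq : m = q := by
    have h1 : orderOf dG ∣ q * 2 ^ (kQ + 1) := by
      have := orderOf_dvd_natCard dG
      rwa [hGQ, hTc, hkQ, show q * (2 * 2 ^ kQ) = q * 2 ^ (kQ + 1) by ring] at this
    have h2 : m ∣ q := (Nat.Coprime.pow_right (kQ + 1) ((Nat.prime_two.coprime_iff_not_dvd.2 hm).symm)).dvd_of_dvd_mul_right
      ((Dvd.intro_left (2 ^ i) him.symm).trans h1)
    rcases (Nat.dvd_prime hq).1 h2 with rfl | rfl
    · exact absurd (by rw [show 2 ^ i = orderOf dG by rw [him, mul_one]]; exact pow_orderOf_eq_one dG) (hdQ i)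
    · rfl
  set u : H := d ^ 2 ^ i with hudef
  have huo : orderOf u = q := by
    rw [hudef, ← hdd, ← SubmonoidClass.coe_pow, Subgroup.orderOf_coe,
      orderOf_pow_of_dvd (pow_ne_zero _ (by norm_num)) (him ▸ dvd_mul_right _ _), him,
      Nat.mul_div_cancel_left _ (pow_pos (by norm_num) _), hmq]
  have huG : u ∈ G := G.pow_mem (hdd ▸ dG.2) _
  have hucent : ∀ v ∈ V, u * v = v * u := fun v hv =>
    large_prime_centralizes hVE htra htrb (Subgroup.pow_mem _ (Subgroup.mem_zpowers _) _)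
      (fun w hw => hGV u huG w hw) hq hq5 huo hv
  refine hactive ?_
  set C := G ⊓ Subgroup.centralizer (Ω : Set H) with hC
  have hTC : T ≤ C := le_inf hTG fun t ht w hw => ((hΩle hw).2 t ht).symm
  have huC : u ∈ C := ⟨huG, fun w hw => (hucent w (Subgroup.subset_closure ⟨1, G.one_mem, w, hw, by simp⟩)).symm⟩
  have hdvd : Nat.card G ∣ Nat.card C := by
    rw [hGQ]
    refine Nat.Coprime.mul_dvd_of_dvd_of_dvd ?_ (huo ▸ Subgroup.orderOf_dvd_natCard C huC) (Subgroup.card_dvd_of_le hTC)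
    obtain ⟨kT, hkT⟩ := IsPGroup.iff_card.1 hTp
    rw [hkT]
    exact Nat.Coprime.pow_right _ ((Nat.coprime_primes hq Nat.prime_two).2 hq2)
  have hCG : C = G := Subgroup.eq_of_le_of_card_ge inf_le_left (Nat.le_of_dvd Nat.card_pos hdvd)
  exact hCG ▸ inf_le_right

end Cfsg.Agent.S2772
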