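import Cfsg.Statements.S2803
import Cfsg.Agent.Eq.Def_LocalEven
import Cfsg.Agent.CharP.PReduced
import Cfsg.Agent.CharP.SylowInNormal

set_option autoImplicit false
open Cfsg

namespace Cfsg.Agent.S2803

/-- Let L be a finite group and p a prime with C_L(O_p(L)) ≤ O_p(L), T a Sylow p-subgroup, and Y the largest p-reduced normal subgroup of L. Put T_L = C_T(Y) and L_T = N_L(T_L). Then L = L_T · C_L(Y) (elementwise), T_L = O_p(L_T), and Y = Ω₁(Z(T_L)). -/
theorem result {L : Type*} [Group L] [Finite L] {p : ℕ} [Fact p.Prime] (hchar : Subgroup.centralizer (Cfsg.pCore p L : Set L) ≤ Cfsg.pCore p L) (T : Sylow p L) (Y : Subgroup L) (hY : (Cfsg.IsPReducedNormal p Y ∧ ∀ V : Subgroup L, Cfsg.IsPReducedNormal p V → V ≤ Y)) (TL : Subgroup L) (hTL : TL = (T : Subgroup L) ⊓ Subgroup.centralizer (Y : Set L)) : (∀ g : L, ∃ a ∈ Subgroup.normalizer (TL : Set L), ∃ c ∈ Subgroup.centralizer (Y : Set L), g = a * c) ∧ (Cfsg.pCore p ↥(Subgroup.normalizer (TL : Set L))).map (Subgroup.normalizer (TL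 : Set L)).subtype = TL ∧ Y = Cfsg.omegaOne p (TL ⊓ Subgroup.centralizer (TL : Set L)) := by
  subst hTL
  obtain ⟨hYr, hYmax⟩ := hY
  haveI := hYr.1
  obtain ⟨hCn, hcore⟩ := hYr.2.2
  haveI := hCn
  set C := Subgroup.centralizer (Y : Set L) with hC
  set TL := (T : Subgroup L) ⊓ C with hTLdef
  set N := Subgroup.normalizer (TL : Set L) with hN
  obtain ⟨Q, hQ⟩ := CfsgLib.CharP.exists_sylow_eq_inf_normal T C
  have hfr : N ⊔ C = ⊤ := by
    have h := Sylow.normalizer_sup_eq_top Q
    rwa [hQ, ← hTLdef] at h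
  have hfact : ∀ g : L, ∃ a ∈ N, ∃ c ∈ C, g = a * c := by
    intro g
    obtain ⟨a, ha, c, hc, h⟩ := Subgroup.mem_sup_of_normal_right.1 (hfr ▸ Subgroup.mem_top g : g ∈ N ⊔ C)
    exact ⟨a, ha, c, hc, h.symm⟩
  have hTp : IsPGroup p ↥TL := T.isPGroup'.to_le inf_le_left
  have hOC : Cfsg.pCore p L ≤ C := CfsgLib.CharP.pCore_le_centralizer_pReduced hYr
  have hOTL : Cfsg.pCore p L ≤ TL := le_inf (CfsgLib.CharP.pCore_le_sylow T) hOC
  refine ⟨hfact, ?_, ?_⟩
  · set P := (Cfsg.pCore p ↥N).map N.subtype with hP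
    have hPp : IsPGroup p ↥P := (CfsgLib.CharP.isPGroup_pCore).map _
    have hle : TL ≤ P := by
      intro x hx
      exact ⟨⟨x, Subgroup.le_normalizer hx⟩, CfsgLib.CharP.le_pCore
        (N := TL.subgroupOf N) Subgroup.normal_in_normalizer
        (hTp.of_equiv (Subgroup.subgroupOfEquivOfLe Subgroup.le_normalizer).symm)
        (show (⟨x, Subgroup.le_normalizer hx⟩ : ↥N) ∈ TL.subgroupOf N from hx), rfl⟩
    have hPC : P ≤ C := by
      set φ := (QuotientGroup.mk' C).comp N.subtype
      have hsurj : Function.Surjective φ := by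
        intro x
        obtain ⟨g, rfl⟩ := QuotientGroup.mk'_surjective C x
        obtain ⟨a, ha, c, hc, rfl⟩ := hfact g
        refine ⟨⟨a, ha⟩, ?_⟩
        show QuotientGroup.mk' C a = QuotientGroup.mk' C (a * c)
        rw [map_mul, QuotientGroup.mk'_apply C c, (QuotientGroup.eq_one_iff c).2 hc, mul_one]
      have h1 := CfsgLib.CharP.le_pCore ((Cfsg.pCore_normal p ↥N).map φ hsurj)
        ((CfsgLib.CharP.isPGroup_pCore).map φ)
      rw [hcore] at h1
      rintro _ ⟨x, hx, rfl⟩
      exact (QuotientGroup.eq_one_iff _).1 (Subgroup.mem_bot.1 (h1 (Subgroup.mem_map_of_mem φ hx)))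
    exact CfsgLib.CharP.inf_subnormal_maximal T hCn.isSubnormal P hPC hPp hle
  · set X := Cfsg.omegaOne p (TL ⊓ Subgroup.centralizer (TL : Set L)) with hX
    have hYc : ∀ a ∈ Y, ∀ b ∈ Y, a * b = b * a := fun a ha b hb =>
      congrArg Subtype.val (hYr.2.1.1.is_comm.comm (⟨a, ha⟩ : ↥Y) ⟨b, hb⟩)
    have hYX : Y ≤ X := by
      intro y hy
      refine Subgroup.subset_closure ⟨⟨hOTL (CfsgLib.CharP.le_pCore hYr.1
        (CfsgLib.CharP.isPGroup_of_exponent hYr.2.1) hy), Subgroup.mem_centralizer_iff.2 fun t ht => ?_⟩, hYr.2.1.2 y hy⟩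
      exact (Subgroup.mem_centralizer_iff.1 ht.2 y hy).symm
    have hXle : X ≤ TL ⊓ Subgroup.centralizer (TL : Set L) := (Subgroup.closure_le _).2 fun x hx => hx.1
    have hXexp : ∀ x ∈ X, x ^ p = 1 := by
      intro x hx
      induction hx using Subgroup.closure_induction with
      | mem z hz => exact hz.2
      | one => exact one_pow _
      | mul a b ha hb iha ihb =>
        have hab : Commute a b := Subgroup.mem_centralizer_iff.1 (hXle hb).2 a (hXle ha).1
        rw [hab.mul_pow, iha, ihb, one_mul]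
      | inv a _ iha => rw [inv_pow, iha, inv_one]
    have hXO : X ≤ Subgroup.centralizer (Cfsg.pCore p L : Set L) :=
      hXle.trans (inf_le_right.trans (Subgroup.centralizer_le hOTL))
    set V := Subgroup.normalClosure (X : Set L)
    have hXV : X ≤ V := Subgroup.le_normalClosure
    haveI : V.Normal := Subgroup.normalClosure_normal
    have hV : Cfsg.IsPReducedNormal p V := by
      refine CfsgLib.CharP.isPReducedNormal_of Subgroup.normalClosure_normal
        (CfsgLib.CharP.elementary_normalClosure hchar hXO hXexp) fun D hD hCD hpow => ?_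
      haveI := hD
      have hDY : D ≤ C := CfsgLib.CharP.pReduced_le_centralizer hYr hD fun d hd => by
        obtain ⟨k, hk⟩ := hpow d hd
        exact ⟨k, Subgroup.centralizer_le (hYX.trans hXV) hk⟩
      have hXD : X ≤ Subgroup.centralizer (D : Set L) := by
        intro x hx
        rw [Subgroup.mem_centralizer_iff]
        intro d hd
        obtain ⟨c, hc, t, ht, rfl⟩ :=
          CfsgLib.CharP.exists_mul_of_pGroup_mod T Subgroup.normal_centralizer hD hCD hpow d hd
        have h1 : Commute x c := Subgroup.mem_centralizer_iff.1 hc x (hXV hx)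
        have h2 : Commute x t := (Subgroup.mem_centralizer_iff.1 (hXle hx).2 t ⟨ht.1, hDY ht.2⟩).symm
        exact (h1.mul_right h2).eq.symm
      exact Subgroup.le_centralizer_iff.1 (Subgroup.normalClosure_le_normal hXD)
    exact le_antisymm hYX (hXV.trans (hYmax V hV))

end Cfsg.Agent.S2803
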