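import Cfsg.Statements.S2810
import Cfsg.Agent.CharP.Stability
import Cfsg.Agent.CharP.PCore

set_option autoImplicit false
open Cfsg
open scoped commutatorElement

namespace Cfsg.Agent.S2810

/-- Let H be a finite group of characteristic p and L a subgroup of H centralizing every factor of some H-invariant chain 1 = A₀ ≤ A₁ ≤ … ≤ Aₙ = O_p(H) of normal subgroups (that is, [A_{i+1}, L] ≤ Aᵢ for each i). Then L ≤ O_p(H). -/
theorem result {H : Type*} [Group H] [Finite H] {p : ℕ} [Fact p.Prime] (hchar : Subgroup.centralizer (Cfsg.pCore p H : Set H) ≤ Cfsg.pCore p H) (L : Subgroup H) (n : ℕ) (A : Fin (n + 1) → Subgroup H) (h0 : A 0 = ⊥) (hn : A (Fin.last n) = Cfsg.pCore p H) (hmono : Monotone A) (hnorm : ∀ i, (A i).Normal) (hcent : ∀ i : Fin n, ⁅A i.succ, L⁆ ≤ A i.castSucc) : L ≤ Cfsg.pCore p H := by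
  set N := Subgroup.normalClosure (L : Set H) with hN
  have hNle : ∀ i : Fin n, ⁅A i.succ, N⁆ ≤ A i.castSucc := by
    intro i
    have := hnorm i.castSucc
    set φ := QuotientGroup.mk' (A i.castSucc)
    have : ((A i.succ).map φ).Normal := (hnorm i.succ).map φ (QuotientGroup.mk'_surjective _)
    have hK : N ≤ (Subgroup.centralizer (((A i.succ).map φ : Subgroup _) : Set _)).comap φ := by
      refine Subgroup.normalClosure_le_normal fun l hl => ?_
      rw [SetLike.mem_coe, Subgroup.mem_comap, Subgroup.mem_centralizer_iff]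
      rintro _ ⟨a, ha, rfl⟩
      have h1 : φ ⁅a, l⁆ = 1 := (QuotientGroup.eq_one_iff _).2
        (hcent i (Subgroup.commutator_mem_commutator ha hl))
      rw [map_commutatorElement, commutatorElement_eq_one_iff_mul_comm] at h1
      exact h1
    refine Subgroup.commutator_le.2 fun a ha l hl => ?_
    have h1 := Subgroup.mem_centralizer_iff.1 (Subgroup.mem_comap.1 (hK hl)) _
      (Subgroup.mem_map_of_mem φ ha)
    refine (QuotientGroup.eq_one_iff _).1 ?_
    rw [← QuotientGroup.mk'_apply, map_commutatorElement, commutatorElement_eq_one_iff_mul_comm]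
    exact h1
  have : N.Normal := Subgroup.normalClosure_normal
  have hOp : IsPGroup p ↥(Cfsg.pCore p H) := CfsgLib.CharP.isPGroup_pCore
  have hNp : IsPGroup p ↥N := by
    refine CfsgLib.CharP.isPGroup_of_chain hOp hchar n (fun i => A ⟨n - i, by omega⟩) ?_ ?_ ?_ ?_
    · rw [← hn]; congr 1
    · rw [← h0]; congr 1; ext; simp
    · intro i _
      rw [← hn]
      exact hmono (Fin.le_last _)
    · intro i hi
      have h1 := hNle ⟨n - (i + 1), by omega⟩
      have e1 : (⟨n - i, by omega⟩ : Fin (n + 1)) = (⟨n - (i + 1), by omega⟩ : Fin n).succ := by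
        ext; simp; omega
      rw [e1]
      exact h1
  exact (Subgroup.le_normalClosure).trans (le_sSup ⟨inferInstance, hNp⟩)

end Cfsg.Agent.S2810
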