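import Cfsg.Statements.S2813
import Cfsg.Agent.CharP.Stability
import Cfsg.Agent.CharP.PCore

set_option autoImplicit false
open Cfsg
open scoped commutatorElement

namespace Cfsg.Agent.S2813

/-- Let K be a subgroup of the finite group H with O_p(K) = 1 and Y a p-subgroup of N_H(K) with [K, Y, Y] = 1. Then [K, Y] = 1. -/
theorem result {H : Type*} [Group H] [Finite H] {p : ℕ} [Fact p.Prime] (K : Subgroup H) (hO : Cfsg.pCore p ↥K = ⊥) (Y : Subgroup H) (hY : IsPGroup p ↥Y) (hYK : Y ≤ Subgroup.normalizer (K : Set H)) (hq : ⁅⁅K, Y⁆, Y⁆ = ⊥) : ⁅K, Y⁆ = ⊥ := by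
  set N := ⁅K, Y⁆ with hN
  have hNK : N ≤ K := by
    refine Subgroup.commutator_le.2 fun k hk y hy => ?_
    have h1 : y * k⁻¹ * y⁻¹ ∈ K := (Subgroup.mem_normalizer_iff.1 (hYK hy) _).1 (K.inv_mem hk)
    have := K.mul_mem hk h1
    simpa [commutatorElement_def, mul_assoc] using this
  have hconj : ∀ a ∈ K, ∀ n ∈ N, a * n * a⁻¹ ∈ N := by
    intro a ha n hn
    have hle : N ≤ N.comap (MulAut.conj a).toMonoidHom := by
      refine Subgroup.commutator_le.2 fun k hk y hy => ?_
      change a * ⁅k, y⁆ * a⁻¹ ∈ N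
      have e : a * ⁅k, y⁆ * a⁻¹ = ⁅a * k, y⁆ * ⁅a, y⁆⁻¹ := by
        simp only [commutatorElement_def]; group
      rw [e]
      exact N.mul_mem (Subgroup.commutator_mem_commutator (K.mul_mem ha hk) hy)
        (N.inv_mem (Subgroup.commutator_mem_commutator ha hy))
    exact hle hn
  have hNY : ∀ n ∈ N, ∀ y ∈ Y, Commute n y := fun n hn y hy =>
    commutatorElement_eq_one_iff_mul_comm.1
      ((Subgroup.eq_bot_iff_forall _).1 hq _ (Subgroup.commutator_mem_commutator hn hy))
  have hNab : ∀ m ∈ N, ∀ n ∈ N, Commute m n := by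
    intro m hm n hn
    have hle : N ≤ Subgroup.centralizer {m} := by
      refine Subgroup.commutator_le.2 fun k hk y hy => ?_
      rw [Subgroup.mem_centralizer_singleton_iff]
      have h1 : Commute y m := (hNY m hm y hy).symm
      have h2 : Commute (k⁻¹ * m * k) y := hNY _ (by simpa using hconj k⁻¹ (K.inv_mem hk) m hm) y hy
      have h3 : Commute m (k * y * k⁻¹) := by
        have h4 := h2.map (MulAut.conj k).toMonoidHom
        simpa [mul_assoc] using h4
      rw [commutatorElement_def]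
      exact ((h3.mul_right h1.symm.inv_right)).symm.eq
    exact (Subgroup.mem_centralizer_singleton_iff.1 (hle hn)).symm
  have hNp : IsPGroup p ↥N := by
    have hle : ∀ u ∈ N, ∃ j : ℕ, u ^ p ^ j = 1 := by
      intro u hu
      have hu' : u ∈ Subgroup.closure {g | ∃ g₁ ∈ K, ∃ g₂ ∈ Y, ⁅g₁, g₂⁆ = g} := by
        rwa [← Subgroup.commutator_def]
      clear hu
      induction hu' using Subgroup.closure_induction with
      | mem x hx =>
        obtain ⟨k, hk, y, hy, rfl⟩ := hx
        obtain ⟨j, hj⟩ := hY ⟨y, hy⟩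
        have hyj : y ^ p ^ j = 1 := by simpa using congrArg Subtype.val hj
        have hc : Commute ⁅k, y⁆ y := hNY _ (Subgroup.commutator_mem_commutator hk hy) y hy
        have e1 : k * y * k⁻¹ = ⁅k, y⁆ * y := by simp [commutatorElement_def]
        have e2 : (k * y * k⁻¹) ^ p ^ j = 1 := by simp [conj_pow, hyj]
        rw [e1, hc.mul_pow, hyj, mul_one] at e2
        exact ⟨j, e2⟩
      | one => exact ⟨0, one_pow _⟩
      | mul x y hx hy ihx ihy =>
        obtain ⟨a, ha⟩ := ihx
        obtain ⟨b, hb⟩ := ihy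
        have hc : Commute x y := hNab x (by rwa [hN, Subgroup.commutator_def]) y
          (by rwa [hN, Subgroup.commutator_def])
        refine ⟨a + b, ?_⟩
        rw [hc.mul_pow, pow_add, pow_mul x, ha, one_pow, mul_comm (p ^ a), pow_mul y, hb, one_pow,
          one_mul]
      | inv x _ ihx =>
        obtain ⟨a, ha⟩ := ihx
        exact ⟨a, by rw [inv_pow, ha, inv_one]⟩
    intro u
    obtain ⟨j, hj⟩ := hle u u.2
    exact ⟨j, Subtype.ext (by simpa using hj)⟩
  have hnorm : (N.subgroupOf K).Normal := ⟨fun n hn g => by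
    simpa [Subgroup.mem_subgroupOf] using hconj g g.2 n (Subgroup.mem_subgroupOf.1 hn)⟩
  have hb : N.subgroupOf K ≤ (⊥ : Subgroup ↥K) := hO ▸ CfsgLib.CharP.le_pCore hnorm
    (hNp.of_equiv (Subgroup.subgroupOfEquivOfLe hNK).symm)
  rw [eq_bot_iff]
  intro n hn
  simpa using congrArg Subtype.val (Subgroup.mem_bot.1 (hb (show (⟨n, hNK hn⟩ : ↥K) ∈ N.subgroupOf K from hn)))

end Cfsg.Agent.S2813
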