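import Cfsg.Statements.S2814
import Cfsg.Agent.CharP.PResidual

set_option autoImplicit false
open Cfsg

namespace Cfsg.Agent.S2814

theorem isSubnormal_sInf {H : Type*} [Group H] [Finite H] (s : Set (Subgroup H))
    (h : ∀ K ∈ s, K.IsSubnormal) : (sInf s).IsSubnormal := by
  refine Set.Finite.induction_on (motive := fun (t : Set (Subgroup H)) _ =>
    (∀ K ∈ t, K.IsSubnormal) → (sInf t).IsSubnormal) s (Set.toFinite s) ?_ ?_ h
  · intro _; rw [sInf_empty]; exact Subgroup.IsSubnormal.top
  · intro a t _ _ ih ht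
    rw [sInf_insert]
    exact (ht a (Set.mem_insert _ _)).inf (ih fun K hK => ht K (Set.mem_insert_of_mem _ hK))

theorem subnormalClosure_map_le {H : Type*} [Group H] {A : Subgroup H} (g : H)
    (hg : A.map (MulAut.conj g).toMonoidHom = A) {K : Subgroup H} (hA : A ≤ K) (hK : K.IsSubnormal) :
    Cfsg.subnormalClosure A ≤ K.map (MulAut.conj g).toMonoidHom := by
  refine sInf_le ⟨?_, hK.map (f := (MulAut.conj g).toMonoidHom) (MulAut.conj g).surjective⟩
  exact hg ▸ Subgroup.map_mono hA

/-- Let A be a subgroup of the finite group H and K the subnormal closure of A (intersection of the subnormal subgroups containing A). Then K is the normal closure of A inside K and N_H(A) ≤ N_H(K); K = A·O^p(K), O^p(K) being generated by the elements of K of order prime to p; and if A is a p-group, O^p(K) = [O^p(K), A]. -/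
theorem result {H : Type*} [Group H] [Finite H] {p : ℕ} [Fact p.Prime] (A : Subgroup H) (K : Subgroup H) (hK : K = Cfsg.subnormalClosure A) : (Subgroup.normalClosure ((A.subgroupOf K : Subgroup ↥K) : Set ↥K)).map K.subtype = K ∧ Subgroup.normalizer (A : Set H) ≤ Subgroup.normalizer (K : Set H) ∧ A ⊔ (Cfsg.pResidual p ↥K).map K.subtype = K ∧ (IsPGroup p ↥A → ⁅(Cfsg.pResidual p ↥K).map K.subtype, A⁆ = (Cfsg.pResidual p ↥K).map K.subtype) := by
  subst hK
  set K := Cfsg.subnormalClosure A with hKdef
  have hAK : A ≤ K := le_sInf fun L hL => hL.1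
  have hKsn : K.IsSubnormal := isSubnormal_sInf _ fun L hL => hL.2
  have htop : Subgroup.normalClosure ((A.subgroupOf K : Subgroup ↥K) : Set ↥K) = ⊤ := by
    set N := Subgroup.normalClosure ((A.subgroupOf K : Subgroup ↥K) : Set ↥K)
    have hN : N.Normal := Subgroup.normalClosure_normal
    have h1 : K ≤ N.map K.subtype := by
      refine sInf_le ⟨?_, hN.isSubnormal.trans' hKsn⟩
      intro a ha
      exact ⟨⟨a, hAK ha⟩, Subgroup.subset_normalClosure (show (⟨a, hAK ha⟩ : ↥K) ∈ A.subgroupOf K from ha), rfl⟩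
    rw [eq_top_iff]
    intro x _
    obtain ⟨y, hy, hyx⟩ := h1 x.2
    have : y = x := Subtype.ext hyx
    exact this ▸ hy
  refine ⟨?_, ?_, ?_, ?_⟩
  · rw [htop, ← MonoidHom.range_eq_map, Subgroup.range_subtype]
  · intro g hg
    have hmap : ∀ g : H, g ∈ Subgroup.normalizer (A : Set H) → A.map (MulAut.conj g).toMonoidHom = A := by
      intro g hg
      ext x
      rw [Subgroup.mem_map]
      constructor
      · rintro ⟨a, ha, rfl⟩
        exact (Subgroup.mem_normalizer_iff.1 hg a).1 ha
      · intro hx
        exact ⟨g⁻¹ * x * g, (Subgroup.mem_normalizer_iff.1 hg _).2 (by simpa [mul_assoc] using hx),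
          by simp [mul_assoc]⟩
    have hle : ∀ g : H, g ∈ Subgroup.normalizer (A : Set H) → ∀ x ∈ K, g⁻¹ * x * g ∈ K := by
      intro g hg x hx
      obtain ⟨y, hy, rfl⟩ := subnormalClosure_map_le g (hmap g hg) hAK hKsn hx
      simpa [mul_assoc] using hy
    rw [Subgroup.mem_normalizer_iff]
    intro x
    constructor
    · intro hx
      simpa using hle g⁻¹ (Subgroup.inv_mem _ hg) x hx
    · intro hx
      simpa [mul_assoc] using hle g hg _ hx
  · have h1 := congrArg (Subgroup.map K.subtype) (CfsgLib.CharP.sup_pResidual_eq_top (p := p) htop)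
    rwa [Subgroup.map_sup, Subgroup.map_subgroupOf_eq_of_le hAK, ← MonoidHom.range_eq_map,
      Subgroup.range_subtype] at h1
  · intro hA
    have h1 := congrArg (Subgroup.map K.subtype) (CfsgLib.CharP.commutator_pResidual_eq
      (hA.of_equiv (Subgroup.subgroupOfEquivOfLe hAK).symm) htop)
    rwa [Subgroup.map_commutator, Subgroup.map_subgroupOf_eq_of_le hAK] at h1

end Cfsg.Agent.S2814
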