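import Cfsg.Statements.S2815
import Cfsg.Agent.Eq.Def_LocalStructure
import Cfsg.Agent.Cores.GenFitting
import Cfsg.Agent.CharP.PResidual
import Cfsg.Agent.CharP.PCore

set_option autoImplicit false
open Cfsg
open scoped commutatorElement

namespace Cfsg.Agent.S2815

/-- Let H be a finite group and p a prime dividing its order with O_p(H) = 1, and suppose K = O^p(H) (generated by the elements of order prime to p) is quasisimple. Then K = F*(H); for every nontrivial p-subgroup Y of H, K = [K, Y] and K lies in the subgroup generated by the K-conjugates of Y; every normal subgroup of H not containing K has order prime to p; and H is p-irreducible. -/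
theorem result {H : Type*} [Group H] [Finite H] {p : ℕ} [Fact p.Prime] (hp : p ∣ Nat.card H) (hO : Cfsg.pCore p H = ⊥) (hq : Cfsg.IsQuasisimple ↥(Cfsg.pResidual p H)) : Cfsg.pResidual p H = Cfsg.generalizedFittingSubgroup H ∧ (∀ Y : Subgroup H, IsPGroup p ↥Y → Y ≠ ⊥ → ⁅Cfsg.pResidual p H, Y⁆ = Cfsg.pResidual p H ∧ Cfsg.pResidual p H ≤ ⨆ k : ↥(Cfsg.pResidual p H), Y.map (MulAut.conj (k : H)).toMonoidHom) ∧ (∀ C : Subgroup H, C.Normal → ¬ Cfsg.pResidual p H ≤ C → (Nat.card ↥C).Coprime p) ∧ Cfsg.IsPIrreducible p H := by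
  set R := Cfsg.pResidual p H with hR
  haveI hRn : R.Normal := CfsgLib.CharP.pResidual_normal
  have hRcomp : Cfsg.IsComponent R := ⟨hRn.isSubnormal, hq⟩
  have hRR : ⁅R, R⁆ = R := CfsgLib.Cores.commutator_self_of_isComponent hRcomp
  set M := Subgroup.centralizer (R : Set H) with hM
  haveI hMn : M.Normal := Subgroup.normal_centralizer
  have hMp : ¬ p ∣ Nat.card ↥M := by
    obtain ⟨P⟩ := (inferInstance : Nonempty (Sylow p ↥M))
    intro hdvd
    refine P.ne_bot_of_dvd_card hdvd ?_
    haveI : (R.subgroupOf M).Normal := hRn.subgroupOf M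
    have hPn : (P : Subgroup ↥M).Normal := by
      have htop : (P : Subgroup ↥M) ⊔ R.subgroupOf M = ⊤ := by
        set φ := QuotientGroup.mk' (R.subgroupOf M)
        have hQ : IsPGroup p (↥M ⧸ R.subgroupOf M) := by
          intro x
          obtain ⟨m, rfl⟩ := QuotientGroup.mk_surjective x
          obtain ⟨k, hk⟩ := CfsgLib.CharP.exists_pow_mem_pResidual (p := p) (m : H)
          exact ⟨k, (QuotientGroup.eq_one_iff (m ^ p ^ k)).2 hk⟩
        have h1 : (P : Subgroup ↥M).map φ = ⊤ := by
          have h := (P.mapSurjective (f := φ) (QuotientGroup.mk'_surjective _)).3 (hQ.to_subgroup ⊤) le_top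
          rw [Sylow.coe_mapSurjective] at h
          exact h.symm
        have h2 := congrArg (Subgroup.comap φ) h1
        rwa [Subgroup.comap_map_eq, QuotientGroup.ker_mk', Subgroup.comap_top] at h2
      rw [← Subgroup.normalizer_eq_top_iff, eq_top_iff, ← htop]
      refine sup_le Subgroup.le_normalizer fun r hr => Subgroup.centralizer_le_normalizer _ ?_
      exact Subgroup.mem_centralizer_iff.2 fun y _ =>
        Subtype.ext (Subgroup.mem_centralizer_iff.1 y.2 _ hr).symm
    haveI := Sylow.characteristic_of_normal P hPn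
    have h3 : (P : Subgroup ↥M).map M.subtype ≤ Cfsg.pCore p H :=
      CfsgLib.CharP.le_pCore inferInstance (P.isPGroup'.map _)
    rw [hO, le_bot_iff] at h3
    exact (Subgroup.map_eq_bot_iff_of_injective _ M.subtype_injective).1 h3
  have hMR : M ≤ R := fun m hm => CfsgLib.CharP.mem_pResidual_of_coprime
    ((Fact.out : p.Prime).coprime_iff_not_dvd.2
      (fun h => hMp (h.trans (Subgroup.orderOf_dvd_natCard M hm)))).symm
  have key : ∀ Y : Subgroup H, IsPGroup p ↥Y → Y ≠ ⊥ → ⁅R, Y⁆ = R := by
    intro Y hY hne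
    have hle : ⁅R, Y⁆ ≤ R := Subgroup.commutator_le_left R Y
    have hn : ((⁅R, Y⁆ : Subgroup H).subgroupOf R).Normal := by
      refine ⟨fun n hn g => ?_⟩
      have h1 : ⁅R, Y⁆ ≤ (⁅R, Y⁆ : Subgroup H).comap (MulAut.conj (g : H)).toMonoidHom := by
        refine Subgroup.commutator_le.2 fun k hk a ha => ?_
        change (g : H) * ⁅k, a⁆ * (g : H)⁻¹ ∈ ⁅R, Y⁆
        have e : (g : H) * ⁅k, a⁆ * (g : H)⁻¹ = ⁅(g : H) * k, a⁆ * ⁅(g : H), a⁆⁻¹ := by
          simp only [commutatorElement_def]; group
        rw [e]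
        exact mul_mem (Subgroup.commutator_mem_commutator (R.mul_mem g.2 hk) ha)
          (inv_mem (Subgroup.commutator_mem_commutator g.2 ha))
      exact h1 hn
    rcases CfsgLib.Cores.normal_eq_top_or_le_center hq _ hn with h | h
    · refine le_antisymm hle fun r hr => ?_
      exact Subgroup.mem_subgroupOf.1 (h ▸ Subgroup.mem_top (⟨r, hr⟩ : ↥R))
    · exfalso
      have h1 : ⁅⁅R, Y⁆, R⁆ = ⊥ := by
        refine CfsgLib.Cores.commutator_eq_bot_of_forall_commute fun a ha b hb => ?_
        exact (congrArg Subtype.val (Subgroup.mem_center_iff.1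
          (h (show (⟨a, hle ha⟩ : ↥R) ∈ (⁅R, Y⁆ : Subgroup H).subgroupOf R from ha)) ⟨b, hb⟩)).symm
      have h2 : ⁅⁅R, R⁆, Y⁆ = ⊥ := Subgroup.commutator_commutator_eq_bot_of_rotate h1
        (by rw [Subgroup.commutator_comm Y R]; exact h1)
      rw [hRR] at h2
      apply hne
      rw [eq_bot_iff]
      intro y hy
      have hyM : y ∈ M := Subgroup.mem_centralizer_iff.2 fun r hr =>
        CfsgLib.Cores.commute_of_commutator_eq_bot h2 hr hy
      rw [Subgroup.mem_bot]
      obtain ⟨k, hk⟩ := hY ⟨y, hy⟩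
      refine orderOf_eq_one_iff.1 (Nat.Coprime.eq_one_of_dvd ?_
        (orderOf_dvd_of_pow_eq_one (n := p ^ k) (by simpa using congrArg Subtype.val hk)))
      exact ((((Fact.out : p.Prime).coprime_iff_not_dvd.2 hMp).symm.coprime_dvd_left
        (Subgroup.orderOf_dvd_natCard M hyM))).pow_right k
  have hC : ∀ C : Subgroup H, C.Normal → ¬ R ≤ C → (Nat.card ↥C).Coprime p := by
    intro C hCn hRC
    refine ((Fact.out : p.Prime).coprime_iff_not_dvd.2 fun hdvd => hRC ?_).symm
    obtain ⟨P⟩ := (inferInstance : Nonempty (Sylow p ↥C))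
    have h1 := key ((P : Subgroup ↥C).map C.subtype) (P.isPGroup'.map _)
      (fun h => P.ne_bot_of_dvd_card hdvd
        ((Subgroup.map_eq_bot_iff_of_injective _ C.subtype_injective).1 h))
    haveI := hCn
    rw [← h1]
    exact (Subgroup.commutator_mono le_rfl (Subgroup.map_subtype_le _)).trans
      (Subgroup.commutator_le_right R C)
  refine ⟨?_, fun Y hY hne => ⟨key Y hY hne, ?_⟩, hC, ?_, ?_⟩
  · refine le_antisymm ((CfsgLib.Cores.le_layer hRcomp).trans
      CfsgLib.Cores.layer_le_generalizedFitting) (sup_le ?_ ?_)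
    · refine CfsgLib.Cores.layer_le fun L hL => ?_
      intro x hx
      have hLL := CfsgLib.Cores.commutator_self_of_isComponent hL
      haveI hnil : Group.IsNilpotent (H ⧸ R) :=
        (CfsgLib.CharP.isPGroup_quotient_pResidual R le_rfl).isNilpotent
      obtain ⟨n, hn⟩ := (inferInstance : Group.IsSolvable (H ⧸ R))
      have h2 : ∀ n : ℕ, L.map (QuotientGroup.mk' R) ≤ derivedSeries (H ⧸ R) n := by
        intro n
        induction n with
        | zero => exact le_top
        | succ n ih =>
          rw [derivedSeries_succ, ← hLL, Subgroup.map_commutator]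
          exact Subgroup.commutator_mono ih ih
      have h3 := h2 n (Subgroup.mem_map_of_mem _ hx)
      rw [hn, Subgroup.mem_bot] at h3
      exact (QuotientGroup.eq_one_iff x).1 h3
    · refine le_trans ?_ hMR
      intro f hf
      rw [hM, Subgroup.mem_centralizer_iff]
      intro r hr
      exact CfsgLib.Cores.commute_of_commutator_eq_bot
        (CfsgLib.Cores.commutator_eq_bot_comm.1 CfsgLib.Cores.commutator_fitting_layer)
        (CfsgLib.Cores.le_layer hRcomp hr) hf
  · rw [hR] at key ⊢
    conv_lhs => rw [← key Y hY hne]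
    refine Subgroup.commutator_le.2 fun r hr y hy => ?_
    have h1 : r * y * r⁻¹ ∈ ⨆ k : ↥(Cfsg.pResidual p H), Y.map (MulAut.conj (k : H)).toMonoidHom :=
      Subgroup.mem_iSup_of_mem (⟨r, hr⟩ : ↥(Cfsg.pResidual p H)) ⟨y, hy, rfl⟩
    have h2 : y⁻¹ ∈ ⨆ k : ↥(Cfsg.pResidual p H), Y.map (MulAut.conj (k : H)).toMonoidHom :=
      Subgroup.mem_iSup_of_mem (1 : ↥(Cfsg.pResidual p H)) ⟨y⁻¹, Y.inv_mem hy, by simp⟩
    rw [commutatorElement_def]
    exact mul_mem h1 h2
  · intro hclosed
    obtain ⟨P⟩ := (inferInstance : Nonempty (Sylow p H))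
    refine P.ne_bot_of_dvd_card hp ?_
    rw [eq_bot_iff, ← hO]
    exact CfsgLib.CharP.le_pCore (hclosed P) P.isPGroup'
  · intro N hN hNc
    by_contra hle
    refine hNc fun P => ?_
    have hbot : (P : Subgroup ↥N) = ⊥ := by
      obtain ⟨k, hk⟩ := P.isPGroup'.exists_card_eq
      apply Subgroup.eq_bot_of_card_eq
      refine Nat.Coprime.eq_one_of_dvd ?_ (Subgroup.card_subgroup_dvd_card (P : Subgroup ↥N))
      rw [hk]
      exact (hC N hN hle).symm.pow_left k
    rw [hbot]
    infer_instance

end Cfsg.Agent.S2815
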