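import Cfsg.Statements.S2818
import Cfsg.Agent.CharP.FrattiniElem

set_option autoImplicit false
open Cfsg
open scoped commutatorElement

namespace Cfsg.Agent.S2818

/-- Let P be a finite p-subgroup of a group G and H a subgroup of N_G(P) with [P, H] ≤ Ω₁(Z(P)) (the elements of order dividing p in the centre of P). Then H centralizes the Frattini subgroup of P. -/
theorem result {G : Type*} [Group G] [Finite G] {p : ℕ} [Fact p.Prime] (P : Subgroup G) (hP : IsPGroup p ↥P) (H : Subgroup G) (hH : H ≤ Subgroup.normalizer (P : Set G)) (h : ⁅P, H⁆ ≤ Cfsg.omegaOne p (P ⊓ Subgroup.centralizer (P : Set G))) : ⁅(frattini ↥P).map P.subtype, H⁆ = ⊥ := by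
  rw [eq_bot_iff]
  refine Subgroup.commutator_le.2 fun x hx b hb => ?_
  rw [Subgroup.mem_bot, commutatorElement_eq_one_iff_mul_comm]
  obtain ⟨x, hxΦ, rfl⟩ := hx
  set W := Cfsg.omegaOne p (P ⊓ Subgroup.centralizer (P : Set G)) with hW
  have hWle : W ≤ P ⊓ Subgroup.centralizer (P : Set G) := (Subgroup.closure_le _).2 fun y hy => hy.1
  have hcomm : ∀ u ∈ W, ∀ v ∈ P, Commute v u := fun u hu v hv =>
    (Subgroup.mem_centralizer_iff.1 (hWle hu).2) v hv
  have hWp : ∀ u ∈ W, u ^ p = 1 := by
    intro u hu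
    induction hu using Subgroup.closure_induction with
    | mem y hy => exact hy.2
    | one => exact one_pow _
    | mul y z hy hz ihy ihz =>
      rw [Commute.mul_pow (hcomm z hz y (hWle hy).1), ihy, ihz, one_mul]
    | inv y _ ihy => rw [inv_pow, ihy, inv_one]
  let ψ : ↥P →* ↥W :=
    { toFun := fun v => ⟨⁅(v : G), b⁆, h (Subgroup.commutator_mem_commutator v.2 hb)⟩
      map_one' := by ext; simp
      map_mul' := fun v w => by
        ext
        have h1 : Commute (v : G) ⁅(w : G), b⁆ :=
          hcomm _ (h (Subgroup.commutator_mem_commutator w.2 hb)) v v.2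
        have h2 : Commute ⁅(v : G), b⁆ ⁅(w : G), b⁆ :=
          hcomm _ (h (Subgroup.commutator_mem_commutator w.2 hb)) _
            (hWle (h (Subgroup.commutator_mem_commutator v.2 hb))).1
        simp only [Subgroup.coe_mul]
        calc ⁅(v : G) * (w : G), b⁆ = (v : G) * ⁅(w : G), b⁆ * (v : G)⁻¹ * ⁅(v : G), b⁆ := by
              simp only [commutatorElement_def]; group
          _ = ⁅(w : G), b⁆ * ⁅(v : G), b⁆ := by rw [h1.eq, mul_inv_cancel_right]
          _ = ⁅(v : G), b⁆ * ⁅(w : G), b⁆ := h2.symm.eq }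
  have hk := CfsgLib.CharP.frattini_le_ker_of_elementary (p := p) ψ
    (fun a c => Subtype.ext (hcomm _ (ψ c).2 _ (hWle (ψ a).2).1).eq)
    (fun a => Subtype.ext (hWp _ (ψ a).2)) hxΦ
  exact commutatorElement_eq_one_iff_mul_comm.1 (congrArg Subtype.val (MonoidHom.mem_ker.1 hk))

end Cfsg.Agent.S2818
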