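import Cfsg.Statements.S2819
import Cfsg.Agent.LocalCharP.SylowCenter
import Cfsg.Agent.LocalCharP.WeaklyClosed
import Cfsg.Agent.CharP.FrattiniElem
import Cfsg.Agent.Coprime.Stabilizer
import Mathlib.Tactic.Group

set_option autoImplicit false
open Cfsg
open scoped commutatorElement

namespace Cfsg.Agent.S2819

/-- Let P be a finite p-subgroup of a group G, H a subgroup of N_G(P), and Y a subgroup of H centralizing the derived subgroup P' such that [P, Y] is elementary abelian. Then O^p(⟨Y^H⟩), the subgroup of the normal closure of Y in H generated by its elements of order prime to p, centralizes the Frattini subgroup of P. -/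
theorem result {G : Type*} [Group G] [Finite G] {p : ℕ} [Fact p.Prime] (P : Subgroup G) (hP : IsPGroup p ↥P) (H : Subgroup G) (hH : H ≤ Subgroup.normalizer (P : Set G)) (Y : Subgroup G) (hYH : Y ≤ H) (hYc : Y ≤ Subgroup.centralizer ((⁅P, P⁆ : Subgroup G) : Set G)) (hel : Cfsg.IsElementaryAbelian p ⁅P, Y⁆) (NY : Subgroup G) (hNY : NY = (Subgroup.normalClosure ((Y.subgroupOf H : Subgroup ↥H) : Set ↥H)).map H.subtype) : (Cfsg.pResidual p ↥NY).map NY.subtype ≤ Subgroup.centralizer (((frattini ↥P).map P.subtype : Subgroup G) : Set G) := by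
  subst hNY
  set P' : Subgroup G := ⁅P, P⁆ with hP'
  set F := (frattini ↥P).map P.subtype with hF
  have hcommP : P' = (commutator ↥P).map P.subtype := by
    rw [hP', commutator_def, Subgroup.map_commutator, ← MonoidHom.range_eq_map, Subgroup.range_subtype]
  have hP'P : P' ≤ P := hcommP ▸ Subgroup.map_subtype_le _
  -- an element centralizing `P'` whose commutators with `P` have order dividing `p` stabilizes `1 ≤ P' ≤ F`
  have hphi : ∀ z ∈ Subgroup.normalizer (P : Set G), (∀ c ∈ P', z * c = c * z) →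
      (∀ x ∈ P, (z * x * z⁻¹ * x⁻¹) ^ p = 1) → ∀ c ∈ F, z * c * z⁻¹ * c⁻¹ ∈ P' := by
    intro z hz _ hzp c hc
    let cz : ↥P →* ↥P :=
      { toFun := fun x => ⟨z * x * z⁻¹, (Subgroup.mem_normalizer_iff.mp hz x).mp x.2⟩
        map_one' := Subtype.ext (by simp)
        map_mul' := fun a b => Subtype.ext (by simp [mul_assoc]) }
    let φ : ↥P →* Abelianization ↥P := (Abelianization.of.comp cz) * (Abelianization.of)⁻¹
    have hφ : ∀ x : ↥P, φ x = Abelianization.of (cz x * x⁻¹) := fun x => by simp [φ]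
    have hle := CfsgLib.CharP.frattini_le_ker_of_elementary (p := p) φ (fun a b => Commute.all _ _)
      (fun x => by
        rw [hφ, ← map_pow]
        have hx : (cz x * x⁻¹) ^ p = 1 := Subtype.ext (by simpa [cz] using hzp x x.2)
        rw [hx, map_one])
    obtain ⟨c', hc', rfl⟩ := hc
    have h2 := hle hc'
    rw [MonoidHom.mem_ker, hφ, ← MonoidHom.mem_ker, Abelianization.ker_of] at h2
    rw [hcommP]
    exact ⟨_, h2, by simp [cz]⟩
  let S : Subgroup G :=
    { carrier := {n | (∀ c ∈ P', n * c = c * n) ∧ ∀ c ∈ F, n * c * n⁻¹ * c⁻¹ ∈ P'}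
      one_mem' := ⟨fun c _ => by simp, fun c _ => by simp⟩
      mul_mem' := by
        rintro a b ⟨ha1, ha⟩ ⟨hb1, hb⟩
        refine ⟨fun c hc => by rw [mul_assoc, hb1 c hc, ← mul_assoc, ha1 c hc, mul_assoc], fun c hc => ?_⟩
        have hn := hb c hc
        have e1 : a * b * c * (a * b)⁻¹ * c⁻¹ = (b * c * b⁻¹ * c⁻¹) * (a * c * a⁻¹ * c⁻¹) := by
          calc a * b * c * (a * b)⁻¹ * c⁻¹ = (a * (b * c * b⁻¹ * c⁻¹)) * c * a⁻¹ * c⁻¹ := by group
            _ = (b * c * b⁻¹ * c⁻¹) * (a * c * a⁻¹ * c⁻¹) := by rw [ha1 _ hn]; group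
        rw [e1]
        exact mul_mem hn (ha c hc)
      inv_mem' := by
        rintro a ⟨ha1, ha⟩
        refine ⟨fun c hc => ?_, fun c hc => ?_⟩
        · calc a⁻¹ * c = a⁻¹ * (c * a) * a⁻¹ := by group
            _ = c * a⁻¹ := by rw [← ha1 c hc]; group
        · have hcom := ha1 _ (inv_mem (ha c hc))
          have e1 : a⁻¹ * c * a⁻¹⁻¹ * c⁻¹ = (a * c * a⁻¹ * c⁻¹)⁻¹ := by
            calc a⁻¹ * c * a⁻¹⁻¹ * c⁻¹ = a⁻¹ * ((a * c * a⁻¹ * c⁻¹)⁻¹ * a) := by group
              _ = (a * c * a⁻¹ * c⁻¹)⁻¹ := by rw [← hcom]; group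
          rw [e1]
          exact inv_mem (ha c hc) }
  have hgen : (Subgroup.normalClosure ((Y.subgroupOf H : Subgroup ↥H) : Set ↥H)).map H.subtype ≤ S := by
    rw [Subgroup.map_le_iff_le_comap]
    refine (Subgroup.closure_le _).2 ?_
    intro z hz
    obtain ⟨y, hy, hyz⟩ := Group.mem_conjugatesOfSet_iff.1 hz
    obtain ⟨h, rfl⟩ := isConj_iff.1 hyz
    show ((h * y * h⁻¹ : ↥H) : G) ∈ S
    have hhN : (h : G) ∈ Subgroup.normalizer (P : Set G) := hH h.2
    have hyN : (y : G) ∈ Subgroup.normalizer (P : Set G) := hH y.2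
    have hconjP' : ∀ c ∈ P', (h : G)⁻¹ * c * h ∈ P' := by
      intro c hc
      have hmem : (h : G)⁻¹ ∈ Subgroup.normalizer (P' : Set G) := CfsgLib.LocalCharP.map_conj_eq_self_iff.mp (by
        rw [hP', Subgroup.map_commutator, CfsgLib.LocalCharP.map_conj_eq_self_iff.mpr (inv_mem hhN)])
      simpa using (Subgroup.mem_normalizer_iff.mp hmem c).mp hc
    have hz1 : ∀ c ∈ P', ((h : G) * y * (h : G)⁻¹) * c = c * ((h : G) * y * (h : G)⁻¹) := by
      intro c hc
      have h1 : ((h : G)⁻¹ * c * h) * (y : G) = (y : G) * ((h : G)⁻¹ * c * h) := Subgroup.mem_centralizer_iff.mp (hYc hy) _ (hconjP' c hc)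
      calc ((h : G) * y * (h : G)⁻¹) * c = (h : G) * (y * ((h : G)⁻¹ * c * h)) * (h : G)⁻¹ := by group
        _ = c * ((h : G) * y * (h : G)⁻¹) := by rw [← h1]; group
    refine ⟨by simpa using hz1, fun c hc => ?_⟩
    have := hphi ((h : G) * y * (h : G)⁻¹) (mul_mem (mul_mem hhN hyN) (inv_mem hhN)) hz1 (fun x hx => ?_) c hc
    · simpa using this
    have hx' : (h : G)⁻¹ * x * h ∈ P := by
      simpa using (Subgroup.mem_normalizer_iff.mp (inv_mem hhN) x).mp hx
    have hmem : ⁅(h : G)⁻¹ * x * h, (y : G)⁆ ∈ ⁅P, Y⁆ := Subgroup.commutator_mem_commutator hx' hy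
    have e : (h : G) * y * (h : G)⁻¹ * x * ((h : G) * y * (h : G)⁻¹)⁻¹ * x⁻¹ =
        (h : G) * ⁅(h : G)⁻¹ * x * h, (y : G)⁆⁻¹ * (h : G)⁻¹ := by
      simp [commutatorElement_def, mul_assoc]
    rw [e, conj_pow, inv_pow, hel.2 _ hmem]
    simp
  rw [CfsgLib.LocalCharP.map_pResidual_le_iff]
  intro x hx hcop
  obtain ⟨h1, h2⟩ := hgen hx
  rw [Subgroup.mem_centralizer_iff]
  intro c hc
  refine (CfsgLib.Coprime.commute_of_commute_commutator_mem (H := P') (h1 _ (h2 c hc)) (h2 c hc) ?_).symm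
  obtain ⟨k, hk⟩ := IsPGroup.iff_card.mp (hP.to_le hP'P)
  rw [hk]
  exact hcop.pow_right k

end Cfsg.Agent.S2819
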