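import Cfsg.Statements.S2820
import Cfsg.Agent.LocalCharP.SylowCenter
import Cfsg.Agent.LocalCharP.WeaklyClosed
import Cfsg.Agent.CharP.FrattiniElem
import Cfsg.Agent.Coprime.Stabilizer
import Mathlib.Tactic.Group

set_option autoImplicit false
open Cfsg
open scoped commutatorElement

namespace Cfsg.Agent.S2820

/-- Let A and B be subnormal subgroups of the finite group H with A a p-group and B = O^p(B) (B generated by its elements of order prime to p). Then A normalizes B and B = O^p(AB), the subgroup of ⟨A, B⟩ generated by its elements of order prime to p. -/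
theorem result {H : Type*} [Group H] [Finite H] {p : ℕ} [Fact p.Prime] (A B : Subgroup H) (hA : A.IsSubnormal) (hB : B.IsSubnormal) (hAp : IsPGroup p ↥A) (hBres : (Cfsg.pResidual p ↥B).map B.subtype = B) : A ≤ Subgroup.normalizer (B : Set H) ∧ (Cfsg.pResidual p ↥(A ⊔ B)).map (A ⊔ B).subtype = B := by
  set X := A ⊔ B with hX
  set A' := A.subgroupOf X with hA'
  set B' := B.subgroupOf X with hB'
  set R := (Cfsg.pResidual p ↥X).map X.subtype with hR
  haveI := Cfsg.pCore_normal p ↥X
  have hAO : A' ≤ Cfsg.pCore p ↥X :=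
    CfsgLib.LocalCharP.le_pCore_of_isSubnormal hA.subgroupOf (hAp.comap_of_injective _ X.subtype_injective)
  have htop : B' ⊔ Cfsg.pCore p ↥X = ⊤ := by
    rw [eq_top_iff]
    have : (⊤ : Subgroup ↥X) = (A ⊔ B).subgroupOf X := (Subgroup.subgroupOf_self X).symm
    rw [this, Subgroup.subgroupOf_sup le_sup_left le_sup_right]
    exact sup_le (hAO.trans le_sup_right) le_sup_left
  have key : ∀ K : Subgroup ↥X, K.IsSubnormal → B' ≤ K → ∀ x : ↥X, (orderOf x).Coprime p → x ∈ K := by
    intro K hK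
    induction hK with
    | top => exact fun _ x _ => Subgroup.mem_top x
    | step K1 K2 hle _ hn ih =>
      intro hBK x hx
      have hxK2 : x ∈ K2 := ih (hBK.trans hle) x hx
      haveI := hn
      obtain ⟨b, hb, o, ho, hbo⟩ := Subgroup.mem_sup_of_normal_right.1
        (show x ∈ B' ⊔ Cfsg.pCore p ↥X by rw [htop]; trivial)
      have hoK2 : o ∈ K2 := by
        rw [show o = b⁻¹ * x by rw [← hbo]; group]
        exact mul_mem (inv_mem (hle (hBK hb))) hxK2
      obtain ⟨k, hk⟩ := CfsgLib.CharP.isPGroup_pCore (p := p) (G := ↥X) ⟨o, ho⟩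
      have hcop : (orderOf (⟨x, hxK2⟩ : ↥K2)).Coprime p := by rwa [← Subgroup.orderOf_coe]
      refine Subgroup.mem_subgroupOf.mp
        (CfsgLib.LocalCharP.mem_of_pow_pow_mem (N := K1.subgroupOf K2) hcop (k := k) ?_)
      rw [← QuotientGroup.eq_one_iff (N := K1.subgroupOf K2), QuotientGroup.mk_pow,
        show (⟨x, hxK2⟩ : ↥K2) = ⟨b, hle (hBK hb)⟩ * ⟨o, hoK2⟩ from Subtype.ext hbo.symm,
        QuotientGroup.mk_mul, (QuotientGroup.eq_one_iff (N := K1.subgroupOf K2) (⟨b, hle (hBK hb)⟩ : ↥K2)).mpr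
          (hBK hb), one_mul, ← QuotientGroup.mk_pow]
      have hone : (⟨o, hoK2⟩ : ↥K2) ^ p ^ k = 1 := Subtype.ext (by simpa using congrArg Subtype.val hk)
      rw [hone, QuotientGroup.mk_one]
  have hRB : R = B := by
    refine le_antisymm (CfsgLib.LocalCharP.map_pResidual_le_iff.mpr fun x hx hcop =>
      key B' hB.subgroupOf le_rfl ⟨x, hx⟩ (by rwa [← Subgroup.orderOf_coe])) ?_
    conv_lhs => rw [← hBres]
    exact CfsgLib.LocalCharP.map_pResidual_le_iff.mpr fun x hx hcop =>
      CfsgLib.LocalCharP.mem_map_pResidual (Subgroup.mem_sup_right hx) hcop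
  refine ⟨?_, hRB⟩
  have := CfsgLib.LocalCharP.map_subgroupOf_normal (D := Cfsg.pResidual p ↥X) inferInstance
  rw [← hR, hRB] at this
  exact (le_sup_left : A ≤ X).trans this

end Cfsg.Agent.S2820
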