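import Cfsg.Statements.S2821
import Cfsg.Agent.LocalCharP.SylowCenter
import Mathlib.Tactic.Group

set_option autoImplicit false
open Cfsg
open scoped commutatorElement

namespace Cfsg.Agent.S2821

/-- Let H be a finite group, p a prime, T a Sylow p-subgroup and L a subgroup of characteristic p containing T; let Y_L be the largest p-reduced normal subgroup of L (the join of the normal elementary abelian p-subgroups V of L with O_p(L/C_L(V)) = 1). Then T₀ := C_T(Y_L) is a Sylow p-subgroup of C_H(Y_L); moreover O_p(L) ≤ T₀ ≤ C_L(Y_L) and Ω₁(Z(T)) ≤ Z_L ≤ Y_L ≤ Ω₁(Z(O_p(L))), where Z_L is generated by the Ω₁(Z(S)) over the Sylow p-subgroups S of L. -/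
theorem result {H : Type*} [Group H] [Finite H] {p : ℕ} [Fact p.Prime] (T : Sylow p H) (L : Subgroup H) (hTL : (T : Subgroup H) ≤ L) (hL : Subgroup.centralizer (Cfsg.pCore p ↥L : Set ↥L) ≤ Cfsg.pCore p ↥L) (T₀ : Subgroup H) (hT₀ : T₀ = (T : Subgroup H) ⊓ Subgroup.centralizer (((Cfsg.largestPReducedOf p L) : Subgroup H) : Set H)) : (∃ P : Sylow p ↥(Subgroup.centralizer (((Cfsg.largestPReducedOf p L) : Subgroup H) : Set H)), (P : Subgroup ↥(Subgroup.centralizer (((Cfsg.largestPReducedOf p L) : Subgroup H) : Set H))) = T₀.subgroupOf (Subgroup.centralizer (((Cfsg.largestPReducedOf p L) : Subgroup H) : Set H))) ∧ (Cfsg.pCoreOf p L) ≤ T₀ ∧ T₀ ≤ L ⊓ Subgroup.centralizer (((Cfsg.largestPReducedOf p L) : Subgroup H) : Set H) ∧ (Cfsg.omegaOne p ((T : Subgroup H) ⊓ Subgroup.centralizer (((T : Subgroup H) : Subgroup H) : Set H))) ≤ Cfsg.sylowCenterClosure p L ∧ Cfsg.sylowCenterClosure p L ≤ (Cfsg.largestPReducedOf p L) ∧ (Cfsg.largestPReducedOf p L) ≤ (Cfsg.omegaOne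 p ((Cfsg.pCoreOf p L) ⊓ Subgroup.centralizer (((Cfsg.pCoreOf p L) : Subgroup H) : Set H))) := by
  subst hT₀
  have hTN := hTL.trans (CfsgLib.LocalCharP.le_normalizer_largestPReducedOf (p := p) L)
  refine ⟨?_, le_inf (CfsgLib.LocalCharP.pCoreOf_le_of_le hTL)
    (CfsgLib.LocalCharP.pCoreOf_le_centralizer_largestPReducedOf L),
    le_inf (inf_le_left.trans hTL) inf_le_right,
    CfsgLib.LocalCharP.omegaZ_le_sylowCenterClosure T hTL,
    CfsgLib.LocalCharP.sylowCenterClosure_le_largestPReducedOf hL, fun y hy => Subgroup.subset_closure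
      ⟨⟨CfsgLib.LocalCharP.largestPReducedOf_le_pCoreOf L hy,
        CfsgLib.LocalCharP.largestPReducedOf_centralizes_pCoreOf L hy⟩,
        (CfsgLib.LocalCharP.largestPReducedOf_elementaryAbelian L).2 y hy⟩⟩
  obtain ⟨P, hP⟩ := CfsgLib.LocalCharP.exists_sylow_inf_centralizer T hTN
  exact ⟨P, by rw [← hP, ← Subgroup.comap_subtype,
    Subgroup.comap_map_eq_self_of_injective (Subgroup.subtype_injective _)]⟩

end Cfsg.Agent.S2821
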