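import Cfsg.Statements.S2823
import Cfsg.Agent.LocalCharP.SylowCenter
import Mathlib.Tactic.Group

set_option autoImplicit false
open Cfsg
open scoped commutatorElement

namespace Cfsg.Agent.S2823

/-- Let H be a finite group, p a prime, T a Sylow p-subgroup and L a subgroup of characteristic p containing T; let Z_L be the subgroup generated by the Ω₁(Z(S)) over the Sylow p-subgroups S of L and O^p(L) the subgroup generated by the elements of L of order prime to p. Then Z_L = Ω₁(Z(L))·[Z_L, O^p(L)] and [Z_L, L] = [Z_L, O^p(L)]. -/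
theorem result {H : Type*} [Group H] [Finite H] {p : ℕ} [Fact p.Prime] (T : Sylow p H) (L : Subgroup H) (hTL : (T : Subgroup H) ≤ L) (hL : Subgroup.centralizer (Cfsg.pCore p ↥L : Set ↥L) ≤ Cfsg.pCore p ↥L) : Cfsg.sylowCenterClosure p L = (Cfsg.omegaOne p (L ⊓ Subgroup.centralizer ((L : Subgroup H) : Set H))) ⊔ ⁅Cfsg.sylowCenterClosure p L, (Cfsg.pResidual p ↥L).map L.subtype⁆ ∧ ⁅Cfsg.sylowCenterClosure p L, L⁆ = ⁅Cfsg.sylowCenterClosure p L, (Cfsg.pResidual p ↥L).map L.subtype⁆ := by
  set Z := Cfsg.sylowCenterClosure p L with hZdef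
  set R := (Cfsg.pResidual p ↥L).map L.subtype with hRdef
  set W := ⁅Z, R⁆ with hWdef
  set C := Z ⊓ Subgroup.centralizer (L : Set H) with hCdef
  have hel := CfsgLib.LocalCharP.sylowCenterClosure_elementaryAbelian (p := p) hL
  have hLZ := CfsgLib.LocalCharP.le_normalizer_sylowCenterClosure (p := p) L
  have hRL : R ≤ L := Subgroup.map_subtype_le _
  have hWZ : W ≤ Z := CfsgLib.LocalCharP.commutator_le_of_le_normalizer hLZ hRL
  have hLW : L ≤ Subgroup.normalizer (W : Set H) :=
    CfsgLib.LocalCharP.le_normalizer_commutator hLZ (CfsgLib.LocalCharP.le_normalizer_pResidual_map L)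
  have hLC : L ≤ Subgroup.normalizer ((C ⊔ W : Subgroup H) : Set H) := by
    refine CfsgLib.LocalCharP.le_normalizer_of_conj_mem fun l hl x hx => ?_
    have hle : C ⊔ W ≤ (C ⊔ W).comap (MulAut.conj l).toMonoidHom := by
      refine sup_le (fun c hc => Subgroup.mem_sup_left ?_) (fun w hw => Subgroup.mem_sup_right ?_)
      · have h1 : l * c * l⁻¹ = c := by rw [Subgroup.mem_centralizer_iff.mp hc.2 l hl]; group
        show l * c * l⁻¹ ∈ C
        rw [h1]
        exact hc
      · exact CfsgLib.LocalCharP.conj_mem_of_le_normalizer hLW hl hw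
    exact hle hx
  have hZ : Z = C ⊔ W := by
    refine le_antisymm (iSup_le fun S z hz => ?_) (sup_le inf_le_left hWZ)
    obtain ⟨l, hl⟩ := MulAction.exists_smul_eq ↥L (T.subtype hTL) S
    obtain ⟨h1, h2, h3⟩ := CfsgLib.LocalCharP.mem_omegaOne_inf_centralizer.mp hz
    have hST : (S : Subgroup ↥L).map L.subtype = (T : Subgroup H).map (MulAut.conj (l : H)).toMonoidHom := by
      rw [← hl, Sylow.coe_subgroup_smul]
      ext x
      constructor
      · rintro ⟨w, hw, rfl⟩
        obtain ⟨v, hv, rfl⟩ := hw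
        exact ⟨(v : H), hv, rfl⟩
      · rintro ⟨v, hv, rfl⟩
        exact ⟨_, ⟨⟨v, hTL hv⟩, hv, rfl⟩, rfl⟩
    rw [hST] at h1 h2
    rw [← CfsgLib.LocalCharP.map_conj_centralizer] at h2
    obtain ⟨v, hv, rfl⟩ := h1
    have hv2 : v ∈ Subgroup.centralizer ((T : Subgroup H) : Set H) := by
      obtain ⟨w, hw, hwv⟩ := h2
      rwa [← (MulAut.conj (l : H)).injective hwv]
    have hv3 : v ^ p = 1 := by
      apply (MulAut.conj (l : H)).injective
      rw [map_pow, map_one]
      exact h3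
    have hvZ : v ∈ Z := CfsgLib.LocalCharP.omegaZ_le_sylowCenterClosure T hTL
      (CfsgLib.LocalCharP.mem_omegaOne_inf_centralizer.mpr ⟨hv, hv2, hv3⟩)
    exact CfsgLib.LocalCharP.conj_mem_of_le_normalizer hLC l.2
      (CfsgLib.LocalCharP.mem_sup_commutator_of_fixed T hTL hel hLZ hvZ hv2)
  refine ⟨le_antisymm ?_ (sup_le ?_ hWZ), le_antisymm ?_ (Subgroup.commutator_mono le_rfl hRL)⟩
  · refine hZ.le.trans (sup_le_sup_right ?_ W)
    intro z hz
    refine Subgroup.subset_closure ⟨⟨?_, hz.2⟩, hel.2 z hz.1⟩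
    exact ((CfsgLib.LocalCharP.sylowCenterClosure_le_pCoreOf hL).trans
        (inf_le_left.trans (CfsgLib.LocalCharP.pCoreOf_le L))) hz.1
  · intro z hz
    obtain ⟨h1, h2, h3⟩ := CfsgLib.LocalCharP.mem_omegaOne_inf_centralizer.mp hz
    have hzT : z ∈ (T : Subgroup H) := by
      have hp : IsPGroup p ↥(Cfsg.omegaOne p (L ⊓ Subgroup.centralizer (L : Set H))) :=
        CfsgLib.CharP.isPGroup_of_exponent
          (CfsgLib.LocalCharP.isElementaryAbelian_omegaOne_inf_centralizer L)
      refine CfsgLib.LocalCharP.pCoreOf_le_of_le hTL (CfsgLib.LocalCharP.le_pCoreOf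
        (CfsgLib.LocalCharP.omegaOne_inf_centralizer_le L) hp ?_ hz)
      refine CfsgLib.LocalCharP.le_normalizer_of_conj_mem fun l hl x hx => ?_
      obtain ⟨_, hx2, _⟩ := CfsgLib.LocalCharP.mem_omegaOne_inf_centralizer.mp hx
      have e : l * x * l⁻¹ = x := by rw [Subgroup.mem_centralizer_iff.mp hx2 l hl]; group
      rw [e]
      exact hx
    exact CfsgLib.LocalCharP.omegaZ_le_sylowCenterClosure T hTL
      (CfsgLib.LocalCharP.mem_omegaOne_inf_centralizer.mpr ⟨hzT, Subgroup.centralizer_le hTL h2, h3⟩)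
  · rw [Subgroup.commutator_le]
    intro z hz x hx
    have hCW : W ≤ Subgroup.normalizer (C : Set H) := by
      refine CfsgLib.LocalCharP.le_normalizer_of_conj_mem fun w hw c hc => ?_
      have e : w * c * w⁻¹ = c := by
        rw [Subgroup.mem_centralizer_iff.mp (CfsgLib.LocalCharP.le_centralizer_self hel hc.1) w (hWZ hw)]
        group
      rw [e]
      exact hc
    rw [hZ, ← SetLike.mem_coe, Subgroup.coe_mul_of_right_le_normalizer_left _ _ hCW] at hz
    obtain ⟨c, hc, w, hw, rfl⟩ := Set.mem_mul.mp hz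
    have hwx : ⁅w, x⁆ ∈ W := by
      have h := mul_mem hw (CfsgLib.LocalCharP.conj_mem_of_le_normalizer hLW hx (inv_mem hw))
      simpa [commutatorElement_def, mul_assoc] using h
    have hcx : ⁅c, x⁆ = 1 := by
      rw [commutatorElement_eq_one_iff_mul_comm]
      exact (Subgroup.mem_centralizer_iff.mp hc.2 x hx).symm
    have hcw : c * ⁅w, x⁆ * c⁻¹ = ⁅w, x⁆ := by
      rw [Subgroup.mem_centralizer_iff.mp (CfsgLib.LocalCharP.le_centralizer_self hel (hWZ hwx)) c hc.1]
      group
    have e : ⁅c * w, x⁆ = (c * ⁅w, x⁆ * c⁻¹) * ⁅c, x⁆ := by simp [commutatorElement_def, mul_assoc]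
    rw [e, hcx, hcw, mul_one]
    exact hwx

end Cfsg.Agent.S2823
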