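import Cfsg.Statements.S2825
import Cfsg.Agent.LocalCharP.PReducedSubnormal
import Mathlib.Tactic.Group

set_option autoImplicit false
open Cfsg
open scoped commutatorElement Pointwise

namespace Cfsg.Agent.S2825

/-- Let L be a subnormal subgroup of the finite group H, p a prime, Y_H and Y_L the largest p-reduced normal subgroups. Then Y_H ∩ L = Y_H ∩ Y_L and this subgroup is a p-reduced normal subgroup of L; C_L(Y_L) = C_L(Y_H) = C_L(Y_H ∩ L); and if O^p(H) ≤ L, then [Y_L, L] = 1 if and only if [Y_H, H] = 1. -/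
theorem result {H : Type*} [Group H] [Finite H] {p : ℕ} [Fact p.Prime] (L : Subgroup H) (hL : L.IsSubnormal) : Cfsg.largestPReduced p H ⊓ L = Cfsg.largestPReduced p H ⊓ (Cfsg.largestPReducedOf p L) ∧ Cfsg.IsPReducedNormal p ((Cfsg.largestPReduced p H ⊓ L).subgroupOf L) ∧ L ⊓ Subgroup.centralizer ((Cfsg.largestPReducedOf p L : Subgroup H) : Set H) = L ⊓ Subgroup.centralizer (Cfsg.largestPReduced p H : Set H) ∧ L ⊓ Subgroup.centralizer (Cfsg.largestPReduced p H : Set H) = L ⊓ Subgroup.centralizer ((Cfsg.largestPReduced p H ⊓ L : Subgroup H) : Set H) ∧ (Cfsg.pResidual p H ≤ L → (⁅(Cfsg.largestPReducedOf p L), L⁆ = ⊥ ↔ ⁅Cfsg.largestPReduced p H, (⊤ : Subgroup H)⁆ = ⊥)) := by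
  have hY := (CfsgLib.LocalCharP.largestPReduced_spec (p := p) (G := H)).1
  haveI := hY.1
  set Y := Cfsg.largestPReduced p H with hYdef
  have hC := CfsgLib.LocalCharP.inf_centralizer_inf_eq hY hL
  have hred : CfsgLib.LocalCharP.IsPRed p L (Y ⊓ L) := by
    refine ⟨CfsgLib.LocalCharP.le_normalizer_inf Subgroup.le_normalizer_of_normal Subgroup.le_normalizer,
      CfsgLib.LocalCharP.isElementaryAbelian_of_le hY.2.1 inf_le_left, fun D hDL hLD hp => ?_⟩
    refine ((CfsgLib.LocalCharP.isPRed_of_isSubnormal hY hL).2.2 D hDL hLD fun d hd => ?_).trans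
      (Subgroup.centralizer_le inf_le_left)
    obtain ⟨k, hk⟩ := hp d hd
    exact ⟨k, (hC.le ⟨pow_mem (hDL hd) _, hk⟩).2⟩
  have hle : Y ⊓ L ≤ Cfsg.largestPReducedOf p L := hred.le_largestPReducedOf inf_le_right
  have h3 : L ⊓ Subgroup.centralizer ((Cfsg.largestPReducedOf p L : Subgroup H) : Set H) =
      L ⊓ Subgroup.centralizer (Y : Set H) := by
    refine le_antisymm ((inf_le_inf_left L (Subgroup.centralizer_le hle)).trans hC.le) ?_
    exact le_inf inf_le_left (CfsgLib.LocalCharP.inf_centralizer_le_centralizer_largestPReducedOf hL)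
  refine ⟨le_antisymm (le_inf inf_le_left hle)
    (inf_le_inf_left Y (CfsgLib.LocalCharP.largestPReducedOf_le L)),
    (CfsgLib.LocalCharP.isPRed_iff inf_le_right).mp hred, h3, hC.symm, fun hres => ?_⟩
  rw [Subgroup.commutator_eq_bot_iff_le_centralizer, Subgroup.commutator_eq_bot_iff_le_centralizer,
    Subgroup.le_centralizer_iff, Subgroup.le_centralizer_iff (H := Y)]
  constructor
  · intro h
    have hLY : L ≤ Subgroup.centralizer (Y : Set H) := fun x hx => (h3.le ⟨hx, h hx⟩).2
    refine CfsgLib.CharP.pReduced_le_centralizer hY inferInstance fun d _ => ?_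
    obtain ⟨k, hk⟩ := CfsgLib.LocalCharP.mem_or_pow_coprime (p := p) d
    exact ⟨k, hLY (hres (CfsgLib.LocalCharP.mem_pResidual hk))⟩
  · exact fun h x hx => (h3.ge ⟨hx, h trivial⟩).2

end Cfsg.Agent.S2825
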