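import Cfsg.Statements.S2826
import Cfsg.Agent.LocalCharP.SylowCenter
import Mathlib.Tactic.Group

set_option autoImplicit false
open Cfsg
open scoped commutatorElement

namespace Cfsg.Agent.S2826

/-- Let H be a finite group of characteristic p, T a Sylow p-subgroup, and V a normal elementary abelian p-subgroup of H containing Ω₁(Z(T)). Then C_H(Ω₁(Z(T))) = C_H([V, O^p(H)] ∩ Ω₁(Z(T))), O^p(H) being generated by the elements of order prime to p. -/
theorem result {H : Type*} [Group H] [Finite H] {p : ℕ} [Fact p.Prime] (hH : Subgroup.centralizer (Cfsg.pCore p H : Set H) ≤ Cfsg.pCore p H) (T : Sylow p H) (V : Subgroup H) [V.Normal] (hV : Cfsg.IsElementaryAbelian p V) (hZV : (Cfsg.omegaOne p ((T : Subgroup H) ⊓ Subgroup.centralizer (((T : Subgroup H) : Subgroup H) : Set H))) ≤ V) : Subgroup.centralizer ((Cfsg.omegaOne p ((T : Subgroup H) ⊓ Subgroup.centralizer (((T : Subgroup H) : Subgroup H) : Set H))) : Set H) = Subgroup.centralizer (((⁅V, Cfsg.pResidual p H⁆ ⊓ (Cfsg.omegaOne p ((T :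 Subgroup H) ⊓ Subgroup.centralizer (((T : Subgroup H) : Subgroup H) : Set H)))) : Subgroup H) : Set H) := by
  set Z := Cfsg.omegaOne p ((T : Subgroup H) ⊓ Subgroup.centralizer (((T : Subgroup H) : Subgroup H) : Set H))
    with hZdef
  have hres : (Cfsg.pResidual p ↥(⊤ : Subgroup H)).map (⊤ : Subgroup H).subtype = Cfsg.pResidual p H :=
    CfsgLib.LocalCharP.map_pResidual (p := p) (f := (⊤ : Subgroup H).subtype) fun x => ⟨⟨x, trivial⟩, rfl⟩
  have hVn : (⊤ : Subgroup H) ≤ Subgroup.normalizer (V : Set H) :=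
    le_of_eq (Subgroup.normalizer_eq_top_iff.mpr inferInstance).symm
  refine le_antisymm (Subgroup.centralizer_le inf_le_right) fun g hg => Subgroup.mem_centralizer_iff.mpr
    fun z hz => ?_
  obtain ⟨h1, h2, h3⟩ := CfsgLib.LocalCharP.mem_omegaOne_inf_centralizer.mp hz
  have hmem := CfsgLib.LocalCharP.mem_sup_commutator_of_fixed T le_top hV hVn (hZV hz) h2
  rw [hres] at hmem
  set W := ⁅V, Cfsg.pResidual p H⁆ with hWdef
  set C := V ⊓ Subgroup.centralizer ((⊤ : Subgroup H) : Set H) with hCdef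
  have hCn : W ≤ Subgroup.normalizer (C : Set H) := by
    refine CfsgLib.LocalCharP.le_normalizer_of_conj_mem fun w hw c hc => ?_
    have e : w * c * w⁻¹ = c := by rw [Subgroup.mem_centralizer_iff.mp hc.2 w trivial]; group
    rw [e]
    exact hc
  rw [← SetLike.mem_coe, Subgroup.coe_mul_of_right_le_normalizer_left _ _ hCn] at hmem
  obtain ⟨c, hc, w, hw, rfl⟩ := Set.mem_mul.mp hmem
  have hcZ : c ∈ Z := by
    have hVT : V ≤ (T : Subgroup H) :=
      (CfsgLib.CharP.le_pCore inferInstance (CfsgLib.CharP.isPGroup_of_exponent hV)).trans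
        (CfsgLib.CharP.pCore_le_sylow T)
    exact CfsgLib.LocalCharP.mem_omegaOne_inf_centralizer.mpr
      ⟨hVT hc.1, Subgroup.centralizer_le (fun _ _ => trivial) hc.2, hV.2 c hc.1⟩
  have hwZ : w ∈ Z := by
    have := mul_mem (inv_mem hcZ) hz
    simpa using this
  have hcg : c * g = g * c := (Subgroup.mem_centralizer_iff.mp hc.2 g trivial).symm
  have hwg : w * g = g * w := Subgroup.mem_centralizer_iff.mp hg w ⟨hw, hwZ⟩
  calc c * w * g = c * (w * g) := by group
    _ = (c * g) * w := by rw [hwg]; group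
    _ = g * (c * w) := by rw [hcg]; group

end Cfsg.Agent.S2826
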