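import Cfsg.Statements.S2827
import Cfsg.Agent.LocalCharP.SylowCenter
import Cfsg.Agent.LocalCharP.WeaklyClosed
import Mathlib.Tactic.Group

set_option autoImplicit false
open Cfsg
open scoped commutatorElement

namespace Cfsg.Agent.S2827

/-- Let H be a finite p-irreducible group (not p-closed, and O^p(H) lies in every normal subgroup that is not p-closed) and T a Sylow p-subgroup. Then H is generated by the conjugates of T and H = H'·T; O^p(H) ≤ H'; and for every normal subgroup Y of T not contained in O_p(H), O^p(H) = [O^p(H), Y] and O^p(H) is contained in the normal closure of Y in H. -/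
theorem result {H : Type*} [Group H] [Finite H] {p : ℕ} [Fact p.Prime] (hH : Cfsg.IsPIrreducible p H) (T : Sylow p H) : Subgroup.normalClosure ((T : Subgroup H) : Set H) = ⊤ ∧ commutator H ⊔ (T : Subgroup H) = ⊤ ∧ Cfsg.pResidual p H ≤ commutator H ∧ ∀ Y : Subgroup H, Y ≤ (T : Subgroup H) → (T : Subgroup H) ≤ Subgroup.normalizer (Y : Set H) → ¬ Y ≤ Cfsg.pCore p H → ⁅Cfsg.pResidual p H, Y⁆ = Cfsg.pResidual p H ∧ Cfsg.pResidual p H ≤ Subgroup.normalClosure (Y : Set H) := by
  set R := Cfsg.pResidual p H with hR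
  have hRT : R ⊔ (T : Subgroup H) = ⊤ := CfsgLib.LocalCharP.pResidual_sup_sylow T
  have hT1 : Subgroup.normalClosure ((T : Subgroup H) : Set H) = ⊤ := by
    set N := Subgroup.normalClosure ((T : Subgroup H) : Set H) with hN
    have hTN : (T : Subgroup H) ≤ N := fun x hx => Subgroup.subset_normalClosure hx
    have hnc : ¬ Cfsg.IsPClosed p ↥N := fun hc => hH.1 (CfsgLib.LocalCharP.isPClosed_of_sylow_le T
      (CfsgLib.LocalCharP.le_pCore_of_isPClosed_subnormal Subgroup.normalClosure_normal.isSubnormal hc hTN T.2))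
    exact top_le_iff.mp (hRT ▸ sup_le (hH.2 N Subgroup.normalClosure_normal hnc) hTN)
  have hT2 : commutator H ⊔ (T : Subgroup H) = ⊤ := by
    have hn : (commutator H ⊔ (T : Subgroup H)).Normal := ⟨fun x hx g => by
      have h1 : ⁅g, x⁆ ∈ commutator H := by
        rw [commutator_def]
        exact Subgroup.commutator_mem_commutator (Subgroup.mem_top g) (Subgroup.mem_top x)
      have h2 : g * x * g⁻¹ = ⁅g, x⁆ * x := by simp [commutatorElement_def, mul_assoc]
      rw [h2]
      exact mul_mem (Subgroup.mem_sup_left h1) hx⟩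
    exact top_le_iff.mp (hT1 ▸ Subgroup.normalClosure_le_normal (fun x hx => Subgroup.mem_sup_right hx))
  refine ⟨hT1, hT2, CfsgLib.LocalCharP.pResidual_le_of_isPGroup_quotient
    (CfsgLib.LocalCharP.isPGroup_quotient_of_sup_eq_top T.2 hT2), fun Y hYT hTY hYO => ?_⟩
  set N := Subgroup.normalClosure (Y : Set H) with hN
  have hYN : Y ≤ N := fun x hx => Subgroup.subset_normalClosure hx
  have hYp : IsPGroup p ↥Y := T.2.to_le hYT
  have hRN : R ≤ N := hH.2 N Subgroup.normalClosure_normal fun hc => hYO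
    (CfsgLib.LocalCharP.le_pCore_of_isPClosed_subnormal Subgroup.normalClosure_normal.isSubnormal hc hYN hYp)
  refine ⟨le_antisymm ?_ ?_, hRN⟩
  · rw [Subgroup.commutator_le]
    intro r hr y hy
    have hn : R.Normal := inferInstance
    have := mul_mem hr (hn.conj_mem r⁻¹ (inv_mem hr) y)
    simpa [commutatorElement_def, mul_assoc] using this
  set K := ⁅R, Y⁆ with hK
  have hRK : ∀ r ∈ R, ∀ k ∈ K, r * k * r⁻¹ ∈ K := by
    intro r hr k hk
    have hle : K ≤ K.comap (MulAut.conj r).toMonoidHom := by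
      rw [hK, Subgroup.commutator_le]
      intro r' hr' y hy
      rw [Subgroup.mem_comap]
      have e : (MulAut.conj r).toMonoidHom ⁅r', y⁆ = ⁅r * r', y⁆ * ⁅r, y⁆⁻¹ := by
        simp [commutatorElement_def, mul_assoc]
      rw [e]
      exact mul_mem (Subgroup.commutator_mem_commutator (mul_mem hr hr') hy)
        (inv_mem (Subgroup.commutator_mem_commutator hr hy))
    exact hle hk
  have htop : ∀ X : Subgroup H, R ≤ X → (T : Subgroup H) ≤ X → X = ⊤ := fun X h1 h2 =>
    top_le_iff.mp (hRT ▸ sup_le h1 h2)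
  have hTR : (T : Subgroup H) ≤ Subgroup.normalizer (R : Set H) := Subgroup.le_normalizer_of_normal
  have hKn : K.Normal := Subgroup.normalizer_eq_top_iff.mp (htop _
    (CfsgLib.LocalCharP.le_normalizer_of_conj_mem hRK) (fun t ht =>
      CfsgLib.LocalCharP.map_conj_eq_self_iff.mp (by
        rw [hK, Subgroup.map_commutator, CfsgLib.LocalCharP.map_conj_eq_self_iff.mpr (hTR ht),
          CfsgLib.LocalCharP.map_conj_eq_self_iff.mpr (hTY ht)])))
  haveI := hKn
  have hYKn : (Y ⊔ K).Normal := Subgroup.normalizer_eq_top_iff.mp (htop _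
    (CfsgLib.LocalCharP.le_normalizer_of_conj_mem fun r hr x hx => by
      have hle : Y ⊔ K ≤ (Y ⊔ K).comap (MulAut.conj r).toMonoidHom := by
        refine sup_le (fun y hy => ?_) (fun k hk => Subgroup.mem_sup_right (hKn.conj_mem k hk r))
        show r * y * r⁻¹ ∈ Y ⊔ K
        have e : r * y * r⁻¹ = ⁅r, y⁆ * y := by simp [commutatorElement_def, mul_assoc]
        rw [e]
        exact mul_mem (Subgroup.mem_sup_right (Subgroup.commutator_mem_commutator hr hy))
          (Subgroup.mem_sup_left hy)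
      exact hle hx)
    (CfsgLib.LocalCharP.le_normalizer_of_conj_mem fun t ht x hx => by
      have hle : Y ⊔ K ≤ (Y ⊔ K).comap (MulAut.conj t).toMonoidHom :=
        sup_le (fun y hy => Subgroup.mem_sup_left (CfsgLib.LocalCharP.conj_mem_of_le_normalizer hTY ht hy))
          (fun k hk => Subgroup.mem_sup_right (hKn.conj_mem k hk t))
      exact hle hx))
  haveI := hYKn
  have hNYK : N ≤ Y ⊔ K := Subgroup.normalClosure_le_normal fun x hx => Subgroup.mem_sup_left hx
  refine CfsgLib.LocalCharP.pResidual_le fun x hx => ?_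
  obtain ⟨y, hy, k, hk, hyk⟩ := Subgroup.mem_sup_of_normal_right.1 (hNYK (hRN (CfsgLib.LocalCharP.mem_pResidual hx)))
  obtain ⟨m, hm⟩ := hYp ⟨y, hy⟩
  refine CfsgLib.LocalCharP.mem_of_pow_pow_mem hx (k := m) ?_
  rw [← QuotientGroup.eq_one_iff (N := K), QuotientGroup.mk_pow, ← hyk, QuotientGroup.mk_mul,
    (QuotientGroup.eq_one_iff k).mpr hk, mul_one, ← QuotientGroup.mk_pow]
  have : y ^ p ^ m = 1 := by simpa using congrArg Subtype.val hm
  rw [this, QuotientGroup.mk_one]

end Cfsg.Agent.S2827
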