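import Cfsg.Statements.S2828
import Cfsg.Agent.LocalCharP.SylowCenter
import Cfsg.Agent.LocalCharP.WeaklyClosed
import Cfsg.Agent.CharP.FrattiniElem
import Cfsg.Agent.Coprime.Stabilizer
import Mathlib.Tactic.Group

set_option autoImplicit false
open Cfsg
open scoped commutatorElement

namespace Cfsg.Agent.S2828

/-- Let H be a finite group, p a prime and D a normal p-subgroup of H. Then H is p-irreducible if and only if H/D is p-irreducible, and H is strongly p-irreducible if and only if H/D is strongly p-irreducible. -/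
theorem result {H : Type*} [Group H] [Finite H] {p : ℕ} [Fact p.Prime] (D : Subgroup H) [D.Normal] (hD : IsPGroup p ↥D) : (Cfsg.IsPIrreducible p H ↔ Cfsg.IsPIrreducible p (H ⧸ D)) ∧ (Cfsg.IsStronglyPIrreducible p H ↔ Cfsg.IsStronglyPIrreducible p (H ⧸ D)) := by
  set f := QuotientGroup.mk' D with hf
  have hs : Function.Surjective f := QuotientGroup.mk'_surjective D
  have hker : IsPGroup p ↥f.ker := by rw [hf, QuotientGroup.ker_mk']; exact hD
  have hDO : D ≤ Cfsg.pCore p H := CfsgLib.CharP.le_pCore inferInstance hD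
  haveI := Cfsg.pCore_normal p H
  haveI := Cfsg.pCore_normal p (H ⧸ D)
  have hcore : (Cfsg.pCore p (H ⧸ D)).comap f = Cfsg.pCore p H := by
    refine le_antisymm (CfsgLib.CharP.le_pCore (Subgroup.Normal.comap inferInstance f)
      (CfsgLib.CharP.isPGroup_pCore.comap_of_ker_isPGroup f hker)) ?_
    exact Subgroup.map_le_iff_le_comap.mp (CfsgLib.CharP.le_pCore
      ((Cfsg.pCore_normal p H).map f hs) (CfsgLib.CharP.isPGroup_pCore.map f))
  have hmap : (Cfsg.pResidual p H).map f = Cfsg.pResidual p (H ⧸ D) := CfsgLib.LocalCharP.map_pResidual hs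
  -- p-closedness of a normal subgroup is unchanged by `f`
  have hcl : ∀ N : Subgroup H, N.Normal → (Cfsg.IsPClosed p ↥N ↔ Cfsg.IsPClosed p ↥(N.map f)) := by
    intro N hN
    constructor
    · intro hc
      refine CfsgLib.LocalCharP.isPClosed_of_le_pCore (hN.map f hs) fun P hPN hP => ?_
      set P' := P.comap f with hP'
      have hP'p : IsPGroup p ↥P' := hP.comap_of_ker_isPGroup f hker
      intro y hy
      obtain ⟨n, hn, rfl⟩ := hPN hy
      have hnO : n ∈ Cfsg.pCore p H := CfsgLib.LocalCharP.le_pCore_of_isPClosed_subnormal hN.isSubnormal hc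
        (P := N ⊓ P') inf_le_left (hP'p.to_le inf_le_right) ⟨hn, hy⟩
      rw [← hcore] at hnO
      exact hnO
    · intro hc
      refine CfsgLib.LocalCharP.isPClosed_of_le_pCore hN fun P hPN hP => ?_
      rw [← hcore, ← Subgroup.map_le_iff_le_comap]
      exact CfsgLib.LocalCharP.le_pCore_of_isPClosed_subnormal (hN.map f hs).isSubnormal hc
        (Subgroup.map_mono hPN) (hP.map f)
  have hclH : Cfsg.IsPClosed p H ↔ Cfsg.IsPClosed p (H ⧸ D) := by
    obtain ⟨T⟩ : Nonempty (Sylow p H) := inferInstance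
    constructor
    · intro hc
      refine CfsgLib.LocalCharP.isPClosed_of_sylow_le (T.mapSurjective hs) ?_
      rw [Sylow.coe_mapSurjective, Subgroup.map_le_iff_le_comap, hcore]
      exact CfsgLib.LocalCharP.le_pCore_of_isPClosed hc T.2
    · intro hc
      refine CfsgLib.LocalCharP.isPClosed_of_sylow_le T ?_
      rw [← hcore, ← Subgroup.map_le_iff_le_comap]
      exact CfsgLib.LocalCharP.le_pCore_of_isPClosed hc (T.2.map f)
  have hres : ∀ N : Subgroup H, N.Normal →
      (Cfsg.pResidual p H ≤ N ↔ Cfsg.pResidual p (H ⧸ D) ≤ N.map f) := by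
    intro N hN
    rw [← hmap]
    refine ⟨Subgroup.map_mono, fun h => CfsgLib.LocalCharP.pResidual_le fun x hx => ?_⟩
    haveI := hN
    obtain ⟨n, hn, hnx⟩ := h ⟨x, CfsgLib.LocalCharP.mem_pResidual hx, rfl⟩
    have hd : n⁻¹ * x ∈ D := (QuotientGroup.eq).mp hnx
    obtain ⟨k, hk⟩ := hD ⟨_, hd⟩
    refine CfsgLib.LocalCharP.mem_of_pow_pow_mem hx (k := k) ?_
    rw [← QuotientGroup.eq_one_iff (N := N), QuotientGroup.mk_pow,
      show x = n * (n⁻¹ * x) by group, QuotientGroup.mk_mul, (QuotientGroup.eq_one_iff n).mpr hn, one_mul,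
      ← QuotientGroup.mk_pow, show (n⁻¹ * x) ^ p ^ k = 1 by simpa using congrArg Subtype.val hk,
      QuotientGroup.mk_one]
  have hcom : ∀ N : Subgroup H, (⁅N, (⊤ : Subgroup H)⁆ ≤ Cfsg.pCore p H ↔
      ⁅N.map f, (⊤ : Subgroup (H ⧸ D))⁆ ≤ Cfsg.pCore p (H ⧸ D)) := by
    intro N
    rw [← Subgroup.map_top_of_surjective f hs, ← Subgroup.map_commutator, Subgroup.map_le_iff_le_comap, hcore]
  refine ⟨⟨fun h => ⟨fun hc => h.1 (hclH.mpr hc), fun N hN hNc => ?_⟩,
      fun h => ⟨fun hc => h.1 (hclH.mp hc), fun N hN hNc => (hres N hN).mpr (h.2 _ (hN.map f hs) ?_)⟩⟩,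
    ⟨fun h => ⟨fun hc => h.1 (hclH.mpr hc), fun N hN hNc => ?_⟩,
      fun h => ⟨fun hc => h.1 (hclH.mp hc), fun N hN hNc => (hres N hN).mpr (h.2 _ (hN.map f hs) ?_)⟩⟩⟩
  · have h2 := Subgroup.map_comap_eq_self_of_surjective hs N
    rw [← h2]
    refine (hres _ (hN.comap f)).mp (h.2 _ (hN.comap f) fun hc => hNc ?_)
    have h3 := (hcl _ (hN.comap f)).mp hc
    rwa [h2] at h3
  · exact fun hc => hNc ((hcl N hN).mpr hc)
  · have h2 := Subgroup.map_comap_eq_self_of_surjective hs N
    rw [← h2]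
    refine (hres _ (hN.comap f)).mp (h.2 _ (hN.comap f) fun hc => hNc ?_)
    have h3 := (hcom _).mp hc
    rwa [h2] at h3
  · exact fun hc => hNc ((hcom N).mpr hc)

end Cfsg.Agent.S2828
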