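import Cfsg.Statements.S2829
import Cfsg.Agent.LocalCharP.Residual

set_option autoImplicit false
open Cfsg
open scoped commutatorElement

namespace Cfsg.Agent.S2829

/-- Every strongly p-irreducible finite group is p-irreducible. -/
theorem result {H : Type*} [Group H] [Finite H] {p : ℕ} [Fact p.Prime] (hH : Cfsg.IsStronglyPIrreducible p H) : Cfsg.IsPIrreducible p H := by
  refine ⟨hH.1, fun N hN hNc => hH.2 N hN fun hle => hNc ?_⟩
  refine CfsgLib.LocalCharP.isPClosed_of_le_pCore hN fun P hPN hP => ?_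
  haveI := Cfsg.pCore_normal p H
  have hn : (P ⊔ Cfsg.pCore p H).Normal := by
    refine ⟨fun x hx g => ?_⟩
    have hle2 : (P ⊔ Cfsg.pCore p H) ≤ (P ⊔ Cfsg.pCore p H).comap (MulAut.conj g).toMonoidHom := by
      refine sup_le (fun y hy => ?_) (fun y hy => ?_)
      · have h1 : ⁅y, g⁆ ∈ Cfsg.pCore p H :=
          hle (Subgroup.commutator_mem_commutator (hPN hy) (Subgroup.mem_top g))
        have h2 : g * y * g⁻¹ = ⁅y, g⁆⁻¹ * y := by simp [commutatorElement_def, mul_assoc]
        show g * y * g⁻¹ ∈ P ⊔ Cfsg.pCore p H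
        rw [h2]
        exact mul_mem (Subgroup.mem_sup_right (inv_mem h1)) (Subgroup.mem_sup_left hy)
      · exact Subgroup.mem_sup_right ((Cfsg.pCore_normal p H).conj_mem y hy g)
    exact hle2 hx
  exact le_sup_left.trans (CfsgLib.CharP.le_pCore hn
    (hP.to_sup_of_normal_right CfsgLib.CharP.isPGroup_pCore))

end Cfsg.Agent.S2829
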