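import Cfsg.Statements.S2830
import Cfsg.Agent.LocalCharP.SylowCenter
import Cfsg.Agent.LocalCharP.WeaklyClosed
import Mathlib.Tactic.Group

set_option autoImplicit false
open Cfsg
open scoped commutatorElement

namespace Cfsg.Agent.S2830

/-- Let H act by conjugation on the elementary abelian p-subgroup V of a finite group G (H ≤ N(V)), with H p-irreducible and O^p(H) not centralizing V. Then C_H(V) is p-closed and C_T(V) ≤ O_p(H) for every p-subgroup T of H. If in addition O_p(H) centralizes V, then C_T(V) = T ∩ O_p(H) for every p-subgroup T of H, and V is p-reduced for H: O_p(H/C_H(V)) = 1. -/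
theorem result {G : Type*} [Group G] [Finite G] {p : ℕ} [Fact p.Prime] (V H : Subgroup G) (hV : Cfsg.IsElementaryAbelian p V) (hHV : H ≤ Subgroup.normalizer (V : Set G)) (hH : Cfsg.IsPIrreducible p ↥H) (hnc : ¬ (Cfsg.pResidual p ↥H).map H.subtype ≤ Subgroup.centralizer (V : Set G)) [hn : ((Subgroup.centralizer (V : Set G)).subgroupOf H).Normal] : Cfsg.IsPClosed p ↥(H ⊓ Subgroup.centralizer (V : Set G)) ∧ (∀ T : Subgroup G, T ≤ H → IsPGroup p ↥T → T ⊓ Subgroup.centralizer (V : Set G) ≤ Cfsg.pCoreOf p H) ∧ (Cfsg.pCoreOf p H ≤ Subgroup.centralizer (V : Set G) → (∀ T : Subgroup G, T ≤ H → IsPGroup p ↥T → T ⊓ Subgroup.centralizer (V : Set G) = T ⊓ Cfsg.pCoreOf p H) ∧ Cfsg.pCore p (↥H ⧸ (Subgroup.centralizer (V : Set G)).subgroupOf H) = ⊥) := by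
  set C' := (Subgroup.centralizer (V : Set G)).subgroupOf H with hC'
  have hRC : ¬ Cfsg.pResidual p ↥H ≤ C' := fun h => hnc (fun x hx => by
    obtain ⟨y, hy, rfl⟩ := hx
    exact h hy)
  have hCc : Cfsg.IsPClosed p ↥C' := CfsgLib.LocalCharP.isPClosed_of_not_le hH hn hRC
  have h1 : Cfsg.IsPClosed p ↥(H ⊓ Subgroup.centralizer (V : Set G)) := by
    intro P
    set e : ↥C' ≃* ↥(H ⊓ Subgroup.centralizer (V : Set G)) :=
      { toFun := fun x => ⟨((x : ↥H) : G), (x : ↥H).2, x.2⟩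
        invFun := fun y => ⟨⟨(y : G), y.2.1⟩, y.2.2⟩
        left_inv := fun _ => rfl
        right_inv := fun _ => rfl
        map_mul' := fun _ _ => rfl }
    set P' := P.comapOfInjective e.toMonoidHom e.injective
      (fun x _ => ⟨e.symm x, e.apply_symm_apply x⟩)
    have hn' := (hCc P').map e.toMonoidHom e.surjective
    have he : ((P' : Subgroup ↥C')).map e.toMonoidHom = (P : Subgroup _) := by
      rw [show (P' : Subgroup ↥C') = (P : Subgroup _).comap e.toMonoidHom from rfl]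
      exact Subgroup.map_comap_eq_self_of_surjective e.surjective _
    rwa [he] at hn'
  have h2 : ∀ T : Subgroup G, T ≤ H → IsPGroup p ↥T →
      T ⊓ Subgroup.centralizer (V : Set G) ≤ Cfsg.pCoreOf p H := by
    intro T hTH hTp x hx
    refine ⟨⟨x, hTH hx.1⟩, ?_, rfl⟩
    exact CfsgLib.LocalCharP.le_pCore_of_isPClosed_subnormal hn.isSubnormal hCc
      (P := (T ⊓ Subgroup.centralizer (V : Set G)).subgroupOf H) (fun y hy => hy.2)
      ((hTp.to_le inf_le_left).comap_of_injective _ H.subtype_injective) hx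
  refine ⟨h1, h2, fun hO => ⟨fun T hTH hTp => le_antisymm (le_inf inf_le_left (h2 T hTH hTp))
    (le_inf inf_le_left (inf_le_right.trans hO)), ?_⟩⟩
  set N := (Cfsg.pCore p (↥H ⧸ C')).comap (QuotientGroup.mk' C') with hN
  haveI := Cfsg.pCore_normal p (↥H ⧸ C')
  have hNn : N.Normal := Subgroup.Normal.comap inferInstance _
  have hpow : ∀ d ∈ N, ∃ k : ℕ, d ^ p ^ k ∈ C' := by
    intro d hd
    obtain ⟨k, hk⟩ := CfsgLib.CharP.isPGroup_pCore (p := p) (G := ↥H ⧸ C') ⟨_, hd⟩
    exact ⟨k, (QuotientGroup.eq_one_iff _).1 (by simpa using congrArg Subtype.val hk)⟩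
  have hNc : Cfsg.IsPClosed p ↥N := CfsgLib.LocalCharP.isPClosed_of_not_le hH hNn fun hle => hRC
    (CfsgLib.LocalCharP.pResidual_le fun x hx => by
      obtain ⟨k, hk⟩ := hpow x (hle (CfsgLib.LocalCharP.mem_pResidual hx))
      exact CfsgLib.LocalCharP.mem_of_pow_pow_mem hx hk)
  have hCN : C' ≤ N := fun c hc => by
    rw [hN, Subgroup.mem_comap, QuotientGroup.mk'_apply, (QuotientGroup.eq_one_iff _).2 hc]
    exact one_mem _
  obtain ⟨T⟩ : Nonempty (Sylow p ↥H) := inferInstance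
  have hNC : N ≤ C' := fun d hd => by
    obtain ⟨c, hc, t, ht, rfl⟩ := CfsgLib.CharP.exists_mul_of_pGroup_mod T hn hNn hCN hpow d hd
    refine mul_mem hc ?_
    exact hO ⟨t, CfsgLib.LocalCharP.le_pCore_of_isPClosed_subnormal hNn.isSubnormal hNc
      (P := (T : Subgroup ↥H) ⊓ N) inf_le_right (T.2.to_le inf_le_left) ht, rfl⟩
  rw [eq_bot_iff]
  intro x hx
  obtain ⟨d, rfl⟩ := QuotientGroup.mk'_surjective C' x
  rw [Subgroup.mem_bot, QuotientGroup.mk'_apply]
  exact (QuotientGroup.eq_one_iff _).2 (hNC hx)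

end Cfsg.Agent.S2830
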