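import Cfsg.Statements.S2831
import Cfsg.Agent.LocalCharP.Residual

set_option autoImplicit false
open Cfsg
open scoped commutatorElement

namespace Cfsg.Agent.S2831

/-- Let H be a finite group with Sylow p-subgroup T such that H is T-minimal (H is generated by the conjugates of T and T lies in exactly one maximal subgroup of H). Then H is p-irreducible: H is not p-closed and O^p(H) lies in every normal subgroup of H that is not p-closed. -/
theorem result {H : Type*} [Group H] [Finite H] {p : ℕ} [Fact p.Prime] (T : Sylow p H) (hmin : Cfsg.IsMinimalOver (T : Subgroup H)) : Cfsg.IsPIrreducible p H := by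
  obtain ⟨hnc, M, ⟨hM, hTM⟩, huniq⟩ := hmin
  have hle : ∀ X : Subgroup H, (T : Subgroup H) ≤ X → X ≠ ⊤ → X ≤ M := fun X hX hne => by
    obtain ⟨K, hK, hXK⟩ := (eq_top_or_exists_le_coatom X).resolve_left hne
    exact (huniq K ⟨hK, hX.trans hXK⟩) ▸ hXK
  refine ⟨fun hc => ?_, fun N hN hNc => ?_⟩
  · have h1 : Subgroup.normalClosure ((T : Subgroup H) : Set H) ≤ (T : Subgroup H) := by
      haveI := hc T
      exact Subgroup.normalClosure_le_normal subset_rfl
    rw [hnc] at h1
    exact hM.1 (top_le_iff.mp (h1.trans hTM))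
  · haveI := hN
    obtain ⟨P, hP⟩ := CfsgLib.LocalCharP.exists_sylow_inf T hN
    have hfr := Sylow.normalizer_sup_eq_top P
    rw [hP] at hfr
    have hne : Subgroup.normalizer (((T : Subgroup H) ⊓ N : Subgroup H) : Set H) ≠ ⊤ := fun h =>
      hNc (CfsgLib.LocalCharP.isPClosed_of_normal_sylow_inf T hN (Subgroup.normalizer_eq_top_iff.mp h))
    have hTn : (T : Subgroup H) ≤ Subgroup.normalizer (((T : Subgroup H) ⊓ N : Subgroup H) : Set H) := by
      intro t ht
      rw [Subgroup.mem_normalizer_iff]
      intro x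
      have e1 : x ∈ (T : Subgroup H) ↔ t * x * t⁻¹ ∈ (T : Subgroup H) := by
        rw [Subgroup.mul_mem_cancel_right _ (inv_mem ht), Subgroup.mul_mem_cancel_left _ ht]
      have e2 : x ∈ N ↔ t * x * t⁻¹ ∈ N :=
        ⟨fun h => hN.conj_mem x h t, fun h => by simpa [mul_assoc] using hN.conj_mem _ h t⁻¹⟩
      exact and_congr e1 e2
    have hNT : N ⊔ (T : Subgroup H) = ⊤ := by
      by_contra h
      refine hM.1 (top_le_iff.mp (hfr ▸ sup_le (hle _ hTn hne) ?_))
      exact le_sup_left.trans (hle _ le_sup_right h)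
    exact CfsgLib.LocalCharP.pResidual_le_of_isPGroup_quotient
      (CfsgLib.LocalCharP.isPGroup_quotient_of_sup_eq_top T.2 hNT)

end Cfsg.Agent.S2831
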