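import Cfsg.Statements.S2832
import Cfsg.Agent.LocalCharP.Residual

set_option autoImplicit false
open Cfsg
open scoped commutatorElement

namespace Cfsg.Agent.S2832

/-- Let H be a finite group with Sylow p-subgroup T such that H is T-minimal (generated by the conjugates of T, with T in exactly one maximal subgroup), and let N be a normal subgroup of H. Then either H/N is a p-group or H/N is minimal over the image of T in the same sense. -/
theorem result {H : Type*} [Group H] [Finite H] {p : ℕ} [Fact p.Prime] (T : Sylow p H) (hmin : Cfsg.IsMinimalOver (T : Subgroup H)) (N : Subgroup H) [N.Normal] : IsPGroup p (H ⧸ N) ∨ Cfsg.IsMinimalOver ((T : Subgroup H).map (QuotientGroup.mk' N)) := by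
  set f := QuotientGroup.mk' N with hf
  have hs : Function.Surjective f := QuotientGroup.mk'_surjective N
  by_cases htop : (T : Subgroup H).map f = ⊤
  · left
    have h := T.2.map f
    rw [htop] at h
    exact h.of_equiv Subgroup.topEquiv
  right
  obtain ⟨hnc, M, ⟨hM, hTM⟩, huniq⟩ := hmin
  refine ⟨?_, ?_⟩
  · rw [eq_top_iff]
    have h1 : Subgroup.normalClosure ((T : Subgroup H) : Set H) ≤
        (Subgroup.normalClosure (((T : Subgroup H).map f : Subgroup _) : Set (H ⧸ N))).comap f := by
      refine Subgroup.normalClosure_le_normal fun x hx => ?_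
      exact Subgroup.subset_normalClosure ⟨x, hx, rfl⟩
    rw [hnc] at h1
    intro y _
    obtain ⟨x, rfl⟩ := hs y
    exact h1 (Subgroup.mem_top x)
  · obtain ⟨M', hM', hTM'⟩ := (eq_top_or_exists_le_coatom ((T : Subgroup H).map f)).resolve_left htop
    have key : ∀ K : Subgroup (H ⧸ N), IsCoatom K → (T : Subgroup H).map f ≤ K → K.comap f = M := by
      intro K hK hTK
      refine huniq _ ⟨?_, Subgroup.map_le_iff_le_comap.mp hTK⟩
      refine ⟨fun h => hK.1 ?_, fun L hL => ?_⟩
      · rw [← Subgroup.map_comap_eq_self_of_surjective hs K, h, Subgroup.map_top_of_surjective f hs]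
      · have hker : f.ker ≤ L := le_trans (fun x hx => by
          rw [Subgroup.mem_comap, MonoidHom.mem_ker.mp hx]; exact one_mem K) hL.le
        have hlt : K < L.map f := by
          refine lt_of_le_not_ge ?_ fun h => hL.not_ge (Subgroup.map_le_iff_le_comap.mp h)
          rw [← Subgroup.map_comap_eq_self_of_surjective hs K]
          exact Subgroup.map_mono hL.le
        rw [← Subgroup.comap_map_eq_self hker, hK.2 _ hlt, Subgroup.comap_top]
    refine ⟨M', ⟨hM', hTM'⟩, fun K hK => ?_⟩
    exact Subgroup.comap_injective hs ((key K hK.1 hK.2).trans (key M' hM' hTM').symm)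

end Cfsg.Agent.S2832
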