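import Cfsg.Statements.S2833
import Mathlib.Tactic.Group
import Mathlib.GroupTheory.Commutator.Basic

set_option autoImplicit false
open Cfsg
open scoped commutatorElement

namespace Cfsg.Agent.S2833

/-- Let V be a subgroup of a finite group G normalized by the subgroup L, let X ≤ L and g ∈ L with [V, X, X] = 1 and L generated by X and gXg⁻¹. Put W = [V, L]. Then W = [V, X]·[V, gXg⁻¹], C_W(X) = [V, X], and C_W(L) = [V, X] ∩ [V, gXg⁻¹]. -/
theorem result {G : Type*} [Group G] [Finite G] (V L : Subgroup G) (hLV : L ≤ Subgroup.normalizer (V : Set G)) (X : Subgroup G) (hX : X ≤ L) (g : G) (hg : g ∈ L) (hq : ⁅⁅V, X⁆, X⁆ = ⊥) (hgen : X ⊔ X.map (MulAut.conj g).toMonoidHom = L) (W : Subgroup G) (hW : W = ⁅V, L⁆) : ⁅V, X⁆ ⊔ ⁅V, X.map (MulAut.conj g).toMonoidHom⁆ = W ∧ W ⊓ Subgroup.centralizer (X : Set G) = ⁅V, X⁆ ∧ W ⊓ Subgroup.centralizer (L : Set G) = ⁅V, X⁆ ⊓ ⁅V, X.map (MulAut.conj g).toMonoidHom⁆ := by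
  set Y := X.map (MulAut.conj g).toMonoidHom with hY
  have hYL : Y ≤ L := hgen ▸ le_sup_right
  have hconj : ∀ l ∈ L, ∀ v ∈ V, l * v * l⁻¹ ∈ V := fun l hl v hv =>
    (Subgroup.mem_normalizer_iff.mp (hLV hl) v).mp hv
  have hcV : ∀ Z : Subgroup G, Z ≤ L → ⁅V, Z⁆ ≤ V := by
    intro Z hZ
    rw [Subgroup.commutator_le]
    intro v hv z hz
    have := V.mul_mem hv (hconj z (hZ hz) v⁻¹ (V.inv_mem hv))
    simpa [commutatorElement_def, mul_assoc] using this
  have hVV : V.map (MulAut.conj g).toMonoidHom = V := by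
    ext x
    constructor
    · rintro ⟨v, hv, rfl⟩; exact hconj g hg v hv
    · intro hx
      refine ⟨g⁻¹ * x * g, ?_, by simp [mul_assoc]⟩
      simpa using hconj g⁻¹ (L.inv_mem hg) x hx
  have hmapVX : ⁅V, X⁆.map (MulAut.conj g).toMonoidHom = ⁅V, Y⁆ := by
    rw [Subgroup.map_commutator, hVV]
  have hq' : ⁅⁅V, Y⁆, Y⁆ = ⊥ := by
    rw [← hmapVX, hY, ← Subgroup.map_commutator, hq, Subgroup.map_bot]
  have hcent : ∀ Z : Subgroup G, ⁅⁅V, Z⁆, Z⁆ = ⊥ → ∀ c ∈ ⁅V, Z⁆, ∀ x ∈ Z, c * x = x * c := by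
    intro Z hZ c hc x hx
    exact (Subgroup.mem_centralizer_iff.mp
      (Subgroup.commutator_eq_bot_iff_le_centralizer.mp hZ hc) x hx).symm
  set J := ⁅V, X⁆ ⊔ ⁅V, Y⁆ with hJ
  have hinv : ∀ Z Z' : Subgroup G, Z ≤ L → Z' ≤ L → ⁅⁅V, Z⁆, Z⁆ = ⊥ →
      ∀ x ∈ Z, ∀ c ∈ ⁅V, Z⁆ ⊔ ⁅V, Z'⁆, x * c * x⁻¹ ∈ ⁅V, Z⁆ ⊔ ⁅V, Z'⁆ := by
    intro Z Z' hZ hZ' h x hx c hc
    have hle : (⁅V, Z⁆ ⊔ ⁅V, Z'⁆).map (MulAut.conj x).toMonoidHom ≤ ⁅V, Z⁆ ⊔ ⁅V, Z'⁆ := by
      rw [Subgroup.map_sup]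
      refine sup_le ?_ ?_
      · rintro _ ⟨d, hd, rfl⟩
        have : x * d * x⁻¹ = d := by rw [← hcent Z h d hd x hx]; group
        simpa [this] using Subgroup.mem_sup_left hd
      · rintro _ ⟨d, hd, rfl⟩
        have h1 : ⁅d, x⁆ ∈ ⁅V, Z⁆ := Subgroup.commutator_mem_commutator (hcV Z' hZ' hd) hx
        have h2 : x * d * x⁻¹ = ⁅d, x⁆⁻¹ * d := by simp [commutatorElement_def, mul_assoc]
        simpa [h2] using mul_mem (Subgroup.mem_sup_left (inv_mem h1)) (Subgroup.mem_sup_right hd)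
    exact hle ⟨c, hc, rfl⟩
  have hXJ : ∀ x ∈ X, ∀ c ∈ J, x * c * x⁻¹ ∈ J := hinv X Y hX hYL hq
  have hYJ : ∀ x ∈ Y, ∀ c ∈ J, x * c * x⁻¹ ∈ J := by
    intro x hx c hc
    rw [hJ, sup_comm] at hc ⊢
    exact hinv Y X hYL hX hq' x hx c hc
  have hLJ : L ≤ Subgroup.normalizer (J : Set G) := by
    rw [← hgen]
    refine sup_le (fun x hx => Subgroup.mem_normalizer_iff.mpr fun c => ⟨hXJ x hx c, fun h => ?_⟩)
      (fun x hx => Subgroup.mem_normalizer_iff.mpr fun c => ⟨hYJ x hx c, fun h => ?_⟩)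
    · simpa [mul_assoc] using hXJ x⁻¹ (X.inv_mem hx) _ h
    · simpa [mul_assoc] using hYJ x⁻¹ (Y.inv_mem hx) _ h
  have hclL : Subgroup.closure ((X : Set G) ∪ (Y : Set G)) = L := by
    rw [← Subgroup.sup_eq_closure, hgen]
  have hmem : ∀ l ∈ L, ∀ v ∈ V, ⁅v, l⁆ ∈ J := by
    intro l hl
    rw [← hclL] at hl
    induction hl using Subgroup.closure_induction with
    | mem x hx =>
      intro v hv
      rcases hx with h | h
      · exact Subgroup.mem_sup_left (Subgroup.commutator_mem_commutator hv h)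
      · exact Subgroup.mem_sup_right (Subgroup.commutator_mem_commutator hv h)
    | one => intro v hv; simp
    | mul a b ha hb iha ihb =>
      intro v hv
      have e : ⁅v, a * b⁆ = ⁅v, a⁆ * (a * ⁅v, b⁆ * a⁻¹) := by
        simp [commutatorElement_def, mul_assoc]
      rw [e]
      exact mul_mem (iha v hv)
        ((Subgroup.mem_normalizer_iff.mp (hLJ (hclL ▸ ha)) _).mp (ihb v hv))
    | inv a ha iha =>
      intro v hv
      have e : ⁅v, a⁻¹⁆ = a⁻¹ * ⁅v, a⁆⁻¹ * (a⁻¹)⁻¹ := by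
        simp [commutatorElement_def, mul_assoc]
      rw [e]
      exact (Subgroup.mem_normalizer_iff.mp (hLJ (inv_mem (hclL ▸ ha))) _).mp (inv_mem (iha v hv))
  have hWJ : J = W := by
    subst hW
    refine le_antisymm (sup_le (Subgroup.commutator_mono le_rfl hX)
      (Subgroup.commutator_mono le_rfl hYL)) ?_
    rw [Subgroup.commutator_le]
    exact fun v hv l hl => hmem l hl v hv
  have hnorm : ⁅V, Y⁆ ≤ Subgroup.normalizer ((⁅V, X⁆ : Subgroup G) : Set G) := by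
    have h0 : ∀ v ∈ V, ∀ c ∈ ⁅V, X⁆, v * c * v⁻¹ ∈ ⁅V, X⁆ := by
      intro v hv c hc
      have hle : ⁅V, X⁆ ≤ (⁅V, X⁆).comap (MulAut.conj v).toMonoidHom := by
        rw [Subgroup.commutator_le]
        intro w hw x hx
        rw [Subgroup.mem_comap]
        have e : (MulAut.conj v).toMonoidHom ⁅w, x⁆ = ⁅v * w, x⁆ * ⁅v, x⁆⁻¹ := by
          simp [commutatorElement_def, mul_assoc]
        rw [e]
        exact mul_mem (Subgroup.commutator_mem_commutator (mul_mem hv hw) hx)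
          (inv_mem (Subgroup.commutator_mem_commutator hv hx))
      exact hle hc
    intro a ha
    have haV := hcV Y hYL ha
    exact Subgroup.mem_normalizer_iff.mpr fun c => ⟨h0 a haV c, fun h => by
      simpa [mul_assoc] using h0 a⁻¹ (inv_mem haV) _ h⟩
  have hLcent : ∀ w : G, (∀ x ∈ X, x * w = w * x) → (∀ x ∈ Y, x * w = w * x) →
      ∀ l ∈ L, l * w = w * l := by
    intro w h1 h2 l hl
    have : L ≤ Subgroup.centralizer ({w} : Set G) := by
      rw [← hgen]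
      exact sup_le (fun x hx => Subgroup.mem_centralizer_singleton_iff.mpr (h1 x hx))
        (fun x hx => Subgroup.mem_centralizer_singleton_iff.mpr (h2 x hx))
    exact Subgroup.mem_centralizer_singleton_iff.mp (this hl)
  have hCX : ∀ w ∈ W, w ∈ Subgroup.centralizer (X : Set G) → w ∈ ⁅V, X⁆ := by
    intro w hw hwc
    rw [← hWJ, hJ, ← SetLike.mem_coe,
      Subgroup.coe_mul_of_right_le_normalizer_left _ _ hnorm] at hw
    obtain ⟨a, ha, b, hb, rfl⟩ := Set.mem_mul.mp hw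
    have haC : a ∈ Subgroup.centralizer (X : Set G) :=
      Subgroup.commutator_eq_bot_iff_le_centralizer.mp hq ha
    have hbX : b ∈ Subgroup.centralizer (X : Set G) := by
      simpa using mul_mem (inv_mem haC) hwc
    have hgb : g * b = b * g := hLcent b (Subgroup.mem_centralizer_iff.mp hbX)
      (fun x hx => (hcent Y hq' b hb x hx).symm) g hg
    obtain ⟨b', hb', hbb'⟩ : b ∈ ⁅V, X⁆.map (MulAut.conj g).toMonoidHom := hmapVX.symm ▸ hb
    have hbb2 : b' = b := by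
      have h1 : g * b' * g⁻¹ = b := hbb'
      calc b' = g⁻¹ * (g * b' * g⁻¹) * g := by group
        _ = g⁻¹ * (b * g) := by rw [h1]; group
        _ = b := by rw [← hgb]; group
    exact mul_mem ha (hbb2 ▸ hb')
  refine ⟨hWJ, le_antisymm (fun w hw => hCX w hw.1 hw.2) (le_inf (hWJ ▸ le_sup_left)
    (Subgroup.commutator_eq_bot_iff_le_centralizer.mp hq)), le_antisymm ?_ ?_⟩
  · rintro w ⟨hw, hwc⟩
    have hwX := hCX w hw (Subgroup.centralizer_le (by exact_mod_cast hX) hwc)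
    refine ⟨hwX, hmapVX ▸ ⟨w, hwX, ?_⟩⟩
    have := Subgroup.mem_centralizer_iff.mp hwc g hg
    show g * w * g⁻¹ = w
    rw [this]; group
  · rintro w ⟨hwX, hwY⟩
    exact ⟨hWJ ▸ Subgroup.mem_sup_left hwX, Subgroup.mem_centralizer_iff.mpr
      (hLcent w (fun x hx => (hcent X hq w hwX x hx).symm) (fun x hx => (hcent Y hq' w hwY x hx).symm))⟩

end Cfsg.Agent.S2833
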