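import Cfsg.Statements.S2835
import Cfsg.Agent.LocalCharP.Residual
import Mathlib.GroupTheory.Nilpotent

set_option autoImplicit false
open Cfsg
open scoped commutatorElement

namespace Cfsg.Agent.S2835

/-- Let L be a finite group, L₀ a maximal subgroup, T a Sylow p-subgroup of L₀ and Y ≤ T, and suppose L is Y-minimal (generated by the conjugates of Y, with Y in exactly one maximal subgroup, necessarily L₀). Then N_L(T) ≤ L₀, O_p(L) ≤ L₀ and T is a Sylow p-subgroup of L; N_L(L₀) = L₀; L = ⟨Y, gYg⁻¹⟩ for each g ∈ L outside L₀; and if Y is abelian then Y ∩ gYg⁻¹ = C_Y(L) for each such g. -/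
theorem result {L : Type*} [Group L] [Finite L] {p : ℕ} [Fact p.Prime] (L₀ : Subgroup L) (hL₀ : IsCoatom L₀) (T : Sylow p ↥L₀) (Y : Subgroup L) (hYT : Y ≤ (T : Subgroup ↥L₀).map L₀.subtype) (hmin : Cfsg.IsMinimalOver Y) : Subgroup.normalizer (((T : Subgroup ↥L₀).map L₀.subtype : Subgroup L) : Set L) ≤ L₀ ∧ Cfsg.pCore p L ≤ L₀ ∧ (∃ P : Sylow p L, (P : Subgroup L) = (T : Subgroup ↥L₀).map L₀.subtype) ∧ Subgroup.normalizer (L₀ : Set L) = L₀ ∧ (∀ g : L, g ∉ L₀ → Y ⊔ Y.map (MulAut.conj g).toMonoidHom = ⊤) ∧ (IsMulCommutative ↥Y → ∀ g : L, g ∉ L₀ → Y ⊓ Y.map (MulAut.conj g).toMonoidHom = Y ⊓ Subgroup.center L) := by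
  obtain ⟨hnc, M, ⟨hM, hYM⟩, huniq⟩ := hmin
  set T' := (T : Subgroup ↥L₀).map L₀.subtype with hT'
  have hT'L : T' ≤ L₀ := Subgroup.map_subtype_le _
  have hT'p : IsPGroup p T' := T.2.map _
  have hYL : Y ≤ L₀ := hYT.trans hT'L
  have hle : ∀ X : Subgroup L, Y ≤ X → X ≠ ⊤ → X ≤ L₀ := fun X hX hne => by
    obtain ⟨K, hK, hXK⟩ := (eq_top_or_exists_le_coatom X).resolve_left hne
    exact ((huniq K ⟨hK, hX.trans hXK⟩).trans (huniq L₀ ⟨hL₀, hYL⟩).symm) ▸ hXK
  have hnot : ∀ X : Subgroup L, X ≤ L₀ → Y ≤ X → ¬ X.Normal := fun X hX hY hn => by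
    haveI := hn
    exact hL₀.1 (top_le_iff.mp (hnc ▸ (Subgroup.normalClosure_le_normal hY).trans hX))
  have hN1 : Subgroup.normalizer (T' : Set L) ≤ L₀ :=
    hle _ (hYT.trans Subgroup.le_normalizer) fun h =>
      hnot T' hT'L hYT (Subgroup.normalizer_eq_top_iff.mp h)
  obtain ⟨P, hP⟩ := hT'p.exists_le_sylow
  have hPe : (P : Subgroup L) = T' := by
    by_contra hne
    haveI : Group.IsNilpotent ↥(P : Subgroup L) := P.2.isNilpotent
    have hlt : T'.subgroupOf (P : Subgroup L) < ⊤ := lt_top_iff_ne_top.mpr fun h =>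
      hne (le_antisymm (Subgroup.subgroupOf_eq_top.mp h) hP)
    have h2 := normalizerCondition_of_isNilpotent (G := ↥(P : Subgroup L)) _ hlt
    obtain ⟨x, hx, hxT⟩ := SetLike.exists_of_lt h2
    have hxN : (x : L) ∈ Subgroup.normalizer (T' : Set L) := by
      rw [Subgroup.mem_normalizer_iff]
      intro y
      constructor
      · intro hy
        have := (Subgroup.mem_normalizer_iff.mp hx ⟨y, hP hy⟩).mp (by simpa [Subgroup.mem_subgroupOf] using hy)
        simpa [Subgroup.mem_subgroupOf] using this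
      · intro hy
        have hyP : y ∈ (P : Subgroup L) := by
          have := mul_mem (mul_mem (inv_mem x.2) (hP hy)) x.2
          simpa [mul_assoc] using this
        have := (Subgroup.mem_normalizer_iff.mp hx ⟨y, hyP⟩).mpr (by simpa [Subgroup.mem_subgroupOf] using hy)
        simpa [Subgroup.mem_subgroupOf] using this
    have hPL0 : IsPGroup p ↥((P : Subgroup L).subgroupOf L₀) :=
      P.2.comap_of_injective _ L₀.subtype_injective
    have hTle : (T : Subgroup ↥L₀) ≤ (P : Subgroup L).subgroupOf L₀ := fun t ht => hP ⟨t, ht, rfl⟩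
    have heq := T.3 hPL0 hTle
    have hmem : (⟨x, hN1 hxN⟩ : L₀) ∈ (T : Subgroup ↥L₀) := by
      rw [← heq]; exact x.2
    exact hxT ⟨⟨x, hN1 hxN⟩, hmem, rfl⟩
  have hO : Cfsg.pCore p L ≤ L₀ := (CfsgLib.CharP.pCore_le_sylow P).trans (hPe ▸ hT'L)
  have hNL : Subgroup.normalizer (L₀ : Set L) = L₀ :=
    le_antisymm (hle _ (hYL.trans Subgroup.le_normalizer) fun h =>
      hnot L₀ le_rfl hYL (Subgroup.normalizer_eq_top_iff.mp h)) Subgroup.le_normalizer
  have hgen : ∀ g : L, g ∉ L₀ → Y ⊔ Y.map (MulAut.conj g).toMonoidHom = ⊤ := by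
    intro g hg
    by_contra hne
    have h1 : Y.map (MulAut.conj g).toMonoidHom ≤ L₀ := le_sup_right.trans (hle _ le_sup_left hne)
    have hcs : Function.Surjective (MulAut.conj g).toMonoidHom := (MulAut.conj g).surjective
    have hci : Function.Injective (MulAut.conj g).toMonoidHom := (MulAut.conj g).injective
    set Z := L₀.comap (MulAut.conj g).toMonoidHom with hZ
    have hYZ : Y ≤ Z := Subgroup.map_le_iff_le_comap.mp h1
    have hZne : Z ≠ ⊤ := fun h => hL₀.1 (by
      rw [← Subgroup.map_comap_eq_self_of_surjective hcs L₀, ← hZ, h]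
      exact Subgroup.map_top_of_surjective _ hcs)
    have hZle : Z ≤ L₀ := hle Z hYZ hZne
    have hZeq : Z = L₀ := by
      refine Subgroup.eq_of_le_of_card_ge hZle (le_of_eq ?_)
      rw [← Subgroup.card_map_of_injective (K := Z) hci]
      exact congrArg (fun X : Subgroup L => Nat.card X)
        (Subgroup.map_comap_eq_self_of_surjective hcs L₀).symm
    apply hg
    rw [← hNL, Subgroup.mem_normalizer_iff]
    intro x
    constructor
    · intro hx
      rw [← hZeq] at hx
      exact hx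
    · intro hx
      rw [← hZeq]
      exact hx
  refine ⟨hN1, hO, ⟨P, hPe⟩, hNL, hgen, fun hY g hg => ?_⟩
  have hcomm : ∀ a ∈ Y, ∀ b ∈ Y, a * b = b * a := fun a ha b hb =>
    congrArg Subtype.val (hY.is_comm.comm ⟨a, ha⟩ ⟨b, hb⟩)
  refine le_antisymm ?_ ?_
  · intro y hy
    refine ⟨hy.1, ?_⟩
    show y ∈ Subgroup.center L
    rw [Subgroup.mem_center_iff]
    have hle2 : Y ⊔ Y.map (MulAut.conj g).toMonoidHom ≤ Subgroup.centralizer ({y} : Set L) := by
      refine sup_le (fun a ha => Subgroup.mem_centralizer_singleton_iff.mpr (hcomm a ha y hy.1)) ?_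
      rintro _ ⟨a, ha, rfl⟩
      obtain ⟨b, hb, hby⟩ := hy.2
      rw [Subgroup.mem_centralizer_singleton_iff, ← hby]
      show (MulAut.conj g) a * (MulAut.conj g) b = (MulAut.conj g) b * (MulAut.conj g) a
      rw [← map_mul, ← map_mul, hcomm a ha b hb]
    rw [hgen g hg] at hle2
    intro a
    exact Subgroup.mem_centralizer_singleton_iff.mp (hle2 (Subgroup.mem_top a))
  · intro y hy
    refine ⟨hy.1, y, hy.1, ?_⟩
    show g * y * g⁻¹ = y
    rw [Subgroup.mem_center_iff.mp hy.2 g, mul_inv_cancel_right]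

end Cfsg.Agent.S2835
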