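import Cfsg.Statements.S2836
import Cfsg.Agent.S2835
import Cfsg.Agent.LocalCharP.SylowCenter
import Cfsg.Agent.LocalCharP.CharPLocal
import Mathlib.Tactic.Group

set_option autoImplicit false
open Cfsg
open scoped commutatorElement Pointwise

namespace Cfsg.Agent.S2836

/-- Let L be a finite group, L₀ a maximal subgroup, T a Sylow p-subgroup of L₀, Y ≤ T, and suppose L is Y-minimal. Let D be the intersection of the conjugates of L₀ (the core of L₀). Then D contains O_p(L) and D/O_p(L) is the Frattini subgroup of L/O_p(L), so D is p-closed; and every normal subgroup N of L contained in L₀ is p-closed with N/O_p(N) a nilpotent group of order prime to p. -/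
theorem result {L : Type*} [Group L] [Finite L] {p : ℕ} [Fact p.Prime] (L₀ : Subgroup L) (hL₀ : IsCoatom L₀) (T : Sylow p ↥L₀) (Y : Subgroup L) (hYT : Y ≤ (T : Subgroup ↥L₀).map L₀.subtype) (hmin : Cfsg.IsMinimalOver Y) : (Cfsg.pCore p L ≤ L₀.normalCore ∧ (L₀.normalCore).map (QuotientGroup.mk' (Cfsg.pCore p L)) = frattini (L ⧸ Cfsg.pCore p L) ∧ Cfsg.IsPClosed p ↥(L₀.normalCore)) ∧ ∀ (N : Subgroup L) [N.Normal], N ≤ L₀ → Cfsg.IsPClosed p ↥N ∧ Group.IsNilpotent (↥N ⧸ Cfsg.pCore p ↥N) ∧ (Nat.card (↥N ⧸ Cfsg.pCore p ↥N)).Coprime p := by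
  obtain ⟨hNT, hO, ⟨P, hP⟩, hNL0, hgen, -⟩ := Cfsg.Agent.S2835.result L₀ hL₀ T Y hYT hmin
  obtain ⟨hnc, M, ⟨hM, hYM⟩, huniq⟩ := hmin
  have hYP : Y ≤ (P : Subgroup L) := hP ▸ hYT
  have hPL0 : (P : Subgroup L) ≤ L₀ := hP ▸ Subgroup.map_subtype_le _
  have hYL : Y ≤ L₀ := hYP.trans hPL0
  have hle : ∀ X : Subgroup L, Y ≤ X → X ≠ ⊤ → X ≤ L₀ := fun X hX hne => by
    obtain ⟨K, hK, hXK⟩ := (eq_top_or_exists_le_coatom X).resolve_left hne
    exact ((huniq K ⟨hK, hX.trans hXK⟩).trans (huniq L₀ ⟨hL₀, hYL⟩).symm) ▸ hXK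
  have hfr : ∀ (N : Subgroup L), N ≤ L₀ → ∀ X : Subgroup L, Y ≤ X → X ⊔ N = ⊤ → X = ⊤ := by
    intro N hN X hX hXN
    by_contra hne
    exact hL₀.1 (top_le_iff.mp (hXN ▸ sup_le (hle X hX hne) hN))
  -- a Sylow `p`-subgroup of a normal subgroup in `L₀` is normal in `L`
  have hclosed : ∀ N : Subgroup L, N.Normal → N ≤ L₀ →
      ((P : Subgroup L) ⊓ N).Normal ∧ Cfsg.IsPClosed p ↥N := by
    intro N hN hNle
    haveI := hN
    obtain ⟨R, hR⟩ := CfsgLib.LocalCharP.exists_sylow_inf P hN
    have hfra := Sylow.normalizer_sup_eq_top R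
    rw [hR] at hfra
    have h := hfr N hNle _ (hYP.trans (CfsgLib.LocalCharP.le_normalizer_inf Subgroup.le_normalizer
      Subgroup.le_normalizer_of_normal)) hfra
    have hn := Subgroup.normalizer_eq_top_iff.mp h
    exact ⟨hn, CfsgLib.LocalCharP.isPClosed_of_normal_sylow_inf P hN hn⟩
  have hindex : ∀ Z D : Subgroup L, D.Normal → Z ⊔ D = ⊤ → Z.index = Z.relIndex D := by
    intro Z D _ hZD
    have hD : D.relIndex Z = D.index := by
      rw [← Subgroup.relIndex_top_right, ← hZD, Subgroup.relIndex_sup_right]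
    have h1 := Subgroup.relIndex_mul_index (inf_le_left : Z ⊓ D ≤ Z)
    have h2 := Subgroup.relIndex_mul_index (inf_le_right : Z ⊓ D ≤ D)
    rw [Subgroup.inf_relIndex_left, hD] at h1
    rw [Subgroup.inf_relIndex_right] at h2
    refine Nat.eq_of_mul_eq_mul_left (Nat.pos_of_ne_zero Subgroup.index_ne_zero_of_finite) (h1.trans ?_)
    rw [mul_comm, h2]
  haveI hO' := Cfsg.pCore_normal p L
  have hOD : Cfsg.pCore p L ≤ L₀.normalCore := Subgroup.normal_le_normalCore.mpr hO
  refine ⟨⟨hOD, ?_, (hclosed _ inferInstance L₀.normalCore_le).2⟩, ?_⟩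
  · set f := QuotientGroup.mk' (Cfsg.pCore p L) with hf
    have hs : Function.Surjective f := QuotientGroup.mk'_surjective _
    have hker : f.ker = Cfsg.pCore p L := QuotientGroup.ker_mk' _
    refine le_antisymm ?_ ?_
    · rw [frattini, Order.radical]
      refine le_iInf₂ fun X hX => ?_
      set Z := X.comap f with hZ
      have hOZ : Cfsg.pCore p L ≤ Z := hker ▸ Subgroup.ker_le_comap f X
      have hXe : Z.map f = X := Subgroup.map_comap_eq_self_of_surjective hs X
      rw [Subgroup.map_le_iff_le_comap, ← hZ]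
      by_contra hDZ
      have hZt : Z ≠ ⊤ := fun h => hX.1 (by rw [← hXe, h]; exact Subgroup.map_top_of_surjective f hs)
      have hsup : L₀.normalCore ⊔ Z = ⊤ := by
        by_contra hne
        have h1 : (L₀.normalCore ⊔ Z).map f = X := by
          rcases eq_or_lt_of_le (show X ≤ (L₀.normalCore ⊔ Z).map f from
            hXe.symm.le.trans (Subgroup.map_mono le_sup_right)) with h | h
          · exact h.symm
          · exfalso
            apply hne
            rw [← Subgroup.comap_map_eq_self (hker.le.trans (hOD.trans le_sup_left)), hX.2 _ h,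
              Subgroup.comap_top]
        refine hDZ ?_
        calc L₀.normalCore ≤ ((L₀.normalCore ⊔ Z).map f).comap f :=
              le_sup_left.trans (Subgroup.le_comap_map _ _)
          _ = Z := by rw [h1]
      have hidx : ¬ p ∣ Z.index := by
        intro hdvd
        obtain ⟨R, hR⟩ := CfsgLib.LocalCharP.exists_sylow_inf P (inferInstance : L₀.normalCore.Normal)
        have hPO : (P : Subgroup L) ⊓ L₀.normalCore ≤ Cfsg.pCore p L :=
          CfsgLib.CharP.le_pCore (hclosed _ inferInstance L₀.normalCore_le).1 (P.2.to_le inf_le_left)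
        refine R.not_dvd_index (hdvd.trans ?_)
        have e1 : Z.index = Z.relIndex L₀.normalCore := hindex _ _ inferInstance (by rw [sup_comm, hsup])
        have e2 : (R : Subgroup ↥L₀.normalCore) ≤ Z.subgroupOf L₀.normalCore := fun x hx =>
          hOZ (hPO (hR ▸ ⟨x, hx, rfl⟩))
        rw [e1]
        exact Subgroup.index_dvd_of_le e2
      obtain ⟨S, hS⟩ : ∃ S : Sylow p L, (S : Subgroup L) ≤ Z := by
        obtain ⟨R⟩ : Nonempty (Sylow p ↥Z) := inferInstance
        have hR : ¬ p ∣ ((R : Subgroup ↥Z).map Z.subtype).index := by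
          rw [Subgroup.index_map_subtype]
          exact Nat.Prime.not_dvd_mul Fact.out R.not_dvd_index hidx
        exact ⟨(R.2.map Z.subtype).toSylow hR, Subgroup.map_subtype_le _⟩
      obtain ⟨y, hy⟩ := MulAction.exists_smul_eq L S P
      have hYy : Y ≤ Z.map (MulAut.conj y).toMonoidHom := by
        intro z hz
        have hz' := hYP hz
        rw [← hy, Sylow.coe_subgroup_smul, Subgroup.mem_pointwise_smul_iff_inv_smul_mem] at hz'
        exact ⟨_, hS hz', by simp [mul_assoc]⟩
      have hne : Z.map (MulAut.conj y).toMonoidHom ≠ ⊤ := fun h => hZt (by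
        rw [← CfsgLib.LocalCharP.map_conj_inv_map_conj Z y, h,
          Subgroup.map_top_of_surjective _ (MulAut.conj y⁻¹).surjective])
      have hZy := hle _ hYy hne
      have hDle : L₀.normalCore ≤ Z.map (MulAut.conj y).toMonoidHom := by
        have hcoat : IsCoatom (Z.map (MulAut.conj y).toMonoidHom) := by
          refine ⟨hne, fun K hK => ?_⟩
          have h1 : Z < K.comap (MulAut.conj y).toMonoidHom := by
            refine lt_of_le_not_ge (Subgroup.map_le_iff_le_comap.mp hK.le) fun h => hK.not_ge ?_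
            rw [← Subgroup.map_comap_eq_self_of_surjective (f := (MulAut.conj y).toMonoidHom)
              (MulAut.conj y).surjective K]
            exact Subgroup.map_mono h
          have h2 : K.comap (MulAut.conj y).toMonoidHom = ⊤ := by
            have h3 : X < (K.comap (MulAut.conj y).toMonoidHom).map f := by
              refine lt_of_le_not_ge (hXe ▸ Subgroup.map_mono h1.le) fun h => h1.not_ge ?_
              exact (Subgroup.le_comap_map f _).trans (Subgroup.comap_mono h)
            rw [← Subgroup.comap_map_eq_self ((hker.le.trans hOZ).trans h1.le), hX.2 _ h3, Subgroup.comap_top]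
          rw [← Subgroup.map_comap_eq_self_of_surjective (f := (MulAut.conj y).toMonoidHom)
            (MulAut.conj y).surjective K, h2, Subgroup.map_top_of_surjective _ (MulAut.conj y).surjective]
        rcases hcoat.le_iff.mp hZy with h | h
        · exact absurd h hL₀.1
        · exact h ▸ L₀.normalCore_le
      refine hDZ fun d hd => ?_
      have h4 := hDle ((inferInstance : L₀.normalCore.Normal).conj_mem d hd y)
      obtain ⟨w, hw, hwd⟩ := h4
      have : w = d := (MulAut.conj y).injective hwd
      exact this ▸ hw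
    · have hmap : (frattini (L ⧸ Cfsg.pCore p L)).comap f ≤ L₀ := by
        have hcoat : IsCoatom (L₀.map f) := by
          refine ⟨fun h => hL₀.1 ?_, fun K hK => ?_⟩
          · rw [← Subgroup.comap_map_eq_self (hker.le.trans hO), h, Subgroup.comap_top]
          · have h1 : L₀ < K.comap f := by
              refine lt_of_le_not_ge (Subgroup.map_le_iff_le_comap.mp hK.le) fun h => hK.not_ge ?_
              rw [← Subgroup.map_comap_eq_self_of_surjective hs K]
              exact Subgroup.map_mono h
            rw [← Subgroup.map_comap_eq_self_of_surjective hs K, hL₀.2 _ h1,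
              Subgroup.map_top_of_surjective f hs]
        rw [← Subgroup.comap_map_eq_self (hker.le.trans hO)]
        exact Subgroup.comap_mono (frattini_le_coatom hcoat)
      haveI : ((frattini (L ⧸ Cfsg.pCore p L)).comap f).Normal := Subgroup.Normal.comap inferInstance f
      have hle2 := Subgroup.normal_le_normalCore.mpr hmap
      intro q hq
      obtain ⟨l, rfl⟩ := hs q
      exact ⟨l, hle2 hq, rfl⟩
  · intro N hN hNle
    obtain ⟨hPN, hcl⟩ := hclosed N hN hNle
    haveI := hPN
    obtain ⟨RP, hRP⟩ := CfsgLib.LocalCharP.exists_sylow_inf P hN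
    have hRPe : (RP : Subgroup ↥N) = Cfsg.pCore p ↥N :=
      le_antisymm (CfsgLib.LocalCharP.le_pCore_of_isPClosed hcl RP.2) (CfsgLib.CharP.pCore_le_sylow RP)
    haveI := Cfsg.pCore_normal p ↥N
    refine ⟨hcl, ?_, ?_⟩
    · refine ((Group.isNilpotent_of_finite_tfae (G := ↥N ⧸ Cfsg.pCore p ↥N)).out 0 3).mpr fun q hq R' => ?_
      haveI := hq
      have hsN : Function.Surjective (QuotientGroup.mk' (Cfsg.pCore p ↥N)) := QuotientGroup.mk'_surjective _
      obtain ⟨R, rfl⟩ := Sylow.mapSurjective_surjective hsN q R'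
      rw [Sylow.coe_mapSurjective]
      set K := (R : Subgroup ↥N).map N.subtype ⊔ ((P : Subgroup L) ⊓ N) with hK
      have hKN : K ≤ N := sup_le (Subgroup.map_subtype_le _) inf_le_right
      -- `N_L(K)` contains a Sylow `p`-subgroup of `L`
      have hfraK : Subgroup.normalizer (K : Set L) ⊔ N = ⊤ := by
        refine top_le_iff.mp (le_trans (Sylow.normalizer_sup_eq_top R).ge (sup_le_sup_right ?_ N))
        refine CfsgLib.LocalCharP.le_normalizer_of_conj_mem fun l hl x hx => ?_
        have h1 : K ≤ K.comap (MulAut.conj l).toMonoidHom := by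
          refine sup_le (fun y hy => Subgroup.mem_sup_left ((Subgroup.mem_normalizer_iff.mp hl y).mp hy))
            (fun y hy => Subgroup.mem_sup_right (hPN.conj_mem y hy l))
        exact h1 hx
      have hKnorm : ∀ x : L, (P : Subgroup L) ≤
          Subgroup.normalizer ((K.map (MulAut.conj x).toMonoidHom : Subgroup L) : Set L) →
          (K.map (MulAut.conj x).toMonoidHom).Normal := by
        intro x hx
        refine Subgroup.normalizer_eq_top_iff.mp (hfr N hNle _ (hYP.trans hx) ?_)
        have h1 := congrArg (Subgroup.map (MulAut.conj x).toMonoidHom) hfraK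
        rwa [Subgroup.map_sup, Subgroup.map_top_of_surjective _ (MulAut.conj x).surjective,
          CfsgLib.LocalCharP.map_conj_normalizer,
          CfsgLib.LocalCharP.map_conj_eq_self_iff.mpr (Subgroup.le_normalizer_of_normal (H := N) (K := ⊤)
            (Subgroup.mem_top x))] at h1
      have hidx : ¬ p ∣ (Subgroup.normalizer (K : Set L)).index := by
        intro hdvd
        refine RP.not_dvd_index (hdvd.trans ?_)
        rw [hindex _ N hN hfraK]
        refine Subgroup.index_dvd_of_le fun y hy => ?_
        have hy' : (y : L) ∈ (P : Subgroup L) ⊓ N := hRP ▸ ⟨y, hy, rfl⟩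
        exact Subgroup.le_normalizer (Subgroup.mem_sup_right hy')
      obtain ⟨R2⟩ : Nonempty (Sylow p ↥(Subgroup.normalizer (K : Set L))) := inferInstance
      have hR2 : ¬ p ∣ ((R2 : Subgroup ↥(Subgroup.normalizer (K : Set L))).map
          (Subgroup.normalizer (K : Set L)).subtype).index := by
        rw [Subgroup.index_map_subtype]
        exact Nat.Prime.not_dvd_mul Fact.out R2.not_dvd_index hidx
      obtain ⟨x, hx⟩ := MulAction.exists_smul_eq L ((R2.2.map _).toSylow hR2) P
      have hKn : K.Normal := by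
        have h2 := hKnorm x ?_
        · have h3 := h2.map (MulAut.conj x⁻¹).toMonoidHom (MulAut.conj x⁻¹).surjective
          rwa [CfsgLib.LocalCharP.map_conj_inv_map_conj] at h3
        rw [← CfsgLib.LocalCharP.map_conj_normalizer, ← hx, Sylow.coe_subgroup_smul]
        rintro z hz
        rw [Subgroup.mem_pointwise_smul_iff_inv_smul_mem] at hz
        exact ⟨_, Subgroup.map_subtype_le _ hz, by simp [mul_assoc]⟩
      have hmapeq : (R : Subgroup ↥N).map (QuotientGroup.mk' (Cfsg.pCore p ↥N)) =
          (K.subgroupOf N).map (QuotientGroup.mk' (Cfsg.pCore p ↥N)) := by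
        refine le_antisymm (Subgroup.map_mono fun y hy => Subgroup.mem_sup_left ⟨y, hy, rfl⟩) ?_
        rw [hK, Subgroup.subgroupOf_sup (Subgroup.map_subtype_le _) inf_le_right, Subgroup.map_sup,
          ← Subgroup.comap_subtype, Subgroup.comap_map_eq_self_of_injective N.subtype_injective]
        refine sup_le le_rfl (le_trans ?_ bot_le)
        rintro _ ⟨y, hy, rfl⟩
        obtain ⟨y', hy', hyy⟩ : (y : L) ∈ (RP : Subgroup ↥N).map N.subtype := hRP ▸ hy
        rw [Subgroup.mem_bot]
        refine (QuotientGroup.eq_one_iff y).mpr ?_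
        rw [← hRPe, ← N.subtype_injective hyy]
        exact hy'
      rw [hmapeq]
      exact (hKn.subgroupOf N).map _ hsN
    · rw [← Subgroup.index_eq_card, ← hRPe]
      exact ((Fact.out : p.Prime).coprime_iff_not_dvd.mpr RP.not_dvd_index).symm

end Cfsg.Agent.S2836
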