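import Cfsg.Statements.S2837
import Cfsg.Agent.S2835
import Cfsg.Agent.LocalCharP.WeaklyClosed
import Cfsg.Agent.LocalCharP.PReduced
import Cfsg.Agent.PGroup.Frattini
import Cfsg.Agent.CharP.PCore
import Mathlib.Tactic.Group

set_option autoImplicit false
open Cfsg
open scoped commutatorElement Pointwise

namespace Cfsg.Agent.S2837

/-- Let L be a finite group of characteristic p, L₀ a maximal subgroup, Y an elementary abelian p-subgroup of L₀ with L Y-minimal and O_p(L) ≤ N_L(Y). Put A = the normal closure of O_p(L) ∩ Y in L. Then for every g ∈ L outside L₀: Φ(A) = A' = [A ∩ Y, A] = [A ∩ Y, A ∩ gYg⁻¹] ≤ C_Y(L), and Y ∩ gYg⁻¹ = (A ∩ Y) ∩ (A ∩ gYg⁻¹) = C_Y(L) = C_A(L). -/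
theorem result {L : Type*} [Group L] [Finite L] {p : ℕ} [Fact p.Prime] (hchar : Subgroup.centralizer (Cfsg.pCore p L : Set L) ≤ Cfsg.pCore p L) (L₀ : Subgroup L) (hL₀ : IsCoatom L₀) (Y : Subgroup L) (hYL₀ : Y ≤ L₀) (hYel : Cfsg.IsElementaryAbelian p Y) (hmin : Cfsg.IsMinimalOver Y) (hOY : Cfsg.pCore p L ≤ Subgroup.normalizer (Y : Set L)) (A : Subgroup L) (hA : A = Subgroup.normalClosure (((Cfsg.pCore p L ⊓ Y : Subgroup L)) : Set L)) (g : L) (hg : g ∉ L₀) : (frattini ↥A).map A.subtype = ⁅A, A⁆ ∧ ⁅A, A⁆ = ⁅A ⊓ Y, A⁆ ∧ ⁅A ⊓ Y, A⁆ = ⁅A ⊓ Y, A ⊓ Y.map (MulAut.conj g).toMonoidHom⁆ ∧ ⁅A ⊓ Y, A⁆ ≤ Y ⊓ Subgroup.center L ∧ Y ⊓ Y.map (MulAut.conj g).toMonoidHom = Y ⊓ Subgroup.center L ∧ (A ⊓ Y) ⊓ (A ⊓ Y.map (MulAut.conj g).toMonoidHom) = Y ⊓ Subgroup.center L ∧ A ⊓ Subgroup.center L = Y ⊓ Subgroup.center L := by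
  have hYp : IsPGroup p ↥Y := fun y => ⟨1, Subtype.ext (by simpa using hYel.2 _ y.2)⟩
  obtain ⟨T, hYT'⟩ := (hYp.comap_subtype : IsPGroup p ↥(Y.subgroupOf L₀)).exists_le_sylow
  have hYT : Y ≤ (T : Subgroup ↥L₀).map L₀.subtype := fun y hy => ⟨⟨y, hYL₀ hy⟩, hYT' hy, rfl⟩
  obtain ⟨-, -, -, -, hgen', hint'⟩ := Cfsg.Agent.S2835.result L₀ hL₀ T Y hYT hmin
  have hint := hint' hYel.1 g hg
  have hgen := hgen' g hg
  clear hgen' hint'
  set O := Cfsg.pCore p L with hOdef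
  haveI : O.Normal := Cfsg.pCore_normal p L
  set c := (MulAut.conj g).toMonoidHom with hc
  set U := O ⊓ Y with hU
  have hAO : A ≤ O := hA ▸ Subgroup.normalClosure_le_normal (fun x hx => hx.1)
  have hUA : U ≤ A := hA ▸ Subgroup.le_normalClosure
  haveI hAn : A.Normal := hA ▸ Subgroup.normalClosure_normal
  have hAY : A ⊓ Y = U := le_antisymm (inf_le_inf_right _ hAO) (le_inf hUA inf_le_right)
  set V := A ⊓ Y.map c with hV
  have hUV : U.map c = V := by
    refine le_antisymm (le_inf ?_ (Subgroup.map_mono inf_le_right)) ?_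
    · rintro _ ⟨u, hu, rfl⟩
      exact hAn.conj_mem u (hUA hu) g
    · rintro _ ⟨hvA, y, hy, rfl⟩
      refine ⟨y, ⟨?_, hy⟩, rfl⟩
      have := (inferInstance : O.Normal).conj_mem _ (hAO hvA) g⁻¹
      simpa [hc, mul_assoc] using this
  -- `U ⊔ V` is normal
  have hcomY : ∀ x ∈ O, ∀ y ∈ Y, ⁅x, y⁆ ∈ U := by
    intro x hx y hy
    refine ⟨?_, ?_⟩
    · rw [show ⁅x, y⁆ = x * (y * x⁻¹ * y⁻¹) by group]
      exact O.mul_mem hx ((inferInstance : O.Normal).conj_mem _ (O.inv_mem hx) y)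
    · rw [commutatorElement_def]
      exact Y.mul_mem ((Subgroup.mem_normalizer_iff.mp (hOY hx) y).mp hy) (Y.inv_mem hy)
  have hcomYg : ∀ x ∈ O, ∀ y ∈ Y.map c, ⁅x, y⁆ ∈ V := by
    rintro x hx _ ⟨y, hy, rfl⟩
    rw [← hUV]
    refine ⟨⁅g⁻¹ * x * g, y⁆, hcomY _ ?_ _ hy, ?_⟩
    · simpa using (inferInstance : O.Normal).conj_mem _ hx g⁻¹
    · simp [hc, commutatorElement_def, mul_assoc]
  have hVA : V ≤ A := inf_le_left
  have hB : A = U ⊔ V := by
    refine le_antisymm ?_ (sup_le hUA hVA)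
    have key : ∀ y ∈ Y ⊔ Y.map c, y ∈ Subgroup.normalizer ((U ⊔ V : Subgroup L) : Set L) := by
      refine fun y hy => (sup_le ?_ ?_ : Y ⊔ Y.map c ≤ _) hy <;>
      · refine CfsgLib.LocalCharP.le_normalizer_of_conj_mem fun y hy x hx => ?_
        have hxO : x ∈ O := hAO (sup_le hUA hVA hx)
        rw [show y * x * y⁻¹ = ⁅x, y⁆⁻¹ * x by group]
        refine Subgroup.mul_mem _ (Subgroup.inv_mem _ ?_) hx
        first
          | exact Subgroup.mem_sup_left (hcomY _ hxO _ hy)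
          | exact Subgroup.mem_sup_right (hcomYg _ hxO _ hy)
    rw [hgen] at key
    haveI : (U ⊔ V).Normal := Subgroup.normalizer_eq_top_iff.mp (top_le_iff.mp key)
    exact hA.le.trans (Subgroup.normalClosure_le_normal (fun x hx => Subgroup.mem_sup_left hx))
  -- the subgroup of commutators is central
  set C := ⁅U, V⁆ with hC
  have hCYZ : C ≤ Y ⊓ Subgroup.center L := by
    rw [hC, ← hint, Subgroup.commutator_le]
    intro u hu v hv
    refine ⟨?_, hv.2 |> fun h => ?_⟩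
    · have := (hcomY v (hAO hv.1) u hu.2).2
      rw [← commutatorElement_inv]
      exact Y.inv_mem this
    · exact (hcomYg u hu.1 v h).2
  have hCz : C ≤ Subgroup.center L := hCYZ.trans inf_le_right
  have hsub : ∀ a : L, (∀ b ∈ U, ⁅a, b⁆ ∈ C) → (∀ b ∈ V, ⁅a, b⁆ ∈ C) → ∀ b ∈ A, ⁅a, b⁆ ∈ C := by
    intro a h1 h2 b hb
    rw [hB] at hb
    refine Subgroup.closure_induction (p := fun b _ => ⁅a, b⁆ ∈ C) ?_ ?_ ?_ ?_
      (by rwa [← Subgroup.sup_eq_closure])
    · rintro x (hx | hx)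
      exacts [h1 x hx, h2 x hx]
    · simp
    · intro x y _ _ hx hy
      rw [show ⁅a, x * y⁆ = ⁅a, x⁆ * (x * ⁅a, y⁆ * x⁻¹) by group]
      rw [Subgroup.mem_center_iff.mp (hCz hy) x, mul_inv_cancel_right]
      exact C.mul_mem hx hy
    · intro x _ hx
      rw [show ⁅a, x⁻¹⁆ = x⁻¹ * ⁅a, x⁆⁻¹ * x by group,
        Subgroup.mem_center_iff.mp (hCz (C.inv_mem hx)) x⁻¹, inv_mul_cancel_right]
      exact C.inv_mem hx
  have hYc : ∀ a ∈ Y, ∀ b ∈ Y, ⁅a, b⁆ = 1 := fun a ha b hb => by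
    rw [commutatorElement_eq_one_iff_commute]
    exact congrArg Subtype.val (hYel.1.is_comm.comm ⟨a, ha⟩ ⟨b, hb⟩)
  have hUAC : ∀ u ∈ U, ∀ b ∈ A, ⁅u, b⁆ ∈ C := fun u hu =>
    hsub u (fun b hb => by rw [hYc u hu.2 b hb.2]; exact one_mem _)
      (fun b hb => Subgroup.commutator_mem_commutator hu hb)
  have hVAC : ∀ v ∈ V, ∀ b ∈ A, ⁅v, b⁆ ∈ C := fun v hv =>
    hsub v (fun b hb => by rw [← commutatorElement_inv]; exact C.inv_mem (hUAC b hb v hv.1))
      (fun b hb => by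
        obtain ⟨y, hy, rfl⟩ := hv.2
        obtain ⟨z, hz, rfl⟩ := hb.2
        rw [← map_commutatorElement, hYc y hy z hz, map_one]
        exact one_mem _)
  have hAA : ∀ a ∈ A, ∀ b ∈ A, ⁅a, b⁆ ∈ C := fun a ha b hb => by
    rw [← commutatorElement_inv]
    refine C.inv_mem (hsub b ?_ ?_ a ha)
    · exact fun u hu => by rw [← commutatorElement_inv]; exact C.inv_mem (hUAC u hu b hb)
    · exact fun v hv => by rw [← commutatorElement_inv]; exact C.inv_mem (hVAC v hv b hb)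
  have hCAA : C ≤ ⁅A, A⁆ := Subgroup.commutator_mono hUA hVA
  have hAAC : ⁅A, A⁆ = C := le_antisymm (Subgroup.commutator_le.mpr hAA) hCAA
  have hUAeq : ⁅U, A⁆ = C := le_antisymm (Subgroup.commutator_le.mpr hUAC) (Subgroup.commutator_mono le_rfl hVA)
  have hZO : Subgroup.center L ≤ O := fun z hz => hchar (Subgroup.mem_centralizer_iff.mpr fun h _ =>
    Subgroup.mem_center_iff.mp hz h)
  have hYZ : Y ⊓ Subgroup.center L ≤ U ⊓ V := by
    intro z hz
    have hz' : z ∈ Y ⊓ Y.map c := hint.ge hz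
    exact ⟨⟨hZO hz.2, hz.1⟩, hUA ⟨hZO hz.2, hz.1⟩, hz'.2⟩
  refine ⟨?_, by rw [hAY, hUAeq, hAAC], by rw [hAY, hUAeq], by rw [hAY, hUAeq]; exact hCYZ, hint, ?_, ?_⟩
  · have hAp : IsPGroup p ↥A := CfsgLib.CharP.isPGroup_pCore.to_le hAO
    rw [← Subgroup.map_subtype_commutator]
    refine congrArg _ (le_antisymm ?_ (CfsgLib.PGroup.commutator_le_frattini hAp))
    refine CfsgLib.PGroup.frattini_le_of_elementary (p := p) (fun a b => Subgroup.subset_closure ⟨a, trivial, b, trivial, rfl⟩) ?_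
    intro a
    have key : ∀ (a : L), a ∈ A → a ^ p ∈ ⁅A, A⁆ := by
      intro a ha
      have hU' : ∀ u ∈ U, u ^ p ∈ ⁅A, A⁆ := fun u hu => by rw [hYel.2 u hu.2]; exact one_mem _
      have hV' : ∀ v ∈ V, v ^ p ∈ ⁅A, A⁆ := by
        rintro _ ⟨-, y, hy, rfl⟩
        rw [← map_pow, hYel.2 y hy, map_one]
        exact one_mem _
      haveI : ⁅A, A⁆.Normal := inferInstance
      let f := (QuotientGroup.mk' ⁅A, A⁆)
      have hab : ∀ x ∈ A, ∀ y ∈ A, Commute (f x) (f y) := fun x hx y hy => by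
        rw [← commutatorElement_eq_one_iff_commute, ← map_commutatorElement]
        exact (QuotientGroup.eq_one_iff _).mpr (Subgroup.commutator_mem_commutator hx hy)
      rw [hB, Subgroup.sup_eq_closure] at ha
      rw [← QuotientGroup.eq_one_iff]
      refine Subgroup.closure_induction (p := fun a _ => ((a ^ p : L) : L ⧸ ⁅A, A⁆) = 1) ?_ ?_ ?_ ?_ ha
      · rintro x (hx | hx)
        exacts [(QuotientGroup.eq_one_iff _).mpr (hU' x hx), (QuotientGroup.eq_one_iff _).mpr (hV' x hx)]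
      · simp
      · intro x y hxA hyA hx hy
        rw [← Subgroup.sup_eq_closure, ← hB] at hxA hyA
        change f ((x * y) ^ p) = 1
        rw [map_pow, map_mul, (hab x hxA y hyA).mul_pow, ← map_pow, ← map_pow]
        change (f (x ^ p)) * (f (y ^ p)) = 1
        rw [show f (x ^ p) = 1 from hx, show f (y ^ p) = 1 from hy, one_mul]
      · intro x _ hx
        rw [inv_pow, QuotientGroup.mk_inv, hx, inv_one]
    have h := key a a.2
    rw [← Subgroup.map_subtype_commutator] at h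
    obtain ⟨b, hb, hba⟩ := h
    rwa [show b = a ^ p from Subtype.ext hba] at hb
  · rw [hAY]
    exact le_antisymm ((inf_le_inf inf_le_right inf_le_right).trans hint.le) hYZ
  · refine le_antisymm (fun a ⟨haA, haZ⟩ => ⟨?_, haZ⟩) (le_inf (hYZ.trans (inf_le_left.trans hUA)) inf_le_right)
    rw [hB] at haA
    haveI : U ≤ Subgroup.normalizer (V : Set L) := CfsgLib.LocalCharP.le_normalizer_of_conj_mem fun u hu v hv => by
      rw [show u * v * u⁻¹ = ⁅u, v⁆ * v by group]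
      exact V.mul_mem (hYZ (hCYZ (Subgroup.commutator_mem_commutator hu hv))).2 hv
    replace haA : a ∈ ((U ⊔ V : Subgroup L) : Set L) := haA
    rw [Subgroup.coe_mul_of_left_le_normalizer_right (H := U) (N := V) this] at haA
    obtain ⟨u, hu, v, hv, rfl⟩ := haA
    refine Y.mul_mem hu.2 ?_
    obtain ⟨w, hw, hwv⟩ := hv.2
    have hvY : ∀ y ∈ Y, y * v = v * y := fun y hy => by
      have h1 := Subgroup.mem_center_iff.mp haZ y
      have h2 : y * u = u * y := commutatorElement_eq_one_iff_commute.mp (hYc y hy u hu.2)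
      calc y * v = u⁻¹ * (y * (u * v)) := by rw [← mul_assoc y, h2]; group
        _ = v * y := by rw [h1]; group
    have hvZ : v ∈ Subgroup.center L := by
      have hle : Y ⊔ Y.map c ≤ Subgroup.centralizer {v} := by
        refine sup_le (fun y hy => Subgroup.mem_centralizer_singleton_iff.mpr (hvY y hy)) ?_
        rintro _ ⟨y, hy, rfl⟩
        refine Subgroup.mem_centralizer_singleton_iff.mpr ?_
        rw [← hwv, ← map_mul, ← map_mul,
          commutatorElement_eq_one_iff_commute.mp (hYc y hy w hw)]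
      refine Subgroup.mem_center_iff.mpr fun x => ?_
      exact Subgroup.mem_centralizer_singleton_iff.mp (hle (hgen ▸ Subgroup.mem_top x))
    have hwe : w = v := by
      have h1 : g * w * g⁻¹ = v := hwv
      rw [show w = g⁻¹ * (g * w * g⁻¹) * g by group, h1, mul_assoc, ← Subgroup.mem_center_iff.mp hvZ g,
        inv_mul_cancel_left]
    exact hwe ▸ hw

end Cfsg.Agent.S2837
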