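import Cfsg.Statements.S2838
import Cfsg.Agent.LocalCharP.SylowCenter
import Cfsg.Agent.LocalCharP.WeaklyClosed
import Cfsg.Agent.LocalCharP.CharPLocal
import Mathlib.Tactic.Group

set_option autoImplicit false
open Cfsg
open scoped commutatorElement

namespace Cfsg.Agent.S2838

/-- For a nontrivial p-subgroup Q of a finite group H the following are equivalent: Q is a weakly closed subgroup (it is the only H-conjugate of itself inside some Sylow p-subgroup containing it); Q = P for every conjugate P of Q with [Q, P] ≤ Q ∩ P; Q is normal in N_H(R) for every p-subgroup R of H containing Q. -/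
theorem result {H : Type*} [Group H] [Finite H] {p : ℕ} [Fact p.Prime] (Q : Subgroup H) (hQp : IsPGroup p ↥Q) (hQ1 : Q ≠ ⊥) : (Cfsg.IsWeaklyClosedSubgroup p Q ↔ ∀ g : H, ⁅Q, ((Q : Subgroup H).map (MulAut.conj (g : H)).toMonoidHom)⁆ ≤ Q ⊓ ((Q : Subgroup H).map (MulAut.conj (g : H)).toMonoidHom) → ((Q : Subgroup H).map (MulAut.conj (g : H)).toMonoidHom) = Q) ∧ (Cfsg.IsWeaklyClosedSubgroup p Q ↔ ∀ R : Subgroup H, IsPGroup p ↥R → Q ≤ R → Subgroup.normalizer ((R : Subgroup H) : Set H) ≤ Subgroup.normalizer ((Q : Subgroup H) : Set H)) := by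
  have hAB : Cfsg.IsWeaklyClosedSubgroup p Q → ∀ g : H,
      ⁅Q, Q.map (MulAut.conj g).toMonoidHom⁆ ≤ Q ⊓ Q.map (MulAut.conj g).toMonoidHom →
        Q.map (MulAut.conj g).toMonoidHom = Q := by
    intro hwc g hg
    have hn : Q.map (MulAut.conj g).toMonoidHom ≤ Subgroup.normalizer (Q : Set H) := by
      refine CfsgLib.LocalCharP.le_normalizer_of_conj_mem fun x hx q hq => ?_
      have h1 : ⁅q, x⁆ ∈ Q := (hg (Subgroup.commutator_mem_commutator hq hx)).1
      have e : x * q * x⁻¹ = ⁅q, x⁆⁻¹ * q := by simp [commutatorElement_def, mul_assoc]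
      rw [e]
      exact mul_mem (inv_mem h1) hq
    exact CfsgLib.LocalCharP.map_conj_eq_self_iff.mpr (CfsgLib.LocalCharP.mem_normalizer_of_conj_le hwc
      (hQp.to_sup_of_normal_left' (hQp.map (MulAut.conj g).toMonoidHom) hn) le_sup_left le_sup_right)
  have hBC : (∀ g : H, ⁅Q, Q.map (MulAut.conj g).toMonoidHom⁆ ≤ Q ⊓ Q.map (MulAut.conj g).toMonoidHom →
        Q.map (MulAut.conj g).toMonoidHom = Q) →
      ∀ R : Subgroup H, IsPGroup p ↥R → Q ≤ R →
        Subgroup.normalizer (R : Set H) ≤ Subgroup.normalizer (Q : Set H) := by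
    intro hB
    have key : ∀ (R : Subgroup H) (x : H), R ≤ Subgroup.normalizer (Q : Set H) → Q ≤ R →
        x ∈ Subgroup.normalizer (R : Set H) → x ∈ Subgroup.normalizer (Q : Set H) := by
      intro R x hRN hQR hx
      have hxQ : Q.map (MulAut.conj x).toMonoidHom ≤ R :=
        (Subgroup.map_mono hQR).trans (CfsgLib.LocalCharP.map_conj_eq_self_iff.mpr hx).le
      have hRx : R ≤ Subgroup.normalizer ((Q.map (MulAut.conj x).toMonoidHom : Subgroup H) : Set H) := by
        rw [← CfsgLib.LocalCharP.map_conj_normalizer]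
        conv_lhs => rw [← CfsgLib.LocalCharP.map_conj_eq_self_iff.mpr hx]
        exact Subgroup.map_mono hRN
      refine CfsgLib.LocalCharP.map_conj_eq_self_iff.mp (hB x ?_)
      rw [Subgroup.commutator_le]
      intro a ha b hb
      refine ⟨?_, ?_⟩
      · have := mul_mem ha (CfsgLib.LocalCharP.conj_mem_of_le_normalizer hRN (hxQ hb) (inv_mem ha))
        show ⁅a, b⁆ ∈ Q
        simpa [commutatorElement_def, mul_assoc] using this
      · have := mul_mem (CfsgLib.LocalCharP.conj_mem_of_le_normalizer hRx (hQR ha) hb) (inv_mem hb)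
        show ⁅a, b⁆ ∈ Q.map (MulAut.conj x).toMonoidHom
        simpa [commutatorElement_def, mul_assoc] using this
    intro R hR hQR
    have hRN : R ≤ Subgroup.normalizer (Q : Set H) := by
      by_contra hne
      haveI : Group.IsNilpotent ↥R := hR.isNilpotent
      set R₁ := R ⊓ Subgroup.normalizer (Q : Set H) with hR₁
      have hlt : R₁.subgroupOf R < ⊤ := lt_top_iff_ne_top.mpr fun h =>
        hne ((Subgroup.subgroupOf_eq_top.mp h).trans inf_le_right)
      obtain ⟨x, hx, hxR⟩ := SetLike.exists_of_lt (normalizerCondition_of_isNilpotent (G := ↥R) _ hlt)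
      have hxn : (x : H) ∈ Subgroup.normalizer (R₁ : Set H) := by
        rw [Subgroup.mem_normalizer_iff]
        intro y
        constructor
        · intro hy
          exact (Subgroup.mem_normalizer_iff.mp hx ⟨y, hy.1⟩).mp hy
        · intro hy
          have hyR : y ∈ R := by
            have := mul_mem (mul_mem (inv_mem x.2) hy.1) x.2
            simpa [mul_assoc] using this
          exact (Subgroup.mem_normalizer_iff.mp hx ⟨y, hyR⟩).mpr hy
      exact hxR ⟨x.2, key R₁ x inf_le_right (le_inf hQR Subgroup.le_normalizer) hxn⟩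
    exact fun x hx => key R x hRN hQR hx
  exact ⟨⟨hAB, fun hB => CfsgLib.LocalCharP.isWeaklyClosedSubgroup_of_normalizer_le hQp (hBC hB)⟩,
    ⟨fun hA R hR hQR => CfsgLib.LocalCharP.normalizer_le_of_weaklyClosed hA hR hQR,
      CfsgLib.LocalCharP.isWeaklyClosedSubgroup_of_normalizer_le hQp⟩⟩

end Cfsg.Agent.S2838
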