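import Cfsg.Statements.S2839
import Cfsg.Agent.LocalCharP.SylowCenter
import Cfsg.Agent.LocalCharP.WeaklyClosed
import Cfsg.Agent.LocalCharP.CharPLocal
import Mathlib.Tactic.Group

set_option autoImplicit false
open Cfsg
open scoped commutatorElement Pointwise

namespace Cfsg.Agent.S2839

/-- Let Q be a nontrivial p-subgroup of the finite group H that is a weakly closed subgroup, K a subgroup containing Q and N a normal subgroup of H. Then Q is a weakly closed subgroup of K; every H-conjugate of Q contained in K is a K-conjugate of Q; N_K(Q) contains a Sylow p-subgroup of K; N = N_N(Q)·O^p(N); and QN/N is a weakly closed subgroup of H/N. -/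
theorem result {H : Type*} [Group H] [Finite H] {p : ℕ} [Fact p.Prime] (Q : Subgroup H) (hQp : IsPGroup p ↥Q) (hQ1 : Q ≠ ⊥) (hwc : Cfsg.IsWeaklyClosedSubgroup p Q) (K : Subgroup H) (hQK : Q ≤ K) (N' : Subgroup H) [N'.Normal] : Cfsg.IsWeaklyClosedSubgroup p (Q.subgroupOf K) ∧ (∀ g : H, ((Q : Subgroup H).map (MulAut.conj (g : H)).toMonoidHom) ≤ K → ∃ k ∈ K, ((Q : Subgroup H).map (MulAut.conj (g : H)).toMonoidHom) = ((Q : Subgroup H).map (MulAut.conj (k : H)).toMonoidHom)) ∧ Cfsg.IsParabolic p ((Subgroup.normalizer ((Q : Subgroup H) : Set H)).subgroupOf K) ∧ (N' ⊓ Subgroup.normalizer ((Q : Subgroup H) : Set H)) ⊔ (Cfsg.pResidual p ↥N').map N'.subtype = N' ∧ Cfsg.IsWeaklyClosedSubgroup p (Q.map (QuotientGroup.mk' N')) := by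
  refine ⟨?_, fun g hg => CfsgLib.LocalCharP.exists_mem_conj_eq hwc hQp hQK hg, ?_, ?_, ?_⟩
  · refine CfsgLib.LocalCharP.isWeaklyClosedSubgroup_of_normalizer_le
      (hQp.comap_of_injective _ K.subtype_injective) fun R hR hQR x hx => ?_
    have hxR : (x : H) ∈ Subgroup.normalizer ((R.map K.subtype : Subgroup H) : Set H) := by
      rw [← CfsgLib.LocalCharP.map_conj_eq_self_iff] at hx ⊢
      conv_rhs => rw [← hx]
      rw [Subgroup.map_map, Subgroup.map_map]
      rfl
    have hxQ := CfsgLib.LocalCharP.normalizer_le_of_weaklyClosed hwc (hR.map K.subtype)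
      (fun q hq => ⟨⟨q, hQK hq⟩, hQR hq, rfl⟩) hxR
    rw [Subgroup.mem_normalizer_iff] at hxQ ⊢
    exact fun y => hxQ (y : H)
  · obtain ⟨S, hS⟩ := (hQp.comap_of_injective K.subtype K.subtype_injective).exists_le_sylow
    exact ⟨S, fun x hx => CfsgLib.LocalCharP.le_normalizer_of_weaklyClosed hwc (S.2.map K.subtype)
      (fun q hq => ⟨⟨q, hQK hq⟩, hS hq, rfl⟩) ⟨x, hx, rfl⟩⟩
  · obtain ⟨T, hT⟩ := hQp.exists_le_sylow
    obtain ⟨P, hP⟩ := CfsgLib.LocalCharP.exists_sylow_inf T (inferInstance : N'.Normal)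
    refine le_antisymm (sup_le inf_le_left (Subgroup.map_subtype_le _)) ?_
    have h1 : (Cfsg.pResidual p ↥N').map N'.subtype ⊔ ((T : Subgroup H) ⊓ N') = N' := by
      rw [← hP, ← Subgroup.map_sup, CfsgLib.LocalCharP.pResidual_sup_sylow P, ← MonoidHom.range_eq_map,
        Subgroup.range_subtype]
    conv_lhs => rw [← h1]
    refine sup_le le_sup_right (le_trans ?_ le_sup_left)
    exact fun x hx => ⟨hx.2, CfsgLib.LocalCharP.le_normalizer_of_weaklyClosed hwc T.2 hT hx.1⟩
  · obtain ⟨T, hT⟩ := hQp.exists_le_sylow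
    set f := QuotientGroup.mk' N' with hf
    have hs : Function.Surjective f := QuotientGroup.mk'_surjective N'
    refine ⟨T.mapSurjective hs, ?_, fun g' hg' => ?_⟩
    · rw [Sylow.coe_mapSurjective]
      exact Subgroup.map_mono hT
    rw [Sylow.coe_mapSurjective] at hg'
    obtain ⟨g, rfl⟩ := hs g'
    have hcomm : ∀ a : H, (Q.map f).map (MulAut.conj (f a)).toMonoidHom =
        (Q.map (MulAut.conj a).toMonoidHom).map f := by
      intro a
      rw [Subgroup.map_map, Subgroup.map_map]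
      congr 1
    rw [hcomm, Subgroup.map_le_iff_le_comap, Subgroup.comap_map_eq, hf, QuotientGroup.ker_mk'] at hg'
    obtain ⟨k, hk, hkeq⟩ := CfsgLib.LocalCharP.exists_mem_conj_eq hwc hQp (hT.trans le_sup_left) hg'
    obtain ⟨n, hn, t, ht, rfl⟩ := Subgroup.mem_sup_of_normal_left.1
      (show k ∈ N' ⊔ (T : Subgroup H) by rwa [sup_comm])
    rw [hcomm, hkeq, ← CfsgLib.LocalCharP.map_conj_map_conj, CfsgLib.LocalCharP.map_conj_eq_self_iff.mpr
      (CfsgLib.LocalCharP.le_normalizer_of_weaklyClosed hwc T.2 hT ht), ← hcomm,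
      show f n = 1 from (QuotientGroup.eq_one_iff n).mpr hn, CfsgLib.LocalCharP.map_conj_one]

end Cfsg.Agent.S2839
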