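import Cfsg.Statements.S2840
import Cfsg.Agent.LocalCharP.SylowCenter
import Cfsg.Agent.LocalCharP.WeaklyClosed
import Cfsg.Agent.LocalCharP.CharPLocal
import Mathlib.Tactic.Group

set_option autoImplicit false
open Cfsg
open scoped commutatorElement Pointwise

namespace Cfsg.Agent.S2840

/-- Let Q be a nontrivial p-subgroup of the finite group H that is a weakly closed subgroup and K a subgroup containing Q; let K° be the weak closure of Q in K (generated by the H-conjugates of Q inside K). Then K° is generated by the K-conjugates of Q, and K° is the subnormal closure of Q in K. -/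
theorem result {H : Type*} [Group H] [Finite H] {p : ℕ} [Fact p.Prime] (Q : Subgroup H) (hQp : IsPGroup p ↥Q) (hQ1 : Q ≠ ⊥) (hwc : Cfsg.IsWeaklyClosedSubgroup p Q) (K : Subgroup H) (hQK : Q ≤ K) (Kc : Subgroup H) (hKc : Kc = Cfsg.weakClosure Q K) : Kc = ⨆ k : ↥K, ((Q : Subgroup H).map (MulAut.conj ((k : H) : H)).toMonoidHom) ∧ Kc = (Cfsg.subnormalClosure (Q.subgroupOf K)).map K.subtype := by
  subst hKc
  have h1 : Cfsg.weakClosure Q K = ⨆ k : ↥K, Q.map (MulAut.conj (k : H)).toMonoidHom := by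
    refine le_antisymm (iSup_le fun g => ?_) (iSup_le fun k => ?_)
    · obtain ⟨k, hk, e⟩ := CfsgLib.LocalCharP.exists_mem_conj_eq hwc hQp hQK g.2
      rw [e]
      exact le_iSup (fun k : ↥K => Q.map (MulAut.conj (k : H)).toMonoidHom) ⟨k, hk⟩
    · have hk : Q.map (MulAut.conj (k : H)).toMonoidHom ≤ K := by
        rintro _ ⟨q, hq, rfl⟩
        exact mul_mem (mul_mem k.2 (hQK hq)) (inv_mem k.2)
      exact le_iSup (fun g : {g : H // Q.map (MulAut.conj g).toMonoidHom ≤ K} =>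
        Q.map (MulAut.conj (g : H)).toMonoidHom) ⟨k, hk⟩
  refine ⟨h1, ?_⟩
  have hKcK : Cfsg.weakClosure Q K ≤ K := iSup_le fun g => g.2
  have hKn : K ≤ Subgroup.normalizer (Cfsg.weakClosure Q K : Set H) := by
    refine CfsgLib.LocalCharP.le_normalizer_of_conj_mem fun l hl x hx => ?_
    have hle : Cfsg.weakClosure Q K ≤ (Cfsg.weakClosure Q K).comap (MulAut.conj l).toMonoidHom := by
      refine iSup_le fun g => ?_
      rw [← Subgroup.map_le_iff_le_comap, CfsgLib.LocalCharP.map_conj_map_conj]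
      refine le_iSup (fun g : {g : H // Q.map (MulAut.conj g).toMonoidHom ≤ K} =>
        Q.map (MulAut.conj (g : H)).toMonoidHom) ⟨l * g, ?_⟩
      rw [← CfsgLib.LocalCharP.map_conj_map_conj]
      rintro _ ⟨y, hy, rfl⟩
      exact mul_mem (mul_mem hl (g.2 hy)) (inv_mem hl)
    exact hle hx
  have hall : ∀ S : Subgroup ↥K, S.IsSubnormal → Q.subgroupOf K ≤ S →
      ∀ k : ↥K, Q.map (MulAut.conj (k : H)).toMonoidHom ≤ S.map K.subtype := by
    intro S hS
    induction hS with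
    | top =>
      intro _ k
      rintro _ ⟨q, hq, rfl⟩
      exact ⟨⟨_, mul_mem (mul_mem k.2 (hQK hq)) (inv_mem k.2)⟩, trivial, rfl⟩
    | step S1 S2 hle _ hn ih =>
      intro hQS k
      have h2 := ih (hQS.trans hle) k
      obtain ⟨s, hs, e⟩ := CfsgLib.LocalCharP.exists_mem_conj_eq hwc hQp
        (K := S2.map K.subtype) (fun q hq => ⟨⟨q, hQK hq⟩, hle (hQS hq), rfl⟩) h2
      obtain ⟨s', hs', rfl⟩ := hs
      rw [e]
      rintro _ ⟨q, hq, rfl⟩
      refine ⟨s' * ⟨q, hQK hq⟩ * s'⁻¹, ?_, rfl⟩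
      exact Subgroup.mem_subgroupOf.mp (hn.conj_mem ⟨⟨q, hQK hq⟩, hle (hQS hq)⟩ (hQS hq) ⟨s', hs'⟩)
  refine le_antisymm ?_ ?_
  · rw [h1]
    refine iSup_le fun k => ?_
    have e : (Cfsg.subnormalClosure (Q.subgroupOf K)).map K.subtype =
        ⨅ S : {S : Subgroup ↥K // Q.subgroupOf K ≤ S ∧ S.IsSubnormal}, (S : Subgroup ↥K).map K.subtype := by
      haveI : Nonempty {S : Subgroup ↥K // Q.subgroupOf K ≤ S ∧ S.IsSubnormal} :=
        ⟨⟨⊤, le_top, Subgroup.IsSubnormal.top⟩⟩
      rw [← Subgroup.map_iInf _ K.subtype_injective]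
      congr 1
      rw [Cfsg.subnormalClosure, sInf_eq_iInf']
      rfl
    rw [e]
    exact le_iInf fun S => hall S.1 S.2.2 S.2.1 k
  · have hQKc : Q ≤ Cfsg.weakClosure Q K := by
      have h : Q.map (MulAut.conj (1 : H)).toMonoidHom ≤ Cfsg.weakClosure Q K :=
        le_iSup (fun g : {g : H // Q.map (MulAut.conj g).toMonoidHom ≤ K} =>
          Q.map (MulAut.conj (g : H)).toMonoidHom) ⟨1, by rwa [CfsgLib.LocalCharP.map_conj_one]⟩
      rwa [CfsgLib.LocalCharP.map_conj_one] at h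
    rw [Subgroup.map_le_iff_le_comap]
    exact sInf_le ⟨fun q hq => hQKc hq, (Subgroup.normal_subgroupOf_of_le_normalizer hKn).isSubnormal⟩

end Cfsg.Agent.S2840
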