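import Cfsg.Statements.S2841
import Cfsg.Agent.LocalCharP.SylowCenter
import Cfsg.Agent.LocalCharP.WeaklyClosed
import Cfsg.Agent.LocalCharP.CharPLocal
import Mathlib.Tactic.Group

set_option autoImplicit false
open Cfsg
open scoped commutatorElement Pointwise

namespace Cfsg.Agent.S2841

/-- Let Q be a nontrivial p-subgroup of the finite group H that is a weakly closed subgroup and N a normal subgroup of H. Then N = N_N(Q)·[N, Q] and [N, Q] = (Q ∩ [N, Q])·[N, Q, Q]. -/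
theorem result {H : Type*} [Group H] [Finite H] {p : ℕ} [Fact p.Prime] (Q : Subgroup H) (hQp : IsPGroup p ↥Q) (hQ1 : Q ≠ ⊥) (hwc : Cfsg.IsWeaklyClosedSubgroup p Q) (N' : Subgroup H) [N'.Normal] : (∀ n : H, n ∈ N' → ∃ a ∈ N' ⊓ Subgroup.normalizer ((Q : Subgroup H) : Set H), ∃ b ∈ ⁅N', Q⁆, n = a * b) ∧ (∀ c : H, c ∈ ⁅N', Q⁆ → ∃ a ∈ Q ⊓ ⁅N', Q⁆, ∃ b ∈ ⁅⁅N', Q⁆, Q⁆, c = a * b) := by
  set C := ⁅N', Q⁆ with hC
  have hCN : C ≤ N' := by
    rw [hC, Subgroup.commutator_le]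
    intro n hn q _
    have h := mul_mem hn ((inferInstance : N'.Normal).conj_mem n⁻¹ (inv_mem hn) q)
    simpa [commutatorElement_def, mul_assoc] using h
  have hNC : N' ≤ Subgroup.normalizer (C : Set H) := by
    refine CfsgLib.LocalCharP.le_normalizer_of_conj_mem fun m hm x hx => ?_
    have hle : C ≤ C.comap (MulAut.conj m).toMonoidHom := by
      rw [hC, Subgroup.commutator_le]
      intro n hn q hq
      rw [Subgroup.mem_comap]
      have e : (MulAut.conj m).toMonoidHom ⁅n, q⁆ = ⁅m * n, q⁆ * ⁅m, q⁆⁻¹ := by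
        simp [commutatorElement_def, mul_assoc]
      rw [e]
      exact mul_mem (Subgroup.commutator_mem_commutator (mul_mem hm hn) hq)
        (inv_mem (Subgroup.commutator_mem_commutator hm hq))
    exact hle hx
  have hQC : Q ≤ Subgroup.normalizer (C : Set H) :=
    CfsgLib.LocalCharP.le_normalizer_commutator Subgroup.le_normalizer_of_normal Subgroup.le_normalizer
  have h1 : ∀ n : H, n ∈ N' → ∃ a ∈ N' ⊓ Subgroup.normalizer (Q : Set H), ∃ b ∈ C, n = a * b := by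
    intro n hn
    have hle : Q.map (MulAut.conj n).toMonoidHom ≤ C ⊔ Q := by
      rintro _ ⟨q, hq, rfl⟩
      have e : (MulAut.conj n).toMonoidHom q = ⁅n, q⁆ * q := by simp [commutatorElement_def, mul_assoc]
      rw [e]
      exact mul_mem (Subgroup.mem_sup_left (Subgroup.commutator_mem_commutator hn hq)) (Subgroup.mem_sup_right hq)
    obtain ⟨m, hm, hmeq⟩ := CfsgLib.LocalCharP.exists_mem_conj_eq hwc hQp le_sup_right hle
    rw [← SetLike.mem_coe, Subgroup.coe_mul_of_right_le_normalizer_left _ _ hQC] at hm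
    obtain ⟨c, hc, q, hq, rfl⟩ := Set.mem_mul.mp hm
    rw [← CfsgLib.LocalCharP.map_conj_map_conj,
      CfsgLib.LocalCharP.map_conj_eq_self_iff.mpr (Subgroup.le_normalizer hq),
      CfsgLib.LocalCharP.map_conj_eq_map_conj_iff] at hmeq
    have ha : c⁻¹ * n ∈ N' := mul_mem (inv_mem (hCN hc)) hn
    refine ⟨c⁻¹ * n, ⟨ha, hmeq⟩, (c⁻¹ * n)⁻¹ * c * (c⁻¹ * n)⁻¹⁻¹,
      CfsgLib.LocalCharP.conj_mem_of_le_normalizer hNC (inv_mem ha) hc, by group⟩
  refine ⟨h1, fun c hc => ?_⟩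
  set D := ⁅C, Q⁆ with hD
  have hQD : Q ⊓ C ≤ Subgroup.normalizer (D : Set H) :=
    inf_le_left.trans (CfsgLib.LocalCharP.le_normalizer_commutator hQC Subgroup.le_normalizer)
  have hmem : C ≤ D ⊔ (Q ⊓ C) := by
    conv_lhs => rw [hC]
    rw [Subgroup.commutator_le]
    intro n hn q hq
    obtain ⟨a, ha, b, hb, rfl⟩ := h1 n hn
    have haD : a ∈ Subgroup.normalizer (D : Set H) := CfsgLib.LocalCharP.map_conj_eq_self_iff.mp (by
      rw [hD, Subgroup.map_commutator, CfsgLib.LocalCharP.map_conj_eq_self_iff.mpr (hNC ha.1),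
        CfsgLib.LocalCharP.map_conj_eq_self_iff.mpr ha.2])
    have e : ⁅a * b, q⁆ = (a * ⁅b, q⁆ * a⁻¹) * ⁅a, q⁆ := by simp [commutatorElement_def, mul_assoc]
    rw [e]
    refine mul_mem (Subgroup.mem_sup_left ((Subgroup.mem_normalizer_iff.mp haD _).mp
      (Subgroup.commutator_mem_commutator hb hq))) (Subgroup.mem_sup_right ⟨?_, ?_⟩)
    · have := mul_mem ((Subgroup.mem_normalizer_iff.mp ha.2 q).mp hq) (inv_mem hq)
      show ⁅a, q⁆ ∈ Q
      simpa [commutatorElement_def, mul_assoc] using this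
    · exact Subgroup.commutator_mem_commutator ha.1 hq
  have hc' : c ∈ (D : Set H) * ((Q ⊓ C : Subgroup H) : Set H) := by
    rw [← Subgroup.coe_mul_of_right_le_normalizer_left _ _ hQD]
    exact hmem hc
  obtain ⟨d, hd, x, hx, rfl⟩ := Set.mem_mul.mp hc'
  refine ⟨x, hx, x⁻¹ * d * x⁻¹⁻¹, ?_, by group⟩
  exact (Subgroup.mem_normalizer_iff.mp (inv_mem (hQD hx)) d).mp hd

end Cfsg.Agent.S2841
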