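import Cfsg.Statements.S2843
import Cfsg.Agent.LocalCharP.SylowCenter
import Cfsg.Agent.LocalCharP.WeaklyClosed
import Cfsg.Agent.LocalCharP.CharPLocal
import Mathlib.Tactic.Group

set_option autoImplicit false
open Cfsg
open scoped commutatorElement Pointwise

namespace Cfsg.Agent.S2843

/-- Let Q be a nontrivial large p-subgroup of the finite group H, Q ≤ L ≤ H, and Y a nontrivial p-subgroup of H normalized by L. Let L° be the weak closure of Q in L (generated by the conjugates of Q inside L). Then L° equals the weak closure of Q in L·C_H(Y), and [L°, C_H(Y)] ≤ O_p(L°); in particular C_H(Y) normalizes L°. -/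
theorem result {H : Type*} [Group H] [Finite H] {p : ℕ} [Fact p.Prime] (Q : Subgroup H) (hQp : IsPGroup p ↥Q) (hQ1 : Q ≠ ⊥) (hL : Cfsg.IsLarge Q) (L : Subgroup H) (hQL : Q ≤ L) (Y : Subgroup H) (hYp : IsPGroup p ↥Y) (hY1 : Y ≠ ⊥) (hLY : L ≤ Subgroup.normalizer ((Y : Subgroup H) : Set H)) : Cfsg.weakClosure Q L = Cfsg.weakClosure Q (L ⊔ Subgroup.centralizer ((Y : Subgroup H) : Set H)) ∧ ⁅Cfsg.weakClosure Q L, Subgroup.centralizer ((Y : Subgroup H) : Set H)⁆ ≤ (Cfsg.pCoreOf p (Cfsg.weakClosure Q L)) ∧ Subgroup.centralizer ((Y : Subgroup H) : Set H) ≤ Subgroup.normalizer (((Cfsg.weakClosure Q L) : Subgroup H) : Set H) := by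
  set C := Subgroup.centralizer (Y : Set H) with hC
  have hLC : L ≤ Subgroup.normalizer (C : Set H) := CfsgLib.LocalCharP.le_normalizer_centralizer hLY
  have hwc := CfsgLib.LocalCharP.isWeaklyClosedSubgroup_of_isLarge hQp hQ1 hL
  have hCg : ∀ g : H, Q.map (MulAut.conj g).toMonoidHom ≤ L →
      C ≤ Subgroup.normalizer ((Q.map (MulAut.conj g).toMonoidHom : Subgroup H) : Set H) := fun g hg =>
    CfsgLib.LocalCharP.centralizer_le_normalizer_of_isLarge (hQp.map _)
      (CfsgLib.LocalCharP.isLarge_conj hL g) hYp hY1 (hg.trans hLY)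
  set W := Cfsg.weakClosure Q L with hW
  have hWL : W ≤ L := iSup_le fun g => g.2
  have hCW : C ≤ Subgroup.normalizer (W : Set H) := by
    refine CfsgLib.LocalCharP.le_normalizer_of_conj_mem fun c hc x hx => ?_
    have hle : W ≤ W.comap (MulAut.conj c).toMonoidHom := by
      refine iSup_le fun g => ?_
      rw [← Subgroup.map_le_iff_le_comap, CfsgLib.LocalCharP.map_conj_eq_self_iff.mpr (hCg g g.2 hc)]
      exact le_iSup (fun g : {g : H // Q.map (MulAut.conj g).toMonoidHom ≤ L} =>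
        Q.map (MulAut.conj (g : H)).toMonoidHom) g
    exact hle hx
  refine ⟨le_antisymm (iSup_le fun g => ?_) (iSup_le fun g => ?_), ?_, hCW⟩
  · exact le_iSup (fun g : {g : H // Q.map (MulAut.conj g).toMonoidHom ≤ L ⊔ C} =>
      Q.map (MulAut.conj (g : H)).toMonoidHom) ⟨g.1, g.2.trans le_sup_left⟩
  · obtain ⟨k, hk, e⟩ := CfsgLib.LocalCharP.exists_mem_conj_eq hwc hQp (hQL.trans le_sup_left) g.2
    rw [← SetLike.mem_coe, Subgroup.coe_mul_of_left_le_normalizer_right _ _ hLC] at hk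
    obtain ⟨l, hl, c, hc, rfl⟩ := Set.mem_mul.mp hk
    have hl' : Q.map (MulAut.conj l).toMonoidHom ≤ L := by
      rintro _ ⟨q, hq, rfl⟩
      exact mul_mem (mul_mem hl (hQL hq)) (inv_mem hl)
    have hcQ : c ∈ Subgroup.normalizer (Q : Set H) := by
      have := hCg 1 (by rwa [CfsgLib.LocalCharP.map_conj_one]) hc
      rwa [CfsgLib.LocalCharP.map_conj_one] at this
    rw [e, ← CfsgLib.LocalCharP.map_conj_map_conj, CfsgLib.LocalCharP.map_conj_eq_self_iff.mpr hcQ]
    exact le_iSup (fun g : {g : H // Q.map (MulAut.conj g).toMonoidHom ≤ L} =>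
      Q.map (MulAut.conj (g : H)).toMonoidHom) ⟨l, hl'⟩
  set E := Cfsg.pCoreOf p C ⊓ W with hE
  have hEn : W ≤ Subgroup.normalizer (E : Set H) :=
    CfsgLib.LocalCharP.le_normalizer_inf
      ((hWL.trans hLC).trans (CfsgLib.LocalCharP.normalizer_le_normalizer_pCoreOf C)) Subgroup.le_normalizer
  refine le_trans ?_ (CfsgLib.LocalCharP.le_pCoreOf (inf_le_right : E ≤ W)
    ((CfsgLib.LocalCharP.isPGroup_pCoreOf C).to_le inf_le_left) hEn)
  rw [Subgroup.commutator_le]
  intro x hx c hc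
  have hall : ∀ x ∈ W, x ∈ W ∧ ∀ c ∈ C, ⁅x, c⁆ ∈ E := by
    let S : Subgroup H :=
      { carrier := {x | x ∈ W ∧ ∀ c ∈ C, ⁅x, c⁆ ∈ E}
        one_mem' := ⟨one_mem _, fun c _ => by simp⟩
        mul_mem' := by
          rintro a b ⟨ha, iha⟩ ⟨hb, ihb⟩
          refine ⟨mul_mem ha hb, fun c hc => ?_⟩
          have e : ⁅a * b, c⁆ = (a * ⁅b, c⁆ * a⁻¹) * ⁅a, c⁆ := by simp [commutatorElement_def, mul_assoc]
          rw [e]
          exact mul_mem (CfsgLib.LocalCharP.conj_mem_of_le_normalizer hEn ha (ihb c hc)) (iha c hc)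
        inv_mem' := by
          rintro a ⟨ha, iha⟩
          refine ⟨inv_mem ha, fun c hc => ?_⟩
          have e : ⁅a⁻¹, c⁆ = a⁻¹ * ⁅a, c⁆⁻¹ * a⁻¹⁻¹ := by simp [commutatorElement_def, mul_assoc]
          rw [e]
          exact CfsgLib.LocalCharP.conj_mem_of_le_normalizer hEn (inv_mem ha) (inv_mem (iha c hc)) }
    suffices h : W ≤ S from fun x hx => h hx
    refine iSup_le fun g q hq => ?_
    have hqW : q ∈ W := le_iSup (fun g : {g : H // Q.map (MulAut.conj g).toMonoidHom ≤ L} =>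
        Q.map (MulAut.conj (g : H)).toMonoidHom) g hq
    refine ⟨hqW, fun c hc => ?_⟩
    have h1 : ⁅q, c⁆ ∈ Q.map (MulAut.conj (g : H)).toMonoidHom := by
      have := mul_mem hq (CfsgLib.LocalCharP.conj_mem_of_le_normalizer (hCg g g.2) hc (inv_mem hq))
      simpa [commutatorElement_def, mul_assoc] using this
    have h2 : ⁅q, c⁆ ∈ C := by
      have := mul_mem (CfsgLib.LocalCharP.conj_mem_of_le_normalizer hLC (g.2 hq) hc) (inv_mem hc)
      simpa [commutatorElement_def] using this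
    refine ⟨CfsgLib.LocalCharP.le_pCoreOf (D := Q.map (MulAut.conj (g : H)).toMonoidHom ⊓ C) inf_le_right
      ((hQp.map _).to_le inf_le_left)
      (CfsgLib.LocalCharP.le_normalizer_inf (hCg g g.2) Subgroup.le_normalizer) ⟨h1, h2⟩,
      le_iSup (fun g : {g : H // Q.map (MulAut.conj g).toMonoidHom ≤ L} =>
        Q.map (MulAut.conj (g : H)).toMonoidHom) g h1⟩
  exact (hall x hx).2 c hc

end Cfsg.Agent.S2843
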