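import Cfsg.Statements.S2844
import Cfsg.Agent.LocalCharP.SylowCenter
import Cfsg.Agent.LocalCharP.WeaklyClosed
import Cfsg.Agent.LocalCharP.CharPLocal
import Mathlib.Tactic.Group

set_option autoImplicit false
open Cfsg
open scoped commutatorElement Pointwise

namespace Cfsg.Agent.S2844

/-- Let Q be a nontrivial large p-subgroup of the finite group H and Q• = O_p(N_H(Q)). Then for every g ∈ H outside N_H(Q): C_H(Q) ∩ C_H(gQg⁻¹) = 1, C_H(Q•) ∩ C_H(gQ•g⁻¹) = 1, Z(Q) ∩ Z(gQg⁻¹) = 1 and Z(Q•) ∩ Z(gQ•g⁻¹) = 1; moreover N_H(Q) = N_H(Q•) and Q• is large in H. -/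
theorem result {H : Type*} [Group H] [Finite H] {p : ℕ} [Fact p.Prime] (Q : Subgroup H) (hQp : IsPGroup p ↥Q) (hQ1 : Q ≠ ⊥) (hL : Cfsg.IsLarge Q) (Qb : Subgroup H) (hQb : Qb = Cfsg.largeBullet p Q) : (∀ g : H, g ∉ Subgroup.normalizer ((Q : Subgroup H) : Set H) → Subgroup.centralizer ((Q : Subgroup H) : Set H) ⊓ Subgroup.centralizer ((((Q : Subgroup H).map (MulAut.conj (g : H)).toMonoidHom) : Subgroup H) : Set H) = ⊥ ∧ Subgroup.centralizer ((Qb : Subgroup H) : Set H) ⊓ Subgroup.centralizer ((((Qb : Subgroup H).map (MulAut.conj (g : H)).toMonoidHom) : Subgroup H) : Set H) = ⊥ ∧ (Q ⊓ Subgroup.centralizer ((Q : Subgroup H) : Set H)) ⊓ (((Q : Subgroup H).map (MulAut.conj (g : H)).toMonoidHom) ⊓ Subgroup.centralizer ((((Q : Subgroup H).map (MulAut.conj (g : H)).toMonoidHom) : Subgroup H) : Set H)) = ⊥ ∧ (Qb ⊓ Subgroup.centralizer ((Qb : Subgroup H) : Set H)) ⊓ (((Qb : Subgroup H).map (MulAut.conj (g : H)).toMonoidHom)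 ⊓ Subgroup.centralizer ((((Qb : Subgroup H).map (MulAut.conj (g : H)).toMonoidHom) : Subgroup H) : Set H)) = ⊥) ∧ Subgroup.normalizer ((Q : Subgroup H) : Set H) = Subgroup.normalizer ((Qb : Subgroup H) : Set H) ∧ Cfsg.IsLarge Qb := by
  subst hQb
  set N := Subgroup.normalizer (Q : Set H) with hN
  set Qb := Cfsg.largeBullet p Q with hQbdef
  have hQQb : Q ≤ Qb := CfsgLib.LocalCharP.le_pCoreOf Subgroup.le_normalizer hQp le_rfl
  have hQbp : IsPGroup p ↥Qb := CfsgLib.LocalCharP.isPGroup_pCoreOf N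
  have hQb1 : Qb ≠ ⊥ := fun h => hQ1 (le_bot_iff.mp (h ▸ hQQb))
  have hCb : Subgroup.centralizer (Qb : Set H) ≤ Subgroup.centralizer (Q : Set H) :=
    Subgroup.centralizer_le hQQb
  have hNN : N = Subgroup.normalizer (Qb : Set H) :=
    le_antisymm (CfsgLib.LocalCharP.le_normalizer_pCoreOf N)
      ((CfsgLib.LocalCharP.normalizer_le_normalizer_inf_centralizer Qb).trans
        (hL.2 _ (inf_le_right.trans hCb) (CfsgLib.LocalCharP.center_ne_bot hQbp hQb1)))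
  have hLb : Cfsg.IsLarge Qb :=
    ⟨hCb.trans (hL.1.trans hQQb), fun U hU hU1 => hNN ▸ hL.2 U (hU.trans hCb) hU1⟩
  refine ⟨fun g hg => ?_, hNN, hLb⟩
  have h1 := CfsgLib.LocalCharP.centralizer_inf_conj_eq_bot hQp hQ1 hL hg
  have h2 := CfsgLib.LocalCharP.centralizer_inf_conj_eq_bot hQbp hQb1 hLb (g := g) (hNN ▸ hg)
  exact ⟨h1, h2, le_bot_iff.mp ((inf_le_inf inf_le_right inf_le_right).trans h1.le),
    le_bot_iff.mp ((inf_le_inf inf_le_right inf_le_right).trans h2.le)⟩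

end Cfsg.Agent.S2844
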