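import Cfsg.Statements.S2845
import Cfsg.Agent.LocalCharP.SylowCenter
import Cfsg.Agent.LocalCharP.WeaklyClosed
import Cfsg.Agent.LocalCharP.CharPLocal
import Mathlib.Tactic.Group

set_option autoImplicit false
open Cfsg
open scoped commutatorElement Pointwise

namespace Cfsg.Agent.S2845

/-- Let Q be a nontrivial large p-subgroup of the finite group H. Then for every subgroup L ≥ Q with O_p(L) ≠ 1, C_H(O_p(L)) is a p-group and L has characteristic p, and either the weak closure L° of Q in L equals Q or C_H(L°) = 1; for every subgroup R of H containing a Sylow p-subgroup of H with O_p(R) ≠ 1, C_H(O_p(R)) ≤ O_p(R); and H has parabolic characteristic p. -/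
theorem result {H : Type*} [Group H] [Finite H] {p : ℕ} [Fact p.Prime] (Q : Subgroup H) (hQp : IsPGroup p ↥Q) (hQ1 : Q ≠ ⊥) (hL : Cfsg.IsLarge Q) : (∀ L : Subgroup H, Q ≤ L → Cfsg.pCore p ↥L ≠ ⊥ → IsPGroup p ↥(Subgroup.centralizer (((Cfsg.pCoreOf p L) : Subgroup H) : Set H)) ∧ Subgroup.centralizer (Cfsg.pCore p ↥L : Set ↥L) ≤ Cfsg.pCore p ↥L ∧ (Cfsg.weakClosure Q L = Q ∨ Subgroup.centralizer (((Cfsg.weakClosure Q L) : Subgroup H) : Set H) = ⊥)) ∧ (∀ R : Subgroup H, Cfsg.IsParabolic p R → Cfsg.pCore p ↥R ≠ ⊥ → Subgroup.centralizer (((Cfsg.pCoreOf p R) : Subgroup H) : Set H) ≤ (Cfsg.pCoreOf p R)) ∧ Cfsg.IsOfParabolicCharacteristic p H := by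
  have hwc := CfsgLib.LocalCharP.isWeaklyClosedSubgroup_of_isLarge hQp hQ1 hL
  -- the first two conclusions for overgroups of a conjugate of `Q`
  have main : ∀ Q' L : Subgroup H, IsPGroup p ↥Q' → Q' ≠ ⊥ → Cfsg.IsLarge Q' → Q' ≤ L →
      Cfsg.pCoreOf p L ≠ ⊥ →
      IsPGroup p ↥(Subgroup.centralizer (Cfsg.pCoreOf p L : Set H)) ∧
        Subgroup.centralizer (Cfsg.pCore p ↥L : Set ↥L) ≤ Cfsg.pCore p ↥L := by
    intro Q' L hp' h1 hl hQL hO
    obtain ⟨y, hy, hy1⟩ := (Subgroup.bot_or_exists_ne_one _).resolve_left (CfsgLib.LocalCharP.inf_centralizer_ne_bot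
      (CfsgLib.LocalCharP.isPGroup_pCoreOf L) hO hp' (hQL.trans (CfsgLib.LocalCharP.le_normalizer_pCoreOf L)))
    have hyQ : Subgroup.centralizer ({y} : Set H) ≤ Subgroup.normalizer (Q' : Set H) := by
      have h2 := hl.2 (Subgroup.zpowers y) (Subgroup.zpowers_le.mpr hy.2) (by simpa using hy1)
      refine le_trans ?_ h2
      rw [Subgroup.zpowers_eq_closure]
      refine le_trans (le_of_eq ?_) (Subgroup.centralizer_le_normalizer _)
      rw [Subgroup.centralizer_closure]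
    have hQC : Q' ≤ Subgroup.centralizer ({y} : Set H) := fun q hq =>
      Subgroup.mem_centralizer_singleton_iff.mpr (Subgroup.mem_centralizer_iff.mp hy.2 q hq)
    have hc := CfsgLib.LocalCharP.charP_of_selfCentralizing hQC hp' hyQ (inf_le_right.trans hl.1)
    obtain ⟨-, h3, h4⟩ := CfsgLib.LocalCharP.weaklyClosed_overgroup
      (CfsgLib.LocalCharP.isWeaklyClosedSubgroup_of_isLarge hp' h1 hl) hp' hl.1 hQL
      (CfsgLib.LocalCharP.charP_centralizer_of_mem (CfsgLib.LocalCharP.isPGroup_pCoreOf L) hy.1 hc)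
    exact ⟨h3, h4⟩
  have hpar : ∀ R : Subgroup H, Cfsg.IsParabolic p R → Cfsg.pCore p ↥R ≠ ⊥ →
      Subgroup.centralizer (Cfsg.pCoreOf p R : Set H) ≤ Cfsg.pCoreOf p R := by
    intro R hR hR1
    obtain ⟨T, hTR⟩ := hR
    obtain ⟨g, hg⟩ := CfsgLib.LocalCharP.exists_conj_le_sylow hQp T
    have hO : Cfsg.pCoreOf p R ≠ ⊥ := fun h => hR1
      ((Subgroup.map_eq_bot_iff_of_injective _ R.subtype_injective).mp h)
    obtain ⟨h3, h4⟩ := main (Q.map (MulAut.conj g).toMonoidHom) R (hQp.map _)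
      (fun h => hQ1 ((Subgroup.map_eq_bot_iff_of_injective _ (MulAut.conj g).injective).mp h))
      (CfsgLib.LocalCharP.isLarge_conj hL g) (hg.trans hTR) hO
    set C := Subgroup.centralizer (Cfsg.pCoreOf p R : Set H) with hC
    have hTC : (T : Subgroup H) ≤ Subgroup.normalizer (C : Set H) :=
      hTR.trans (CfsgLib.LocalCharP.le_normalizer_centralizer (CfsgLib.LocalCharP.le_normalizer_pCoreOf R))
    have hCT : C ≤ (T : Subgroup H) :=
      le_sup_right.trans (le_of_eq (T.3 (T.2.to_sup_of_normal_right' h3 hTC) le_sup_left))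
    exact fun x hx => CfsgLib.LocalCharP.inf_centralizer_le_of_charP h4 ⟨hTR (hCT hx), hx⟩
  refine ⟨fun L hQL hL1 => ?_, hpar, fun R hRp hR1 hRpar => ?_⟩
  · have hO : Cfsg.pCoreOf p L ≠ ⊥ := fun h => hL1
      ((Subgroup.map_eq_bot_iff_of_injective _ L.subtype_injective).mp h)
    obtain ⟨h3, h4⟩ := main Q L hQp hQ1 hL hQL hO
    refine ⟨h3, h4, ?_⟩
    have hQW : Q ≤ Cfsg.weakClosure Q L := by
      have h : Q.map (MulAut.conj (1 : H)).toMonoidHom ≤ Cfsg.weakClosure Q L :=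
        le_iSup (fun g : {g : H // Q.map (MulAut.conj g).toMonoidHom ≤ L} =>
          Q.map (MulAut.conj (g : H)).toMonoidHom) ⟨1, by rwa [CfsgLib.LocalCharP.map_conj_one]⟩
      rwa [CfsgLib.LocalCharP.map_conj_one] at h
    by_cases hall : ∀ g : {g : H // Q.map (MulAut.conj g).toMonoidHom ≤ L},
        (g : H) ∈ Subgroup.normalizer (Q : Set H)
    · exact Or.inl (le_antisymm (iSup_le fun g =>
        (CfsgLib.LocalCharP.map_conj_eq_self_iff.mpr (hall g)).le) hQW)
    · push Not at hall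
      obtain ⟨g, hg⟩ := hall
      refine Or.inr (le_bot_iff.mp ((le_inf (Subgroup.centralizer_le hQW) (Subgroup.centralizer_le ?_)).trans
        (CfsgLib.LocalCharP.centralizer_inf_conj_eq_bot hQp hQ1 hL hg).le))
      exact le_iSup (fun g : {g : H // Q.map (MulAut.conj g).toMonoidHom ≤ L} =>
        Q.map (MulAut.conj (g : H)).toMonoidHom) g
  · refine CfsgLib.LocalCharP.charP_of_inf_centralizer_le (inf_le_right.trans (hpar _ hRpar fun h => hR1 ?_))
    have h1 : R ≤ Cfsg.pCoreOf p (Subgroup.normalizer (R : Set H)) :=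
      CfsgLib.LocalCharP.le_pCoreOf Subgroup.le_normalizer hRp le_rfl
    rw [Cfsg.pCoreOf, h, Subgroup.map_bot] at h1
    exact le_bot_iff.mp h1

end Cfsg.Agent.S2845
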