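import Cfsg.Statements.S2846
import Cfsg.Agent.LocalCharP.BasicProperty
import Cfsg.Agent.S2845

set_option autoImplicit false
open Cfsg
open scoped commutatorElement Pointwise

namespace Cfsg.Agent.S2846

/-- Let Q be a nontrivial large p-subgroup of the finite group H, S a Sylow p-subgroup containing Q, and L a subgroup containing S with O_p(L) ≠ 1 and C_H(O_p(L)) ≤ O_p(L). Then there are a subgroup M containing S having the basic property (M ∈ 𝔐_H, writing Y_X for the largest p-reduced normal subgroup of X and 𝓛_H for the set of subgroups X with O_p(X) ≠ 1 and C_H(O_p(X)) ≤ O_p(X): M ∈ 𝓛_H, M·C_H(Y_M) is the only maximal member of 𝓛_H containing M and its largest p-reduced normal subgroup is again Y_M, C_M(Y_M) is p-closed, and the image of C_M(Y_M) in M/O_p(M) lies in the Frattini subgroup of M/O_p(M)) and a subgroup L* with S ≤ L* ≤ M, O_p(L*) ≠ 1, C_H(O_p(L*)) ≤ O_p(L*), such that L·C_H(Y_L) = L*·C_H(Y_L), the weak closures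 of Q in L and in L* agree and lie in that of M, and Y_L = Y_{L*} ≤ Y_M. If moreover Q is not normal in L, then Q is normal in neither L* nor M. -/
theorem result {H : Type*} [Group H] [Finite H] {p : ℕ} [Fact p.Prime] (Q : Subgroup H) (hQp : IsPGroup p ↥Q) (hQ1 : Q ≠ ⊥) (hLg : Cfsg.IsLarge Q) (S : Sylow p H) (hQS : Q ≤ (S : Subgroup H)) (L : Subgroup H) (hSL : (S : Subgroup H) ≤ L) (hL : L ∈ Cfsg.charPSubgroups p H) : ∃ M Ls : Subgroup H, (S : Subgroup H) ≤ M ∧ Cfsg.IsInFrakM p M ∧ (S : Subgroup H) ≤ Ls ∧ Ls ≤ M ∧ Ls ∈ Cfsg.charPSubgroups p H ∧ L ⊔ Subgroup.centralizer (((Cfsg.largestPReducedOf p L) : Subgroup H) : Set H) = Ls ⊔ Subgroup.centralizer (((Cfsg.largestPReducedOf p L) : Subgroup H) : Set H) ∧ Cfsg.weakClosure Q L = Cfsg.weakClosure Q Ls ∧ Cfsg.weakClosure Q Ls ≤ Cfsg.weakClosure Q M ∧ (Cfsg.largestPReducedOf p L) = (Cfsg.largestPReducedOf p Ls) ∧ (Cfsg.largestPReducedOf p Ls) ≤ (Cfsg.largestPReducedOf p M) ∧ (¬ L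 ≤ Subgroup.normalizer ((Q : Subgroup H) : Set H) → ¬ Ls ≤ Subgroup.normalizer ((Q : Subgroup H) : Set H) ∧ ¬ M ≤ Subgroup.normalizer ((Q : Subgroup H) : Set H)) := by
  obtain ⟨M, Ls, hSM, hM, hSLs, hLsM, hLsL, hY, hYM, hC⟩ :=
    CfsgLib.LocalCharP.exists_isInFrakM (Cfsg.Agent.S2845.result Q hQp hQ1 hLg).2.2 S L hSL hL
  set Y := Cfsg.largestPReducedOf p L with hYdef
  set C := Subgroup.centralizer (Y : Set H) with hCdef
  have hwc := CfsgLib.LocalCharP.isWeaklyClosedSubgroup_of_isLarge hQp hQ1 hLg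
  have hYn : L ≤ Subgroup.normalizer (Y : Set H) := CfsgLib.LocalCharP.le_normalizer_largestPReducedOf L
  have hCQ : C ≤ Subgroup.normalizer (Q : Set H) :=
    CfsgLib.LocalCharP.centralizer_le_normalizer_of_isLarge hQp hLg
      (CfsgLib.LocalCharP.isPGroup_largestPReducedOf L)
      (CfsgLib.LocalCharP.largestPReducedOf_ne_bot S hSL hL) ((hQS.trans hSL).trans hYn)
  have hYLs : Ls ≤ Subgroup.normalizer (Y : Set H) :=
    hY ▸ CfsgLib.LocalCharP.le_normalizer_largestPReducedOf Ls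
  have hmono : ∀ A B : Subgroup H, A ≤ B → Cfsg.weakClosure Q A ≤ Cfsg.weakClosure Q B :=
    fun A B hAB => iSup_le fun g => le_iSup_of_le ⟨g.1, g.2.trans hAB⟩ le_rfl
  -- the weak closure only depends on `X ⊔ C`
  have key : ∀ X : Subgroup H, Q ≤ X → X ≤ Subgroup.normalizer (Y : Set H) →
      Cfsg.weakClosure Q (X ⊔ C) ≤ Cfsg.weakClosure Q X := by
    intro X hQX hXn
    refine iSup_le fun g => ?_
    obtain ⟨k, hk, hgk⟩ := CfsgLib.LocalCharP.exists_mem_conj_eq hwc hQp (hQX.trans le_sup_left) g.2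
    rw [← SetLike.mem_coe, Subgroup.coe_mul_of_left_le_normalizer_right (H := X) (N := C)
      (CfsgLib.LocalCharP.le_normalizer_centralizer hXn)] at hk
    obtain ⟨x, hx, c, hc, rfl⟩ := hk
    rw [hgk, ← CfsgLib.LocalCharP.map_conj_map_conj, CfsgLib.LocalCharP.map_conj_eq_self_iff.mpr (hCQ hc)]
    refine le_iSup_of_le ⟨x, ?_⟩ le_rfl
    rintro _ ⟨q, hq, rfl⟩
    exact mul_mem (mul_mem hx (hQX hq)) (inv_mem hx)
  have hQLs : Q ≤ Ls := hQS.trans hSLs
  have hwcL : Cfsg.weakClosure Q L = Cfsg.weakClosure Q Ls := by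
    refine le_antisymm ((hmono _ _ ?_).trans (key Ls hQLs hYLs)) ((hmono _ _ ?_).trans (key L (hQS.trans hSL) hYn))
    · exact le_sup_left.trans hC.le
    · exact le_sup_left.trans hC.ge
  refine ⟨M, Ls, hSM, hM, hSLs, hLsM, hLsL, hC, hwcL, hmono _ _ hLsM, hY, hY ▸ hYM, fun hn => ?_⟩
  have hnLs : ¬ Ls ≤ Subgroup.normalizer (Q : Set H) := fun h =>
    hn (le_sup_left.trans (hC.trans_le (sup_le h hCQ)))
  exact ⟨hnLs, fun h => hnLs (hLsM.trans h)⟩

end Cfsg.Agent.S2846
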