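import Cfsg.Statements.S2848
import Cfsg.Agent.LocalCharP.SylowCenter
import Cfsg.Agent.LocalCharP.WeaklyClosed
import Cfsg.Agent.LocalCharP.CharPLocal
import Mathlib.Tactic.Group

set_option autoImplicit false
open Cfsg
open scoped commutatorElement Pointwise

namespace Cfsg.Agent.S2848

/-- Standing hypotheses: G a finite group, S a Sylow p-subgroup, Q a nontrivial large p-subgroup of G contained in S (C_G(Q) ≤ Q and N_G(U) ≤ N_G(Q) for all nontrivial U ≤ C_G(Q)), and M a subgroup containing S with the basic property (M ∈ 𝔐_G(S)); Y_M denotes the largest p-reduced normal subgroup of M and M† = M·C_G(Y_M). Then O_p(M) is a weakly closed subgroup of M† (for p): it is the only M†-conjugate of itself inside some Sylow p-subgroup of M† containing it. -/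
theorem result {G : Type*} [Group G] [Finite G] {p : ℕ} [Fact p.Prime] (S : Sylow p G) (Q : Subgroup G) (hQp : IsPGroup p ↥Q) (hQ1 : Q ≠ ⊥) (hQS : Q ≤ (S : Subgroup G)) (hQ : Cfsg.IsLarge Q) (M : Subgroup G) (hSM : (S : Subgroup G) ≤ M) (hM : Cfsg.IsInFrakM p M) : Cfsg.IsWeaklyClosedSubgroup p (((Cfsg.pCoreOf p M)).subgroupOf (M ⊔ Subgroup.centralizer (((Cfsg.largestPReducedOf p M) : Subgroup G) : Set G))) := by
  set Y := Cfsg.largestPReducedOf p M with hYdef
  set C := Subgroup.centralizer (Y : Set G) with hC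
  set X := M ⊔ C with hX
  set O := Cfsg.pCoreOf p M with hO
  have hMY : M ≤ Subgroup.normalizer (Y : Set G) := CfsgLib.LocalCharP.le_normalizer_largestPReducedOf M
  have hXC : X ≤ Subgroup.normalizer (C : Set G) :=
    sup_le (CfsgLib.LocalCharP.le_normalizer_centralizer hMY) Subgroup.le_normalizer
  have hMC : (M ⊓ C).subgroupOf M |>.Normal :=
    Subgroup.normal_subgroupOf_of_le_normalizer
      (CfsgLib.LocalCharP.le_normalizer_inf_centralizer Subgroup.le_normalizer hMY)
  have hcl : Cfsg.IsPClosed p ↥(M ⊓ C) := hM.2.2.2.2.1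
  have hSO : (S : Subgroup G) ⊓ C = O := by
    refine le_antisymm ?_ (le_inf (CfsgLib.LocalCharP.pCoreOf_le_of_le hSM)
      (CfsgLib.LocalCharP.pCoreOf_le_centralizer_largestPReducedOf M))
    obtain ⟨P⟩ : Nonempty (Sylow p ↥(M ⊓ C)) := inferInstance
    intro x hx
    have hxM : x ∈ M ⊓ C := ⟨hSM hx.1, hx.2⟩
    have h1 : (⟨x, hxM⟩ : ↥(M ⊓ C)) ∈ Cfsg.pCore p ↥(M ⊓ C) :=
      CfsgLib.LocalCharP.le_pCore_of_isPClosed hcl (P := ((S : Subgroup G) ⊓ C).subgroupOf (M ⊓ C))
        ((S.2.to_le inf_le_left).comap_of_injective _ (Subgroup.subtype_injective _)) hx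
    have h2 : Cfsg.pCoreOf p (M ⊓ C) ≤ O :=
      CfsgLib.LocalCharP.le_pCoreOf ((CfsgLib.LocalCharP.pCoreOf_le _).trans inf_le_left)
        (CfsgLib.LocalCharP.isPGroup_pCoreOf _)
        ((CfsgLib.LocalCharP.le_normalizer_inf_centralizer Subgroup.le_normalizer hMY).trans
          (CfsgLib.LocalCharP.normalizer_le_normalizer_pCoreOf _))
    exact h2 ⟨_, h1, rfl⟩
  have hSX : (S : Subgroup G) ≤ X := hSM.trans le_sup_left
  refine ⟨S.subtype hSX, ?_, fun x hx => ?_⟩
  · rw [Sylow.coe_subtype]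
    exact fun y hy => CfsgLib.LocalCharP.pCoreOf_le_of_le hSM hy
  refine Subgroup.eq_of_le_of_card_ge ?_ (le_of_eq
    (Subgroup.card_map_of_injective (K := O.subgroupOf X) (f := (MulAut.conj x).toMonoidHom)
      (MulAut.conj x).injective).symm)
  rintro _ ⟨y, hy, rfl⟩
  show (((MulAut.conj x) y : ↥X) : G) ∈ O
  rw [← hSO]
  refine ⟨hx ⟨y, hy, rfl⟩, ?_⟩
  have hyC : (y : G) ∈ C :=
    CfsgLib.LocalCharP.pCoreOf_le_centralizer_largestPReducedOf M (Subgroup.mem_subgroupOf.mp hy)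
  exact CfsgLib.LocalCharP.conj_mem_of_le_normalizer hXC x.2 hyC

end Cfsg.Agent.S2848
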