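import Cfsg.Statements.S2849
import Cfsg.Agent.LocalCharP.SylowCenter
import Cfsg.Agent.LocalCharP.WeaklyClosed
import Cfsg.Agent.LocalCharP.CharPLocal
import Mathlib.Tactic.Group

set_option autoImplicit false
open Cfsg
open scoped commutatorElement Pointwise

namespace Cfsg.Agent.S2849

/-- Standing hypotheses: G a finite group, S a Sylow p-subgroup, Q a nontrivial large p-subgroup of G contained in S (C_G(Q) ≤ Q and N_G(U) ≤ N_G(Q) for all nontrivial U ≤ C_G(Q)), and M a subgroup containing S with the basic property (M ∈ 𝔐_G(S)); Y_M denotes the largest p-reduced normal subgroup of M and M† = M·C_G(Y_M). Suppose Y_M is asymmetric in G. Then for every subgroup R with Y_M ≤ R ≤ M†, the normal closure of Y_M in N_G(R) is elementary abelian. -/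
theorem result {G : Type*} [Group G] [Finite G] {p : ℕ} [Fact p.Prime] (S : Sylow p G) (Q : Subgroup G) (hQp : IsPGroup p ↥Q) (hQ1 : Q ≠ ⊥) (hQS : Q ≤ (S : Subgroup G)) (hQ : Cfsg.IsLarge Q) (M : Subgroup G) (hSM : (S : Subgroup G) ≤ M) (hM : Cfsg.IsInFrakM p M) (hasym : ¬ Cfsg.IsSymmetricIn (Cfsg.largestPReducedOf p M)) (R : Subgroup G) (hYR : (Cfsg.largestPReducedOf p M) ≤ R) (hRM : R ≤ (M ⊔ Subgroup.centralizer (((Cfsg.largestPReducedOf p M) : Subgroup G) : Set G))) : Cfsg.IsElementaryAbelian p ((Subgroup.normalClosure ((((Cfsg.largestPReducedOf p M)).subgroupOf (Subgroup.normalizer ((R : Subgroup G) : Set G)) : Subgroup ↥(Subgroup.normalizer ((R : Subgroup G) : Set G))) : Set ↥(Subgroup.normalizer ((R : Subgroup G) : Set G)))).map (Subgroup.normalizer ((R : Subgroup G) : Set G)).subtype) := by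
  set Y := Cfsg.largestPReducedOf p M with hYdef
  set N := Subgroup.normalizer (R : Set G) with hN
  have hMY : (M ⊔ Subgroup.centralizer (Y : Set G)) ≤ Subgroup.normalizer (Y : Set G) :=
    sup_le (CfsgLib.LocalCharP.le_normalizer_largestPReducedOf M) (Subgroup.centralizer_le_normalizer _)
  have hel : Cfsg.IsElementaryAbelian p Y := CfsgLib.LocalCharP.largestPReducedOf_elementaryAbelian M
  have hone : ∀ k ∈ N, ⁅Y, Y.map (MulAut.conj k).toMonoidHom⁆ = ⊥ := by
    intro k hk
    by_contra hne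
    refine hasym ⟨k, hne, ?_⟩
    have hkR : Y.map (MulAut.conj k).toMonoidHom ≤ R :=
      (Subgroup.map_mono hYR).trans (CfsgLib.LocalCharP.map_conj_eq_self_iff.mpr hk).le
    have hn1 : Y.map (MulAut.conj k).toMonoidHom ≤ Subgroup.normalizer (Y : Set G) :=
      hkR.trans (hRM.trans hMY)
    have hn2 : Y ≤ Subgroup.normalizer ((Y.map (MulAut.conj k).toMonoidHom : Subgroup G) : Set G) := by
      rw [← CfsgLib.LocalCharP.map_conj_normalizer]
      refine le_trans (hYR.trans (CfsgLib.LocalCharP.map_conj_eq_self_iff.mpr hk).ge) ?_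
      exact Subgroup.map_mono (hRM.trans hMY)
    rw [Subgroup.commutator_le]
    intro a ha b hb
    refine ⟨?_, ?_⟩
    · have := mul_mem ha (CfsgLib.LocalCharP.conj_mem_of_le_normalizer hn1 hb (inv_mem ha))
      show ⁅a, b⁆ ∈ Y
      simpa [commutatorElement_def, mul_assoc] using this
    · have := mul_mem (CfsgLib.LocalCharP.conj_mem_of_le_normalizer hn2 ha hb) (inv_mem hb)
      show ⁅a, b⁆ ∈ Y.map (MulAut.conj k).toMonoidHom
      simpa [commutatorElement_def, mul_assoc] using this
  set s : Set G := ⋃ n : ↥N, ((Y.map (MulAut.conj (n : G)).toMonoidHom : Subgroup G) : Set G) with hs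
  have hcomm : ∀ x ∈ s, ∀ y ∈ s, x * y = y * x := by
    intro x hx y hy
    obtain ⟨a, a', ha', rfl⟩ := Set.mem_iUnion.mp hx
    obtain ⟨b, b', hb', rfl⟩ := Set.mem_iUnion.mp hy
    have hmem : ⁅a', (MulAut.conj ((a : G)⁻¹ * b)).toMonoidHom b'⁆ = 1 := by
      rw [← Subgroup.mem_bot, ← hone _ (mul_mem (inv_mem a.2) b.2)]
      exact Subgroup.commutator_mem_commutator ha' ⟨b', hb', rfl⟩
    rw [commutatorElement_eq_one_iff_mul_comm] at hmem
    have := congrArg (MulAut.conj (a : G)) hmem
    simpa [mul_assoc] using this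
  have hA : IsMulCommutative ↥(Subgroup.closure s) := by
    have h1 : Subgroup.closure s ≤ Subgroup.centralizer ((Subgroup.closure s : Subgroup G) : Set G) := by
      rw [Subgroup.centralizer_closure, Subgroup.closure_le]
      exact fun x hx => Subgroup.mem_centralizer_iff.mpr fun y hy => hcomm y hy x hx
    exact ⟨⟨fun a b => Subtype.ext (Subgroup.mem_centralizer_iff.mp (h1 b.2) a a.2)⟩⟩
  refine CfsgLib.LocalCharP.isElementaryAbelian_of_le
    (CfsgLib.LocalCharP.isElementaryAbelian_closure hA Subgroup.subset_closure fun x hx => ?_) ?_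
  · obtain ⟨a, a', ha', rfl⟩ := Set.mem_iUnion.mp hx
    rw [← map_pow, hel.2 a' ha', map_one]
  · rw [Subgroup.map_le_iff_le_comap]
    refine (Subgroup.closure_le _).2 fun z hz => ?_
    obtain ⟨y, hy, hyz⟩ := Group.mem_conjugatesOfSet_iff.1 hz
    obtain ⟨n, rfl⟩ := isConj_iff.1 hyz
    exact Subgroup.subset_closure (Set.mem_iUnion.mpr ⟨n, (y : G), hy, rfl⟩)

end Cfsg.Agent.S2849
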