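import Cfsg.Statements.S2850
import Cfsg.Agent.LocalCharP.Asymmetric
import Cfsg.Agent.S2845
import Mathlib.Tactic.Group

set_option autoImplicit false
open Cfsg
open scoped commutatorElement Pointwise

namespace Cfsg.Agent.S2850

/-- Standing hypotheses: G a finite group, S a Sylow p-subgroup, Q a nontrivial large p-subgroup of G contained in S (C_G(Q) ≤ Q and N_G(U) ≤ N_G(Q) for all nontrivial U ≤ C_G(Q)), and M a subgroup containing S with the basic property (M ∈ 𝔐_G(S)); Y_M denotes the largest p-reduced normal subgroup of M and M† = M·C_G(Y_M). Suppose Y_M is asymmetric in G. Then N_G(L) ≤ N_G(O_p(M)) ≤ M† for every p-subgroup L containing O_p(M); O_p(M) is a weakly closed subgroup of G; for every subgroup L containing O_p(M), L ∩ M† contains a Sylow p-subgroup of L; and two elements of Y_M conjugate in G are conjugate in M. -/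
theorem result {G : Type*} [Group G] [Finite G] {p : ℕ} [Fact p.Prime] (S : Sylow p G) (Q : Subgroup G) (hQp : IsPGroup p ↥Q) (hQ1 : Q ≠ ⊥) (hQS : Q ≤ (S : Subgroup G)) (hQ : Cfsg.IsLarge Q) (M : Subgroup G) (hSM : (S : Subgroup G) ≤ M) (hM : Cfsg.IsInFrakM p M) (hasym : ¬ Cfsg.IsSymmetricIn (Cfsg.largestPReducedOf p M)) : (∀ L : Subgroup G, IsPGroup p ↥L → (Cfsg.pCoreOf p M) ≤ L → Subgroup.normalizer ((L : Subgroup G) : Set G) ≤ Subgroup.normalizer (((Cfsg.pCoreOf p M) : Subgroup G) : Set G) ∧ Subgroup.normalizer (((Cfsg.pCoreOf p M) : Subgroup G) : Set G) ≤ (M ⊔ Subgroup.centralizer (((Cfsg.largestPReducedOf p M) : Subgroup G) : Set G))) ∧ Cfsg.IsWeaklyClosedSubgroup p (Cfsg.pCoreOf p M) ∧ (∀ L : Subgroup G, (Cfsg.pCoreOf p M) ≤ L → Cfsg.IsParabolic p ((L ⊓ (M ⊔ Subgroup.centralizer (((Cfsg.largestPReducedOf p M) : Subgroup G) : Set G))).subgroupOf L)) ∧ (∀ x ∈ (Cfsg.largestPReducedOf p M), ∀ g : G, g * x * g⁻¹ ∈ (Cfsg.largestPReducedOf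 p M) → ∃ m ∈ M, m * x * m⁻¹ = g * x * g⁻¹) := by
  have hpar := (Cfsg.Agent.S2845.result Q hQp hQ1 hQ).2.2
  have hwc := CfsgLib.LocalCharP.isWeaklyClosedSubgroup_pCoreOf hpar S hSM hM hasym
  set X := M ⊔ Subgroup.centralizer (Cfsg.largestPReducedOf p M : Set G) with hX
  have hNO : Subgroup.normalizer (Cfsg.pCoreOf p M : Set G) ≤ X :=
    CfsgLib.LocalCharP.normalizer_pCoreOf_le_dagger hpar S hSM hM
  refine ⟨fun L hL hOL => ⟨CfsgLib.LocalCharP.normalizer_le_normalizer_pCoreOf_of_asymmetric hpar S hSM hM hasym hL hOL, hNO⟩,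
    hwc, fun L hOL => ?_, fun x hx g hgx => ?_⟩
  · obtain ⟨P, hP, -⟩ := CfsgLib.LocalCharP.exists_sylow_le_dagger hpar S hSM hM hasym hOL
    exact ⟨P, fun y hy => ⟨y.2, hP ⟨y, hy, rfl⟩⟩⟩
  · set K := Subgroup.centralizer ({x} : Set G) with hK
    have hOK : Cfsg.pCoreOf p M ≤ K := fun o ho => Subgroup.mem_centralizer_singleton_iff.mpr
      (Subgroup.mem_centralizer_iff.mp
        (CfsgLib.LocalCharP.pCoreOf_le_centralizer_largestPReducedOf M ho) x hx).symm
    have hOg : (Cfsg.pCoreOf p M).map (MulAut.conj g⁻¹).toMonoidHom ≤ K := by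
      rintro _ ⟨o, ho, rfl⟩
      refine Subgroup.mem_centralizer_singleton_iff.mpr ?_
      have h := Subgroup.mem_centralizer_iff.mp
        (CfsgLib.LocalCharP.pCoreOf_le_centralizer_largestPReducedOf M ho) _ hgx
      show g⁻¹ * o * g⁻¹⁻¹ * x = x * (g⁻¹ * o * g⁻¹⁻¹)
      calc g⁻¹ * o * g⁻¹⁻¹ * x = g⁻¹ * (o * (g * x * g⁻¹)) * g := by group
        _ = x * (g⁻¹ * o * g⁻¹⁻¹) := by rw [← h]; group
    obtain ⟨k, hk, hkg⟩ := CfsgLib.LocalCharP.exists_mem_conj_eq hwc
      (CfsgLib.LocalCharP.isPGroup_pCoreOf M) hOK hOg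
    have hn := CfsgLib.LocalCharP.map_conj_eq_map_conj_iff.mp hkg
    have h1 : g * k ∈ X := by
      have := inv_mem (hNO hn)
      simpa using this
    have hsup : ((X : Subgroup G) : Set G) = (M : Set G) * (Subgroup.centralizer (Cfsg.largestPReducedOf p M : Set G) : Set G) :=
      Subgroup.coe_mul_of_left_le_normalizer_right (H := M) (N := Subgroup.centralizer (Cfsg.largestPReducedOf p M : Set G))
        (CfsgLib.LocalCharP.le_normalizer_centralizer (CfsgLib.LocalCharP.le_normalizer_largestPReducedOf M))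
    rw [← SetLike.mem_coe, hsup] at h1
    obtain ⟨m, hm, c, hc, hmc⟩ := h1
    refine ⟨m, hm, ?_⟩
    have hg : g = m * c * k⁻¹ := by rw [show m * c = g * k from hmc, mul_inv_cancel_right]
    have hkx : k⁻¹ * x * k = x := by
      rw [mul_assoc, ← Subgroup.mem_centralizer_singleton_iff.mp hk, inv_mul_cancel_left]
    have hcx : c * x * c⁻¹ = x := by
      rw [← Subgroup.mem_centralizer_iff.mp hc x hx, mul_inv_cancel_right]
    rw [hg, show m * c * k⁻¹ * x * (m * c * k⁻¹)⁻¹ = m * (c * (k⁻¹ * x * k) * c⁻¹) * m⁻¹ by group, hkx, hcx]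

end Cfsg.Agent.S2850
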