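import Cfsg.Statements.S2851
import Cfsg.Agent.LocalCharP.Asymmetric
import Cfsg.Agent.S2845
import Cfsg.Agent.Cores.GenFitting

set_option autoImplicit false
open Cfsg
open scoped commutatorElement Pointwise

namespace Cfsg.Agent.S2851

/-- Standing hypotheses: G a finite group, S a Sylow p-subgroup, Q a nontrivial large p-subgroup of G contained in S, M a subgroup containing S with the basic property (M ∈ 𝔐_G(S)); Y_M the largest p-reduced normal subgroup of M and M† = M·C_G(Y_M). Let F be the preimage in M† of the generalized Fitting subgroup of M†/C_{M†}(Y_M). If Y_M is asymmetric in G and H is a subgroup of characteristic p containing F, then Y_M ≤ Y_H. -/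
theorem result {G : Type*} [Group G] [Finite G] {p : ℕ} [Fact p.Prime] (S : Sylow p G) (Q : Subgroup G) (hQp : IsPGroup p ↥Q) (hQ1 : Q ≠ ⊥) (hQS : Q ≤ (S : Subgroup G)) (hQ : Cfsg.IsLarge Q) (M : Subgroup G) (hSM : (S : Subgroup G) ≤ M) (hM : Cfsg.IsInFrakM p M) (hasym : ¬ Cfsg.IsSymmetricIn (Cfsg.largestPReducedOf p M)) [hn : ((Subgroup.centralizer (((Cfsg.largestPReducedOf p M) : Subgroup G) : Set G)).subgroupOf (M ⊔ Subgroup.centralizer (((Cfsg.largestPReducedOf p M) : Subgroup G) : Set G))).Normal] (F : Subgroup G) (hF : F = ((Cfsg.generalizedFittingSubgroup (↥(M ⊔ Subgroup.centralizer (((Cfsg.largestPReducedOf p M) : Subgroup G) : Set G)) ⧸ (Subgroup.centralizer (((Cfsg.largestPReducedOf p M) : Subgroup G) : Set G)).subgroupOf (M ⊔ Subgroup.centralizer (((Cfsg.largestPReducedOf p M) : Subgroup G) : Set G)))).comap (QuotientGroup.mk' ((Subgroup.centralizer (((Cfsg.largestPReducedOf p M) : Subgroup G) : Set G)).subgroupOf (M ⊔ Subgroup.centralizer (((Cfsg.largestPReducedOf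 p M) : Subgroup G) : Set G))))).map ((M ⊔ Subgroup.centralizer (((Cfsg.largestPReducedOf p M) : Subgroup G) : Set G))).subtype) (H : Subgroup G) (hFH : F ≤ H) (hH : Subgroup.centralizer (Cfsg.pCore p ↥H : Set ↥H) ≤ Cfsg.pCore p ↥H) : (Cfsg.largestPReducedOf p M) ≤ Cfsg.largestPReducedOf p H := by
  have hpar := (Cfsg.Agent.S2845.result Q hQp hQ1 hQ).2.2
  set Y := Cfsg.largestPReducedOf p M with hY
  set C := Subgroup.centralizer (Y : Set G) with hC
  set X := M ⊔ C with hX
  set O := Cfsg.pCoreOf p M with hO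
  set Cn := C.subgroupOf X with hCn
  set mk := QuotientGroup.mk' Cn with hmk
  set Fs := Cfsg.generalizedFittingSubgroup (↥X ⧸ Cn) with hFs
  have hOC : O ≤ C := CfsgLib.LocalCharP.pCoreOf_le_centralizer_largestPReducedOf M
  have hmem : ∀ x : ↥X, mk x = 1 ↔ (x : G) ∈ C := fun x => QuotientGroup.eq_one_iff x
  have hCF : C ≤ F := by
    intro c hc
    rw [hF]
    refine ⟨⟨c, Subgroup.mem_sup_right hc⟩, ?_, rfl⟩
    show mk ⟨c, Subgroup.mem_sup_right hc⟩ ∈ Fs
    rw [(hmem _).mpr hc]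
    exact one_mem _
  have hOH : O ≤ H := hOC.trans (hCF.trans hFH)
  have hred : Cfsg.pCore p (↥X ⧸ Cn) = ⊥ := by
    have h1 : CfsgLib.LocalCharP.IsPRed p X Y := by
      have h := CfsgLib.LocalCharP.isPRed_largestPReducedOf (p := p) X
      have he := hM.2.2.2.1
      rwa [← he] at h
    set D := ((Cfsg.pCore p (↥X ⧸ Cn)).comap mk).map X.subtype with hD
    haveI := Cfsg.pCore_normal p (↥X ⧸ Cn)
    have h2 := h1.2.2 D (Subgroup.map_subtype_le _)
      (CfsgLib.LocalCharP.map_subgroupOf_normal (Subgroup.Normal.comap inferInstance _)) ?_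
    · refine le_bot_iff.mp fun q hq => ?_
      obtain ⟨x, rfl⟩ := QuotientGroup.mk'_surjective Cn q
      exact Subgroup.mem_bot.mpr ((hmem _).mpr (h2 ⟨x, hq, rfl⟩))
    · rintro _ ⟨x, hx, rfl⟩
      obtain ⟨k, hk⟩ := CfsgLib.CharP.isPGroup_pCore.to_le le_rfl ⟨mk x, hx⟩
      refine ⟨k, ?_⟩
      have h3 : (mk x) ^ p ^ k = 1 := congrArg Subtype.val hk
      rw [← map_pow] at h3
      simpa using (hmem _).mp h3
  -- a subgroup normalized by `H` which acts on `Y` as a `p`-group centralizes `Y`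
  have key : ∀ D : Subgroup G, D ≤ H → H ≤ Subgroup.normalizer (D : Set G) →
      (∀ d ∈ D, ∃ k : ℕ, d ^ p ^ k ∈ C) → D ≤ C := by
    intro D hDH hHD hDp
    have hOD : O ≤ Subgroup.normalizer (D : Set G) := hOH.trans hHD
    obtain ⟨P, hPX, -⟩ := CfsgLib.LocalCharP.exists_sylow_le_dagger hpar S hSM hM hasym
      (le_sup_right : O ≤ D ⊔ O)
    have hDX : D ≤ X := by
      refine le_sup_left.trans (b := D ⊔ O) ?_
      have h0 : D ⊔ O = ((Cfsg.pResidual p ↥(D ⊔ O) ⊔ (P : Subgroup ↥(D ⊔ O)))).map (D ⊔ O).subtype := by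
        rw [CfsgLib.LocalCharP.pResidual_sup_sylow, ← MonoidHom.range_eq_map, Subgroup.range_subtype]
      rw [h0, Subgroup.map_sup]
      refine sup_le ?_ hPX
      rw [Subgroup.map_le_iff_le_comap]
      refine CfsgLib.LocalCharP.pResidual_le fun x hx => ?_
      have hx0 : (x : G) ∈ ((D ⊔ O : Subgroup G) : Set G) := x.2
      rw [Subgroup.coe_mul_of_right_le_normalizer_left D O hOD] at hx0
      obtain ⟨d, hd, o, ho, hdo⟩ := hx0
      haveI : (D.subgroupOf (D ⊔ O)).Normal :=
        Subgroup.normal_subgroupOf_of_le_normalizer (sup_le Subgroup.le_normalizer hOD)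
      have hxD : x ∈ D.subgroupOf (D ⊔ O) := by
        refine CfsgLib.LocalCharP.mem_of_isPGroup_quotient (p := p) ?_ hx
        intro q
        obtain ⟨y, rfl⟩ := QuotientGroup.mk_surjective q
        have hy : (y : G) ∈ ((D ⊔ O : Subgroup G) : Set G) := y.2
        rw [Subgroup.coe_mul_of_right_le_normalizer_left D O hOD] at hy
        obtain ⟨d', hd', o', ho', hy'⟩ := hy
        obtain ⟨k, hk⟩ := CfsgLib.LocalCharP.isPGroup_pCoreOf M ⟨o', ho'⟩
        refine ⟨k, ?_⟩
        have hyo : (QuotientGroup.mk y : ↥(D ⊔ O) ⧸ D.subgroupOf (D ⊔ O)) =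
            QuotientGroup.mk ⟨o', Subgroup.mem_sup_right ho'⟩ := by
          refine (QuotientGroup.eq.mpr ?_)
          show (y : G)⁻¹ * o' ∈ D
          rw [← hy', mul_inv_rev, mul_assoc]
          simpa [mul_assoc] using CfsgLib.LocalCharP.conj_mem_of_le_normalizer hOD (inv_mem ho') (inv_mem hd')
        rw [hyo, ← QuotientGroup.mk_pow, QuotientGroup.eq_one_iff]
        show (o' : G) ^ p ^ k ∈ D
        have := congrArg Subtype.val hk
        simp only [SubmonoidClass.coe_pow, OneMemClass.coe_one] at this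
        rw [this]
        exact one_mem _
      obtain ⟨k, hk⟩ := hDp (x : G) hxD
      refine Subgroup.mem_comap.mpr (Subgroup.mem_sup_right ?_)
      show (x : G) ∈ C
      exact CfsgLib.LocalCharP.mem_of_pow_pow_mem (by rwa [Subgroup.orderOf_coe]) hk
    set Pb := (D.subgroupOf X).map mk with hPb
    have hPbp : IsPGroup p ↥Pb := by
      rintro ⟨_, d, hd, rfl⟩
      obtain ⟨k, hk⟩ := hDp (d : G) hd
      refine ⟨k, Subtype.ext ?_⟩
      show (mk d) ^ p ^ k = 1
      rw [← map_pow]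
      exact (hmem _).mpr (by simpa using hk)
    have hFPb : Fs ≤ Subgroup.normalizer (Pb : Set (↥X ⧸ Cn)) := by
      refine CfsgLib.LocalCharP.le_normalizer_of_conj_mem ?_
      rintro f hf _ ⟨d, hd, rfl⟩
      obtain ⟨x, rfl⟩ := QuotientGroup.mk'_surjective Cn f
      refine ⟨x * d * x⁻¹, ?_, by rw [map_mul, map_mul, map_inv]⟩
      exact CfsgLib.LocalCharP.conj_mem_of_le_normalizer hHD
        (hFH (hF ▸ ⟨x, hf, rfl⟩)) hd
    have hinf : Pb ⊓ Fs = ⊥ := by
      refine le_bot_iff.mp ?_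
      have hn : ((Pb ⊓ Fs).subgroupOf Fs).Normal := Subgroup.normal_subgroupOf_of_le_normalizer
        (CfsgLib.LocalCharP.le_normalizer_inf hFPb Subgroup.le_normalizer)
      have hp : IsPGroup p ↥((Pb ⊓ Fs).subgroupOf Fs) :=
        (hPbp.to_le inf_le_left).comap_of_injective _ Fs.subtype_injective
      have h := (Subgroup.map_mono (f := Fs.subtype) (CfsgLib.CharP.le_pCore hn hp)).trans
        (CfsgLib.LocalCharP.map_pCore_le_pCore_of_isSubnormal
          (CfsgLib.Cores.generalizedFittingSubgroup_normal (G := ↥X ⧸ Cn)).isSubnormal)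
      rw [Subgroup.map_subgroupOf_eq_of_le inf_le_right] at h
      exact h.trans hred.le
    have hPC : Pb ≤ Subgroup.centralizer (Fs : Set (↥X ⧸ Cn)) := by
      rw [← Subgroup.commutator_eq_bot_iff_le_centralizer, ← le_bot_iff, ← hinf]
      refine le_inf ?_ (Subgroup.commutator_le_right Pb Fs)
      rw [Subgroup.commutator_comm]
      exact Subgroup.commutator_le.mpr fun f hf d hd => by
        rw [commutatorElement_def]
        exact mul_mem (CfsgLib.LocalCharP.conj_mem_of_le_normalizer hFPb hf hd) (inv_mem hd)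
    have hPb1 : Pb = ⊥ := le_bot_iff.mp (hinf ▸ le_inf le_rfl
      (hPC.trans CfsgLib.Cores.centralizer_generalizedFitting_le))
    intro d hd
    have h1 : mk ⟨d, hDX hd⟩ ∈ (⊥ : Subgroup (↥X ⧸ Cn)) :=
      hPb1 ▸ ⟨⟨d, hDX hd⟩, hd, rfl⟩
    exact (hmem _).mp (Subgroup.mem_bot.mp h1)
  set P := Cfsg.pCoreOf p H with hP
  have hPC : P ≤ C := key P (CfsgLib.LocalCharP.pCoreOf_le H) (CfsgLib.LocalCharP.le_normalizer_pCoreOf H)
    fun d hd => by
      obtain ⟨k, hk⟩ := CfsgLib.LocalCharP.isPGroup_pCoreOf H ⟨d, hd⟩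
      refine ⟨k, ?_⟩
      have := congrArg Subtype.val hk
      simp only [SubmonoidClass.coe_pow, OneMemClass.coe_one] at this
      rw [this]
      exact one_mem _
  have hYH : Y ≤ H := (CfsgLib.LocalCharP.largestPReducedOf_le_pCoreOf M).trans hOH
  have hYP : Y ≤ P := fun y hy => CfsgLib.LocalCharP.inf_centralizer_le_of_charP hH
    ⟨hYH hy, Subgroup.le_centralizer_iff.mp hPC hy⟩
  -- the normal closure
  set W : Subgroup G := ⨆ h : ↥H, Y.map (MulAut.conj (h : G)).toMonoidHom with hW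
  have hHW : H ≤ Subgroup.normalizer (W : Set G) := by
    intro y hy
    rw [← CfsgLib.LocalCharP.map_conj_eq_self_iff]
    refine Subgroup.eq_of_le_of_card_ge ?_
      (Subgroup.card_map_of_injective (K := W) (MulAut.conj y).injective).ge
    rw [hW, Subgroup.map_iSup]
    refine iSup_le fun x => ?_
    rw [CfsgLib.LocalCharP.map_conj_map_conj]
    exact le_iSup_of_le (⟨y, hy⟩ * x : ↥H) le_rfl
  have hYW : Y ≤ W := (CfsgLib.LocalCharP.map_conj_one Y).ge.trans (le_iSup_of_le (1 : ↥H) le_rfl)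
  have hgenP : ∀ h : ↥H, Y.map (MulAut.conj (h : G)).toMonoidHom ≤ P := fun h =>
    (Subgroup.map_mono hYP).trans (CfsgLib.LocalCharP.map_conj_eq_self_iff.mpr
      (CfsgLib.LocalCharP.le_normalizer_pCoreOf H h.2)).le
  have hWP : W ≤ P := iSup_le hgenP
  have hgenC : ∀ h : ↥H, P ≤ Subgroup.centralizer ((Y.map (MulAut.conj (h : G)).toMonoidHom : Subgroup G) : Set G) := by
    intro h
    rw [← CfsgLib.LocalCharP.map_conj_centralizer]
    exact (CfsgLib.LocalCharP.map_conj_eq_self_iff.mpr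
      (CfsgLib.LocalCharP.le_normalizer_pCoreOf (p := p) H h.2)).ge.trans (Subgroup.map_mono hPC)
  have hWel : Cfsg.IsElementaryAbelian p W := by
    have hPW : W ≤ Subgroup.centralizer (P : Set G) := iSup_le fun h => Subgroup.le_centralizer_iff.mp (hgenC h)
    refine ⟨⟨⟨fun a b => Subtype.ext ?_⟩⟩, ?_⟩
    · exact Subgroup.mem_centralizer_iff.mp (hPW b.2) a (hWP a.2)
    · intro a ha
      refine (Subgroup.iSup_induction (fun h : ↥H => Y.map (MulAut.conj (h : G)).toMonoidHom)
        (C := fun a => a ∈ W ∧ a ^ p = 1) ha ?_ ⟨one_mem _, one_pow _⟩ ?_).2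
      · rintro h _ ⟨y, hy, rfl⟩
        refine ⟨le_iSup (fun h : ↥H => Y.map (MulAut.conj (h : G)).toMonoidHom) h ⟨y, hy, rfl⟩, ?_⟩
        rw [← map_pow, (CfsgLib.LocalCharP.largestPReducedOf_elementaryAbelian M).2 y hy, map_one]
      · rintro x y ⟨hx, hx'⟩ ⟨hy, hy'⟩
        refine ⟨mul_mem hx hy, ?_⟩
        rw [(show Commute x y from Subgroup.mem_centralizer_iff.mp (hPW hy) x (hWP hx)).mul_pow, hx', hy', one_mul]
  have hWred : CfsgLib.LocalCharP.IsPRed p H W := by
    refine ⟨hHW, hWel, fun D hDH hHD hD => ?_⟩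
    have hDC : D ≤ C := key D hDH hHD fun d hd => by
      obtain ⟨k, hk⟩ := hD d hd
      exact ⟨k, Subgroup.centralizer_le hYW hk⟩
    refine Subgroup.le_centralizer_iff.mp (iSup_le fun h => Subgroup.le_centralizer_iff.mp ?_)
    rw [← CfsgLib.LocalCharP.map_conj_centralizer, ← CfsgLib.LocalCharP.map_conj_eq_self_iff.mpr (hHD h.2)]
    exact Subgroup.map_mono hDC
  exact hYW.trans (hWred.le_largestPReducedOf (hWP.trans (CfsgLib.LocalCharP.pCoreOf_le H)))

end Cfsg.Agent.S2851
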