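import Cfsg.Statements.S2852
import Cfsg.Agent.LocalCharP.Overgroup
import Cfsg.Agent.S2845
import Cfsg.Agent.Amalgam.CharPVertices

set_option autoImplicit false
open Cfsg
open scoped commutatorElement Pointwise

namespace Cfsg.Agent.S2852

/-- Standing hypotheses: G a finite group, S a Sylow p-subgroup, Q a nontrivial large p-subgroup of G contained in S, M a subgroup containing S with the basic property (M ∈ 𝔐_G(S)); Y_M the largest p-reduced normal subgroup of M. If Y_M is char-p-tall and asymmetric in G, then some subgroup H of G lies in ℌ_G(O_p(M)): H has characteristic p, O_p(M) ≤ H, Y_M ≰ O_p(H), and Y_M ≤ O_p(P) for every proper subgroup P of H containing O_p(M). -/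
theorem result {G : Type*} [Group G] [Finite G] {p : ℕ} [Fact p.Prime] (S : Sylow p G) (Q : Subgroup G) (hQp : IsPGroup p ↥Q) (hQ1 : Q ≠ ⊥) (hQS : Q ≤ (S : Subgroup G)) (hQ : Cfsg.IsLarge Q) (M : Subgroup G) (hSM : (S : Subgroup G) ≤ M) (hM : Cfsg.IsInFrakM p M) (htall : Cfsg.IsCharPTall p (Cfsg.largestPReducedOf p M)) (hasym : ¬ Cfsg.IsSymmetricIn (Cfsg.largestPReducedOf p M)) : ∃ H : Subgroup G, Cfsg.IsInFrakH p M H := by
  have hpar := (Cfsg.Agent.S2845.result Q hQp hQ1 hQ).2.2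
  set Y := Cfsg.largestPReducedOf p M with hY
  set C := Subgroup.centralizer (Y : Set G) with hC
  set O := Cfsg.pCoreOf p M with hO
  have hwc := CfsgLib.LocalCharP.isWeaklyClosedSubgroup_pCoreOf hpar S hSM hM hasym
  have hCO := CfsgLib.LocalCharP.centralizer_pCoreOf_le_of_isInFrakM hM
  have hOp : IsPGroup p ↥O := CfsgLib.LocalCharP.isPGroup_pCoreOf M
  have hOC : O ≤ C := CfsgLib.LocalCharP.pCoreOf_le_centralizer_largestPReducedOf M
  obtain ⟨T, L, hTL, hL, hYL⟩ := htall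
  obtain ⟨P, hP⟩ := CfsgLib.LocalCharP.exists_sylow_inf_centralizer S (V := Y)
    (hSM.trans (CfsgLib.LocalCharP.le_normalizer_largestPReducedOf M))
  rw [CfsgLib.LocalCharP.sylow_inf_centralizer_eq_pCoreOf S hSM hM] at hP
  obtain ⟨c, hc⟩ := MulAction.exists_smul_eq ↥C T P
  set L' := L.map (MulAut.conj (c : G)).toMonoidHom with hL'
  have hOL' : O ≤ L' := by
    intro o ho
    replace ho := hP.ge ho
    obtain ⟨x, hx, rfl⟩ := ho
    replace hx : x ∈ (MulAut.conj c • (T : Subgroup ↥C) : Subgroup ↥C) := by rw [← Sylow.coe_subgroup_smul, hc]; exact hx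
    rw [Subgroup.mem_pointwise_smul_iff_inv_smul_mem] at hx
    refine CfsgLib.LocalCharP.mem_map_conj.mpr (hTL ⟨_, hx, ?_⟩)
    simp [mul_assoc]
  set e := (MulAut.conj (c : G)).subgroupMap L with he
  have hcoreL : (Cfsg.pCore p ↥L).map e.toMonoidHom = Cfsg.pCore p ↥L' := CfsgLib.Amalgam.map_pCore_equiv e
  have hL'c : Subgroup.centralizer (Cfsg.pCore p ↥L' : Set ↥L') ≤ Cfsg.pCore p ↥L' := by
    intro x hx
    obtain ⟨y, rfl⟩ := e.surjective x
    rw [← hcoreL]
    refine ⟨y, hL ?_, rfl⟩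
    refine Subgroup.mem_centralizer_iff.mpr fun z hz => e.injective ?_
    rw [map_mul, map_mul]
    exact Subgroup.mem_centralizer_iff.mp hx (e z) (hcoreL ▸ ⟨z, hz, rfl⟩)
  have hYL' : ¬ Y ≤ Cfsg.pCoreOf p L' := by
    intro h
    refine hYL fun y hy => ?_
    obtain ⟨x, hx, hxy⟩ := h hy
    rw [← hcoreL] at hx
    obtain ⟨z, hz, rfl⟩ := hx
    have hcy : (c : G) * y * (c : G)⁻¹ = y := by
      rw [← Subgroup.mem_centralizer_iff.mp c.2 y hy, mul_inv_cancel_right]
    have h1 : (c : G) * (z : G) * (c : G)⁻¹ = y := hxy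
    have h2 : (z : G) = y := (MulAut.conj (c : G)).injective (show _ = _ from h1.trans hcy.symm)
    exact ⟨z, hz, h2⟩
  obtain ⟨H, hH⟩ := Set.Finite.exists_minimal (Set.toFinite {H : Subgroup G |
    Subgroup.centralizer (Cfsg.pCore p ↥H : Set ↥H) ≤ Cfsg.pCore p ↥H ∧ O ≤ H ∧ ¬ Y ≤ Cfsg.pCoreOf p H})
    ⟨L', hL'c, hOL', hYL'⟩
  obtain ⟨hHc, hOH, hYH⟩ := hH.prop
  refine ⟨H, hHc, hOH, hYH, fun R hOR hRH => ?_⟩
  by_contra hne
  exact hRH.not_ge (hH.le_of_le ⟨CfsgLib.LocalCharP.charP_of_le_of_weaklyClosed hwc hOp hCO hOR hRH.le hHc, hOR, hne⟩ hRH.le)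

end Cfsg.Agent.S2852
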