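import Cfsg.Statements.S2853
import Cfsg.Agent.LocalCharP.Overgroup
import Cfsg.Agent.LocalCharP.SylowCenter
import Cfsg.Agent.S2845
import Cfsg.Agent.Amalgam.CharPVertices
import Cfsg.Agent.Subnormal.Basic
import Mathlib.Tactic.Group

set_option autoImplicit false
open Cfsg
open scoped commutatorElement Pointwise

namespace Cfsg.Agent.S2853

/-- Standing hypotheses: G a finite group, S a Sylow p-subgroup, Q a nontrivial large p-subgroup of G contained in S, M a subgroup containing S with the basic property (M ∈ 𝔐_G(S)); Y_M the largest p-reduced normal subgroup of M and M† = M·C_G(Y_M). Suppose Y_M is char-p-tall and asymmetric in G and H ∈ ℌ_G(O_p(M)). Then every Sylow p-subgroup of H ∩ M† is a Sylow p-subgroup of H; O_p(H) normalizes O_p(M) and Y_M; O^p(H) = [O^p(H), Y_M] and H = O^p(H)·O_p(M); O^p(H)·Y_M is the normal closure of Y_M in H; and H is the normal closure of O_p(M) in H. Here O^p(H) is the subgroup generated by the elements of H of order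 prime to p. -/
theorem result {G : Type*} [Group G] [Finite G] {p : ℕ} [Fact p.Prime] (S : Sylow p G) (Q : Subgroup G) (hQp : IsPGroup p ↥Q) (hQ1 : Q ≠ ⊥) (hQS : Q ≤ (S : Subgroup G)) (hQ : Cfsg.IsLarge Q) (M : Subgroup G) (hSM : (S : Subgroup G) ≤ M) (hM : Cfsg.IsInFrakM p M) (htall : Cfsg.IsCharPTall p (Cfsg.largestPReducedOf p M)) (hasym : ¬ Cfsg.IsSymmetricIn (Cfsg.largestPReducedOf p M)) (H : Subgroup G) (hH : Cfsg.IsInFrakH p M H) (R : Subgroup G) (hR : R = (Cfsg.pResidual p ↥H).map H.subtype) : (∀ T : Sylow p ↥(H ⊓ (M ⊔ Subgroup.centralizer (((Cfsg.largestPReducedOf p M) : Subgroup G) : Set G))), ∃ P : Sylow p ↥H, ((P : Subgroup ↥H).map H.subtype) = (T : Subgroup ↥(H ⊓ (M ⊔ Subgroup.centralizer (((Cfsg.largestPReducedOf p M) : Subgroup G) : Set G)))).map (H ⊓ (M ⊔ Subgroup.centralizer (((Cfsg.largestPReducedOf p M) : Subgroup G) : Set G))).subtype) ∧ Cfsg.pCoreOf p H ≤ Subgroup.normalizer (((Cfsg.pCoreOf p M) : Subgroup G) : Set G) ⊓ Subgroup.normalizer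 (((Cfsg.largestPReducedOf p M) : Subgroup G) : Set G) ∧ ⁅R, (Cfsg.largestPReducedOf p M)⁆ = R ∧ R ⊔ (Cfsg.pCoreOf p M) = H ∧ R ⊔ (Cfsg.largestPReducedOf p M) = (Subgroup.normalClosure ((((Cfsg.largestPReducedOf p M)).subgroupOf H : Subgroup ↥H) : Set ↥H)).map H.subtype ∧ (Subgroup.normalClosure ((((Cfsg.pCoreOf p M)).subgroupOf H : Subgroup ↥H) : Set ↥H)).map H.subtype = H := by
  have hpar := (Cfsg.Agent.S2845.result Q hQp hQ1 hQ).2.2
  set Y := Cfsg.largestPReducedOf p M with hY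
  set O := Cfsg.pCoreOf p M with hO
  set X := M ⊔ Subgroup.centralizer (Y : Set G) with hX
  obtain ⟨hHc, hOH, hYH, hmax⟩ := hH
  have hYO : Y ≤ O := CfsgLib.LocalCharP.largestPReducedOf_le_pCoreOf M
  have hOp : IsPGroup p ↥O := CfsgLib.LocalCharP.isPGroup_pCoreOf M
  have hNOY : Subgroup.normalizer (O : Set G) ≤ Subgroup.normalizer (Y : Set G) :=
    (CfsgLib.LocalCharP.normalizer_pCoreOf_le_dagger hpar S hSM hM).trans
      (sup_le (CfsgLib.LocalCharP.le_normalizer_largestPReducedOf M) (Subgroup.centralizer_le_normalizer _))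
  have hOY : O ≤ Subgroup.normalizer (Y : Set G) := Subgroup.le_normalizer.trans hNOY
  have hRH : R ≤ H := hR ▸ Subgroup.map_subtype_le _
  have hHR : H ≤ Subgroup.normalizer (R : Set G) := hR ▸ CfsgLib.LocalCharP.le_normalizer_pResidual_map H
  -- a subnormal subgroup over `O` is everything
  have hsub : ∀ P : Subgroup G, O ≤ P → P ≤ H → (P.subgroupOf H).IsSubnormal → P = H := by
    intro P hOP hPH hP
    by_contra hne
    refine hYH ?_
    refine (hmax P hOP (lt_of_le_of_ne hPH hne)).trans ?_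
    have h := CfsgLib.LocalCharP.map_pCore_le_pCore_of_isSubnormal (p := p) hP
    intro y hy
    obtain ⟨z, hz, rfl⟩ := hy
    have hz' : (⟨z, z.2⟩ : ↥P) ∈ Cfsg.pCore p ↥P := hz
    have e := Subgroup.subgroupOfEquivOfLe hPH
    refine ⟨⟨z, hPH z.2⟩, h ⟨(Subgroup.subgroupOfEquivOfLe hPH).symm z, ?_, rfl⟩, rfl⟩
    rw [← CfsgLib.Amalgam.map_pCore_equiv (Subgroup.subgroupOfEquivOfLe hPH).symm]
    exact ⟨z, hz, rfl⟩
  have hRO : R ⊔ O = H := by
    refine hsub _ le_sup_right (sup_le hRH hOH) ?_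
    haveI hnR : (R.subgroupOf H).Normal := Subgroup.normal_subgroupOf_of_le_normalizer hHR
    have hpq : IsPGroup p (↥H ⧸ R.subgroupOf H) := by
      intro q
      obtain ⟨x, rfl⟩ := QuotientGroup.mk_surjective q
      obtain ⟨k, hk⟩ := CfsgLib.LocalCharP.mem_or_pow_coprime (p := p) x
      refine ⟨k, ?_⟩
      rw [← QuotientGroup.mk_pow, QuotientGroup.eq_one_iff]
      exact Subgroup.mem_subgroupOf.mpr (hR ▸ ⟨x ^ p ^ k, CfsgLib.LocalCharP.mem_pResidual hk, rfl⟩)
    haveI := hpq.isNilpotent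
    set f := QuotientGroup.mk' (R.subgroupOf H) with hf
    have h2 := (CfsgLib.Subnormal.isSubnormal_of_isNilpotent (((R ⊔ O).subgroupOf H).map f)).comap f
    rwa [Subgroup.comap_map_eq_self] at h2
    rw [hf, QuotientGroup.ker_mk']
    exact fun x hx => Subgroup.mem_sup_left (T := O) hx
  have hcl : ∀ A : Subgroup G, A ≤ H → ∀ N : Subgroup G, A ≤ N → H ≤ Subgroup.normalizer (N : Set G) →
      (Subgroup.normalClosure ((A.subgroupOf H : Subgroup ↥H) : Set ↥H)).map H.subtype ≤ N := by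
    intro A hA N hAN hHN
    haveI : (N.comap H.subtype).Normal := Subgroup.normal_subgroupOf_of_le_normalizer hHN
    exact Subgroup.map_le_iff_le_comap.mpr (Subgroup.normalClosure_le_normal fun x hx => hAN hx)
  have hncn : ∀ A : Subgroup G, A ≤ H →
      A ≤ (Subgroup.normalClosure ((A.subgroupOf H : Subgroup ↥H) : Set ↥H)).map H.subtype ∧
      H ≤ Subgroup.normalizer ((Subgroup.normalClosure ((A.subgroupOf H : Subgroup ↥H) : Set ↥H)).map H.subtype : Set G) :=
    fun A hA => ⟨fun a ha => ⟨⟨a, hA ha⟩, Subgroup.subset_normalClosure ha, rfl⟩,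
      CfsgLib.LocalCharP.map_subgroupOf_normal Subgroup.normalClosure_normal⟩
  have hYH' : Y ≤ H := hYO.trans hOH
  -- `⁅R, Y⁆ = R`
  set N1 := ⁅R, Y⁆ with hN1
  have hN1R : N1 ≤ R := by
    rw [hN1, Subgroup.commutator_le]
    intro r hr y hy
    rw [show ⁅r, y⁆ = r * (y * r⁻¹ * y⁻¹) by group]
    exact mul_mem hr (CfsgLib.LocalCharP.conj_mem_of_le_normalizer hHR (hYH' hy) (inv_mem hr))
  have hHN1 : H ≤ Subgroup.normalizer (N1 : Set G) := by
    rw [← hRO]
    refine sup_le ?_ ?_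
    · refine CfsgLib.LocalCharP.le_normalizer_of_conj_mem fun r hr x hx => ?_
      have hle : N1 ≤ N1.comap (MulAut.conj r).toMonoidHom := by
        rw [hN1, Subgroup.commutator_le]
        intro a ha y hy
        show r * ⁅a, y⁆ * r⁻¹ ∈ ⁅R, Y⁆
        rw [show r * ⁅a, y⁆ * r⁻¹ = ⁅r * a, y⁆ * ⁅r, y⁆⁻¹ by group]
        exact mul_mem (Subgroup.commutator_mem_commutator (mul_mem hr ha) hy)
          (inv_mem (Subgroup.commutator_mem_commutator hr hy))
      exact hle hx
    · exact CfsgLib.LocalCharP.le_normalizer_commutator (hOH.trans hHR) hOY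
  have hN1Y : R ⊔ Y ≤ Subgroup.normalizer ((N1 ⊔ Y : Subgroup G) : Set G) := by
    refine sup_le ?_ ?_
    · refine CfsgLib.LocalCharP.le_normalizer_of_conj_mem fun r hr x hx => ?_
      have hle : N1 ⊔ Y ≤ (N1 ⊔ Y).comap (MulAut.conj r).toMonoidHom := by
        refine sup_le (fun n hn => Subgroup.mem_sup_left
          (CfsgLib.LocalCharP.conj_mem_of_le_normalizer hHN1 (hRH hr) hn)) fun y hy => ?_
        show r * y * r⁻¹ ∈ N1 ⊔ Y
        rw [show r * y * r⁻¹ = ⁅r, y⁆ * y by group]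
        exact mul_mem (Subgroup.mem_sup_left (Subgroup.commutator_mem_commutator hr hy)) (Subgroup.mem_sup_right hy)
      exact hle hx
    · exact le_sup_right.trans Subgroup.le_normalizer
  have hHN1Y : H ≤ Subgroup.normalizer ((N1 ⊔ Y : Subgroup G) : Set G) := by
    rw [← hRO]
    refine sup_le (le_sup_left.trans hN1Y) (CfsgLib.LocalCharP.le_normalizer_of_conj_mem fun o ho x hx => ?_)
    have hle : N1 ⊔ Y ≤ (N1 ⊔ Y).comap (MulAut.conj o).toMonoidHom :=
      sup_le (fun n hn => Subgroup.mem_sup_left (CfsgLib.LocalCharP.conj_mem_of_le_normalizer hHN1 (hOH ho) hn))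
        fun y hy => Subgroup.mem_sup_right (CfsgLib.LocalCharP.conj_mem_of_le_normalizer hOY ho hy)
    exact hle hx
  have hN1O : N1 ⊔ O = H := by
    by_contra hne
    have hlt : N1 ⊔ O < H := lt_of_le_of_ne (sup_le (hN1R.trans hRH) hOH) hne
    have hY1 := hmax _ le_sup_right hlt
    refine hYH ?_
    have hN1YH : N1 ⊔ Y ≤ H := sup_le (hN1R.trans hRH) hYH'
    set D := (N1 ⊔ Y) ⊓ Cfsg.pCoreOf p (N1 ⊔ O) with hD
    have hDn : N1 ⊔ Y ≤ Subgroup.normalizer (D : Set G) :=
      CfsgLib.LocalCharP.le_normalizer_inf Subgroup.le_normalizer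
        ((sup_le_sup_left hYO N1).trans (CfsgLib.LocalCharP.le_normalizer_pCoreOf _))
    have hDp : IsPGroup p ↥D := (CfsgLib.LocalCharP.isPGroup_pCoreOf _).to_le inf_le_right
    have hYD : Y ≤ Cfsg.pCoreOf p (N1 ⊔ Y) :=
      (le_inf le_sup_right hY1).trans (CfsgLib.LocalCharP.le_pCoreOf inf_le_left hDp hDn)
    exact hYD.trans (CfsgLib.LocalCharP.le_pCoreOf ((CfsgLib.LocalCharP.pCoreOf_le _).trans hN1YH)
      (CfsgLib.LocalCharP.isPGroup_pCoreOf _)
      (hHN1Y.trans (CfsgLib.LocalCharP.normalizer_le_normalizer_pCoreOf _)))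
  have hRN1 : R ≤ N1 := by
    haveI hnN : (N1.subgroupOf H).Normal := Subgroup.normal_subgroupOf_of_le_normalizer hHN1
    rw [hR]
    refine Subgroup.map_le_iff_le_comap.mpr (CfsgLib.LocalCharP.pResidual_le fun x hx => ?_)
    show x ∈ N1.subgroupOf H
    refine CfsgLib.LocalCharP.mem_of_isPGroup_quotient (p := p) ?_ hx
    intro q
    obtain ⟨y, rfl⟩ := QuotientGroup.mk_surjective q
    have hy : (y : G) ∈ ((N1 ⊔ O : Subgroup G) : Set G) := hN1O.ge y.2
    rw [Subgroup.coe_mul_of_right_le_normalizer_left N1 O (hOH.trans hHN1)] at hy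
    obtain ⟨d, hd, o, ho, hdo⟩ := hy
    obtain ⟨k, hk⟩ := hOp ⟨o, ho⟩
    refine ⟨k, ?_⟩
    have hyo : (QuotientGroup.mk y : ↥H ⧸ N1.subgroupOf H) = QuotientGroup.mk ⟨o, hOH ho⟩ := by
      refine QuotientGroup.eq.mpr ?_
      show (y : G)⁻¹ * o ∈ N1
      rw [← hdo, mul_inv_rev, mul_assoc]
      simpa [mul_assoc] using CfsgLib.LocalCharP.conj_mem_of_le_normalizer (hOH.trans hHN1) (inv_mem ho) (inv_mem hd)
    rw [hyo, ← QuotientGroup.mk_pow, QuotientGroup.eq_one_iff]
    show (o : G) ^ p ^ k ∈ N1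
    have := congrArg Subtype.val hk
    simp only [SubmonoidClass.coe_pow, OneMemClass.coe_one] at this
    rw [this]
    exact one_mem _
  have heqR : ⁅R, Y⁆ = R := le_antisymm hN1R hRN1
  refine ⟨fun T => ?_, le_inf ?_ ?_, heqR, hRO, ?_, ?_⟩
  · obtain ⟨P, hPX, -⟩ := CfsgLib.LocalCharP.exists_sylow_le_dagger hpar S hSM hM hasym hOH
    set PG := (P : Subgroup ↥H).map H.subtype with hPG
    set TG := (T : Subgroup ↥(H ⊓ X)).map (H ⊓ X).subtype with hTG
    have hTGH : TG ≤ H := (Subgroup.map_subtype_le _).trans inf_le_left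
    have hPI : PG ≤ H ⊓ X := le_inf (Subgroup.map_subtype_le _) hPX
    have hcard : Nat.card PG ≤ Nat.card TG := by
      obtain ⟨P', hP'⟩ := (IsPGroup.comap_of_injective (P.2.map H.subtype) (H ⊓ X).subtype
        (Subgroup.subtype_injective _)).exists_le_sylow
      rw [Subgroup.card_map_of_injective (H ⊓ X).subtype_injective, Sylow.card_eq_multiplicity T,
        ← Sylow.card_eq_multiplicity P']
      refine le_trans ?_ (Subgroup.card_le_of_le hP')
      rw [← Subgroup.subgroupOf, Nat.card_congr (Subgroup.subgroupOfEquivOfLe hPI).toEquiv]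
    obtain ⟨P2, hP2⟩ := ((T.2.map (H ⊓ X).subtype).comap_of_injective H.subtype H.subtype_injective).exists_le_sylow
    have hTP2 : TG ≤ (P2 : Subgroup ↥H).map H.subtype := fun x hx => ⟨⟨x, hTGH hx⟩, hP2 hx, rfl⟩
    refine ⟨P2, (Subgroup.eq_of_le_of_card_ge hTP2 ?_).symm⟩
    refine le_trans ?_ hcard
    rw [Subgroup.card_map_of_injective H.subtype_injective, Subgroup.card_map_of_injective H.subtype_injective,
      Sylow.card_eq_multiplicity, Sylow.card_eq_multiplicity]
  all_goals try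
    have hPO : Cfsg.pCoreOf p H ≤ Subgroup.normalizer (O : Set G) := by
      have hp' : IsPGroup p ↥(O ⊔ Cfsg.pCoreOf p H) :=
        hOp.to_sup_of_normal_right' (CfsgLib.LocalCharP.isPGroup_pCoreOf H)
          (hOH.trans (CfsgLib.LocalCharP.le_normalizer_pCoreOf H))
      exact le_sup_right.trans (Subgroup.le_normalizer.trans
        (CfsgLib.LocalCharP.normalizer_le_normalizer_pCoreOf_of_asymmetric hpar S hSM hM hasym hp' le_sup_left))
  · exact hPO
  · exact hPO.trans hNOY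
  · refine le_antisymm (sup_le ?_ (hncn Y hYH').1) (hcl Y hYH' _ le_sup_right ?_)
    · refine heqR.ge.trans ?_
      rw [Subgroup.commutator_le]
      intro r hr y hy
      rw [show ⁅r, y⁆ = (r * y * r⁻¹) * y⁻¹ by group]
      exact mul_mem (CfsgLib.LocalCharP.conj_mem_of_le_normalizer (hncn Y hYH').2 (hRH hr) ((hncn Y hYH').1 hy))
        (inv_mem ((hncn Y hYH').1 hy))
    · rw [← le_antisymm hN1R hRN1]
      exact hHN1Y
  · refine hsub _ (hncn O hOH).1 (Subgroup.map_subtype_le _) ?_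
    exact (Subgroup.normal_subgroupOf_of_le_normalizer (hncn O hOH).2).isSubnormal

end Cfsg.Agent.S2853
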