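import Cfsg.Statements.S2854
import Cfsg.Agent.LocalCharP.FrakH
import Cfsg.Agent.S2845
import Mathlib.Tactic.Group

set_option autoImplicit false
open Cfsg
open scoped commutatorElement Pointwise

namespace Cfsg.Agent.S2854

/-- Standing hypotheses: G a finite group, S a Sylow p-subgroup, Q a nontrivial large p-subgroup of G contained in S, M a subgroup containing S with the basic property (M ∈ 𝔐_G(S)); Y_M the largest p-reduced normal subgroup of M and M† = M·C_G(Y_M). Suppose Y_M is asymmetric in G, H ∈ ℌ_G(O_p(M)), and H ≤ N_G(gQg⁻¹) for some g ∈ G. Then gQg⁻¹ ≤ O_p(H·gQg⁻¹) ≤ N_G(O_p(M)) ≤ N_G(Y_M) = M†; H is normal in H·gQg⁻¹ with O^p(H) = O^p(H·gQg⁻¹); and H·gQg⁻¹ is p-irreducible. -/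
theorem result {G : Type*} [Group G] [Finite G] {p : ℕ} [Fact p.Prime] (S : Sylow p G) (Q : Subgroup G) (hQp : IsPGroup p ↥Q) (hQ1 : Q ≠ ⊥) (hQS : Q ≤ (S : Subgroup G)) (hQ : Cfsg.IsLarge Q) (M : Subgroup G) (hSM : (S : Subgroup G) ≤ M) (hM : Cfsg.IsInFrakM p M) (hasym : ¬ Cfsg.IsSymmetricIn (Cfsg.largestPReducedOf p M)) (H : Subgroup G) (hH : Cfsg.IsInFrakH p M H) (g : G) (hHQ : H ≤ Subgroup.normalizer ((((Q : Subgroup G).map (MulAut.conj (g : G)).toMonoidHom) : Subgroup G) : Set G)) : ((Q : Subgroup G).map (MulAut.conj (g : G)).toMonoidHom) ≤ Cfsg.pCoreOf p (H ⊔ ((Q : Subgroup G).map (MulAut.conj (g : G)).toMonoidHom)) ∧ Cfsg.pCoreOf p (H ⊔ ((Q : Subgroup G).map (MulAut.conj (g : G)).toMonoidHom)) ≤ Subgroup.normalizer (((Cfsg.pCoreOf p M) : Subgroup G) : Set G) ∧ Subgroup.normalizer (((Cfsg.pCoreOf p M) : Subgroup G) : Set G) ≤ Subgroup.normalizer (((Cfsg.largestPReducedOf p M) : Subgroup G) : Set G) ∧ Subgroup.normalizer (((Cfsg.largestPReducedOf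 p M) : Subgroup G) : Set G) = (M ⊔ Subgroup.centralizer (((Cfsg.largestPReducedOf p M) : Subgroup G) : Set G)) ∧ (H.subgroupOf (H ⊔ ((Q : Subgroup G).map (MulAut.conj (g : G)).toMonoidHom))).Normal ∧ (Cfsg.pResidual p ↥H).map H.subtype = (Cfsg.pResidual p ↥(H ⊔ ((Q : Subgroup G).map (MulAut.conj (g : G)).toMonoidHom))).map (H ⊔ ((Q : Subgroup G).map (MulAut.conj (g : G)).toMonoidHom)).subtype ∧ Cfsg.IsPIrreducible p ↥(H ⊔ ((Q : Subgroup G).map (MulAut.conj (g : G)).toMonoidHom)) := by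
  have hpar := (Cfsg.Agent.S2845.result Q hQp hQ1 hQ).2.2
  set Y := Cfsg.largestPReducedOf p M with hY
  set O := Cfsg.pCoreOf p M with hO
  set U := Q.map (MulAut.conj g).toMonoidHom with hU
  set K := H ⊔ U with hK
  obtain ⟨hHc, hOH, hYH, hmax⟩ := hH
  have hYO : Y ≤ O := CfsgLib.LocalCharP.largestPReducedOf_le_pCoreOf M
  have hOp : IsPGroup p ↥O := CfsgLib.LocalCharP.isPGroup_pCoreOf M
  have hUp : IsPGroup p ↥U := hQp.map _
  have hKU : K ≤ Subgroup.normalizer (U : Set G) := sup_le hHQ Subgroup.le_normalizer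
  have hHK : H ≤ K := le_sup_left
  have hUO : U ≤ Cfsg.pCoreOf p K := CfsgLib.LocalCharP.le_pCoreOf le_sup_right hUp hKU
  have hKO : Cfsg.pCoreOf p K ≤ Subgroup.normalizer (O : Set G) := by
    have hp' : IsPGroup p ↥(O ⊔ Cfsg.pCoreOf p K) :=
      hOp.to_sup_of_normal_right' (CfsgLib.LocalCharP.isPGroup_pCoreOf K)
        ((hOH.trans hHK).trans (CfsgLib.LocalCharP.le_normalizer_pCoreOf K))
    exact le_sup_right.trans (Subgroup.le_normalizer.trans
      (CfsgLib.LocalCharP.normalizer_le_normalizer_pCoreOf_of_asymmetric hpar S hSM hM hasym hp' le_sup_left))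
  have hNY := CfsgLib.LocalCharP.normalizer_largestPReducedOf_eq_dagger hpar S hSM hM
  have hNOY : Subgroup.normalizer (O : Set G) ≤ Subgroup.normalizer (Y : Set G) :=
    hNY ▸ CfsgLib.LocalCharP.normalizer_pCoreOf_le_dagger hpar S hSM hM
  -- the setting inside `H`
  set O' := O.subgroupOf H with hO'
  set Y' := Y.subgroupOf H with hY'
  have hO'p : IsPGroup p ↥O' := hOp.comap_of_injective _ H.subtype_injective
  have hY'O : Y' ≤ O' := fun x hx => hYO hx
  have hY'n : ¬ Y' ≤ Cfsg.pCore p ↥H := fun h => hYH fun y hy =>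
    ⟨⟨y, hOH (hYO hy)⟩, h (show (⟨y, hOH (hYO hy)⟩ : ↥H) ∈ Y' from hy), rfl⟩
  have hmax' : ∀ P : Subgroup ↥H, O' ≤ P → P < ⊤ → Y' ≤ Cfsg.pCoreOf p P := by
    intro P hOP hP
    have hPe : (P.map H.subtype).subgroupOf H = P := Subgroup.comap_map_eq_self_of_injective H.subtype_injective P
    have h1 := hmax (P.map H.subtype) (fun o ho => ⟨⟨o, hOH ho⟩, hOP ho, rfl⟩)
      (lt_of_le_of_ne (Subgroup.map_subtype_le _) fun h => hP.ne (by rw [← hPe, h, Subgroup.subgroupOf_self]))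
    have h2 := CfsgLib.LocalCharP.pCoreOf_subgroupOf (p := p) (Subgroup.map_subtype_le (H := H) P)
    rw [hPe] at h2
    intro y hy
    rw [h2]
    exact h1 hy
  have hncH := CfsgLib.LocalCharP.normalClosure_eq_top hY'n hmax'
  have hirrH := CfsgLib.LocalCharP.isPIrreducible hO'p hY'O hY'n hmax'
  have hUH : U ≤ Subgroup.normalizer (H : Set G) := by
    refine CfsgLib.LocalCharP.le_normalizer_of_conj_mem fun u hu x hx => ?_
    have key : (⊤ : Subgroup ↥H) ≤ (H.comap (MulAut.conj u).toMonoidHom).subgroupOf H := by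
      rw [← hncH]
      refine (Subgroup.closure_le _).2 fun z hz => ?_
      obtain ⟨o, ho, hc⟩ := Group.mem_conjugatesOfSet_iff.mp hz
      obtain ⟨h, rfl⟩ := isConj_iff.mp hc
      show u * ((h : G) * o * (h : G)⁻¹) * u⁻¹ ∈ H
      have hu' : (h : G)⁻¹ * u * h ∈ U := by
        simpa using CfsgLib.LocalCharP.conj_mem_of_le_normalizer hHQ (inv_mem h.2) hu
      have ho' := CfsgLib.LocalCharP.conj_mem_of_le_normalizer (hUO.trans hKO) hu' (show (o : G) ∈ O from ho)
      have := mul_mem (mul_mem h.2 (hOH ho')) (inv_mem h.2)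
      simpa [mul_assoc] using this
    exact key (Subgroup.mem_top ⟨x, hx⟩)
  haveI hHn : (H.subgroupOf K).Normal :=
    Subgroup.normal_subgroupOf_of_le_normalizer (sup_le Subgroup.le_normalizer hUH)
  haveI hUn : (U.subgroupOf K).Normal := Subgroup.normal_subgroupOf_of_le_normalizer hKU
  have htop : H.subgroupOf K ⊔ U.subgroupOf K = ⊤ := by
    rw [← Subgroup.subgroupOf_sup le_sup_left le_sup_right, Subgroup.subgroupOf_self]
  have hUcore : U.subgroupOf K ≤ Cfsg.pCore p ↥K :=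
    CfsgLib.CharP.le_pCore hUn (hUp.comap_of_injective _ K.subtype_injective)
  refine ⟨hUO, hKO, hNOY, hNY, hHn, le_antisymm ?_ ?_,
    CfsgLib.LocalCharP.isPIrreducible_of_sup_eq_top hUcore htop
      (CfsgLib.LocalCharP.isPIrreducible_of_equiv (Subgroup.subgroupOfEquivOfLe hHK).symm hirrH)⟩
  · exact CfsgLib.LocalCharP.map_pResidual_le_iff.mpr fun x hx hc => CfsgLib.LocalCharP.mem_map_pResidual (hHK hx) hc
  · refine CfsgLib.LocalCharP.map_pResidual_le_iff.mpr fun x hx hc => CfsgLib.LocalCharP.mem_map_pResidual ?_ hc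
    exact CfsgLib.LocalCharP.mem_of_isPGroup_quotient (N := H.subgroupOf K) (x := ⟨x, hx⟩)
      (CfsgLib.LocalCharP.isPGroup_quotient_of_sup_eq_top (hUp.comap_of_injective _ K.subtype_injective) htop)
      (by rwa [← Subgroup.orderOf_coe])

end Cfsg.Agent.S2854
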