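import Cfsg.Statements.S2855
import Cfsg.Agent.LocalCharP.Family
import Cfsg.Agent.Constrained.Basic

set_option autoImplicit false
open Cfsg
open scoped commutatorElement Pointwise

namespace Cfsg.Agent.S2855

/-- Let H be a finite group, p a prime, and 𝒦 a nonempty set of subgroups of H permuted transitively by conjugation, with R the subgroup generated by the members of 𝒦. Suppose O^p(H) ≤ R, each E ∈ 𝒦 has E·O_p(H) normal in R·O_p(H), and each E ∈ 𝒦 is p-minimal (generated by the conjugates of a Sylow p-subgroup T_E of E, with T_E in exactly one maximal subgroup of E). Then H is p-minimal in the same sense. If instead each E ∈ 𝒦 is strongly p-irreducible, then H is p-irreducible and, for E, K ∈ 𝒦, either O^p(E·O_p(H)) = O^p(K·O_p(H)) or [E, K] ≤ O_p(H). -/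
theorem result {H : Type*} [Group H] [Finite H] {p : ℕ} [Fact p.Prime] (𝒦 : Set (Subgroup H)) (hne : 𝒦.Nonempty) (hinv : ∀ h : H, ∀ E ∈ 𝒦, E.map (MulAut.conj h).toMonoidHom ∈ 𝒦) (htr : ∀ E ∈ 𝒦, ∀ K ∈ 𝒦, ∃ h : H, K = E.map (MulAut.conj h).toMonoidHom) (hres : Cfsg.pResidual p H ≤ sSup 𝒦) (hnorm : ∀ E ∈ 𝒦, sSup 𝒦 ⊔ Cfsg.pCore p H ≤ Subgroup.normalizer ((E ⊔ Cfsg.pCore p H : Subgroup H) : Set H)) : ((∀ E ∈ 𝒦, ∀ T : Sylow p ↥E, Cfsg.IsMinimalOver (T : Subgroup ↥E)) → ∀ T : Sylow p H, Cfsg.IsMinimalOver (T : Subgroup H)) ∧ ((∀ E ∈ 𝒦, Cfsg.IsStronglyPIrreducible p ↥E) → Cfsg.IsPIrreducible p H ∧ ∀ E ∈ 𝒦, ∀ K ∈ 𝒦, (Cfsg.pResidual p ↥(E ⊔ Cfsg.pCore p H)).map (E ⊔ Cfsg.pCore p H).subtype = (Cfsg.pResidual p ↥(K ⊔ Cfsg.pCore p H)).map (K ⊔ Cfsg.pCore p H).subtype ∨ ⁅E, K⁆ ≤ Cfsg.pCore p H) := by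
  have hOn : (Cfsg.pCore p H).Normal := Cfsg.pCore_normal p H
  set O := Cfsg.pCore p H with hOdef
  set f := QuotientGroup.mk' O with hf
  have hfs : Function.Surjective f := QuotientGroup.mk'_surjective O
  have hker : f.ker = O := QuotientGroup.ker_mk' O
  have hOp : IsPGroup p ↥O := CfsgLib.CharP.isPGroup_pCore
  have hO : Cfsg.pCore p (H ⧸ O) = ⊥ := CfsgLib.Constrained.pCore_quotient_pCore
  set 𝒦' : Set (Subgroup (H ⧸ O)) := Subgroup.map f '' 𝒦 with h𝒦'
  have hconj : ∀ (h : H) (E : Subgroup H),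
      (E.map f).map (MulAut.conj (f h)).toMonoidHom = (E.map (MulAut.conj h).toMonoidHom).map f := by
    intro h E
    rw [Subgroup.map_map, Subgroup.map_map]
    congr 1
  have hinv' : ∀ q : H ⧸ O, ∀ E ∈ 𝒦', E.map (MulAut.conj q).toMonoidHom ∈ 𝒦' := by
    rintro q - ⟨E, hE, rfl⟩
    obtain ⟨h, rfl⟩ := hfs q
    exact ⟨_, hinv h E hE, (hconj h E).symm⟩
  have htr' : ∀ E ∈ 𝒦', ∀ K ∈ 𝒦', ∃ q : H ⧸ O, K = E.map (MulAut.conj q).toMonoidHom := by
    rintro - ⟨E, hE, rfl⟩ - ⟨K, hK, rfl⟩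
    obtain ⟨h, rfl⟩ := htr E hE K hK
    exact ⟨f h, (hconj h E).symm⟩
  have hsSup : sSup 𝒦' = (sSup 𝒦).map f := by
    refine le_antisymm (sSup_le ?_) ?_
    · rintro - ⟨E, hE, rfl⟩
      exact Subgroup.map_mono (le_sSup hE)
    · exact Subgroup.map_le_iff_le_comap.mpr (sSup_le fun E hE =>
        Subgroup.map_le_iff_le_comap.mp (le_sSup ⟨E, hE, rfl⟩))
  have hres' : Cfsg.pResidual p (H ⧸ O) ≤ sSup 𝒦' := by
    rw [← CfsgLib.LocalCharP.map_pResidual hfs, hsSup]
    exact Subgroup.map_mono hres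
  have hnorm' : ∀ E ∈ 𝒦', sSup 𝒦' ≤ Subgroup.normalizer (E : Set (H ⧸ O)) := by
    rintro - ⟨E, hE, rfl⟩
    rw [hsSup]
    refine (Subgroup.map_mono (le_sup_left.trans (hnorm E hE))).trans ((Subgroup.le_normalizer_map f).trans ?_)
    have h1 : (E ⊔ O).map f = E.map f := by
      rw [Subgroup.map_sup, sup_eq_left]
      exact ((Subgroup.map_eq_bot_iff O (f := f)).mpr hker.ge).le.trans bot_le
    rw [h1]
  have hgrp : ∀ E : Subgroup H, IsPGroup p ↥(f.subgroupMap E).ker := by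
    intro E
    rintro ⟨⟨x, hx⟩, hxk⟩
    have h1 : x ∈ O := hker ▸ (MonoidHom.mem_ker.mpr (congrArg Subtype.val (MonoidHom.mem_ker.mp hxk) :))
    obtain ⟨k, hk⟩ := hOp ⟨x, h1⟩
    exact ⟨k, Subtype.ext (Subtype.ext (by simpa using congrArg Subtype.val hk))⟩
  refine ⟨fun hmin T => ?_, fun hirr => ?_⟩
  · have hmin' : ∀ E ∈ 𝒦', ∀ S : Sylow p ↥E, Cfsg.IsMinimalOver (S : Subgroup ↥E) := by
      rintro - ⟨E, hE, rfl⟩ S
      have hgs := MonoidHom.subgroupMap_surjective f E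
      obtain ⟨S0, rfl⟩ := Sylow.mapSurjective_surjective hgs p S
      rw [Sylow.coe_mapSurjective]
      exact CfsgLib.LocalCharP.Family.isMinimalOver_map hgs
        ((CfsgLib.CharP.le_pCore (MonoidHom.normal_ker _) (hgrp E)).trans (CfsgLib.CharP.pCore_le_sylow S0))
        (hmin E hE S0)
    refine CfsgLib.LocalCharP.Family.isMinimalOver_of_map hfs
      (hker.le.trans (CfsgLib.CharP.pCore_le_sylow T)) ?_
    rw [← Sylow.coe_mapSurjective hfs T]
    exact CfsgLib.LocalCharP.Family.isMinimalOver (hne.image _) hinv' htr' hres' hnorm' hmin' _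
  · have hirr' : ∀ E ∈ 𝒦', Cfsg.IsStronglyPIrreducible p ↥E := by
      rintro - ⟨E, hE, rfl⟩
      exact CfsgLib.LocalCharP.Family.isStronglyPIrreducible_map (MonoidHom.subgroupMap_surjective f E)
        (hgrp E) (hirr E hE)
    obtain ⟨E0, hE0⟩ := hne
    refine ⟨⟨fun hc => (hirr E0 hE0).1 ?_, fun N hN hNc => ?_⟩, fun E hE K hK => ?_⟩
    · obtain ⟨S⟩ : Nonempty (Sylow p ↥E0) := inferInstance
      refine CfsgLib.LocalCharP.isPClosed_of_sylow_le S (CfsgLib.CharP.le_pCore ?_ S.2)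
      have h1 : (S : Subgroup ↥E0) = O.subgroupOf E0 := by
        refine (S.3 (hOp.comap_of_injective _ E0.subtype_injective) fun s hs => ?_).symm
        exact CfsgLib.LocalCharP.le_pCore_of_isPClosed hc (S.2.map E0.subtype) ⟨s, hs, rfl⟩
      rw [h1]
      infer_instance
    · obtain ⟨P, hPN, hP, hPO⟩ : ∃ P : Subgroup H, P ≤ N ∧ IsPGroup p ↥P ∧ ¬ P ≤ O := by
        by_contra! hc
        exact hNc (CfsgLib.LocalCharP.isPClosed_of_le_pCore hN hc)
      have hNq : (N.map f).Normal := hN.map f hfs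
      have h1 : Cfsg.pResidual p (H ⧸ O) ≤ N.map f :=
        CfsgLib.LocalCharP.Family.pResidual_le_of_normal hO hinv' hnorm' hirr' htr' hres' hNq
          (Subgroup.map_mono hPN) (hP.map f)
          (fun hb => hPO (((Subgroup.map_eq_bot_iff P (f := f)).mp hb).trans hker.le))
      refine CfsgLib.LocalCharP.pResidual_le fun x hx => ?_
      obtain ⟨n, hn, hnx⟩ := h1 (CfsgLib.LocalCharP.mem_pResidual (x := f x)
        (hx.coprime_dvd_left (orderOf_map_dvd f x)))
      haveI := hN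
      haveI : (O.map (QuotientGroup.mk' N)).Normal := hOn.map _ (QuotientGroup.mk'_surjective N)
      rw [← QuotientGroup.eq_one_iff (N := N)]
      refine CfsgLib.LocalCharP.eq_one_of_isPGroup_of_coprime (hOp.map (QuotientGroup.mk' N)) ?_
        (hx.coprime_dvd_left (orderOf_map_dvd (QuotientGroup.mk' N) x))
      refine ⟨n⁻¹ * x, ?_, ?_⟩
      · rw [← hker]
        exact SetLike.mem_coe.mpr (MonoidHom.mem_ker.mpr (by rw [map_mul, map_inv, hnx, inv_mul_cancel]))
      · have : (QuotientGroup.mk' N) n = 1 := (QuotientGroup.eq_one_iff n).mpr hn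
        rw [map_mul, map_inv, this, inv_one, one_mul]
        rfl
    · have hmapE : ∀ X : Subgroup H, (X ⊔ O).map f = X.map f := by
        intro X
        rw [Subgroup.map_sup, sup_eq_left]
        exact ((Subgroup.map_eq_bot_iff O (f := f)).mpr hker.ge).le.trans bot_le
      have key : ∀ X Y : Subgroup H, (∀ x ∈ X.map f, (orderOf x).Coprime p → x ∈ Y.map f) →
          (Cfsg.pResidual p ↥(X ⊔ O)).map (X ⊔ O).subtype ≤
            (Cfsg.pResidual p ↥(Y ⊔ O)).map (Y ⊔ O).subtype := by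
        intro X Y h
        rw [CfsgLib.LocalCharP.map_pResidual_le_iff]
        intro x hx hxc
        refine CfsgLib.LocalCharP.mem_map_pResidual ?_ hxc
        have h1 : f x ∈ Y.map f := h _ (hmapE X ▸ Subgroup.mem_map_of_mem f hx)
          (hxc.coprime_dvd_left (orderOf_map_dvd f x))
        rw [← hker, ← Subgroup.comap_map_eq]
        exact h1
      obtain h1 | h1 := CfsgLib.LocalCharP.Family.coprime_mem_or_commutator_eq_bot hO hinv' hnorm' hirr'
        ⟨E, hE, rfl⟩ ⟨K, hK, rfl⟩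
      · obtain h2 | h2 := CfsgLib.LocalCharP.Family.coprime_mem_or_commutator_eq_bot hO hinv' hnorm' hirr'
          ⟨K, hK, rfl⟩ ⟨E, hE, rfl⟩
        · exact Or.inl (le_antisymm (key E K h1) (key K E h2))
        · refine Or.inr ?_
          rw [← hker, ← Subgroup.map_eq_bot_iff, Subgroup.map_commutator, Subgroup.commutator_comm, h2]
      · refine Or.inr ?_
        rw [← hker, ← Subgroup.map_eq_bot_iff, Subgroup.map_commutator, h1]

end Cfsg.Agent.S2855
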