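import Cfsg.Statements.S2859
import Cfsg.Agent.LocalCharP.WeakClosure

set_option autoImplicit false
open Cfsg
open scoped commutatorElement Pointwise

namespace Cfsg.Agent.S2859

/-- Let Q be a nontrivial p-subgroup of the finite group H that is a weakly closed subgroup, H° the weak closure of Q in H (generated by the conjugates of Q) and H_∘ = O^p(H°). Suppose H₁, H₂ are normal subgroups of H° with H° = H₁H₂ and [H₁, H₂] ≤ N_H(Q), and put Kᵢ = O^p of the weak closure of Q in HᵢQ. Then for i = 1, 2: Kᵢ = [Kᵢ, Q] = [Kᵢ, Hᵢ] ≤ Hᵢ′ and Kᵢ is normal in H°; H_∘ = K₁K₂; and [K₁, K₂] ≤ O_p(H°). -/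
theorem result {G : Type*} [Group G] [Finite G] {p : ℕ} [Fact p.Prime] (Q : Subgroup G) (hQp : IsPGroup p ↥Q) (hQ1 : Q ≠ ⊥) (hwc : Cfsg.IsWeaklyClosedSubgroup p Q) (Hc : Subgroup G) (hHc : Hc = Cfsg.weakClosure Q ⊤) (H₁ H₂ : Subgroup G) (hn₁ : H₁ ≤ Hc ∧ Hc ≤ Subgroup.normalizer ((H₁ : Subgroup G) : Set G)) (hn₂ : H₂ ≤ Hc ∧ Hc ≤ Subgroup.normalizer ((H₂ : Subgroup G) : Set G)) (hprod : H₁ ⊔ H₂ = Hc) (hcomm : ⁅H₁, H₂⁆ ≤ Subgroup.normalizer ((Q : Subgroup G) : Set G)) (K₁ K₂ : Subgroup G) (hK₁ : K₁ = ((Cfsg.pResidual p ↥(Cfsg.weakClosure Q (H₁ ⊔ Q))).map ((Cfsg.weakClosure Q (H₁ ⊔ Q))).subtype)) (hK₂ : K₂ = ((Cfsg.pResidual p ↥(Cfsg.weakClosure Q (H₂ ⊔ Q))).map ((Cfsg.weakClosure Q (H₂ ⊔ Q))).subtype)) : (⁅K₁, Q⁆ = K₁ ∧ ⁅K₁, H₁⁆ = K₁ ∧ K₁ ≤ ⁅H₁, H₁⁆ ∧ Hc ≤ Subgroup.normalizer ((K₁ : Subgroup G) : Set G)) ∧ (⁅K₂, Q⁆ = K₂ ∧ ⁅K₂, H₂⁆ = K₂ ∧ K₂ ≤ ⁅H₂,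 H₂⁆ ∧ Hc ≤ Subgroup.normalizer ((K₂ : Subgroup G) : Set G)) ∧ K₁ ⊔ K₂ = ((Cfsg.pResidual p ↥Hc).map (Hc).subtype) ∧ ⁅K₁, K₂⁆ ≤ (Cfsg.pCoreOf p Hc) := by
  obtain ⟨a1, a2, a3, a4, a5, a6, a7⟩ := CfsgLib.LocalCharP.weakClosure_factor hwc hQp hHc hn₁ hn₂ hprod hcomm hK₁
  obtain ⟨b1, b2, b3, b4, -, b6, b7⟩ := CfsgLib.LocalCharP.weakClosure_factor hwc hQp hHc hn₂ hn₁
    (sup_comm H₂ H₁ ▸ hprod) (Subgroup.commutator_comm H₂ H₁ ▸ hcomm) hK₂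
  have hQHc : Q ≤ Hc := hHc ▸ CfsgLib.LocalCharP.le_weakClosure_self le_top
  have hKHc : K₁ ⊔ K₂ ≤ Hc := sup_le (a6.trans hn₁.1) (b6.trans hn₂.1)
  have hHK : Hc ≤ Subgroup.normalizer ((K₁ ⊔ K₂ : Subgroup G) : Set G) :=
    (le_inf a4 b4).trans (Subgroup.normalizer_inf_normalizer_le_normalizer_sup K₁ K₂)
  set M := K₁ ⊔ K₂ ⊔ Q with hM
  have key : ∀ Hi : Subgroup G, Hi ≤ Hc → (∀ h ∈ Hi, Q.map (MulAut.conj h).toMonoidHom ≤ M) →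
      Hi ≤ Subgroup.normalizer (M : Set G) := by
    intro Hi hle h
    refine CfsgLib.LocalCharP.le_normalizer_of_conj_mem fun x hx => ?_
    have h1 : M ≤ M.comap (MulAut.conj x).toMonoidHom := sup_le
      (Subgroup.map_le_iff_le_comap.mp
        ((CfsgLib.LocalCharP.map_conj_eq_self_iff.mpr (hHK (hle hx))).le.trans le_sup_left))
      (Subgroup.map_le_iff_le_comap.mp (h x hx))
    exact fun m hm => h1 hm
  have hMn : Hc ≤ Subgroup.normalizer (M : Set G) := by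
    rw [← hprod]
    exact sup_le (key H₁ hn₁.1 fun h hh => (a7 h hh).trans (sup_le (le_sup_left.trans le_sup_left) le_sup_right))
      (key H₂ hn₂.1 fun h hh => (b7 h hh).trans (sup_le (le_sup_right.trans le_sup_left) le_sup_right))
  have hMHc : Hc ≤ M := by
    nth_rewrite 1 [hHc]
    refine CfsgLib.LocalCharP.weakClosure_le_of fun g _ => ?_
    obtain ⟨k, hk, hgk⟩ := CfsgLib.LocalCharP.exists_mem_conj_eq hwc hQp hQHc
      (g := g) (hHc ▸ CfsgLib.LocalCharP.conj_le_weakClosure le_top)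
    rw [hgk]
    exact (Subgroup.map_mono le_sup_right).trans (CfsgLib.LocalCharP.map_conj_eq_self_iff.mpr (hMn hk)).le
  refine ⟨⟨a1, a2, a3, a4⟩, ⟨b1, b2, b3, b4⟩, le_antisymm ?_ ?_,
    (Subgroup.commutator_mono le_rfl b6).trans a5⟩
  · have hres : ∀ W : Subgroup G, W ≤ Hc →
        (Cfsg.pResidual p ↥W).map W.subtype ≤ (Cfsg.pResidual p ↥Hc).map Hc.subtype := fun W hW =>
      CfsgLib.LocalCharP.map_pResidual_le_iff.mpr fun x hx hxc =>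
        CfsgLib.LocalCharP.mem_map_pResidual (hW hx) hxc
    subst hK₁ hK₂
    exact sup_le (hres _ (CfsgLib.LocalCharP.weakClosure_le.trans (sup_le hn₁.1 hQHc)))
      (hres _ (CfsgLib.LocalCharP.weakClosure_le.trans (sup_le hn₂.1 hQHc)))
  · exact CfsgLib.LocalCharP.map_pResidual_le_iff.mpr fun x hx hxc =>
      CfsgLib.LocalCharP.coprime_mem_of_sup hQp (hQHc.trans hHK) (hMHc hx) hxc

end Cfsg.Agent.S2859
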