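import Cfsg.Statements.S2860
import Cfsg.Agent.LocalCharP.WeakClosure
import Cfsg.Agent.Cores.Quasisimple
import Mathlib.Tactic.Group

set_option autoImplicit false
open Cfsg
open scoped commutatorElement Pointwise

namespace Cfsg.Agent.S2860

/-- Let Q be a nontrivial large p-subgroup of the finite group H, U a nontrivial elementary abelian p-subgroup of H, and Q ≤ E ≤ N_H(U) with Q not normal in E. Suppose O_p(E/C_E(U)) = 1 and O^p(E)·C_E(U)/C_E(U) is quasisimple. Let E° be the weak closure of Q in E (generated by the conjugates of Q inside E) and E_∘ = O^p(E°). Then O^p(E)·C_E(U) = E_∘·C_E(U); E_∘ is perfect and equals O^p(E_∘); E_∘/C_{E_∘}(U) and E_∘/O_p(E_∘) are quasisimple; and E_∘ = [E_∘, Y] for every p-subgroup Y of E not centralizing U. -/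
theorem result {G : Type*} [Group G] [Finite G] {p : ℕ} [Fact p.Prime] (Q : Subgroup G) (hQp : IsPGroup p ↥Q) (hQ1 : Q ≠ ⊥) (hQ : Cfsg.IsLarge Q) (U : Subgroup G) (hU : Cfsg.IsElementaryAbelian p U) (hU1 : U ≠ ⊥) (E : Subgroup G) (hQE : Q ≤ E) (hEU : E ≤ Subgroup.normalizer ((U : Subgroup G) : Set G)) (hQn : ¬ E ≤ Subgroup.normalizer ((Q : Subgroup G) : Set G)) [hn : ((Subgroup.centralizer ((U : Subgroup G) : Set G)).subgroupOf E).Normal] (hred : Cfsg.pCore p (↥E ⧸ (Subgroup.centralizer ((U : Subgroup G) : Set G)).subgroupOf E) = ⊥) (hqs : Cfsg.IsQuasisimple ↥(((Cfsg.pResidual p ↥E) ⊔ (Subgroup.centralizer ((U : Subgroup G) : Set G)).subgroupOf E).map (QuotientGroup.mk' ((Subgroup.centralizer ((U : Subgroup G) : Set G)).subgroupOf E)))) (Er : Subgroup G) (hEr : Er = ((Cfsg.pResidual p ↥(Cfsg.weakClosure Q E)).map ((Cfsg.weakClosure Q E)).subtype)) [hn2 : ((Subgroup.centralizer ((U : Subgroup G) : Set G)).subgroupOf Er).Normal] : ((Cfsg.pResidual p ↥E).map (E).subtype)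 ⊔ (E ⊓ Subgroup.centralizer ((U : Subgroup G) : Set G)) = Er ⊔ (E ⊓ Subgroup.centralizer ((U : Subgroup G) : Set G)) ∧ ⁅Er, Er⁆ = Er ∧ ((Cfsg.pResidual p ↥Er).map (Er).subtype) = Er ∧ Cfsg.IsQuasisimple (↥Er ⧸ (Subgroup.centralizer ((U : Subgroup G) : Set G)).subgroupOf Er) ∧ Cfsg.IsQuasisimple (↥Er ⧸ Cfsg.pCore p ↥Er) ∧ ∀ Y : Subgroup G, Y ≤ E → IsPGroup p ↥Y → ¬ Y ≤ Subgroup.centralizer ((U : Subgroup G) : Set G) → ⁅Er, Y⁆ = Er := by
  obtain ⟨hUc, -⟩ := id hU
  have hUp : IsPGroup p ↥U := fun u => ⟨1, Subtype.ext (by simpa using hU.2 u u.2)⟩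
  have hwc : Cfsg.IsWeaklyClosedSubgroup p Q := CfsgLib.LocalCharP.isWeaklyClosedSubgroup_of_isLarge hQp hQ1 hQ
  set C := Subgroup.centralizer (U : Set G) with hC
  set W := Cfsg.weakClosure Q E with hW
  have hWE : W ≤ E := CfsgLib.LocalCharP.weakClosure_le
  have hQW : Q ≤ W := CfsgLib.LocalCharP.le_weakClosure_self hQE
  have hErW : Er ≤ W := hEr ▸ Subgroup.map_subtype_le _
  have hErE : Er ≤ E := hErW.trans hWE
  have hEW : E ≤ Subgroup.normalizer (W : Set G) :=
    Subgroup.le_normalizer.trans (CfsgLib.LocalCharP.normalizer_le_normalizer_weakClosure Q E)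
  have hEEr : E ≤ Subgroup.normalizer (Er : Set G) :=
    hEr ▸ hEW.trans (CfsgLib.LocalCharP.normalizer_le_normalizer_pResidual_map W)
  have hErQ : ⁅Er, Q⁆ = Er := hEr ▸ CfsgLib.LocalCharP.commutator_weakClosure_pResidual hwc hQp hQE
  have hWEr : Er ⊔ Q = W := hEr ▸ CfsgLib.LocalCharP.weakClosure_pResidual_sup hwc hQp hQE
  have hCQ : C ≤ Subgroup.normalizer (Q : Set G) :=
    CfsgLib.LocalCharP.centralizer_le_normalizer_of_isLarge hQp hQ hUp hU1 (hQE.trans hEU)
  set P := Cfsg.pCoreOf p E with hP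
  have hPp : IsPGroup p ↥P := CfsgLib.LocalCharP.isPGroup_pCoreOf E
  have hEP : E ≤ Subgroup.normalizer (P : Set G) := CfsgLib.LocalCharP.le_normalizer_pCoreOf E
  haveI := Cfsg.pCore_normal p ↥E
  -- `[C ⊓ E, W] ≤ P`
  have hsubn : ∀ A : Subgroup G, A ≤ E ⊓ C → E ⊓ C ≤ Subgroup.normalizer (A : Set G) → IsPGroup p ↥A → A ≤ P := by
    intro A hA hAn hAp
    have hsn : (A.subgroupOf E).IsSubnormal := by
      refine Subgroup.IsSubnormal.step _ (C.subgroupOf E) (fun x hx => (hA hx).2) hn.isSubnormal ?_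
      refine ⟨fun x hx y => ?_⟩
      exact (Subgroup.mem_normalizer_iff.mp (hAn ⟨(y : ↥E).2, y.2⟩) _).mp hx
    exact fun x hx => ⟨⟨x, (hA hx).1⟩, CfsgLib.LocalCharP.le_pCore_of_isSubnormal hsn
      (hAp.comap_of_injective _ E.subtype_injective) hx, rfl⟩
  have hconjC : ∀ k ∈ E, ∀ c ∈ C, k * c * k⁻¹ ∈ C := by
    intro k hk c hc
    refine Subgroup.mem_centralizer_iff.mpr fun u hu => ?_
    have h1 := Subgroup.mem_centralizer_iff.mp hc (k⁻¹ * u * k)
      (by simpa using (Subgroup.mem_normalizer_iff.mp (hEU (inv_mem hk)) u).mp hu)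
    calc u * (k * c * k⁻¹) = k * ((k⁻¹ * u * k) * c) * k⁻¹ := by group
      _ = k * c * k⁻¹ * u := by rw [h1]; group
  have hCW : ∀ c ∈ C, c ∈ E → ∀ w ∈ W, ⁅c, w⁆ ∈ P := by
    intro c hc hcE
    have h1 : W ≤ E ⊓ Subgroup.normalizer (P : Set G) := le_inf hWE (hWE.trans hEP)
    have hgen : ∀ k ∈ E, ∀ q ∈ Q, ⁅c, k * q * k⁻¹⁆ ∈ P := by
      intro k hk q hq
      set c' := k⁻¹ * c * k with hc'
      have hc'C : c' ∈ C := by simpa [hc'] using hconjC k⁻¹ (inv_mem hk) c hc
      have hc'E : c' ∈ E := mul_mem (mul_mem (inv_mem hk) hcE) hk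
      have h2 : ⁅c', q⁆ ∈ P := by
        refine hsubn (Q ⊓ C) (le_inf (inf_le_left.trans hQE) inf_le_right) ?_ (hQp.to_le inf_le_left) ⟨?_, ?_⟩
        · refine CfsgLib.LocalCharP.le_normalizer_inf (inf_le_right.trans hCQ) ?_
          exact inf_le_right.trans Subgroup.le_normalizer
        · exact Q.mul_mem ((Subgroup.mem_normalizer_iff.mp (hCQ hc'C) q).mp hq) (Q.inv_mem hq)
        · have h3 := mul_mem hc'C (hconjC q (hQE hq) _ (C.inv_mem hc'C))
          simpa [commutatorElement_def, mul_assoc] using h3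
      have h4 := (Subgroup.mem_normalizer_iff.mp (hEP hk) _).mp h2
      rw [conjugate_commutatorElement, show k * c' * k⁻¹ = c by rw [hc']; group] at h4
      exact h4
    -- the elements `w ∈ E` with `⁅c, w⁆ ∈ P` form a subgroup
    let S : Subgroup G :=
      { carrier := {w | w ∈ E ∧ ⁅c, w⁆ ∈ P}
        one_mem' := ⟨one_mem E, by rw [commutatorElement_one_right]; exact one_mem P⟩
        mul_mem' := fun {a b} ha hb => ⟨mul_mem ha.1 hb.1, by
          rw [commutatorElement_mul_right_eq_mul_conj, mul_assoc ⁅c, a⁆, mul_assoc ⁅c, a⁆]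
          exact mul_mem ha.2 ((Subgroup.mem_normalizer_iff.mp (hEP ha.1) _).mp hb.2)⟩
        inv_mem' := fun {a} ha => ⟨inv_mem ha.1, by
          rw [commutatorElement_inv_right, ← commutatorElement_inv c a]
          simpa using (Subgroup.mem_normalizer_iff.mp (hEP (inv_mem ha.1)) _).mp (inv_mem ha.2)⟩ }
    have hWS : W ≤ S := by
      nth_rewrite 1 [hW]
      refine CfsgLib.LocalCharP.weakClosure_le_of fun g hg => ?_
      obtain ⟨k, hk, hgk⟩ := CfsgLib.LocalCharP.exists_mem_conj_eq hwc hQp hQE hg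
      rw [hgk]
      rintro - ⟨q, hq, rfl⟩
      exact ⟨mul_mem (mul_mem hk (hQE hq)) (inv_mem hk), hgen k hk q hq⟩
    exact fun w hw => (hWS hw).2
  -- the quotient
  set f := QuotientGroup.mk' (C.subgroupOf E) with hf
  have hfs : Function.Surjective f := QuotientGroup.mk'_surjective _
  set X : Subgroup (↥E ⧸ C.subgroupOf E) := (Cfsg.pResidual p ↥E ⊔ C.subgroupOf E).map f with hX
  have hkerf : f.ker = C.subgroupOf E := QuotientGroup.ker_mk' _
  have hXres : X = Cfsg.pResidual p (↥E ⧸ C.subgroupOf E) := by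
    rw [hX, Subgroup.map_sup, CfsgLib.LocalCharP.map_pResidual hfs, sup_eq_left]
    exact ((Subgroup.map_eq_bot_iff _).mpr hkerf.ge).le.trans bot_le
  haveI hXn : X.Normal := hXres ▸ inferInstance
  have hXperf : ⁅X, X⁆ = X := by
    haveI := hqs.1
    rw [← Subgroup.map_subtype_commutator, Group.IsPerfect.commutator_eq_top, ← MonoidHom.range_eq_map,
      Subgroup.range_subtype]
  have hXne : X ≠ ⊥ := fun h => by
    haveI := CfsgLib.Cores.nontrivial_of_isQuasisimple hqs
    exact (Subgroup.nontrivial_iff_ne_bot X).mp (CfsgLib.Cores.nontrivial_of_isQuasisimple hqs) h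
  have hXnorm : ∀ N, N ≤ X → X ≤ Subgroup.normalizer (N : Set (↥E ⧸ C.subgroupOf E)) → N = X ∨ ⁅N, X⁆ = ⊥ := by
    intro N hNX hNn
    rcases CfsgLib.Cores.normal_eq_top_or_le_center hqs (N.subgroupOf X)
      ((Subgroup.normal_subgroupOf_iff_le_normalizer hNX).mpr hNn) with h | h
    · exact Or.inl (le_antisymm hNX (Subgroup.subgroupOf_eq_top.mp h))
    · refine Or.inr (CfsgLib.Cores.commutator_eq_bot_of_forall_commute fun a ha b hb => ?_)
      exact (congrArg Subtype.val (Subgroup.mem_center_iff.mp (h (show (⟨a, hNX ha⟩ : ↥X) ∈ N.subgroupOf X from ha))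
        ⟨b, hb⟩) :).symm
  set Erb := (Er.subgroupOf E).map f with hErb
  haveI hErbn : Erb.Normal := ((Subgroup.normal_subgroupOf_iff_le_normalizer hErE).mpr hEEr).map f hfs
  set Qb := (Q.subgroupOf E).map f with hQb
  have hQbp : IsPGroup p ↥Qb := (hQp.comap_of_injective _ E.subtype_injective).map f
  set Wb := (W.subgroupOf E).map f with hWb
  haveI hWbn : Wb.Normal := ((Subgroup.normal_subgroupOf_iff_le_normalizer hWE).mpr hEW).map f hfs
  have hWbeq : Wb = Erb ⊔ Qb := by
    rw [hWb, ← hWEr, Subgroup.subgroupOf_sup hErE hQE, Subgroup.map_sup]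
  have hErX : Erb ≤ X := by
    refine Subgroup.map_mono (le_trans ?_ le_sup_left)
    intro x hx
    have h1 : (x : G) ∈ (Cfsg.pResidual p ↥E).map E.subtype := by
      refine (le_trans (le_of_eq hEr) (CfsgLib.LocalCharP.map_pResidual_le_iff.mpr fun y hy hyc => ?_)) hx
      exact CfsgLib.LocalCharP.mem_map_pResidual (hWE hy) hyc
    obtain ⟨y, hy, hyx⟩ := h1
    rwa [← show y = x from Subtype.ext hyx]
  have hErne : Erb ≠ ⊥ := by
    intro h
    have h1 : Wb ≤ ⊥ := by
      rw [← hred]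
      exact CfsgLib.CharP.le_pCore hWbn (by rw [hWbeq, h, bot_sup_eq]; exact hQbp)
    have hQC : Q ≤ C := fun q hq => by
      have h2 : f ⟨q, hQE hq⟩ = 1 := Subgroup.mem_bot.mp (h1 (hWbeq ▸ Subgroup.mem_sup_right
        (Subgroup.mem_map_of_mem f (show (⟨q, hQE hq⟩ : ↥E) ∈ Q.subgroupOf E from hq))))
      exact ((QuotientGroup.eq_one_iff _).mp h2 : _)
    exact hQn (hEP.trans (CfsgLib.LocalCharP.normalizer_le_of_weaklyClosed hwc hPp
      (hsubn Q (le_inf hQE hQC) (inf_le_right.trans hCQ) hQp)))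
  have hErbQ : ⁅Erb, Qb⁆ = Erb := by
    rw [hErb, hQb, ← Subgroup.map_commutator]
    congr 1
    apply Subgroup.map_injective E.subtype_injective
    rw [Subgroup.map_commutator, Subgroup.map_subgroupOf_eq_of_le hErE, Subgroup.map_subgroupOf_eq_of_le hQE, hErQ]
  have hEX : Erb = X := by
    refine (hXnorm Erb hErX (le_top.trans (Subgroup.normalizer_eq_top (H := Erb)).ge)).resolve_right fun hc => ?_
    rcases hXnorm (Wb ⊓ X) inf_le_right (le_top.trans (Subgroup.normalizer_eq_top (H := Wb ⊓ X)).ge) with hI | hI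
    · refine hXne (le_bot_iff.mp ?_)
      have hXW : X ≤ Erb ⊔ Qb := hWbeq ▸ (inf_eq_right.mp hI)
      have hXE : X ≤ Erb := by
        nth_rewrite 1 [hXres]
        refine CfsgLib.LocalCharP.pResidual_le fun x hx => ?_
        exact CfsgLib.LocalCharP.coprime_mem_of_sup hQbp
          (le_top.trans (Subgroup.normalizer_eq_top (H := Erb)).ge)
          (hXW (hXres ▸ CfsgLib.LocalCharP.mem_pResidual hx)) hx
      rw [← hXperf, ← hc]
      exact Subgroup.commutator_mono hXE le_rfl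
    · have h1 : ⁅Wb, X⁆ = ⊥ := CfsgLib.Cores.commutator_eq_bot_of_perfect hXperf
        (le_bot_iff.mp (hI ▸ Subgroup.commutator_mono (Subgroup.commutator_le_inf Wb X) le_rfl))
      refine hErne (le_bot_iff.mp ?_)
      rw [← h1, ← hErbQ, Subgroup.commutator_comm Wb X]
      exact Subgroup.commutator_mono hErX (hWbeq ▸ le_sup_right)
  -- a subgroup covering `Er` modulo `C`
  have hcover : ∀ D : Subgroup ↥E, D.map f = X → ∀ g ∈ Er, ∃ d ∈ D.map E.subtype, ∃ c ∈ C, c ∈ E ∧ g = d * c := by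
    intro D hD g hg
    obtain ⟨d, hd, hdg⟩ : f ⟨g, hErE hg⟩ ∈ D.map f := by
      rw [hD, ← hEX]
      exact Subgroup.mem_map_of_mem f hg
    exact ⟨d, Subgroup.mem_map_of_mem _ hd, (d : G)⁻¹ * g, (QuotientGroup.eq (s := C.subgroupOf E) (a := d)).mp hdg,
      mul_mem (inv_mem d.2) (hErE hg), by group⟩
  have hstep : ∀ (S D : Subgroup G), S ≤ W → D ≤ Er → Er ≤ Subgroup.normalizer (D : Set G) →
      S ≤ Subgroup.normalizer (D : Set G) → ⁅Er, S⁆ = Er → (D.subgroupOf E).map f = X → Er = D := by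
    intro S D hSW hDEr hErD hSD hErS hDX
    refine le_antisymm ?_ hDEr
    have h1 : Er ≤ D ⊔ (P ⊓ Er) := by
      nth_rewrite 1 [← hErS]
      rw [Subgroup.commutator_le]
      intro g hg s hs
      obtain ⟨d, hd, c, hc, hcE, rfl⟩ := hcover _ hDX g hg
      rw [Subgroup.map_subgroupOf_eq_of_le (hDEr.trans hErE)] at hd
      have hcEr : c ∈ Er := by simpa using mul_mem (inv_mem (hDEr hd)) hg
      rw [commutatorElement_mul_left_eq_conj_mul]
      refine mul_mem (mul_mem (mul_mem (Subgroup.mem_sup_left hd) (Subgroup.mem_sup_right ⟨hCW c hc hcE s (hSW hs), ?_⟩))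
        (inv_mem (Subgroup.mem_sup_left hd))) (Subgroup.mem_sup_left ?_)
      · have h2 := mul_mem hcEr ((Subgroup.mem_normalizer_iff.mp (hEEr (hWE (hSW hs))) _).mp (inv_mem hcEr))
        simpa [commutatorElement_def, mul_assoc] using h2
      · have h2 := mul_mem hd ((Subgroup.mem_normalizer_iff.mp (hSD hs) _).mp (inv_mem hd))
        simpa [commutatorElement_def, mul_assoc] using h2
    nth_rewrite 1 [hEr]
    refine CfsgLib.LocalCharP.map_pResidual_le_iff.mpr fun x hx hxc =>
      CfsgLib.LocalCharP.coprime_mem_of_sup (hPp.to_le inf_le_left) (inf_le_right.trans hErD) (h1 ?_) hxc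
    exact hEr ▸ CfsgLib.LocalCharP.mem_map_pResidual hx hxc
  have hmapC : ∀ A B : Subgroup G, A ≤ E → B ≤ E → ⁅A, B⁆ ≤ E →
      ((⁅A, B⁆ : Subgroup G).subgroupOf E).map f = ⁅(A.subgroupOf E).map f, (B.subgroupOf E).map f⁆ := by
    intro A B hA hB hAB
    rw [← Subgroup.map_commutator]
    congr 1
    apply Subgroup.map_injective E.subtype_injective
    rw [Subgroup.map_subgroupOf_eq_of_le hAB, Subgroup.map_commutator, Subgroup.map_subgroupOf_eq_of_le hA,
      Subgroup.map_subgroupOf_eq_of_le hB]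
  have hperf : ⁅Er, Er⁆ = Er := by
    have hle : ⁅Er, Er⁆ ≤ Er := CfsgLib.LocalCharP.commutator_le_of_le_normalizer (L := Er) Subgroup.le_normalizer le_rfl
    refine (hstep Q ⁅Er, Er⁆ hQW hle (CfsgLib.LocalCharP.le_normalizer_commutator_self Er Er)
      (CfsgLib.LocalCharP.le_normalizer_commutator (hQE.trans hEEr) (hQE.trans hEEr)) hErQ ?_).symm
    rw [hmapC Er Er hErE hErE (hle.trans hErE), ← hErb, hEX, hXperf]
  refine ⟨?_, hperf, ?_, ?_, ?_, ?_⟩
  · have h1 : Cfsg.pResidual p ↥E ⊔ C.subgroupOf E = Er.subgroupOf E ⊔ C.subgroupOf E := by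
      have h2 := congrArg (Subgroup.comap f) hEX.symm
      rw [hX, hErb, Subgroup.comap_map_eq, Subgroup.comap_map_eq, hkerf, sup_assoc, sup_idem] at h2
      exact h2
    have h3 := congrArg (Subgroup.map E.subtype) h1
    rwa [Subgroup.map_sup, Subgroup.map_sup, Subgroup.map_subgroupOf_eq_of_le hErE, Subgroup.subgroupOf_map_subtype,
      inf_comm C E] at h3
  · refine le_antisymm (Subgroup.map_subtype_le _) ?_
    nth_rewrite 1 [hEr]
    exact CfsgLib.LocalCharP.map_pResidual_le_iff.mpr fun x hx hxc => CfsgLib.LocalCharP.mem_map_pResidual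
      (hEr ▸ CfsgLib.LocalCharP.mem_map_pResidual hx hxc) hxc
  · set ψ : ↥Er →* ↥E ⧸ C.subgroupOf E := f.comp (Subgroup.inclusion hErE) with hψ
    have hrange : ψ.range = X := by
      rw [← hEX, hErb, hψ, MonoidHom.range_comp, Subgroup.inclusion_range hErE]
    have hkerψ : ψ.ker = C.subgroupOf Er := by
      rw [hψ, ← MonoidHom.comap_ker, hkerf]
      rfl
    exact CfsgLib.Cores.isQuasisimple_congr (((QuotientGroup.quotientMulEquivOfEq hkerψ.symm).trans
      (QuotientGroup.quotientKerEquivRange ψ)).trans (MulEquiv.subgroupCongr hrange)).symm hqs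
  · set ψ : ↥Er →* ↥E ⧸ C.subgroupOf E := f.comp (Subgroup.inclusion hErE) with hψ
    have hrange : ψ.range = X := by
      rw [← hEX, hErb, hψ, MonoidHom.range_comp, Subgroup.inclusion_range hErE]
    haveI := Cfsg.pCore_normal p ↥Er
    haveI : Group.IsPerfect ↥Er := ⟨by
      apply Subgroup.map_injective Er.subtype_injective
      rw [Subgroup.map_subtype_commutator, hperf, ← MonoidHom.range_eq_map, Subgroup.range_subtype]⟩
    haveI : Group.IsPerfect (↥Er ⧸ Cfsg.pCore p ↥Er) :=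
      Group.IsPerfect.ofSurjective (QuotientGroup.mk'_surjective _)
    have hle : Cfsg.pCore p ↥Er ≤ ψ.rangeRestrict.ker := by
      rw [MonoidHom.ker_rangeRestrict]
      intro x hx
      set Pr := (Cfsg.pCoreOf p Er).subgroupOf E
      have hPrn : (Pr.map f).Normal := ((Subgroup.normal_subgroupOf_iff_le_normalizer
        ((CfsgLib.LocalCharP.pCoreOf_le Er).trans hErE)).mpr
        (hEEr.trans (CfsgLib.LocalCharP.normalizer_le_normalizer_pCoreOf Er))).map f hfs
      have h1 : Pr.map f ≤ ⊥ := hred ▸ CfsgLib.CharP.le_pCore hPrn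
        (((CfsgLib.LocalCharP.isPGroup_pCoreOf Er).comap_of_injective _ E.subtype_injective).map f)
      exact Subgroup.mem_bot.mp (h1 (Subgroup.mem_map_of_mem f
        (show Subgroup.inclusion hErE x ∈ Pr from Subgroup.mem_map_of_mem Er.subtype hx)))
    refine CfsgLib.Cores.isQuasisimple_of_central_ker (QuotientGroup.lift _ ψ.rangeRestrict hle)
      (QuotientGroup.lift_surjective_of_surjective _ _ ψ.rangeRestrict_surjective hle) ?_
      (CfsgLib.Cores.isQuasisimple_congr (MulEquiv.subgroupCongr hrange).symm hqs)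
    intro z hz
    obtain ⟨x, rfl⟩ := QuotientGroup.mk'_surjective _ z
    have hxC : (x : G) ∈ C := by
      have h1 : ψ x = 1 := congrArg Subtype.val (MonoidHom.mem_ker.mp hz)
      exact (QuotientGroup.eq_one_iff (N := C.subgroupOf E) (Subgroup.inclusion hErE x)).mp h1
    refine Subgroup.mem_center_iff.mpr fun y => ?_
    obtain ⟨y, rfl⟩ := QuotientGroup.mk'_surjective _ y
    refine (commutatorElement_eq_one_iff_mul_comm.mp ?_).symm
    rw [← map_commutatorElement, QuotientGroup.mk'_apply, QuotientGroup.eq_one_iff]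
    have hmem : (⁅x, y⁆ : ↥Er) ∈ P.subgroupOf Er := hCW x hxC (hErE x.2) y (hErW y.2)
    exact CfsgLib.CharP.le_pCore (Subgroup.normal_subgroupOf_of_le_normalizer (hErE.trans hEP))
      (hPp.comap_of_injective _ Er.subtype_injective) hmem
  · intro Y hYE hYp hYC
    set Yb := (Y.subgroupOf E).map f with hYb
    have hle : ⁅Er, Y⁆ ≤ Er := CfsgLib.LocalCharP.commutator_le_of_le_normalizer hEEr hYE
    have hXY : ⁅X, Yb⁆ = X := by
      refine (hXnorm _ (Subgroup.commutator_le_left X Yb)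
        (CfsgLib.LocalCharP.le_normalizer_commutator_self X Yb)).resolve_right fun hc => ?_
      have h1 : ⁅Yb, X⁆ = ⊥ := CfsgLib.Cores.commutator_eq_bot_of_perfect hXperf
        (by rwa [Subgroup.commutator_comm Yb X])
      have hYK : Yb ≤ Subgroup.centralizer (X : Set _) := Subgroup.commutator_eq_bot_iff_le_centralizer.mp h1
      set K := Subgroup.centralizer (X : Set (↥E ⧸ C.subgroupOf E)) with hK
      haveI hKn : K.Normal := inferInstance
      have hKc : Cfsg.IsPClosed p ↥K := by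
        obtain ⟨S⟩ : Nonempty (Sylow p ↥K) := inferInstance
        refine CfsgLib.LocalCharP.isPClosed_of_sylow_normal S ?_
        refine Subgroup.normalizer_eq_top_iff.mp (top_le_iff.mp
          ((CfsgLib.LocalCharP.pResidual_sup_sylow S).ge.trans (sup_le ?_ Subgroup.le_normalizer)))
        refine le_trans (CfsgLib.LocalCharP.pResidual_le fun x hx => ?_) (Subgroup.center_le_normalizer _)
        refine Subgroup.mem_center_iff.mpr fun y => Subtype.ext ?_
        have hxX : (x : ↥E ⧸ C.subgroupOf E) ∈ X := by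
          rw [hXres]
          exact CfsgLib.LocalCharP.mem_pResidual (by rwa [Subgroup.orderOf_coe])
        exact (Subgroup.mem_centralizer_iff.mp y.2 x hxX).symm
      have hYb1 : Yb ≤ ⊥ := hred ▸ CfsgLib.LocalCharP.le_pCore_of_isPClosed_subnormal hKn.isSubnormal hKc hYK
        ((hYp.comap_of_injective _ E.subtype_injective).map f)
      refine hYC fun y hy => ?_
      exact (QuotientGroup.eq_one_iff (⟨y, hYE hy⟩ : ↥E)).mp (Subgroup.mem_bot.mp
        (hYb1 (Subgroup.mem_map_of_mem f (show (⟨y, hYE hy⟩ : ↥E) ∈ Y.subgroupOf E from hy))))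
    have hDn := CfsgLib.LocalCharP.le_normalizer_commutator_self Er Y
    refine (hstep Er ⁅Er, Y⁆ hErW hle hDn hDn hperf ?_).symm
    rw [hmapC Er Y hErE hYE (hle.trans hErE), ← hErb, hEX, hXY]

end Cfsg.Agent.S2860
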