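import Cfsg.Statements.S2861
import Cfsg.Agent.FrakL.UniqueNormal

set_option autoImplicit false
open Cfsg

namespace Cfsg.Agent.S2861

open CfsgLib.FrakL

/-- Standing hypotheses: G a finite group, S a Sylow p-subgroup, Q a nontrivial large p-subgroup of G contained in S, M a subgroup containing S with the basic property (M ∈ 𝔐_G(S)); Y_M the largest p-reduced normal subgroup of M and M† = M·C_G(Y_M). Let L ∈ 𝔏_G(Y_M) (L ∈ 𝔏_G(Y_M): Y_M ≤ L; O_p(L) is the normal closure in L of Y_M ∩ O_p(L) and normalizes Y_M; L is Y_M-minimal of characteristic p with N_L(Y_M) its unique maximal subgroup over Y_M; and L/O_p(L) ≅ SL₂(q) with q = |Y_M : Y_M ∩ O_p(L)|, or p = 2 and L/O_p(L) is a Suzuki group Sz(q) or dihedral of order 2r, r an odd prime) and A = O_p(L). Then Y_M·A/A is the unique nontrivial elementary abelian normal p-subgroup of N_L(Y_M)/A. -/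
theorem result {G : Type*} [Group G] [Finite G] {p : ℕ} [Fact p.Prime] (S : Sylow p G) (Q : Subgroup G) (hQp : IsPGroup p ↥Q) (hQ1 : Q ≠ ⊥) (hQS : Q ≤ (S : Subgroup G)) (hQ : Cfsg.IsLarge Q) (M : Subgroup G) (hSM : (S : Subgroup G) ≤ M) (hM : Cfsg.IsInFrakM p M) (L : Subgroup G) (hL : Cfsg.IsInFrakL p M L) (NL : Subgroup G) (hNL : NL = L ⊓ Subgroup.normalizer (((Cfsg.largestPReducedOf p M) : Subgroup G) : Set G)) [hn : (((Cfsg.pCoreOf p L)).subgroupOf NL).Normal] : let Ybar : Subgroup (↥NL ⧸ ((Cfsg.pCoreOf p L)).subgroupOf NL) := (((Cfsg.largestPReducedOf p M)).subgroupOf NL).map (QuotientGroup.mk' (((Cfsg.pCoreOf p L)).subgroupOf NL)); Ybar ≠ ⊥ ∧ Ybar.Normal ∧ Cfsg.IsElementaryAbelian p Ybar ∧ ∀ (V : Subgroup (↥NL ⧸ ((Cfsg.pCoreOf p L)).subgroupOf NL)), V.Normal → Cfsg.IsElementaryAbelian p V → V ≠ ⊥ → V = Ybar := by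
  classical
  intro Ybar
  have hnA : (pCore p ↥L).Normal := Cfsg.pCore_normal p ↥L
  have c := preData_of_frakL hL
  set Y := largestPReducedOf p M with hY
  set A := pCore p ↥L with hA
  set Y' := Y.subgroupOf L with hY'
  set P := Y'.map (QuotientGroup.mk' A) with hP
  have hq : (Y ⊓ pCoreOf p L).relIndex Y = Nat.card P := relIndex_eq_card_map hL.1 _
  obtain ⟨hb, hmin⟩ : (∀ S : Subgroup (↥L ⧸ A), IsPGroup p S →
      {s : ↥L ⧸ A | s ∈ S ∧ s ^ p = 1}.ncard ≤ Nat.card P) ∧ MinimalInNormalizer P := by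
    rcases hL.2.2.2.2.2.2 with ⟨F, iF, iFin, hcard, ⟨e⟩⟩ | ⟨rfl, F, iF, iFin, m, hFc, hcard, ⟨e⟩⟩ |
      ⟨rfl, r, hr, hr2, ⟨e⟩⟩
    · obtain ⟨-, e', hupper, hmem, hb⟩ :=
        sl2_adjust c (by rw [Nat.card_eq_fintype_card, hcard, hq]) e
      exact ⟨hb, minimal_sl2 e' hupper hmem⟩
    · rcases Nat.eq_zero_or_pos m with rfl | hm
      · have h2 : Nat.card P = 2 := by rw [← hq, ← hcard, hFc]; rfl
        exact ⟨(two_structure c h2).1, minimal_of_card_two h2⟩
      · haveI := CfsgLib.Suzuki.charP_two hFc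
        have hT := CfsgLib.Suzuki.titsEndo_theta hm hFc
        have hc : Nat.card F = Nat.card P := by rw [Nat.card_eq_fintype_card, hcard, hq]
        let ψ := (e.trans (CfsgLib.Suzuki.lieSzEquiv hm hFc).symm).trans
          (MulEquiv.subgroupCongr CfsgLib.Suzuki.sz_eq)
        exact ⟨suzuki_bound hT hc ψ, minimal_suzuki c hT hc ψ⟩
    · have h2 := card_eq_two_of_dihedral c hr hr2 e
      exact ⟨(two_structure c h2).1, minimal_of_card_two h2⟩
  have d := c.toData hb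
  have hYL : Y ≤ L := hL.1
  have hNLL : NL ≤ L := hNL ▸ inf_le_left
  let incl : ↥NL →* ↥L ⧸ A := (QuotientGroup.mk' A).comp (Subgroup.inclusion hNLL)
  have hker : (pCoreOf p L).subgroupOf NL = incl.ker := by
    ext x
    rw [MonoidHom.mem_ker, Subgroup.mem_subgroupOf]
    show _ ↔ ((Subgroup.inclusion hNLL x : ↥L) : ↥L ⧸ A) = 1
    rw [QuotientGroup.eq_one_iff]
    constructor
    · rintro ⟨z, hz, hze⟩
      rwa [show Subgroup.inclusion hNLL x = z from Subtype.ext hze.symm]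
    · intro hx
      exact ⟨_, hx, rfl⟩
  let f : ↥NL ⧸ (pCoreOf p L).subgroupOf NL →* ↥L ⧸ A :=
    QuotientGroup.lift _ incl hker.le
  have hf : ∀ x : ↥NL, f x = incl x := fun x => rfl
  have hfinj : Function.Injective f := by
    rw [injective_iff_map_eq_one]
    intro x hx
    obtain ⟨x, rfl⟩ := QuotientGroup.mk_surjective x
    rw [hf] at hx
    rw [QuotientGroup.eq_one_iff, hker]
    exact hx
  have hmemNL : ∀ h : ↥L, h ∈ Subgroup.normalizer (Y' : Set ↥L) → (h : G) ∈ NL := by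
    intro h hh
    rw [hNL]
    refine ⟨h.2, Subgroup.mem_normalizer_iff.2 fun y => ⟨fun hy => ?_, fun hy => ?_⟩⟩
    · simpa [hY', Subgroup.mem_subgroupOf] using
        (Subgroup.mem_normalizer_iff.1 hh ⟨y, hYL hy⟩).1 hy
    · have hyL : y ∈ L := by
        have := mul_mem (mul_mem (inv_mem h.2) (hYL hy)) h.2
        simpa [mul_assoc] using this
      simpa [hY', Subgroup.mem_subgroupOf] using (Subgroup.mem_normalizer_iff.1 hh ⟨y, hyL⟩).2
        (by simpa [hY', Subgroup.mem_subgroupOf] using hy)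
  have hNrange : ∀ x : ↥NL, incl x ∈ Subgroup.normalizer (P : Set (↥L ⧸ A)) := by
    intro x
    refine Subgroup.le_normalizer_map _ ⟨_, ?_, rfl⟩
    have hx : (x : G) ∈ Subgroup.normalizer (Y : Set G) := (hNL ▸ x.2 : (x : G) ∈ L ⊓ _).2
    refine Subgroup.mem_normalizer_iff.2 fun y => ?_
    simp only [hY', Subgroup.mem_subgroupOf, Subgroup.coe_mul, Subgroup.coe_inv]
    exact Subgroup.mem_normalizer_iff.1 hx y
  have hrange : ∀ s ∈ Subgroup.normalizer (P : Set (↥L ⧸ A)), ∃ x : ↥NL, incl x = s := by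
    intro s hs
    obtain ⟨h, rfl⟩ := QuotientGroup.mk'_surjective A s
    exact ⟨⟨h, hmemNL h (d.mem_normalizer_of_map hs)⟩, rfl⟩
  have hYbar : ∀ v, v ∈ Ybar ↔ f v ∈ P := by
    intro v
    constructor
    · rintro ⟨y, hy, rfl⟩
      exact ⟨Subgroup.inclusion hNLL y, hy, rfl⟩
    · rintro ⟨y, hy, hye⟩
      have hyN : (y : G) ∈ NL := hmemNL y (Subgroup.le_normalizer hy)
      exact ⟨⟨y, hyN⟩, hy, hfinj (by rw [QuotientGroup.mk'_apply, hf]; exact hye)⟩
  refine ⟨?_, ⟨fun v hv g => ?_⟩, ⟨⟨⟨fun a b => Subtype.ext (hfinj ?_)⟩⟩, fun a ha => hfinj ?_⟩, ?_⟩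
  · obtain ⟨n, hn0, hcard⟩ := c.card_map
    haveI : Nontrivial P := (Subgroup.nontrivial_iff_ne_bot P).2 c.map_ne_bot
    obtain ⟨⟨s, hs⟩, hs1⟩ := exists_ne (1 : P)
    obtain ⟨x, hx⟩ := hrange s (Subgroup.le_normalizer hs)
    intro hbot
    apply hs1
    have h1 : (x : ↥NL ⧸ _) ∈ Ybar := (hYbar _).2 (by rw [hf, hx]; exact hs)
    rw [hbot, Subgroup.mem_bot] at h1
    refine Subtype.ext ?_
    show s = 1
    rw [← hx, ← hf, h1, map_one]
  · rw [hYbar] at hv ⊢
    obtain ⟨x, rfl⟩ := QuotientGroup.mk_surjective g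
    rw [map_mul, map_mul, map_inv, hf]
    exact (Subgroup.mem_normalizer_iff.1 (hNrange x) _).1 hv
  · simp only [Subgroup.coe_mul, map_mul]
    obtain ⟨y₁, hy₁, e₁⟩ := (hYbar _).1 a.2
    obtain ⟨y₂, hy₂, e₂⟩ := (hYbar _).1 b.2
    rw [← e₁, ← e₂, ← map_mul, ← map_mul, c.comm y₁ hy₁ y₂ hy₂]
  · rw [map_pow, map_one]
    exact c.map_expo ((hYbar a).1 ha)
  · intro V hVn hVel hV1
    have hle : V.map f ≤ P := by
      rintro _ ⟨v, hv, rfl⟩
      have h1 : conjSub Y' 1 = Y' := d.conjSub_le_of_mem_normalizer (one_mem _)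
      have h2 := d.mem_of_normalizes (g := 1) (s := f v) (by rw [← map_pow, hVel.2 v hv, map_one])
        (by
          rw [h1]
          obtain ⟨x, rfl⟩ := QuotientGroup.mk_surjective v
          exact hNrange x)
      rwa [h1] at h2
    have hge : P ≤ V.map f := hmin _ hle
      (fun h => hV1 ((Subgroup.map_eq_bot_iff_of_injective V hfinj).1 h))
      (fun n hn' w hw => by
        obtain ⟨x, rfl⟩ := hrange n hn'
        obtain ⟨v, hv, rfl⟩ := hw
        exact ⟨(x : ↥NL ⧸ _) * v * (x : ↥NL ⧸ _)⁻¹, hVn.conj_mem v hv _,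
          by rw [map_mul, map_mul, map_inv, hf]⟩)
    ext v
    rw [hYbar]
    exact ⟨fun hv => hle ⟨v, hv, rfl⟩, fun hv => by
      obtain ⟨w, hw, hwe⟩ := hge hv
      rwa [← hfinj hwe]⟩

end Cfsg.Agent.S2861
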