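import Cfsg.Statements.S2862
import Cfsg.Agent.LocalCharP.AsymmetricL
import Cfsg.Agent.LocalCharP.Dagger
import Cfsg.Agent.S2845

set_option autoImplicit false
open Cfsg
open scoped commutatorElement Pointwise

namespace Cfsg.Agent.S2862

/-- Standing hypotheses: G a finite group, S a Sylow p-subgroup, Q a nontrivial large p-subgroup of G contained in S, M a subgroup containing S with the basic property (M ∈ 𝔐_G(S)); Y_M the largest p-reduced normal subgroup of M and M† = M·C_G(Y_M). Suppose Y_M is char-p-tall and asymmetric in G, H ∈ ℌ_G(O_p(M)), and L is minimal among the subgroups of H containing Y_M with Y_M ≰ O_p(L). Then H = ⟨L, O_p(M)⟩ = ⟨hY_Mh⁻¹, O_p(M)⟩ for every h ∈ L outside N_L(Y_M); L is Y_M-minimal and of characteristic p, with N_L(Y_M) the unique maximal subgroup of L containing Y_M; [V, O^p(L)] ≠ 1 for every noncentral chief factor V/W of H inside O_p(H) (that is, O^p(L) does not act trivially on V/W);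 and the normal closure of O_p(L) ∩ Y_M in L lies in O_p(H). -/
theorem result {G : Type*} [Group G] [Finite G] {p : ℕ} [Fact p.Prime] (S : Sylow p G) (Q : Subgroup G) (hQp : IsPGroup p ↥Q) (hQ1 : Q ≠ ⊥) (hQS : Q ≤ (S : Subgroup G)) (hQ : Cfsg.IsLarge Q) (M : Subgroup G) (hSM : (S : Subgroup G) ≤ M) (hM : Cfsg.IsInFrakM p M) (htall : Cfsg.IsCharPTall p (Cfsg.largestPReducedOf p M)) (hasym : ¬ Cfsg.IsSymmetricIn (Cfsg.largestPReducedOf p M)) (H : Subgroup G) (hH : Cfsg.IsInFrakH p M H) (L : Subgroup G) (hLH : L ≤ H) (hYL : (Cfsg.largestPReducedOf p M) ≤ L) (hYO : ¬ (Cfsg.largestPReducedOf p M) ≤ (Cfsg.pCoreOf p L)) (hmin : ∀ L' : Subgroup G, L' ≤ L → (Cfsg.largestPReducedOf p M) ≤ L' → ¬ (Cfsg.largestPReducedOf p M) ≤ (Cfsg.pCoreOf p L') → L' = L) : (L ⊔ (Cfsg.pCoreOf p M) = H ∧ ∀ h ∈ L, h ∉ Subgroup.normalizer (((Cfsg.largestPReducedOf p M) : Subgroup G) : Set G) → (((Cfsg.largestPReducedOf p M) : Subgroup G).map (MulAut.conj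 (h : G)).toMonoidHom) ⊔ (Cfsg.pCoreOf p M) = H) ∧ (Cfsg.IsMinimalOver (((Cfsg.largestPReducedOf p M)).subgroupOf L) ∧ Subgroup.centralizer (Cfsg.pCore p ↥L : Set ↥L) ≤ Cfsg.pCore p ↥L ∧ L ⊓ Subgroup.normalizer (((Cfsg.largestPReducedOf p M) : Subgroup G) : Set G) < L ∧ ∀ X : Subgroup G, (Cfsg.largestPReducedOf p M) ≤ X → X < L → X ≤ L ⊓ Subgroup.normalizer (((Cfsg.largestPReducedOf p M) : Subgroup G) : Set G)) ∧ (∀ V W' : Subgroup G, V ≤ (Cfsg.pCoreOf p H) → H ≤ Subgroup.normalizer ((V : Subgroup G) : Set G) → H ≤ Subgroup.normalizer ((W' : Subgroup G) : Set G) → W' < V → (∀ Z' : Subgroup G, H ≤ Subgroup.normalizer ((Z' : Subgroup G) : Set G) → W' ≤ Z' → Z' ≤ V → Z' = W' ∨ Z' = V) → ¬ ⁅V, H⁆ ≤ W' → ¬ ⁅V, ((Cfsg.pResidual p ↥L).map (L).subtype)⁆ ≤ W') ∧ (Subgroup.normalClosure (((((Cfsg.pCoreOf p L) ⊓ (Cfsg.largestPReducedOf p M)).subgroupOf L : Subgroup ↥L)) : Set ↥L)).map L.subtype ≤ (Cfsg.pCoreOf p H) := by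
  have hpar := (Cfsg.Agent.S2845.result Q hQp hQ1 hQ).2.2
  set Y := Cfsg.largestPReducedOf p M with hY
  set O := Cfsg.pCoreOf p M with hO
  obtain ⟨hHc, hOH, hYH, hmax⟩ := hH
  have d : CfsgLib.LocalCharP.AsymL.Hyp p Y O H L :=
    { hOp := CfsgLib.LocalCharP.isPGroup_pCoreOf M
      hYO := CfsgLib.LocalCharP.largestPReducedOf_le_pCoreOf M
      hOY := CfsgLib.LocalCharP.pCoreOf_le_centralizer_largestPReducedOf M
      hOH := hOH
      hN := fun R hR hOR => (CfsgLib.LocalCharP.normalizer_le_dagger_of_asymmetric hpar S hSM hM hasym hR hOR).trans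
        (CfsgLib.LocalCharP.normalizer_largestPReducedOf_eq_dagger hpar S hSM hM).ge
      hasym := hasym
      hHc := hHc
      hmax := hmax
      hLH := hLH
      hYL := hYL
      hYnL := hYO
      hmin := hmin }
  refine ⟨⟨d.sup_eq, fun h hh hn => d.conj_sup_eq hh (d.generator_of_not_mem hh hn)⟩,
    ⟨d.isMinimalOver, d.charP, d.inf_normalizer_lt, fun X hYX hXL => le_inf hXL.le (d.le_normalizer_of_lt hYX hXL)⟩,
    fun V W' hV hVn hWn hlt hmaxZ hnc => d.chief_nontrivial ⟨hV, hlt, hVn, hWn, hmaxZ⟩ hnc, ?_⟩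
  haveI hn : ((Cfsg.pCoreOf p H).subgroupOf L).Normal :=
    Subgroup.normal_subgroupOf_of_le_normalizer (hLH.trans (CfsgLib.LocalCharP.le_normalizer_pCoreOf H))
  exact Subgroup.map_le_iff_le_comap.mpr (Subgroup.normalClosure_le_normal (N := (Cfsg.pCoreOf p H).subgroupOf L)
    fun e he => d.inf_le_pCoreOf he.1 he.2)

end Cfsg.Agent.S2862
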