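import Cfsg.Statements.S2863
import Cfsg.Agent.FrakL.Member

set_option autoImplicit false
open Cfsg

namespace Cfsg.Agent.S2863

open CfsgLib.FrakL

/-- Standing hypotheses: G a finite group, S a Sylow p-subgroup, Q a nontrivial large p-subgroup of G contained in S, M a subgroup containing S with the basic property (M ∈ 𝔐_G(S)); Y_M the largest p-reduced normal subgroup of M and M† = M·C_G(Y_M). Let L ∈ 𝔏_G(Y_M) (L ∈ 𝔏_G(Y_M): Y_M ≤ L; O_p(L) is the normal closure in L of Y_M ∩ O_p(L) and normalizes Y_M; L is Y_M-minimal of characteristic p with N_L(Y_M) its unique maximal subgroup over Y_M; and L/O_p(L) ≅ SL₂(q) with q = |Y_M : Y_M ∩ O_p(L)|, or p = 2 and L/O_p(L) is a Suzuki group Sz(q) or dihedral of order 2r, r an odd prime), A = O_p(L), and C = C_{Y_M}(L). Then every element h of L whose order is not a power of p acts without nontrivial fixed points on A/C: for a ∈ A, hah⁻¹a⁻¹ ∈ C implies a ∈ C. -/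
theorem result {G : Type*} [Group G] [Finite G] {p : ℕ} [Fact p.Prime] (S : Sylow p G) (Q : Subgroup G) (hQp : IsPGroup p ↥Q) (hQ1 : Q ≠ ⊥) (hQS : Q ≤ (S : Subgroup G)) (hQ : Cfsg.IsLarge Q) (M : Subgroup G) (hSM : (S : Subgroup G) ≤ M) (hM : Cfsg.IsInFrakM p M) (L : Subgroup G) (hL : Cfsg.IsInFrakL p M L) (h : G) (hh : h ∈ L) (hnp : ¬ ∃ k : ℕ, orderOf h = p ^ k) : ∀ a ∈ (Cfsg.pCoreOf p L), h * a * h⁻¹ * a⁻¹ ∈ (Cfsg.largestPReducedOf p M) ⊓ Subgroup.centralizer ((L : Subgroup G) : Set G) → a ∈ (Cfsg.largestPReducedOf p M) ⊓ Subgroup.centralizer ((L : Subgroup G) : Set G) := by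
  classical
  intro a ha hcomm
  have hn : (pCore p ↥L).Normal := Cfsg.pCore_normal p ↥L
  have c := preData_of_frakL hL
  set Y := largestPReducedOf p M with hY
  obtain ⟨a', ha', rfl⟩ := ha
  have hiff : ∀ x : L, (x : G) ∈ Y ⊓ Subgroup.centralizer ((L : Subgroup G) : Set G) ↔
      x ∈ fixSub (Y.subgroupOf L) := fun x => by
    rw [mem_fixSub, Subgroup.mem_inf, Subgroup.mem_centralizer_iff, Subgroup.mem_subgroupOf]
    refine and_congr_right fun _ => ⟨fun hx k => Subtype.ext (hx k k.2), fun hx k hk => ?_⟩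
    exact congrArg Subtype.val (hx ⟨k, hk⟩)
  have hfix : (⟨h, hh⟩ : L) ∈ fixStab (Y.subgroupOf L) a' := by
    rw [mem_fixStab]
    exact (hiff _).1 hcomm
  refine (hiff a').2 (by_contra fun hnot => hnp ?_)
  have hgoal : ∀ {m : ℕ}, orderOf (⟨h, hh⟩ : L) = p ^ m → ∃ k, orderOf h = p ^ k := fun {m} hm =>
    ⟨m, by rw [← hm, ← Subgroup.orderOf_coe]⟩
  have hq : (Y ⊓ pCoreOf p L).relIndex Y =
      Nat.card ((Y.subgroupOf L).map (QuotientGroup.mk' (pCore p ↥L))) :=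
    relIndex_eq_card_map hL.1 _
  rcases hL.2.2.2.2.2.2 with ⟨F, iF, iFin, hcard, ⟨e⟩⟩ | ⟨rfl, F, iF, iFin, m, hFc, hcard, ⟨e⟩⟩ |
    ⟨rfl, r, hr, hr2, ⟨e⟩⟩
  · obtain ⟨k, hk⟩ := orderOf_sl2 c (by rw [Nat.card_eq_fintype_card, hcard, hq]) e ha' hfix hnot
    exact hgoal hk
  · rcases Nat.eq_zero_or_pos m with rfl | hm
    · obtain ⟨k, hk⟩ := orderOf_two c (by rw [← hq, ← hcard, hFc]; rfl) ha' hfix hnot
      exact hgoal hk
    · haveI := CfsgLib.Suzuki.charP_two hFc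
      obtain ⟨k, hk⟩ := orderOf_suzuki c (CfsgLib.Suzuki.titsEndo_theta hm hFc)
        (by rw [Nat.card_eq_fintype_card, hcard, hq])
        ((e.trans (CfsgLib.Suzuki.lieSzEquiv hm hFc).symm).trans
          (MulEquiv.subgroupCongr CfsgLib.Suzuki.sz_eq)) ha' hfix hnot
      exact hgoal hk
  · obtain ⟨k, hk⟩ := orderOf_two c (card_eq_two_of_dihedral c hr hr2 e) ha' hfix hnot
    exact hgoal hk

end Cfsg.Agent.S2863
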