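import Cfsg.Statements.S2864
import Cfsg.Agent.LocalCharP.Dagger
import Cfsg.Agent.S2845
import Cfsg.Agent.Coprime.Basic
import Cfsg.Agent.Coprime.Minimal
import Cfsg.Agent.PGroup.Frattini
import Cfsg.Agent.Subnormal.Basic
import Mathlib.Tactic.Group

set_option autoImplicit false
open Cfsg
open scoped commutatorElement Pointwise

namespace Cfsg.Agent.S2864

/-- Standing hypotheses: G a finite group, S a Sylow p-subgroup, Q a nontrivial large p-subgroup of G contained in S, M a subgroup containing S with the basic property (M ∈ 𝔐_G(S)); Y_M the largest p-reduced normal subgroup of M and M† = M·C_G(Y_M). Let I be a nontrivial normal p-subgroup of M and Y ≤ O_p(M†); let L be a subgroup of G containing Y and A a normal p-subgroup of L with I ≤ A ≤ M. If [Y, A] ≤ [I, A], then Y ≤ O_p(L). -/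
theorem result {G : Type*} [Group G] [Finite G] {p : ℕ} [Fact p.Prime] (S : Sylow p G) (Q : Subgroup G) (hQp : IsPGroup p ↥Q) (hQ1 : Q ≠ ⊥) (hQS : Q ≤ (S : Subgroup G)) (hQ : Cfsg.IsLarge Q) (M : Subgroup G) (hSM : (S : Subgroup G) ≤ M) (hM : Cfsg.IsInFrakM p M) (I : Subgroup G) (hI1 : I ≠ ⊥) (hIp : IsPGroup p ↥I) (hIM : I ≤ M ∧ M ≤ Subgroup.normalizer ((I : Subgroup G) : Set G)) (Y : Subgroup G) (hY : Y ≤ (Cfsg.pCoreOf p (M ⊔ Subgroup.centralizer (((Cfsg.largestPReducedOf p M) : Subgroup G) : Set G)))) (L : Subgroup G) (hYL : Y ≤ L) (A : Subgroup G) (hAp : IsPGroup p ↥A) (hAL : A ≤ L ∧ L ≤ Subgroup.normalizer ((A : Subgroup G) : Set G)) (hIA : I ≤ A) (hAM : A ≤ M) (hc : ⁅Y, A⁆ ≤ ⁅I, A⁆) : Y ≤ (Cfsg.pCoreOf p L) := by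
  have hpar := (Cfsg.Agent.S2845.result Q hQp hQ1 hQ).2.2
  set Md := M ⊔ Subgroup.centralizer (Cfsg.largestPReducedOf p M : Set G) with hMd
  have hIM' : Subgroup.normalizer (I : Set G) ≤ Md :=
    CfsgLib.LocalCharP.normalizer_le_dagger hpar S hSM hM hIM.1 hIp hI1 hIM.2
  set Φ := (frattini ↥A).map A.subtype with hΦ
  have hIAΦ : ⁅I, A⁆ ≤ Φ := (Subgroup.commutator_mono hIA le_rfl).trans
    ((Subgroup.map_subtype_commutator A).ge.trans (Subgroup.map_mono (CfsgLib.PGroup.commutator_le_frattini hAp)))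
  have hYΦ : ⁅A, Y⁆ ≤ Φ := (Subgroup.commutator_comm A Y).le.trans (hc.trans hIAΦ)
  -- `C` : the kernel of the action on `A / Φ(A)`
  have hLΦ : L ≤ Subgroup.normalizer (Φ : Set G) := CfsgLib.Coprime.le_normalizer_map_characteristic hAL.2 _
  set C : Subgroup G := L ⊓ Subgroup.centralizer (A : Set G) with hC
  have hCn : L ≤ Subgroup.normalizer (C : Set G) :=
    CfsgLib.LocalCharP.le_normalizer_inf_centralizer Subgroup.le_normalizer hAL.2
  have hCMd : C ≤ Md := inf_le_right.trans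
    (((Subgroup.centralizer_le hIA).trans (Subgroup.centralizer_le_normalizer _)).trans hIM')
  haveI hAn : (A.subgroupOf L).Normal := Subgroup.normal_subgroupOf_of_le_normalizer hAL.2
  haveI hCn' : (C.subgroupOf L).Normal := Subgroup.normal_subgroupOf_of_le_normalizer hCn
  -- the elements acting trivially on `A / Φ(A)`
  let K : Subgroup ↥L :=
    { carrier := {l | ∀ a ∈ A, ⁅a, (l : G)⁆ ∈ Φ}
      one_mem' := fun a _ => by simp
      mul_mem' := fun {x y} hx hy a ha => by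
        rw [Subgroup.coe_mul, show ⁅a, (x : G) * y⁆ = ⁅a, (x : G)⁆ * (x * ⁅a, (y : G)⁆ * (x : G)⁻¹) by group]
        exact Φ.mul_mem (hx a ha) (CfsgLib.LocalCharP.conj_mem_of_le_normalizer hLΦ x.2 (hy a ha))
      inv_mem' := fun {x} hx a ha => by
        rw [Subgroup.coe_inv, show ⁅a, (x : G)⁻¹⁆ = (x : G)⁻¹ * ⁅a, (x : G)⁆⁻¹ * ((x : G)⁻¹)⁻¹ by group]
        exact CfsgLib.LocalCharP.conj_mem_of_le_normalizer hLΦ (inv_mem x.2) (Φ.inv_mem (hx a ha)) }
  haveI hKn : K.Normal := ⟨fun k hk l a ha => by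
    have h1 := hk ((l : G)⁻¹ * a * l) (by
      simpa using CfsgLib.LocalCharP.conj_mem_of_le_normalizer hAL.2 (inv_mem l.2) ha)
    have h2 := CfsgLib.LocalCharP.conj_mem_of_le_normalizer hLΦ l.2 h1
    rw [Subgroup.coe_mul, Subgroup.coe_mul, Subgroup.coe_inv]
    rwa [show ⁅a, (l : G) * k * (l : G)⁻¹⁆ = (l : G) * ⁅(l : G)⁻¹ * a * l, (k : G)⁆ * (l : G)⁻¹ by group]⟩
  have hYK : Y.subgroupOf L ≤ K := fun y hy a ha => hYΦ (Subgroup.commutator_mem_commutator ha hy)
  have hres : ∀ x ∈ K, (orderOf x).Coprime p → x ∈ C.subgroupOf L := by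
    intro x hx hcop
    refine ⟨x.2, ?_⟩
    have hX : A ≤ Subgroup.centralizer (Subgroup.zpowers (x : G) : Set G) := by
      refine CfsgLib.Coprime.le_centralizer_of_frattini ((Subgroup.zpowers_le.mpr x.2).trans hAL.2) ?_ ?_
      · obtain ⟨n, hn⟩ := hAp.exists_card_eq
        rw [Nat.card_zpowers, hn, Subgroup.orderOf_coe]
        exact hcop.pow_right n
      · rw [Subgroup.commutator_le]
        intro a ha y hy
        obtain ⟨z, hz⟩ := Subgroup.mem_zpowers_iff.mp hy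
        subst hz
        exact (Subgroup.zpow_mem K hx z) a ha
    exact Subgroup.le_centralizer_iff.mp hX (Subgroup.mem_zpowers _)
  set Y' := Y.subgroupOf L with hY'
  have hquot : IsPGroup p (↥K ⧸ (C.subgroupOf L).subgroupOf K) := by
    intro q
    obtain ⟨x, rfl⟩ := QuotientGroup.mk_surjective q
    obtain ⟨k, hk⟩ := CfsgLib.LocalCharP.mem_or_pow_coprime (p := p) x
    refine ⟨k, ?_⟩
    rw [← QuotientGroup.mk_pow, QuotientGroup.eq_one_iff]
    exact hres _ (x ^ p ^ k).2 (by rw [← orderOf_injective K.subtype K.subtype_injective] at hk; exact hk)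
  set X := C.subgroupOf L ⊔ Y' with hX
  have hXK : X ⊓ K ≤ X := inf_le_left
  have hCK : C.subgroupOf L ≤ K := fun c hc a ha => by
    have h1 : ⁅a, ((c : ↥L) : G)⁆ = 1 :=
      commutatorElement_eq_one_iff_commute.mpr (Subgroup.mem_centralizer_iff.mp hc.2 a ha)
    exact h1 ▸ one_mem _
  have hXle : X ≤ K := sup_le hCK hYK
  have hsub : X.IsSubnormal := by
    refine Subgroup.IsSubnormal.trans hXle ?_ hKn.isSubnormal
    set f := QuotientGroup.mk' ((C.subgroupOf L).subgroupOf K) with hf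
    have h1 : ((X.subgroupOf K).map f).IsSubnormal :=
      haveI := hquot.isNilpotent
      CfsgLib.Subnormal.isSubnormal_of_isNilpotent _
    have h2 := h1.comap f
    rwa [Subgroup.comap_map_eq_self] at h2
    rw [hf, QuotientGroup.ker_mk']
    exact fun c hc => Subgroup.mem_sup_left hc
  have hO := CfsgLib.LocalCharP.isPGroup_pCoreOf (p := p) Md
  have hXMd : X.map L.subtype ≤ Md := by
    refine Subgroup.map_le_iff_le_comap.mpr (sup_le (fun c hc => hCMd hc) fun y hy => ?_)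
    exact (hY.trans (CfsgLib.LocalCharP.pCoreOf_le Md)) hy
  set N := ((Cfsg.pCoreOf p Md).subgroupOf L).subgroupOf X with hN
  have hNn : N.Normal := ⟨fun n hn x => CfsgLib.LocalCharP.conj_mem_of_le_normalizer
    (CfsgLib.LocalCharP.le_normalizer_pCoreOf Md) (hXMd ⟨x, x.2, rfl⟩) hn⟩
  have hNp : IsPGroup p ↥N := (hO.comap_of_injective _ L.subtype_injective).comap_of_injective _ X.subtype_injective
  have h3 := CfsgLib.LocalCharP.map_pCore_le_pCore_of_isSubnormal (p := p) hsub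
  have h4 : N.map X.subtype ≤ Cfsg.pCore p ↥L := (Subgroup.map_mono (CfsgLib.CharP.le_pCore hNn hNp)).trans h3
  intro y hy
  exact ⟨⟨y, hYL hy⟩, h4 ⟨⟨⟨y, hYL hy⟩, Subgroup.mem_sup_right (show (⟨y, hYL hy⟩ : ↥L) ∈ Y' from hy)⟩,
    hY hy, rfl⟩, rfl⟩

end Cfsg.Agent.S2864
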