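import Cfsg.Statements.S2872
import Cfsg.Agent.Eq.Def_PLocal
import Cfsg.Agent.Eq.Def_Transfer
import Cfsg.Agent.TransferTwo.CentralInvolution

set_option autoImplicit false
open Cfsg

namespace Cfsg.Agent.S2872

/-- Let S be a Sylow 2-subgroup of the finite group G. Then G has a proper normal subgroup of 2-power index (O²(G) ≠ G), or Ω₁(Z(S)) is contained in the Frattini subgroup of S, or N_G(S) acts nontrivially on Ω₁(Z(S)) by conjugation. -/
theorem result {G : Type*} [Group G] [Finite G] (S : Sylow 2 G) : Cfsg.pResidual 2 G ≠ ⊤ ∨ Cfsg.omegaOne 2 ((S : Subgroup G) ⊓ Subgroup.centralizer ((S : Subgroup G) : Set G)) ≤ (frattini ↥(S : Subgroup G)).map (S : Subgroup G).subtype ∨ ∃ g ∈ Subgroup.normalizer ((S : Subgroup G) : Set G), ∃ z ∈ Cfsg.omegaOne 2 ((S : Subgroup G) ⊓ Subgroup.centralizer ((S : Subgroup G) : Set G)), g * z * g⁻¹ ≠ z := by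
  classical
  set Z := Cfsg.omegaOne 2 ((S : Subgroup G) ⊓ Subgroup.centralizer ((S : Subgroup G) : Set G)) with hZ
  by_cases hN : ∃ g ∈ Subgroup.normalizer ((S : Subgroup G) : Set G), ∃ z ∈ Z, g * z * g⁻¹ ≠ z
  · exact Or.inr (Or.inr hN)
  by_cases hF : Z ≤ (frattini ↥(S : Subgroup G)).map (S : Subgroup G).subtype
  · exact Or.inr (Or.inl hF)
  left
  push Not at hN
  obtain ⟨z, ⟨hzS, hz2⟩, hzF⟩ : ∃ z, (z ∈ (S : Subgroup G) ⊓ Subgroup.centralizer ((S : Subgroup G) : Set G) ∧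
      z ^ 2 = 1) ∧ z ∉ (frattini ↥(S : Subgroup G)).map (S : Subgroup G).subtype := by
    by_contra h
    push Not at h
    exact hF ((Subgroup.closure_le _).mpr fun z hz => h z hz)
  obtain ⟨M, hM, hzM⟩ : ∃ M : Subgroup ↥(S : Subgroup G), IsCoatom M ∧ (⟨z, hzS.1⟩ : ↥(S : Subgroup G)) ∉ M := by
    by_contra h
    push Not at h
    refine hzF ⟨⟨z, hzS.1⟩, ?_, rfl⟩
    show _ ∈ (Order.radical (Subgroup ↥(S : Subgroup G)))
    simp only [Order.radical, Subgroup.mem_iInf]
    exact fun M hM => h M hM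
  obtain ⟨H, hH⟩ := CfsgLib.TransferTwo.exists_index_two S hzS.1 (by rw [← pow_two, hz2])
    (fun s hs => Subgroup.mem_centralizer_iff.mp hzS.2 s hs)
    (fun g hg => hN g hg z (Subgroup.subset_closure ⟨hzS, hz2⟩)) M
    (CfsgLib.TransferTwo.index_eq_two_of_coatom S.isPGroup' hM) hzM
  intro htop
  have hle : Cfsg.pResidual 2 G ≤ H := by
    refine (Subgroup.closure_le _).mpr fun g hg => ?_
    have hsq := Subgroup.sq_mem_of_index_two hH g
    obtain ⟨k, hk⟩ := Nat.coprime_two_right.mp hg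
    have : g = (g ^ 2) ^ (k + 1) := by
      rw [← pow_mul, show 2 * (k + 1) = orderOf g + 1 by omega, pow_succ, pow_orderOf_eq_one, one_mul]
    rw [SetLike.mem_coe, this]
    exact H.pow_mem hsq _
  rw [htop, top_le_iff] at hle
  rw [hle, Subgroup.index_top] at hH
  exact absurd hH (by norm_num)

end Cfsg.Agent.S2872
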