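import Cfsg.Statements.S2873
-- import your own Cfsg.Agent.* helpers here

import Cfsg.Agent.Eq.Def_Solvable
import Cfsg.Agent.Constrained.Basic

set_option autoImplicit false
open Cfsg

namespace Cfsg.Agent.S2873

/-- In a dihedral group of order `2r`, `r` odd, the elements of order two are the reflections. -/
theorem eq_sr_of_orderOf {r : ℕ} [Fact r.Prime] (hr : r ≠ 2) {d : DihedralGroup r} (hd : orderOf d = 2) :
    ∃ i, d = DihedralGroup.sr i := by
  cases d with
  | sr i => exact ⟨i, rfl⟩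
  | r i =>
    exfalso
    have h : orderOf (DihedralGroup.r i) ∣ r := orderOf_dvd_of_pow_eq_one (by
      rw [DihedralGroup.r_pow, ZMod.natCast_self, mul_zero, DihedralGroup.r_zero])
    rw [hd] at h
    exact hr ((Nat.prime_dvd_prime_iff_eq Nat.prime_two Fact.out).mp h).symm

theorem exists_conj_sr {r : ℕ} [hp : Fact r.Prime] (hr : r ≠ 2) (i k : ZMod r) :
    ∃ d : DihedralGroup r, d * DihedralGroup.sr i * d⁻¹ = DihedralGroup.sr k := by
  have h2 : (2 : ZMod r) ≠ 0 := by
    intro h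
    have : ((2 : ℕ) : ZMod r) = 0 := by exact_mod_cast h
    exact hr ((Nat.prime_dvd_prime_iff_eq Fact.out Nat.prime_two).mp
      ((ZMod.natCast_eq_zero_iff 2 r).mp this))
  refine ⟨DihedralGroup.r ((i - k) / 2), ?_⟩
  simp only [DihedralGroup.r_mul_sr, DihedralGroup.inv_r, DihedralGroup.sr_mul_r]
  congr 1
  field_simp
  ring

variable {G : Type*} [Group G] [Finite G]

/-- Counting lemma: two involutions whose product `x` has trivial centraliser in the normal subgroup `Q`. -/
theorem pairs {Q : Subgroup G} [Q.Normal] {a a' : G} (ha : a * a = 1) (ha' : a' * a' = 1)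
    (hx : Q ⊓ Subgroup.centralizer ({a * a'} : Set G) = ⊥) :
    (∀ b : G, b * b = 1 → a⁻¹ * b ∈ Q → ∃ q ∈ Q, q * a * q⁻¹ = b) ∧
      Nat.card ↥(Q ⊓ Subgroup.centralizer ({a} : Set G)) *
        Nat.card ↥(Q ⊓ Subgroup.centralizer ({a'} : Set G)) = Nat.card ↥Q := by
  classical
  have hnorm : Q.Normal := inferInstance
  have hainv : a⁻¹ = a := inv_eq_of_mul_eq_one_right ha
  let X := {c : G // (a * a')⁻¹ * c ∈ Q}
  let f : Q → X := fun q => ⟨(q : G) * (a * a') * (q : G)⁻¹, by
    have h1 : (a * a')⁻¹ * (q : G) * (a * a') ∈ Q := by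
      simpa using hnorm.conj_mem _ q.2 (a * a')⁻¹
    simpa [mul_assoc] using Q.mul_mem h1 (Q.inv_mem q.2)⟩
  have hfinj : Function.Injective f := by
    intro q q' h
    have h' : (q : G) * (a * a') * (q : G)⁻¹ = (q' : G) * (a * a') * (q' : G)⁻¹ := congrArg Subtype.val h
    have : ((q' : G)⁻¹ * q) ∈ Q ⊓ Subgroup.centralizer ({a * a'} : Set G) := by
      refine ⟨Q.mul_mem (Q.inv_mem q'.2) q.2, Subgroup.mem_centralizer_singleton_iff.mpr ?_⟩
      calc (q' : G)⁻¹ * q * (a * a') = (q' : G)⁻¹ * ((q : G) * (a * a') * (q : G)⁻¹) * q := by simp [mul_assoc]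
        _ = a * a' * ((q' : G)⁻¹ * q) := by rw [h']; simp [mul_assoc]
    rw [hx, Subgroup.mem_bot] at this
    exact Subtype.ext (inv_mul_eq_one.mp this).symm
  let e0 : Q ≃ X :=
    { toFun := fun q => ⟨a * a' * q, by simp [mul_assoc]⟩
      invFun := fun c => ⟨(a * a')⁻¹ * c.1, c.2⟩
      left_inv := fun q => by ext; simp [mul_assoc]
      right_inv := fun c => by ext; simp [mul_assoc] }
  have hfbij : Function.Bijective f :=
    (Nat.bijective_iff_injective_and_card f).mpr ⟨hfinj, Nat.card_congr e0⟩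
  -- a pair of involutions in the two cosets is the conjugate of `(a, a')` by an element of `Q`
  have hpair : ∀ b b' : G, b * b = 1 → b' * b' = 1 → a⁻¹ * b ∈ Q → a'⁻¹ * b' ∈ Q →
      ∃ q : Q, (q : G) * a * (q : G)⁻¹ = b ∧ (q : G) * a' * (q : G)⁻¹ = b' := by
    intro b b' hb hb' hbQ hbQ'
    have hc : (a * a')⁻¹ * (b * b') ∈ Q := by
      have h1 : a'⁻¹ * (a⁻¹ * b) * a' ∈ Q := by
        simpa using hnorm.conj_mem _ hbQ a'⁻¹
      simpa [mul_assoc] using Q.mul_mem h1 hbQ'
    obtain ⟨q, hq⟩ := hfbij.2 ⟨b * b', hc⟩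
    have hq' : (q : G) * (a * a') * (q : G)⁻¹ = b * b' := congrArg Subtype.val hq
    set b₁ := (q : G) * a * (q : G)⁻¹ with hb₁
    set b₂ := (q : G) * a' * (q : G)⁻¹ with hb₂
    have h12 : b₁ * b₂ = b * b' := by rw [← hq', hb₁, hb₂]; simp [mul_assoc]
    have hb11 : b₁ * b₁ = 1 := by rw [hb₁]; simp [mul_assoc, mul_left_cancel_iff]; rw [← mul_assoc a, ha]; simp
    have hb22 : b₂ * b₂ = 1 := by rw [hb₂]; simp [mul_assoc]; rw [← mul_assoc a', ha']; simp
    have hcent : b⁻¹ * b₁ ∈ Q ⊓ Subgroup.centralizer ({b * b'} : Set G) := by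
      refine ⟨?_, Subgroup.mem_centralizer_singleton_iff.mpr ?_⟩
      · have h1 : a⁻¹ * b₁ ∈ Q := by
          have h1' : a⁻¹ * (q : G) * a ∈ Q := by simpa using hnorm.conj_mem _ q.2 a⁻¹
          rw [hb₁]; simpa [mul_assoc] using Q.mul_mem h1' (Q.inv_mem q.2)
        simpa [mul_assoc] using Q.mul_mem (Q.inv_mem hbQ) h1
      · have hbi : b⁻¹ = b := inv_eq_of_mul_eq_one_right hb
        have hb'i : b'⁻¹ = b' := inv_eq_of_mul_eq_one_right hb'
        have hb1i : b₁⁻¹ = b₁ := inv_eq_of_mul_eq_one_right hb11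
        have hb2i : b₂⁻¹ = b₂ := inv_eq_of_mul_eq_one_right hb22
        have e1 : b₁ * (b * b') = b₂ := by
          rw [← h12, ← mul_assoc, hb11, one_mul]
        have e2 : b * b₂ = b' * b₁ * (b₁ * b') * b * b₂ := by simp [mul_assoc]; rw [← mul_assoc b₁ b₁, hb11]; simp; rw [← mul_assoc b' b', hb']; simp
        have e3 : b₂ * b₁ = b' * b := by
          have := congrArg (·⁻¹) h12
          simpa [mul_inv_rev, hbi, hb'i, hb1i, hb2i] using this
        calc b⁻¹ * b₁ * (b * b') = b * b₂ := by rw [hbi, mul_assoc, e1]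
          _ = b * (b₂ * b₁) * b₁ := by simp [mul_assoc, hb11]
          _ = b * (b' * b) * b₁ := by rw [e3]
          _ = b * b' * (b⁻¹ * b₁) := by rw [hbi]; simp [mul_assoc]
    have hcx : Q ⊓ Subgroup.centralizer ({b * b'} : Set G) = ⊥ := by
      rw [eq_bot_iff]
      rintro z ⟨hz1, hz2⟩
      have : (q : G)⁻¹ * z * q ∈ Q ⊓ Subgroup.centralizer ({a * a'} : Set G) := by
        refine ⟨by simpa using hnorm.conj_mem _ hz1 (q : G)⁻¹,
          Subgroup.mem_centralizer_singleton_iff.mpr ?_⟩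
        have hz := Subgroup.mem_centralizer_singleton_iff.mp hz2
        rw [← hq'] at hz
        apply mul_left_cancel (a := (q : G))
        apply mul_right_cancel (b := (q : G)⁻¹)
        simpa [mul_assoc] using hz
      rw [hx, Subgroup.mem_bot] at this
      exact Subgroup.mem_bot.mpr (calc z = (q : G) * ((q : G)⁻¹ * z * q) * (q : G)⁻¹ := by simp [mul_assoc]
        _ = 1 := by rw [this]; simp)
    rw [hcx, Subgroup.mem_bot, inv_mul_eq_one] at hcent
    refine ⟨q, hcent.symm, ?_⟩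
    show b₂ = b'
    have := h12
    rw [← hcent] at this
    exact mul_left_cancel this
  refine ⟨fun b hb hbQ => ?_, ?_⟩
  · obtain ⟨q, hq, -⟩ := hpair b a' hb ha' hbQ (by simp)
    exact ⟨q, q.2, hq⟩
  -- `q ↦ (conjugates)` restricted to the two stabilisers
  let C := Q ⊓ Subgroup.centralizer ({a} : Set G)
  let C' := Q ⊓ Subgroup.centralizer ({a'} : Set G)
  let m : C × C' → Q := fun u => ⟨(u.1 : G) * (u.2 : G), Q.mul_mem u.1.2.1 u.2.2.1⟩
  rw [← Nat.card_prod]
  refine Nat.card_congr (Equiv.ofBijective m ⟨?_, ?_⟩)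
  · rintro ⟨c, c'⟩ ⟨d, d'⟩ h
    have h' : (c : G) * c' = (d : G) * d' := congrArg Subtype.val h
    have hmem : (d : G)⁻¹ * c ∈ Q ⊓ Subgroup.centralizer ({a * a'} : Set G) := by
      have h1 : (d : G)⁻¹ * c ∈ C := C.mul_mem (C.inv_mem d.2) c.2
      have h2 : (d : G)⁻¹ * c ∈ C' := by
        have : (d : G)⁻¹ * c = (d' : G) * (c' : G)⁻¹ := by
          rw [inv_mul_eq_iff_eq_mul, ← mul_assoc, ← h']; simp
        rw [this]; exact C'.mul_mem d'.2 (C'.inv_mem c'.2)
      refine ⟨h1.1, Subgroup.mem_centralizer_singleton_iff.mpr ?_⟩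
      rw [← mul_assoc, Subgroup.mem_centralizer_singleton_iff.mp h1.2, mul_assoc,
        Subgroup.mem_centralizer_singleton_iff.mp h2.2, mul_assoc]
    rw [hx, Subgroup.mem_bot, inv_mul_eq_one] at hmem
    rw [hmem] at h'
    exact Prod.ext (Subtype.ext hmem.symm) (Subtype.ext (mul_left_cancel h'))
  · intro q
    -- first move `a'` back by an element fixing `a`
    obtain ⟨c, hc1, hc2⟩ := hpair a ((q : G) * a' * (q : G)⁻¹) ha (by simp [mul_assoc]; rw [← mul_assoc a', ha']; simp)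
      (by simp) (by
        have h1' : a'⁻¹ * (q : G) * a' ∈ Q := by simpa using hnorm.conj_mem _ q.2 a'⁻¹
        simpa [mul_assoc] using Q.mul_mem h1' (Q.inv_mem q.2))
    have hcC : (c : G) ∈ C := ⟨c.2, Subgroup.mem_centralizer_singleton_iff.mpr
      (mul_inv_eq_iff_eq_mul.mp hc1)⟩
    have hcC' : (c : G)⁻¹ * q ∈ C' := ⟨Q.mul_mem (Q.inv_mem c.2) q.2, by
      refine Subgroup.mem_centralizer_singleton_iff.mpr ?_
      calc (c : G)⁻¹ * q * a' = (c : G)⁻¹ * ((q : G) * a' * (q : G)⁻¹) * q := by simp [mul_assoc]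
        _ = a' * ((c : G)⁻¹ * q) := by rw [← hc2]; simp [mul_assoc]⟩
    exact ⟨(⟨c, hcC⟩, ⟨_, hcC'⟩), Subtype.ext (by simp [m])⟩

/-- Let G be a finite group and r an odd prime such that G ⧸ O₂(G) is dihedral of order 2r, and let R be a Sylow r-subgroup of G with C_{O₂(G)}(R) = 1. Then N_G(R) is dihedral of order 2r; for any involution a of N_G(R), every involution of G outside O₂(G) is conjugate to a; and |C_{O₂(G)}(a)|² = |O₂(G)|. -/
theorem result {G : Type*} [Group G] [Finite G] {r : ℕ} [Fact r.Prime] (hr : r ≠ 2) [hN : (Cfsg.pCore 2 G).Normal] (hquot : Nonempty (G ⧸ Cfsg.pCore 2 G ≃* DihedralGroup r)) (R : Sylow r G) (hC : Cfsg.pCore 2 G ⊓ Subgroup.centralizer ((R : Subgroup G) : Set G) = ⊥) : Nonempty (↥(Subgroup.normalizer ((R : Subgroup G) : Set G)) ≃* DihedralGroup r) ∧ ∀ a : G, a ∈ Subgroup.normalizer ((R : Subgroup G) : Set G) → orderOf a = 2 → (∀ b : G, orderOf b = 2 → b ∉ Cfsg.pCore 2 G → ∃ g : G, g * a * g⁻¹ = b) ∧ Nat.card ↥(Cfsg.pCore 2 G ⊓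 Subgroup.centralizer ({a} : Set G)) ^ 2 = Nat.card ↥(Cfsg.pCore 2 G) := by
  set Q := Cfsg.pCore 2 G with hQdef
  obtain ⟨φ⟩ := hquot
  have hrp : r.Prime := Fact.out
  have hQp : IsPGroup 2 Q := CfsgLib.Constrained.isPGroup_pCore
  let π : G →* G ⧸ Q := QuotientGroup.mk' Q
  have hHcard : Nat.card (G ⧸ Q) = 2 * r := by rw [Nat.card_congr φ.toEquiv, DihedralGroup.nat_card]
  have hRQ : (R : Subgroup G) ⊓ Q = ⊥ := by
    apply Subgroup.inf_eq_bot_of_coprime
    obtain ⟨i, hi⟩ := IsPGroup.iff_card.mp R.isPGroup'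
    obtain ⟨j, hj⟩ := IsPGroup.iff_card.mp hQp
    rw [hi, hj]
    exact (Nat.coprime_primes hrp Nat.prime_two).mpr hr |>.pow i j
  set N := Subgroup.normalizer ((R : Subgroup G) : Set G) with hNdef
  have hNQ : N ⊓ Q = ⊥ := by
    rw [eq_bot_iff, ← hC]
    rintro x ⟨hxN, hxQ⟩
    refine ⟨hxQ, fun y hy => ?_⟩
    have h1 : x * y * x⁻¹ * y⁻¹ ∈ (R : Subgroup G) :=
      (R : Subgroup G).mul_mem ((Subgroup.mem_normalizer_iff.mp hxN y).mp hy) ((R : Subgroup G).inv_mem hy)
    have h2 : x * y * x⁻¹ * y⁻¹ ∈ Q := by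
      have := Q.mul_mem hxQ (hN.conj_mem _ (Q.inv_mem hxQ) y)
      simpa [mul_assoc] using this
    have h3 : x * y * x⁻¹ * y⁻¹ ∈ (R : Subgroup G) ⊓ Q := ⟨h1, h2⟩
    rw [hRQ, Subgroup.mem_bot, mul_inv_eq_one, mul_inv_eq_iff_eq_mul] at h3
    exact h3.symm
  -- the image of `R` is normal in the quotient
  have hKn : ((R : Subgroup G).map π).Normal := by
    apply Subgroup.normal_of_index_eq_two
    have h1 : Nat.card ((R : Subgroup G).map π) = Nat.card (R : Subgroup G) := by
      refine (Nat.card_congr (Equiv.ofBijective (π.subgroupMap (R : Subgroup G)) ⟨?_, π.subgroupMap_surjective _⟩)).symm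
      rw [injective_iff_map_eq_one]
      intro y hy
      have : (y : G) ∈ (R : Subgroup G) ⊓ Q := ⟨y.2, (QuotientGroup.eq_one_iff _).mp (congrArg Subtype.val hy)⟩
      rw [hRQ, Subgroup.mem_bot] at this
      exact Subtype.ext this
    obtain ⟨i, hi⟩ := IsPGroup.iff_card.mp R.isPGroup'
    have hdvd : r ^ i ∣ 2 * r := by
      rw [← hi, ← h1, ← hHcard]; exact Subgroup.card_subgroup_dvd_card _
    have hrG : r ∣ Nat.card G := by
      refine dvd_trans ?_ (Subgroup.card_quotient_dvd_card Q)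
      rw [hHcard]; exact dvd_mul_left r 2
    have hi0 : i ≠ 0 := by
      intro h0
      have := R.dvd_card_of_dvd_card hrG
      rw [hi, h0, pow_zero] at this
      exact hrp.ne_one (Nat.dvd_one.mp this)
    have hi1 : i = 1 := by
      by_contra h
      have h2 : r * r ∣ 2 * r := (dvd_trans (by rw [← pow_two]; exact pow_dvd_pow r (by omega)) hdvd)
      have := Nat.dvd_of_mul_dvd_mul_right hrp.pos h2
      exact hr ((Nat.prime_dvd_prime_iff_eq hrp Nat.prime_two).mp this)
    have := ((R : Subgroup G).map π).card_mul_index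
    rw [h1, hi, hi1, pow_one, hHcard, mul_comm 2 r] at this
    exact Nat.eq_of_mul_eq_mul_left hrp.pos this
  have hsup : N ⊔ Q = ⊤ := by
    have hM : (R : Subgroup G) ≤ ((R : Subgroup G).map π).comap π := Subgroup.le_comap_map _ _
    haveI := hKn
    have h := Sylow.normalizer_sup_eq_top' R hM
    rw [QuotientGroup.comap_map_mk'] at h
    rw [eq_top_iff, ← h]
    exact sup_le le_sup_left (sup_le le_sup_right (Subgroup.le_normalizer.trans le_sup_left))
  have hbij : Function.Bijective (π.comp N.subtype) := by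
    constructor
    · rw [injective_iff_map_eq_one]
      intro y hy
      have : (y : G) ∈ N ⊓ Q := ⟨y.2, (QuotientGroup.eq_one_iff _).mp hy⟩
      rw [hNQ, Subgroup.mem_bot] at this
      exact Subtype.ext this
    · intro z
      obtain ⟨g, rfl⟩ := QuotientGroup.mk_surjective z
      have hg : g ∈ N ⊔ Q := hsup ▸ Subgroup.mem_top g
      rw [← SetLike.mem_coe, Subgroup.mul_normal] at hg
      obtain ⟨y, hy, q, hq, rfl⟩ := hg
      exact ⟨⟨y, hy⟩, QuotientGroup.eq.mpr (by simpa using hq)⟩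
  let e : N ≃* DihedralGroup r := (MulEquiv.ofBijective _ hbij).trans φ
  refine ⟨⟨e⟩, fun a haN hao => ?_⟩
  have hord : orderOf (e ⟨a, haN⟩) = 2 := by
    rw [MulEquiv.orderOf_eq, ← Subgroup.orderOf_coe]; exact hao
  obtain ⟨i, hi⟩ := eq_sr_of_orderOf hr hord
  let a'' : N := e.symm (DihedralGroup.sr (i + 1))
  have ha : a * a = 1 := by rw [← pow_two, ← hao, pow_orderOf_eq_one]
  have ha' : (a'' : G) * a'' = 1 := by
    rw [← Subgroup.coe_mul, ← map_mul, DihedralGroup.sr_mul_self, map_one]; rfl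
  have hx : Q ⊓ Subgroup.centralizer ({a * a''} : Set G) = ⊥ := by
    let x : N := ⟨a, haN⟩ * a''
    have hxo : orderOf x = r := by
      rw [← MulEquiv.orderOf_eq e, map_mul, hi, MulEquiv.apply_symm_apply, DihedralGroup.sr_mul_sr,
        add_sub_cancel_left, DihedralGroup.orderOf_r_one]
    have hxG : orderOf (a * (a'' : G)) = r := by
      rw [show a * (a'' : G) = (x : G) from rfl, Subgroup.orderOf_coe, hxo]
    have hzp : IsPGroup r (Subgroup.zpowers (a * (a'' : G))) :=
      IsPGroup.of_card (n := 1) (by rw [Nat.card_zpowers, hxG, pow_one])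
    have hle : Subgroup.zpowers (a * (a'' : G)) ≤ N := Subgroup.zpowers_le.mpr (N.mul_mem haN a''.2)
    have hsR : Subgroup.zpowers (a * (a'' : G)) ⊔ (R : Subgroup G) = R :=
      R.is_maximal' (hzp.to_sup_of_normal_right' R.isPGroup' hle) le_sup_right
    have hzR : Subgroup.zpowers (a * (a'' : G)) ≤ R := hsR ▸ le_sup_left
    have hReq : Subgroup.zpowers (a * (a'' : G)) = R := by
      refine Subgroup.eq_of_le_of_card_ge hzR ?_
      rw [Nat.card_zpowers, hxG]
      obtain ⟨j, hj⟩ := IsPGroup.iff_card.mp R.isPGroup'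
      rw [hj]
      have hdvd : r ^ j ∣ 2 * r := by
        rw [← hj, ← DihedralGroup.nat_card, ← Nat.card_congr e.toEquiv]
        exact Subgroup.card_dvd_of_le Subgroup.le_normalizer
      have := (Nat.Coprime.dvd_of_dvd_mul_left (((Nat.coprime_primes hrp Nat.prime_two).mpr hr).pow_left j) hdvd)
      exact Nat.le_of_dvd hrp.pos this
    rw [eq_bot_iff, ← hC]
    refine inf_le_inf_left _ ?_
    rw [← hReq]
    intro z hz y hy
    obtain ⟨k, rfl⟩ := hy
    have hc : Commute z (a * (a'' : G)) := Subgroup.mem_centralizer_singleton_iff.mp hz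
    exact (hc.zpow_right k).eq.symm
  obtain ⟨hconj, hcnt⟩ := pairs ha ha' hx
  constructor
  · intro b hb hbQ
    obtain ⟨y, hy⟩ := hbij.2 (π b)
    have hyo : orderOf (e y) = 2 := by
      show orderOf (φ ((MulEquiv.ofBijective _ hbij) y)) = 2
      rw [MulEquiv.orderOf_eq, MulEquiv.ofBijective_apply, hy]
      apply orderOf_eq_prime
      · rw [← map_pow, show b ^ 2 = 1 by rw [← hb]; exact pow_orderOf_eq_one b, map_one]
      · intro h1
        exact hbQ ((QuotientGroup.eq_one_iff b).mp h1)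
    obtain ⟨k, hk⟩ := eq_sr_of_orderOf hr hyo
    obtain ⟨d, hd⟩ := exists_conj_sr hr k i
    let g : N := e.symm d
    have hg : g * y * g⁻¹ = ⟨a, haN⟩ := e.injective (by
      rw [map_mul, map_mul, map_inv, MulEquiv.apply_symm_apply, hk, hd, hi])
    have hb2 : b * b = 1 := by rw [← pow_two, ← hb, pow_orderOf_eq_one]
    have hmem : a⁻¹ * ((g : G) * b * (g : G)⁻¹) ∈ Q := by
      rw [← QuotientGroup.eq_one_iff]
      have ha1 : π a = π g * π y * (π g)⁻¹ := by
        rw [← show ((g * y * g⁻¹ : N) : G) = a from congrArg Subtype.val hg]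
        simp
      show π (a⁻¹ * ((g : G) * b * (g : G)⁻¹)) = 1
      rw [map_mul, map_inv, map_mul, map_mul, map_inv, ha1]
      rw [show π (y : G) = π b from hy]
      simp [mul_assoc]
    obtain ⟨q, -, hq⟩ := hconj _ (by simp [mul_assoc]; rw [← mul_assoc b, hb2]; simp) hmem
    refine ⟨(g : G)⁻¹ * q, ?_⟩
    apply mul_left_cancel (a := (g : G))
    apply mul_right_cancel (b := (g : G)⁻¹)
    rw [← hq]
    simp [mul_assoc]
  · obtain ⟨d, hd⟩ := exists_conj_sr hr i (i + 1)
    let g : N := e.symm d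
    have hg : g * ⟨a, haN⟩ * g⁻¹ = a'' := e.injective (by
      rw [map_mul, map_mul, map_inv, MulEquiv.apply_symm_apply, hi, hd, MulEquiv.apply_symm_apply])
    have hga : (g : G) * a * (g : G)⁻¹ = a'' := congrArg Subtype.val hg
    rw [← hcnt, pow_two]
    congr 1
    refine Nat.card_congr
      { toFun := fun c => ⟨(g : G) * c * (g : G)⁻¹, hN.conj_mem _ c.2.1 _, ?_⟩
        invFun := fun c => ⟨(g : G)⁻¹ * c * g, by simpa using hN.conj_mem _ c.2.1 (g : G)⁻¹, ?_⟩
        left_inv := fun c => Subtype.ext (by simp [mul_assoc])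
        right_inv := fun c => Subtype.ext (by simp [mul_assoc]) }
    · refine Subgroup.mem_centralizer_singleton_iff.mpr ?_
      rw [← hga]
      have := Subgroup.mem_centralizer_singleton_iff.mp c.2.2
      simp only [mul_assoc, inv_mul_cancel_left]
      rw [← mul_assoc (c : G), this, mul_assoc]
    · refine Subgroup.mem_centralizer_singleton_iff.mpr ?_
      have h0 := Subgroup.mem_centralizer_singleton_iff.mp c.2.2
      have : (c : G) * ((g : G) * a * (g : G)⁻¹) = (g : G) * a * (g : G)⁻¹ * (c : G) := by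
        rw [hga]; exact h0
      apply mul_left_cancel (a := (g : G))
      apply mul_right_cancel (b := (g : G)⁻¹)
      simpa [mul_assoc] using this

end Cfsg.Agent.S2873
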