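import Cfsg.Statements.S2874
import Mathlib

set_option autoImplicit false
open Cfsg

namespace Cfsg.Agent.S2874

local notation "M2[" n "]" => Matrix (Fin 2) (Fin 2) (ZMod n)

theorem gl2_klein_trivial : ∀ X V : GL (Fin 2) (ZMod 2), (X ^ 3 = 1 ∧ X ≠ 1 ∧ V * V = 1 ∧
    V * (X * V * X⁻¹) = (X * V * X⁻¹) * V) → V = 1 := by decide +kernel

theorem m2_not_idem : ∀ (X : GL (Fin 2) (ZMod 2)) (a : M2[2]), (X ^ 3 = 1 ∧ X ≠ 1 ∧
    a + X.1 * a * (X⁻¹).1 + X.1 * (X.1 * a * (X⁻¹).1) * (X⁻¹).1 = 0 ∧ a ≠ 0) → a * a ≠ a := by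
  decide +kernel

theorem m2_sum_zero_card : ∀ X : GL (Fin 2) (ZMod 2), X ^ 3 = 1 → X ≠ 1 →
    (Finset.univ.filter fun a : M2[2] =>
      a + X.1 * a * (X⁻¹).1 + X.1 * (X.1 * a * (X⁻¹).1) * (X⁻¹).1 = 0 ∧ a ≠ 0).card = 3 := by
  decide +kernel

theorem a4_v_count :
    (Finset.univ.filter fun v : alternatingGroup (Fin 4) => v * v = 1 ∧ v ≠ 1).card = 3 := by decide +kernel

theorem a4_facts : ∀ y : alternatingGroup (Fin 4), y ^ 3 = 1 → y ≠ 1 →
    (∀ v, v * v = 1 → v * (y * v * y⁻¹) * (y * (y * v * y⁻¹) * y⁻¹) = 1 ∧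
      v * (y * v * y⁻¹) = (y * v * y⁻¹) * v) ∧
    ∀ g, ∃ v, v * v = 1 ∧ (g = v ∨ g = v * y ∨ g = v * y⁻¹) := by decide +kernel

variable {k : ℕ}

/-- Reduction modulo two. -/
abbrev red (hk : k ≠ 0) : ZMod (2 ^ k) →+* ZMod 2 := ZMod.castHom (dvd_pow_self 2 hk) (ZMod 2)

theorem exists_two_mul (hk : k ≠ 0) {c : ZMod (2 ^ k)} (h : red hk c = 0) : ∃ d, c = 2 * d := by
  obtain ⟨n, rfl⟩ := ZMod.natCast_zmod_surjective c
  rw [map_natCast, ZMod.natCast_eq_zero_iff] at h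
  obtain ⟨d, rfl⟩ := h
  exact ⟨d, by push_cast; ring⟩

theorem red_eq_zero (hk : k ≠ 0) {j : ℕ} (hj : j < k) {c : ZMod (2 ^ k)} (h : (2 : ZMod (2 ^ k)) ^ j * c = 0) :
    red hk c = 0 := by
  obtain ⟨n, rfl⟩ := ZMod.natCast_zmod_surjective c
  rw [map_natCast, ZMod.natCast_eq_zero_iff]
  have h' : ((2 ^ j * n : ℕ) : ZMod (2 ^ k)) = 0 := by push_cast; exact h
  rw [ZMod.natCast_eq_zero_iff, show k = j + (k - j) by omega, pow_add] at h'
  exact (dvd_pow_self 2 (by omega)).trans (Nat.dvd_of_mul_dvd_mul_left (Nat.two_pow_pos j) h')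

/-- Reduction of matrices modulo two. -/
abbrev mred (hk : k ≠ 0) : M2[2 ^ k] →+* M2[2] := (red hk).mapMatrix

theorem exists_two_smul (hk : k ≠ 0) {a : M2[2 ^ k]} (h : mred hk a = 0) :
    ∃ b : M2[2 ^ k], a = (2 : ZMod (2 ^ k)) • b := by
  have h' : ∀ i j, ∃ d, a i j = 2 * d := fun i j => exists_two_mul hk (congrFun (congrFun h i) j)
  choose d hd using h'
  exact ⟨Matrix.of d, by ext i j; simp [hd]⟩

theorem mred_eq_zero (hk : k ≠ 0) {j : ℕ} (hj : j < k) {a : M2[2 ^ k]}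
    (h : ((2 : ZMod (2 ^ k)) ^ j) • a = 0) : mred hk a = 0 := by
  ext i l
  exact red_eq_zero hk hj (congrFun (congrFun h i) l)

theorem red_two (hk : k ≠ 0) : red hk 2 = 0 := by
  rw [map_ofNat]; decide

theorem mred_smul (hk : k ≠ 0) (c : ZMod (2 ^ k)) (a : M2[2 ^ k]) :
    mred hk (c • a) = red hk c • mred hk a := by
  ext i j
  exact map_mul (red hk) c (a i j)

theorem pow_smul_eq_of_mred_eq (hk : k ≠ 0) {a b : M2[2 ^ k]} (h : mred hk a = mred hk b) :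
    ((2 : ZMod (2 ^ k)) ^ (k - 1)) • a = ((2 : ZMod (2 ^ k)) ^ (k - 1)) • b := by
  obtain ⟨c, hc⟩ := exists_two_smul hk (show mred hk (a - b) = 0 by rw [map_sub, h, sub_self])
  rw [← sub_eq_zero, ← smul_sub, hc, smul_smul, ← pow_succ, show k - 1 + 1 = k by omega,
    show (2 : ZMod (2 ^ k)) ^ k = 0 by exact_mod_cast ZMod.natCast_self (2 ^ k), zero_smul]

/-- The reduction on the general linear group. -/
abbrev gred (hk : k ≠ 0) : GL (Fin 2) (ZMod (2 ^ k)) →* GL (Fin 2) (ZMod 2) :=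
  Units.map (mred hk).toMonoidHom

theorem isPGroup_ker (hk : k ≠ 0) : IsPGroup 2 (gred hk).ker := by
  rintro ⟨g, hg⟩
  obtain ⟨a, ha⟩ := exists_two_smul hk (a := g.1 - 1) (by
    rw [map_sub, map_one, sub_eq_zero]
    exact congrArg Units.val (MonoidHom.mem_ker.mp hg))
  have hrec : ∀ n : ℕ, ∃ b : M2[2 ^ k], g.1 ^ (2 ^ n) = 1 + ((2 : ZMod (2 ^ k)) ^ (n + 1)) • b := by
    intro n
    induction n with
    | zero => exact ⟨a, by rw [pow_zero, pow_one, zero_add, pow_one, ← ha]; abel⟩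
    | succ n ih =>
      obtain ⟨b, hb⟩ := ih
      refine ⟨b + ((2 : ZMod (2 ^ k)) ^ n) • (b * b), ?_⟩
      rw [pow_succ, pow_mul, hb, sq]
      simp only [add_mul, mul_add, one_mul, mul_one, smul_mul_assoc, mul_smul_comm, smul_smul, smul_add,
        ← pow_add]
      have : ∀ x : M2[2 ^ k], ((2 : ZMod (2 ^ k)) ^ (n + 1 + 1)) • x =
          ((2 : ZMod (2 ^ k)) ^ (n + 1)) • x + ((2 : ZMod (2 ^ k)) ^ (n + 1)) • x := fun x => by
        rw [← add_smul]; congr 1; ring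
      rw [this b, show n + 1 + 1 + n = n + 1 + (n + 1) by omega]
      abel
  obtain ⟨b, hb⟩ := hrec k
  refine ⟨k, Subtype.ext (Units.ext ?_)⟩
  rw [SubgroupClass.coe_pow, Units.val_pow_eq_pow_val, hb, pow_succ,
    show (2 : ZMod (2 ^ k)) ^ k = 0 by exact_mod_cast ZMod.natCast_self (2 ^ k)]
  simp

theorem not_nine_dvd_card (hk : k ≠ 0) : ¬ 9 ∣ Nat.card (GL (Fin 2) (ZMod (2 ^ k))) := by
  intro h
  rw [← (gred hk).ker.card_mul_index, Subgroup.index_ker] at h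
  obtain ⟨n, hn⟩ := IsPGroup.iff_card.mp (isPGroup_ker hk)
  rw [hn] at h
  have h9 : 9 ∣ Nat.card (gred hk).range :=
    (Nat.Coprime.pow_right n (by norm_num : Nat.Coprime 9 2)).dvd_of_dvd_mul_left h
  have h6 := h9.trans (Subgroup.card_subgroup_dvd_card (gred hk).range)
  rw [show Nat.card (GL (Fin 2) (ZMod 2)) = 6 by rw [Nat.card_eq_fintype_card]; decide +kernel] at h6
  norm_num at h6

/-- If the product of the three conjugates of `1 + 2^j a` is trivial, their reductions sum to zero. -/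
theorem level_sum (hk : k ≠ 0) {j : ℕ} (hj : j + 0 < k) (x v : GL (Fin 2) (ZMod (2 ^ k))) (a : M2[2 ^ k])
    (hva : v.1 = 1 + ((2 : ZMod (2 ^ k)) ^ j) • a) (hj0 : j ≠ 0)
    (hrel : v * (x * v * x⁻¹) * (x * (x * v * x⁻¹) * x⁻¹) = 1) :
    mred hk a + (gred hk x).1 * mred hk a * ((gred hk x)⁻¹).1 +
      (gred hk x).1 * ((gred hk x).1 * mred hk a * ((gred hk x)⁻¹).1) * ((gred hk x)⁻¹).1 = 0 := by
  set c : ZMod (2 ^ k) := 2 ^ j with hc
  have hconj : ∀ b : M2[2 ^ k], x.1 * (1 + c • b) * (x⁻¹).1 = 1 + c • (x.1 * b * (x⁻¹).1) := fun b => by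
    rw [mul_add, add_mul, mul_one, Units.mul_inv, mul_smul_comm, smul_mul_assoc]
  have h := congrArg Units.val hrel
  simp only [Units.val_mul, Units.val_one] at h
  rw [hva, hconj, hconj] at h
  set a₁ := x.1 * a * (x⁻¹).1
  set a₂ := x.1 * a₁ * (x⁻¹).1
  simp only [add_mul, mul_add, one_mul, mul_one, smul_mul_assoc, mul_smul_comm, smul_add] at h
  have h2 : c • (a + a₁ + a₂ + c • (a * a₁ + a * a₂ + a₁ * a₂ + c • (a * a₁ * a₂))) = 0 := by
    simp only [smul_add]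
    rw [← sub_eq_zero] at h
    rw [← h]; abel
  have h3 := mred_eq_zero hk (by omega : j < k) h2
  rw [map_add, mred_smul, hc, map_pow, red_two, zero_pow hj0, zero_smul, add_zero, map_add, map_add] at h3
  simpa [a₁, a₂, map_mul] using h3

/-- An `A₄` inside `GL₂(ℤ/2ᵏ)` is determined by any of its elements of order three. -/
theorem eq_of_mem (hk : 2 ≤ k) (H H' : Subgroup (GL (Fin 2) (ZMod (2 ^ k))))
    (e : H ≃* alternatingGroup (Fin 4)) (e' : H' ≃* alternatingGroup (Fin 4))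
    (x : GL (Fin 2) (ZMod (2 ^ k))) (hx : x ∈ H) (hx' : x ∈ H') (hx3 : x ^ 3 = 1) (hx1 : x ≠ 1) :
    H ≤ H' := by
  classical
  have hk0 : k ≠ 0 := by omega
  haveI : NeZero (2 ^ k) := ⟨(Nat.two_pow_pos k).ne'⟩
  set X := gred hk0 x with hXdef
  have hX3 : X ^ 3 = 1 := by rw [hXdef, ← map_pow, hx3, map_one]
  have hX1 : X ≠ 1 := fun h => by
    obtain ⟨n, hn⟩ := (isPGroup_ker hk0) ⟨x, h⟩
    have h2 : x ^ 2 ^ n = 1 := congrArg Subtype.val hn
    exact hx1 (pow_one x ▸ (Nat.Coprime.pow_left n (by norm_num : Nat.Coprime 2 3) ▸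
      (pow_gcd_eq_one (m := 2 ^ n) (n := 3) (a := x)).mpr ⟨h2, hx3⟩ : x ^ 1 = 1))
  -- the involutions of such a subgroup are congruent to one modulo `2^(k-1)`
  let W := Finset.univ.filter fun a : M2[2] =>
      a + X.1 * a * (X⁻¹).1 + X.1 * (X.1 * a * (X⁻¹).1) * (X⁻¹).1 = 0 ∧ a ≠ 0
  let F : M2[2] → M2[2 ^ k] := fun a => 1 + ((2 : ZMod (2 ^ k)) ^ (k - 1)) • a.map (fun c => (c.val : ZMod (2 ^ k)))
  have key : ∀ (K : Subgroup (GL (Fin 2) (ZMod (2 ^ k)))) (f : K ≃* alternatingGroup (Fin 4))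
      (hxK : x ∈ K), ∀ v ∈ K, v * v = 1 → v ≠ 1 → v.1 ∈ W.image F := by
    intro K f hxK
    let y := f ⟨x, hxK⟩
    have hy3 : y ^ 3 = 1 := by
      show (f ⟨x, hxK⟩) ^ 3 = 1
      rw [← map_pow, show (⟨x, hxK⟩ : K) ^ 3 = 1 from Subtype.ext hx3, map_one]
    have hy1 : y ≠ 1 := fun h => hx1 (congrArg Subtype.val (f.injective (h.trans (map_one f).symm)))
    have hrel : ∀ v ∈ K, v * v = 1 → v * (x * v * x⁻¹) * (x * (x * v * x⁻¹) * x⁻¹) = 1 ∧
        v * (x * v * x⁻¹) = (x * v * x⁻¹) * v := by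
      intro v hv hv2
      have h0 := (a4_facts y hy3 hy1).1 (f ⟨v, hv⟩) (by
        rw [← map_mul, show (⟨v, hv⟩ * ⟨v, hv⟩ : K) = 1 from Subtype.ext hv2, map_one])
      simp only [y, ← map_mul, ← map_inv, f.injective.eq_iff, map_eq_one_iff f f.injective] at h0
      exact ⟨congrArg Subtype.val h0.1, congrArg Subtype.val h0.2⟩
    -- descent on the exponent
    have hlev : ∀ j, 1 ≤ j → j < k → ∀ v ∈ K, v * v = 1 →
        ∃ a : M2[2 ^ k], v.1 = 1 + ((2 : ZMod (2 ^ k)) ^ j) • a ∧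
          mred hk0 a + X.1 * mred hk0 a * (X⁻¹).1 + X.1 * (X.1 * mred hk0 a * (X⁻¹).1) * (X⁻¹).1 = 0 := by
      intro j hj1
      induction j, hj1 using Nat.le_induction with
      | base =>
        intro hjk v hv hv2
        have hV : gred hk0 v = 1 := by
          refine gl2_klein_trivial X _ ⟨hX3, hX1, (by rw [← map_mul, hv2, map_one]), ?_⟩
          rw [hXdef, ← map_inv, ← map_mul, ← map_mul, ← map_mul, ← map_mul, (hrel v hv hv2).2]
        obtain ⟨a, ha⟩ := exists_two_smul hk0 (a := v.1 - 1) (by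
          rw [map_sub, map_one, sub_eq_zero]; exact congrArg Units.val hV)
        have hva : v.1 = 1 + ((2 : ZMod (2 ^ k)) ^ 1) • a := by rw [pow_one, ← ha]; abel
        exact ⟨a, hva, level_sum hk0 (j := 1) hjk x v a hva one_ne_zero (hrel v hv hv2).1⟩
      | succ j hj ih =>
        intro hjk v hv hv2
        obtain ⟨a, hva, hsum⟩ := ih (by omega) v hv hv2
        have ha0 : mred hk0 a = 0 := by
          by_contra hne
          have hsq : v.1 * v.1 = 1 := congrArg Units.val hv2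
          rw [hva] at hsq
          simp only [add_mul, mul_add, one_mul, mul_one, smul_mul_assoc, mul_smul_comm, smul_smul] at hsq
          have h2 : ((2 : ZMod (2 ^ k)) ^ (j + 1)) • (a + ((2 : ZMod (2 ^ k)) ^ (j - 1)) • (a * a)) = 0 := by
            rw [smul_add, smul_smul, ← pow_add, show j + 1 + (j - 1) = j + j by omega, pow_add _ j j,
              show (2 : ZMod (2 ^ k)) ^ (j + 1) = 2 ^ j + 2 ^ j by ring, add_smul]
            rw [← sub_eq_zero] at hsq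
            rw [← hsq]; simp only [smul_add, smul_smul]; abel
          have h3 := mred_eq_zero hk0 hjk h2
          rw [map_add, mred_smul, map_pow, red_two, map_mul] at h3
          rcases Nat.eq_or_lt_of_le hj with h | h
          · rw [← h] at h3
            simp only [Nat.sub_self, pow_zero, one_smul] at h3
            refine m2_not_idem X _ ⟨hX3, hX1, hsum, hne⟩ ?_
            try rw [add_zero] at h3
            rw [eq_neg_of_add_eq_zero_right h3]
            ext i l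
            simp [ZMod.neg_eq_self_mod_two]
          · rw [zero_pow (by omega), zero_smul, add_zero] at h3
            exact hne h3
        obtain ⟨b, hb⟩ := exists_two_smul hk0 ha0
        have hvb : v.1 = 1 + ((2 : ZMod (2 ^ k)) ^ (j + 1)) • b := by
          rw [hva, hb, smul_smul, ← pow_succ]
        exact ⟨b, hvb, level_sum hk0 (j := j + 1) hjk x v b hvb (by omega) (hrel v hv hv2).1⟩
    intro v hv hv2 hv1
    obtain ⟨a, hva, hsum⟩ := hlev (k - 1) (by omega) (by omega) v hv hv2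
    have hF : F (mred hk0 a) = v.1 := by
      rw [hva]
      refine congrArg (1 + ·) (pow_smul_eq_of_mred_eq hk0 ?_)
      ext i l
      simp [Matrix.map_apply]
    refine Finset.mem_image.mpr ⟨mred hk0 a, Finset.mem_filter.mpr ⟨Finset.mem_univ _, hsum, fun h => hv1 ?_⟩, hF⟩
    refine Units.ext ?_
    rw [← hF, h]
    ext i l
    simp [F]
  have hcount : ∀ (K : Subgroup (GL (Fin 2) (ZMod (2 ^ k)))) (f : K ≃* alternatingGroup (Fin 4)) (hxK : x ∈ K),
      ∀ m ∈ W.image F, ∃ v ∈ K, v.1 = m := by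
    intro K f hxK
    let S := (Finset.univ.filter fun v : alternatingGroup (Fin 4) => v * v = 1 ∧ v ≠ 1).image
      (fun v => ((f.symm v : K) : GL (Fin 2) (ZMod (2 ^ k))).1)
    have hsub : S ⊆ W.image F := by
      intro m hm
      obtain ⟨v, hv, rfl⟩ := Finset.mem_image.mp hm
      obtain ⟨-, hv2, hv1⟩ := Finset.mem_filter.mp hv
      refine key K f hxK _ (f.symm v).2 ?_ fun h => hv1 (f.symm.injective ((map_one f.symm).symm ▸ Subtype.ext h))
      rw [← Subgroup.coe_mul, ← map_mul, hv2, map_one]; rfl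
    have hScard : S.card = 3 := by
      rw [Finset.card_image_of_injective _ (fun a b h => f.symm.injective (Subtype.ext (Units.ext h))), a4_v_count]
    have hEq : S = W.image F := Finset.eq_of_subset_of_card_le hsub (by
      rw [hScard, ← m2_sum_zero_card X hX3 hX1]; exact Finset.card_image_le)
    intro m hm
    rw [← hEq] at hm
    obtain ⟨v, -, rfl⟩ := Finset.mem_image.mp hm
    exact ⟨_, (f.symm v).2, rfl⟩
  intro g hg
  let y := e ⟨x, hx⟩
  have hy3 : y ^ 3 = 1 := by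
    show (e ⟨x, hx⟩) ^ 3 = 1
    rw [← map_pow, show (⟨x, hx⟩ : H) ^ 3 = 1 from Subtype.ext hx3, map_one]
  have hy1 : y ≠ 1 := fun h => hx1 (congrArg Subtype.val (e.injective (h.trans (map_one e).symm)))
  obtain ⟨v, hv2, hcases⟩ := (a4_facts y hy3 hy1).2 (e ⟨g, hg⟩)
  have hvH' : ((e.symm v : H) : GL (Fin 2) (ZMod (2 ^ k))) ∈ H' := by
    by_cases hv1 : v = 1
    · rw [hv1, map_one]; exact H'.one_mem
    have hne : ((e.symm v : H) : GL (Fin 2) (ZMod (2 ^ k))) ≠ 1 := fun h =>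
      hv1 (e.symm.injective ((map_one e.symm).symm ▸ Subtype.ext h))
    obtain ⟨u, hu, huv⟩ := hcount H' e' hx' _ (key H e hx _ (e.symm v).2 (by
      rw [← Subgroup.coe_mul, ← map_mul, hv2, map_one]; rfl) hne)
    rwa [Units.ext huv] at hu
  have hgy : ∀ w, e ⟨g, hg⟩ = w → g = ((e.symm w : H) : GL (Fin 2) (ZMod (2 ^ k))) := fun w h => by
    rw [← h, e.symm_apply_apply]
  rcases hcases with h | h | h
  · rw [hgy _ h]; exact hvH'
  · rw [hgy _ h, map_mul, Subgroup.coe_mul]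
    exact H'.mul_mem hvH' (by simpa [y] using hx')
  · rw [hgy _ h, map_mul, map_inv, Subgroup.coe_mul, Subgroup.coe_inv]
    exact H'.mul_mem hvH' (H'.inv_mem (by simpa [y] using hx'))

/-- For k ≥ 2, any two subgroups of GL₂(ℤ/2ᵏℤ) (the automorphism group of the homocyclic group ℤ/2ᵏ × ℤ/2ᵏ) that are isomorphic to the alternating group of degree 4 are conjugate. -/
theorem result (k : ℕ) (hk : 2 ≤ k) (H₁ H₂ : Subgroup (GL (Fin 2) (ZMod (2 ^ k)))) (h₁ : Nonempty (↥H₁ ≃* ↥(alternatingGroup (Fin 4)))) (h₂ : Nonempty (↥H₂ ≃* ↥(alternatingGroup (Fin 4)))) : ∃ g : GL (Fin 2) (ZMod (2 ^ k)), H₂ = H₁.map (MulAut.conj g).toMonoidHom := by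
  obtain ⟨e₁⟩ := h₁
  obtain ⟨e₂⟩ := h₂
  have hk0 : k ≠ 0 := by omega
  haveI : NeZero (2 ^ k) := ⟨(Nat.two_pow_pos k).ne'⟩
  obtain ⟨y, hy3, hy1⟩ : ∃ y : alternatingGroup (Fin 4), y ^ 3 = 1 ∧ y ≠ 1 := by decide +kernel
  set x₁ : GL (Fin 2) (ZMod (2 ^ k)) := (e₁.symm y : H₁).1 with hx₁
  set x₂ : GL (Fin 2) (ZMod (2 ^ k)) := (e₂.symm y : H₂).1 with hx₂
  have h13 : x₁ ^ 3 = 1 := by rw [hx₁, ← Subgroup.coe_pow, ← map_pow, hy3, map_one]; rfl
  have h23 : x₂ ^ 3 = 1 := by rw [hx₂, ← Subgroup.coe_pow, ← map_pow, hy3, map_one]; rfl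
  have h11 : x₁ ≠ 1 := fun h => hy1 (e₁.symm.injective ((map_one e₁.symm).symm ▸ Subtype.ext h))
  have h21 : x₂ ≠ 1 := fun h => hy1 (e₂.symm.injective ((map_one e₂.symm).symm ▸ Subtype.ext h))
  haveI : Fact (Nat.Prime 3) := ⟨Nat.prime_three⟩
  have hsyl : ∀ x : GL (Fin 2) (ZMod (2 ^ k)), x ^ 3 = 1 → x ≠ 1 →
      ∃ P : Sylow 3 (GL (Fin 2) (ZMod (2 ^ k))), (P : Subgroup _) = Subgroup.zpowers x := by
    intro x hx hx'
    have ho : orderOf x = 3 := orderOf_eq_prime hx hx'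
    have hp : IsPGroup 3 (Subgroup.zpowers x) := IsPGroup.of_card (n := 1) (by rw [Nat.card_zpowers, ho, pow_one])
    obtain ⟨P, hP⟩ := hp.exists_le_sylow
    obtain ⟨i, hi⟩ := IsPGroup.iff_card.mp P.isPGroup'
    have hle : i ≤ 1 := by
      by_contra hcon
      refine not_nine_dvd_card hk0 (dvd_trans ?_ ((P : Subgroup _).card_subgroup_dvd_card))
      rw [hi]
      exact dvd_trans (by norm_num) (pow_dvd_pow 3 (show 2 ≤ i by omega))
    refine ⟨P, (Subgroup.eq_of_le_of_card_ge hP ?_).symm⟩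
    rw [hi, Nat.card_zpowers, ho]
    exact (Nat.pow_le_pow_right (by norm_num) hle).trans (by norm_num)
  obtain ⟨P₁, hP₁⟩ := hsyl x₁ h13 h11
  obtain ⟨P₂, hP₂⟩ := hsyl x₂ h23 h21
  obtain ⟨g, hg⟩ := MulAction.exists_smul_eq (GL (Fin 2) (ZMod (2 ^ k))) P₁ P₂
  refine ⟨g, ?_⟩
  set H := H₁.map (MulAut.conj g).toMonoidHom
  let e : H ≃* alternatingGroup (Fin 4) :=
    ((H₁.equivMapOfInjective _ (MulAut.conj g).injective).symm).trans e₁
  set x := g * x₁ * g⁻¹ with hxdef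
  have hxH : x ∈ H := ⟨x₁, (e₁.symm y).2, rfl⟩
  have hxP : x ∈ (P₂ : Subgroup _) := by
    rw [← hg, Sylow.coe_subgroup_smul]
    exact ⟨x₁, hP₁ ▸ Subgroup.mem_zpowers x₁, rfl⟩
  have hxH₂ : x ∈ H₂ := by
    rw [hP₂] at hxP
    exact Subgroup.zpowers_le.mpr (e₂.symm y).2 hxP
  have hx3 : x ^ 3 = 1 := by rw [hxdef, conj_pow, h13]; simp
  have hx1 : x ≠ 1 := fun h => h11 (conj_eq_one_iff.mp h)
  exact le_antisymm (eq_of_mem hk H₂ H e₂ e x hxH₂ hxH hx3 hx1) (eq_of_mem hk H H₂ e e₂ x hxH hxH₂ hx3 hx1)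

end Cfsg.Agent.S2874
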