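import Cfsg.Statements.S2879
import Cfsg.Agent.Eq.Def_CaseTheorems
import Cfsg.Agent.Eq.Def_Solvable
import Cfsg.Agent.Involutions.SolvableCore
import Cfsg.Agent.Constrained.Basic
import Cfsg.Agent.LocalCharP.SL2Three
import Cfsg.Agent.PLength.One
import Mathlib

set_option autoImplicit false
open Cfsg

namespace Cfsg.Agent.S2879

/-- The shape of a dihedral group of order at least eight or a semidihedral group. -/
theorem exists_cyclic_part {T : Type*} [Group T] [Finite T] (hT2 : IsPGroup 2 T)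
    (hT : (∃ n : ℕ, 4 ≤ n ∧ Nonempty (T ≃* DihedralGroup n)) ∨ Cfsg.IsQuasiDihedral T) :
    ∃ c : T, 4 ≤ orderOf c ∧ (Subgroup.zpowers c).index = 2 ∧
      ∀ y ∉ Subgroup.zpowers c, ∀ d ∈ Subgroup.zpowers c, y * d = d * y → d * d = 1 := by
  rcases hT with ⟨n, hn, ⟨e⟩⟩ | ⟨n, hn, hcard, x, y, hx, -, hyx⟩
  · haveI : NeZero n := ⟨by omega⟩
    have hor : orderOf (e.symm (DihedralGroup.r 1)) = n := by
      rw [MulEquiv.orderOf_eq, DihedralGroup.orderOf_r_one]
    refine ⟨e.symm (DihedralGroup.r 1), by omega, ?_, ?_⟩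
    · have := (Subgroup.zpowers (e.symm (DihedralGroup.r 1))).index_mul_card
      rw [Nat.card_zpowers, hor, Nat.card_congr e.toEquiv, DihedralGroup.nat_card] at this
      exact Nat.eq_of_mul_eq_mul_right (by omega) this
    · intro y hy d hd hcomm
      obtain ⟨m, rfl⟩ := Submonoid.mem_powers_iff _ _ |>.mp (mem_powers_iff_mem_zpowers.mpr hd)
      apply e.injective
      have hc := congrArg e hcomm
      rw [map_mul, map_mul, map_pow, e.apply_symm_apply, DihedralGroup.r_one_pow] at hc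
      rw [map_mul, map_pow, e.apply_symm_apply, DihedralGroup.r_one_pow, map_one]
      rcases he : e y with k | k
      · exfalso
        apply hy
        have hyk : y = e.symm (DihedralGroup.r 1) ^ k.val := by
          apply e.injective
          rw [map_pow, e.apply_symm_apply, DihedralGroup.r_one_pow, he, ZMod.natCast_zmod_val]
        rw [hyk]
        exact Subgroup.pow_mem _ (Subgroup.mem_zpowers _) _
      · rw [he, DihedralGroup.sr_mul_r, DihedralGroup.r_mul_sr] at hc
        rw [DihedralGroup.r_mul_r]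
        rw [← DihedralGroup.r_zero]
        congr 1
        have hc' : k + (m : ZMod n) = k - m := by simpa using hc
        linear_combination hc'
  · have h2n : 2 * 2 ^ (n - 1) = 2 ^ n := by rw [← pow_succ']; congr 1; omega
    have h4 : 4 ≤ 2 ^ (n - 1) := le_trans (by norm_num) (Nat.pow_le_pow_right two_pos (show 2 ≤ n - 1 by omega))
    have hrot : ∀ d ∈ Subgroup.zpowers x, y * d * y⁻¹ = d ^ (2 ^ (n - 1) - 1) := by
      intro d hd
      obtain ⟨m, rfl⟩ := Submonoid.mem_powers_iff _ _ |>.mp (mem_powers_iff_mem_zpowers.mpr hd)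
      rw [← conj_pow, hyx, ← pow_mul, ← pow_mul, mul_comm]
    have hyX : y ∉ Subgroup.zpowers x := by
      intro hy
      obtain ⟨m, hm⟩ := Submonoid.mem_powers_iff _ _ |>.mp (mem_powers_iff_mem_zpowers.mpr hy)
      have h1 : x ^ 1 = x ^ (2 ^ (n - 1) - 1) := by
        rw [← hyx, pow_one, ← hm, ← pow_succ, pow_succ', mul_inv_cancel_right]
      have := (pow_inj_mod.mp h1)
      rw [hx, Nat.mod_eq_of_lt (by omega), Nat.mod_eq_of_lt (by omega)] at this
      omega
    have hidx : (Subgroup.zpowers x).index = 2 := by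
      have := (Subgroup.zpowers x).index_mul_card
      rw [Nat.card_zpowers, hx, hcard, pow_succ'] at this
      exact Nat.eq_of_mul_eq_mul_right (by positivity) this
    refine ⟨x, by omega, hidx, fun w hw d hd hwd => ?_⟩
    have hwy : y⁻¹ * w ∈ Subgroup.zpowers x := by
      rw [Subgroup.mul_mem_iff_of_index_two hidx]
      simp [hw, hyX]
    obtain ⟨l, hl⟩ := Submonoid.mem_powers_iff _ _ |>.mp (mem_powers_iff_mem_zpowers.mpr hwy)
    obtain ⟨m, hm⟩ := Submonoid.mem_powers_iff _ _ |>.mp (mem_powers_iff_mem_zpowers.mpr hd)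
    have hcomm : x ^ l * d = d * x ^ l := by
      rw [← hm, ← pow_add, ← pow_add, add_comm]
    have hfix : y * d * y⁻¹ = d := by
      have h1 : w * d * w⁻¹ = d := by rw [hwd, mul_inv_cancel_right]
      rw [show w = y * x ^ l by rw [hl, mul_inv_cancel_left]] at h1
      calc y * d * y⁻¹ = y * (x ^ l * d * (x ^ l)⁻¹) * y⁻¹ := by rw [hcomm, mul_inv_cancel_right]
        _ = d := by simpa [mul_assoc] using h1
    rw [hrot d hd] at hfix
    have hodd : Nat.Coprime (2 ^ n) (2 ^ (n - 2) - 1) := by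
      apply Nat.Coprime.pow_left
      rw [Nat.coprime_two_left, Nat.odd_sub Nat.one_le_two_pow]
      simp [Nat.even_pow, show n - 2 ≠ 0 by omega]
    have h5 : (d * d) ^ (2 ^ (n - 2) - 1) = 1 := by
      have h6 : 2 ^ (n - 1) - 1 = 2 * (2 ^ (n - 2) - 1) + 1 := by
        have : 2 * 2 ^ (n - 2) = 2 ^ (n - 1) := by rw [← pow_succ']; congr 1; omega
        have := Nat.one_le_two_pow (n := n - 2)
        omega
      rw [h6, pow_succ, pow_mul, pow_two] at hfix
      exact mul_eq_right.mp hfix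
    have h7 : (d * d) ^ (2 ^ n) = 1 := by
      rw [← hm, ← pow_add, ← pow_mul, mul_comm, pow_mul, ← hx, pow_orderOf_eq_one, one_pow]
    have h8 := (pow_gcd_eq_one (a := d * d) (m := 2 ^ n) (n := 2 ^ (n - 2) - 1)).mpr ⟨h7, h5⟩
    rwa [hodd.gcd_eq_one, pow_one] at h8

/-- An element of odd order normalising a cyclic `2`-group centralises it. -/
theorem commute_of_conj_pow {G : Type*} [Group G] {a w : G} {n k : ℕ} (ha : orderOf a = 2 ^ n)
    (hw : Odd (orderOf w)) (hk : w * a * w⁻¹ = a ^ k) : w * a * w⁻¹ = a := by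
  have hit : ∀ m : ℕ, w ^ m * a * (w ^ m)⁻¹ = a ^ (k ^ m) := by
    intro m
    induction m with
    | zero => simp
    | succ m ih =>
      calc w ^ (m + 1) * a * (w ^ (m + 1))⁻¹ = w * (w ^ m * a * (w ^ m)⁻¹) * w⁻¹ := by
            rw [pow_succ']; simp [mul_assoc]
        _ = a ^ (k ^ (m + 1)) := by rw [ih, ← conj_pow, hk, ← pow_mul, ← pow_succ']
  rcases Nat.eq_zero_or_pos n with hn | hn
  · rw [hn, pow_zero, orderOf_eq_one_iff] at ha
    subst ha; simp
  haveI : NeZero (2 ^ n) := ⟨(Nat.two_pow_pos n).ne'⟩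
  have h1 : ((k : ZMod (2 ^ n))) ^ orderOf w = 1 := by
    have h := hit (orderOf w)
    rw [pow_orderOf_eq_one, inv_one, mul_one, one_mul] at h
    have h' : a ^ 1 = a ^ (k ^ orderOf w) := by rw [pow_one]; exact h
    rw [pow_inj_mod, ha, ← ZMod.natCast_eq_natCast_iff'] at h'
    push_cast at h'
    exact h'.symm
  have hu : IsUnit (k : ZMod (2 ^ n)) := IsUnit.of_pow_eq_one h1 (by rintro h; rw [h] at hw; exact absurd hw (by decide))
  have h3 : orderOf hu.unit ∣ 2 ^ (n - 1) := by
    have := orderOf_dvd_natCard hu.unit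
    rw [Nat.card_eq_fintype_card, ZMod.card_units_eq_totient, Nat.totient_prime_pow Nat.prime_two hn] at this
    simpa using this
  have h4 : orderOf hu.unit ∣ orderOf w := orderOf_dvd_of_pow_eq_one (Units.ext (by simpa using h1))
  have h5 : orderOf hu.unit = 1 := Nat.eq_one_of_dvd_coprimes (Nat.Coprime.pow_left _ hw.coprime_two_left) h3 h4
  have h6 : (k : ZMod (2 ^ n)) = ((1 : ℕ) : ZMod (2 ^ n)) := by
    rw [Nat.cast_one, ← hu.unit_spec, orderOf_eq_one_iff.mp h5, Units.val_one]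
  rw [hk]
  conv_rhs => rw [← pow_one a]
  rw [pow_inj_mod, ha, ← ZMod.natCast_eq_natCast_iff']
  exact h6

/-- The heart of the proof: the quaternion group and the element of order three. -/
theorem exists_generators {G : Type*} [Group G] [Finite G] (Q T : Subgroup G) [Q.Normal] (c x : G)
    (hQ2 : IsPGroup 2 Q) (hQT : Q ≤ T) (hcent : Subgroup.centralizer (Q : Set G) ≤ Q)
    (hcT : c ∈ T) (hT2 : ∀ y ∈ T, ∀ y' ∈ T, y ∉ Subgroup.zpowers c → y' ∉ Subgroup.zpowers c →
      y * y' ∈ Subgroup.zpowers c)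
    (hinv : ∀ y ∈ T, y ∉ Subgroup.zpowers c → ∀ d ∈ Subgroup.zpowers c, y * d = d * y → d * d = 1)
    (z : G) (hzC : z ∈ Subgroup.zpowers c) (hz : z ≠ 1) (hz2 : z * z = 1)
    (hzQ : z ∈ Q) (hzcen : ∀ g : G, g * z * g⁻¹ = z)
    (hzu : ∀ d ∈ Subgroup.zpowers c, d * d = 1 → d = 1 ∨ d = z)
    (hxodd : Odd (orderOf x)) (hx1 : x ≠ 1) :
    ∃ i j x : G, i ∈ Q ∧ j ∈ Q ∧ i ^ 4 = 1 ∧ i * i ≠ 1 ∧ j * j = i * i ∧ j * i = i ^ 3 * j ∧ x ^ 3 = 1 ∧
      x * i = j * x ∧ x * j = i * j * x ∧ x ≠ 1 ∧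
      (∀ y ∈ Q, ∃ m < 4, y = i ^ m ∨ y = i ^ m * j) ∧
      (∀ w : G, Odd (orderOf w) → (∃ m : ℕ, w * i * w⁻¹ = i ^ m) → w = 1) := by
  classical
  have hQn : Q.Normal := inferInstance
  set C₀ := Subgroup.zpowers c with hC₀
  set A := Q ⊓ C₀ with hAdef
  obtain ⟨a, ha⟩ : ∃ a, Subgroup.zpowers a = A := by
    haveI : IsCyclic C₀ := Subgroup.isCyclic_zpowers c
    haveI : IsCyclic A := isCyclic_of_injective (Subgroup.inclusion (inf_le_right : A ≤ C₀))
      (Subgroup.inclusion_injective _)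
    exact Subgroup.isCyclic_iff_exists_zpowers_eq_top A |>.mp inferInstance
  have haA : a ∈ A := ha ▸ Subgroup.mem_zpowers a
  obtain ⟨n, hn⟩ : ∃ n, orderOf a = 2 ^ n := by
    obtain ⟨n, hn⟩ := IsPGroup.iff_orderOf.mp hQ2 ⟨a, haA.1⟩
    exact ⟨n, by rw [← Subgroup.orderOf_mk a haA.1]; exact hn⟩
  have hmemA : ∀ d ∈ A, ∃ m : ℕ, a ^ m = d := fun d hd => by
    rw [← ha, ← mem_powers_iff_mem_zpowers] at hd
    exact Submonoid.mem_powers_iff _ _ |>.mp hd
  have hpair : ∀ y ∈ Q, ∀ y' ∈ Q, y ∉ A → y' ∉ A → y * y' ∈ A := fun y hy y' hy' h h' =>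
    ⟨Q.mul_mem hy hy', hT2 y (hQT hy) y' (hQT hy') (fun hc => h ⟨hy, hc⟩) fun hc => h' ⟨hy', hc⟩⟩
  -- elements of odd order normalising `A` are trivial
  have hfree : ∀ w : G, Odd (orderOf w) → (∃ m : ℕ, w * a * w⁻¹ = a ^ m) → w = 1 := by
    intro w hw ⟨m, hm⟩
    have hwa := commute_of_conj_pow hn hw hm
    have hwA : ∀ d ∈ A, w * d * w⁻¹ = d := fun d hd => by
      obtain ⟨l, rfl⟩ := hmemA d hd
      rw [← conj_pow, hwa]
    have hwQ : w ∈ Subgroup.centralizer (Q : Set G) := by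
      intro y hy
      have hy' : w * y * w⁻¹ ∈ Q := hQn.conj_mem y hy w
      suffices w * y * w⁻¹ = y from (mul_inv_eq_iff_eq_mul.mp this).symm
      by_cases hyA : y ∈ A
      · exact hwA y hyA
      · have hy'A : w * y * w⁻¹ ∉ A := fun h => hyA (by
          have h1 := hwA _ h
          have h2 : w * y * w⁻¹ = y := by
            apply mul_left_cancel (a := w); apply mul_right_cancel (b := w⁻¹)
            exact h1
          exact h2 ▸ h)
        set d := y⁻¹ * (w * y * w⁻¹) with hd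
        have hdA : d ∈ A := hpair _ (Q.inv_mem hy) _ hy' (fun h => hyA (inv_inv y ▸ A.inv_mem h)) hy'A
        have hit : ∀ l : ℕ, w ^ l * y * (w ^ l)⁻¹ = y * d ^ l := by
          intro l
          induction l with
          | zero => simp
          | succ l ih =>
            calc w ^ (l + 1) * y * (w ^ (l + 1))⁻¹ = w * (w ^ l * y * (w ^ l)⁻¹) * w⁻¹ := by
                  rw [pow_succ']; simp [mul_assoc]
              _ = (w * y * w⁻¹) * (w * d ^ l * w⁻¹) := by rw [ih]; simp [mul_assoc]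
              _ = y * d ^ (l + 1) := by rw [hwA _ (A.pow_mem hdA l), pow_succ', hd]; simp [mul_assoc]
        have h0 := hit (orderOf w)
        rw [pow_orderOf_eq_one, inv_one, mul_one, one_mul, left_eq_mul] at h0
        obtain ⟨l, hl⟩ := IsPGroup.iff_orderOf.mp hQ2 ⟨d, hdA.1⟩
        rw [Subgroup.orderOf_mk] at hl
        have h1 : orderOf d = 1 := Nat.eq_one_of_dvd_coprimes
          (Nat.Coprime.pow_left l hw.coprime_two_left) (dvd_of_eq hl) (orderOf_dvd_of_pow_eq_one h0)
        rw [orderOf_eq_one_iff, hd, inv_mul_eq_one] at h1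
        exact h1.symm
    obtain ⟨l, hl⟩ := IsPGroup.iff_orderOf.mp hQ2 ⟨w, hcent hwQ⟩
    rw [Subgroup.orderOf_mk] at hl
    exact orderOf_eq_one_iff.mp (Nat.eq_one_of_dvd_coprimes
      (Nat.Coprime.pow_left l hw.coprime_two_left) (dvd_of_eq hl) dvd_rfl)
  set b := x * a * x⁻¹ with hb
  have hbQ : b ∈ Q := hQn.conj_mem a haA.1 x
  have hbA : b ∉ A := fun h => by
    obtain ⟨m, hm⟩ := hmemA b h
    exact hx1 (hfree x hxodd ⟨m, hm.symm⟩)
  have hbC : b ∉ C₀ := fun h => hbA ⟨hbQ, h⟩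
  have hbb : b * b ∈ A := hpair b hbQ b hbQ hbA hbA
  have hb4 : (b * b) * (b * b) = 1 := hinv b (hQT hbQ) hbC _ hbb.2 (mul_assoc b b b).symm
  have hconj2 : b * b = x * (a * a) * x⁻¹ := by rw [hb]; simp [mul_assoc]
  have ha4 : (a * a) * (a * a) = 1 := by
    have : x * ((a * a) * (a * a)) * x⁻¹ = 1 := by
      rw [← hb4, hconj2]; simp [mul_assoc]
    exact conj_eq_one_iff.mp this
  have ha2 : a * a ≠ 1 := by
    intro h
    rcases hzu a haA.2 h with h1 | h1
    · exact hbA (by rw [hb, h1]; simp)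
    · exact hbA (by rw [hb, h1, hzcen, ← h1]; exact haA)
  have haz : a * a = z := ((hzu _ (C₀.mul_mem haA.2 haA.2) ha4).resolve_left ha2)
  have hbz : b * b = z := by rw [hconj2, haz, hzcen]
  have ha4' : a ^ 4 = 1 := by rw [← ha4]; simp only [pow_succ', pow_zero, mul_one, mul_assoc]
  have hba : b * a = a ^ 3 * b := by
    have hmem : b * a * b⁻¹ ∈ A := by
      have h1 : b * a ∉ A := fun h => hbA (by simpa using A.mul_mem h (A.inv_mem haA))
      exact hpair _ (Q.mul_mem hbQ haA.1) _ (Q.inv_mem hbQ) h1 (fun h => hbA (inv_inv b ▸ A.inv_mem h))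
    obtain ⟨m, hm⟩ := hmemA _ hmem
    rw [← Nat.mod_add_div m 4, pow_add, pow_mul, ha4', one_pow, mul_one] at hm
    have h4 : m % 4 = 0 ∨ m % 4 = 1 ∨ m % 4 = 2 ∨ m % 4 = 3 := by omega
    rcases h4 with h | h | h | h <;> rw [h] at hm
    · rw [pow_zero] at hm
      exact absurd (conj_eq_one_iff.mp hm.symm) (fun h1 => ha2 (by rw [h1, mul_one]))
    · rw [pow_one, eq_mul_inv_iff_mul_eq] at hm
      exact absurd (hinv b (hQT hbQ) hbC a haA.2 hm.symm) ha2
    · exfalso
      rw [pow_two, haz] at hm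
      have h1 : a = z := by
        rw [← hzcen b] at hm
        exact (mul_left_cancel (mul_right_cancel hm)).symm
      exact ha2 (by rw [h1, hz2])
    · rw [hm, inv_mul_cancel_right]
  have hform : ∀ y ∈ Q, ∃ m < 4, y = a ^ m ∨ y = a ^ m * b := by
    intro y hy
    by_cases hyA : y ∈ A
    · obtain ⟨m, rfl⟩ := hmemA y hyA
      refine ⟨m % 4, Nat.mod_lt _ (by norm_num), Or.inl ?_⟩
      conv_lhs => rw [← Nat.mod_add_div m 4, pow_add, pow_mul, ha4', one_pow, mul_one]
    · obtain ⟨m, hm⟩ := hmemA _ (hpair y hy b⁻¹ (Q.inv_mem hbQ) hyA (fun h => hbA (inv_inv b ▸ A.inv_mem h)))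
      refine ⟨m % 4, Nat.mod_lt _ (by norm_num), Or.inr ?_⟩
      rw [← eq_mul_inv_iff_mul_eq.mp hm]
      congr 1
      conv_lhs => rw [← Nat.mod_add_div m 4, pow_add, pow_mul, ha4', one_pow, mul_one]
  set k := x * b * x⁻¹ with hk
  have hkQ : k ∈ Q := hQn.conj_mem b hbQ x
  have hx2 : ∀ m : ℕ, k ≠ a ^ m := by
    intro m hm
    have h2 : Odd (orderOf (x * x)) := by
      rw [← pow_two]
      exact Odd.of_dvd_nat hxodd (orderOf_pow_dvd 2)
    have h3 := hfree (x * x) h2 ⟨m, by rw [← hm, hk, hb]; simp [mul_assoc]⟩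
    obtain ⟨r, hr⟩ := hxodd
    apply hx1
    have := pow_orderOf_eq_one x
    rw [hr, pow_succ, pow_mul, pow_two, h3, one_pow, one_mul] at this
    exact this
  have hbi : b⁻¹ = a * a * b := inv_eq_of_mul_eq_one_right (by
    rw [haz, ← mul_assoc, mul_inv_eq_iff_eq_mul.mp (hzcen b), mul_assoc, hbz, hz2])
  have hkb : k = a * b ∨ k = a ^ 3 * b := by
    obtain ⟨m, hm, h | h⟩ := hform k hkQ
    · exact absurd h (hx2 m)
    · interval_cases m
      · exfalso
        rw [pow_zero, one_mul, hk, hb] at h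
        exact hbA (by
          have h' : x * a * x⁻¹ = a := mul_left_cancel (mul_right_cancel h)
          rw [hb, h']; exact haA)
      · exact Or.inl (by rw [h, pow_one])
      · exfalso
        rw [pow_two, ← hbi, hk] at h
        exact hbA (by
          have h' : x * b * x⁻¹ = x * a⁻¹ * x⁻¹ := by rw [h, hb]; simp [mul_assoc]
          rw [mul_left_cancel (mul_right_cancel h')]; exact A.inv_mem haA)
      · exact Or.inr h
  have e1 : ∀ w, a * (a * (a * (a * w))) = w := fun w => by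
    simpa [mul_assoc, pow_succ'] using congrArg (· * w) ha4'
  have e2 : ∀ w, b * (b * w) = a * (a * w) := fun w => by rw [← mul_assoc, hbz, ← haz, mul_assoc]
  have e3 : ∀ w, b * (a * w) = a * (a * (a * (b * w))) := fun w => by
    rw [← mul_assoc, hba]; simp [mul_assoc, pow_succ']
  have e3' : b * a = a * (a * (a * b)) := by rw [hba]; simp [mul_assoc, pow_succ']
  have e4 : b * b = a * a := hbz.trans haz.symm
  have e5 : a * (a * (a * a)) = 1 := by simpa [mul_assoc, pow_succ'] using ha4'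
  have hka : x * k * x⁻¹ = a := by
    rcases hkb with h | h
    · have : x * k * x⁻¹ = b * k := by
        conv_lhs => rw [h]
        rw [hk, hb]; simp [mul_assoc]
      rw [this, h]; simp [mul_assoc, e1, e2, e3, e3', e4, e5]
    · have : x * k * x⁻¹ = b ^ 3 * k := by
        conv_lhs => rw [h]
        rw [hk, hb, conj_pow]; simp [mul_assoc]
      rw [this, h]; simp [mul_assoc, pow_succ', e1, e2, e3, e3', e4, e5]
  have hx3 : x ^ 3 = 1 := by
    refine hfree _ (Odd.of_dvd_nat hxodd (orderOf_pow_dvd 3)) ⟨1, ?_⟩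
    have : x * (x * (x * a * x⁻¹) * x⁻¹) * x⁻¹ = a := by rw [← hb, ← hk, hka]
    rw [pow_one]
    calc x ^ 3 * a * (x ^ 3)⁻¹ = x * (x * (x * a * x⁻¹) * x⁻¹) * x⁻¹ := by simp [pow_succ', mul_assoc]
      _ = a := this
  rcases hkb with h | h
  · refine ⟨a, b, x, haA.1, hbQ, ha4', ha2, e4, hba, hx3, ?_, ?_, hx1, hform, hfree⟩
    · rw [hb, inv_mul_cancel_right]
    · rw [← h, hk, inv_mul_cancel_right]
  · -- the other orientation
    have hk2 : k * k = a * a := by rw [h]; simp [mul_assoc, pow_succ', e1, e2, e3, e3', e4, e5]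
    refine ⟨a, k, x⁻¹, haA.1, hkQ, ha4', ha2, hk2, ?_, by rw [inv_pow, hx3, inv_one], ?_, ?_,
      inv_ne_one.mpr hx1, ?_, hfree⟩
    · rw [h]; simp [mul_assoc, pow_succ', e1, e2, e3, e3', e4, e5]
    · conv_lhs => rw [← hka]
      simp [mul_assoc]
    · rw [show a * k = b by rw [h]; simp [mul_assoc, pow_succ', e1, e2, e3, e3', e4, e5], hk]
      simp [mul_assoc]
    · intro y hy
      obtain ⟨m, hm, hy' | hy'⟩ := hform y hy
      · exact ⟨m, hm, Or.inl hy'⟩
      · refine ⟨(m + 1) % 4, Nat.mod_lt _ (by norm_num), Or.inr ?_⟩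
        rw [hy', h]
        interval_cases m <;> simp [mul_assoc, pow_succ', e1, e2, e3, e3', e4, e5]

/-- The subgroup generated by `i`, `j`, `x` is normal. -/
theorem exists_normal {G : Type*} [Group G] [Finite G] (Q : Subgroup G) [Q.Normal] (i j x : G)
    (hQmax : ∀ K : Subgroup G, K.Normal → IsPGroup 2 K → K ≤ Q) (hQ2 : IsPGroup 2 Q)
    (hcent : Subgroup.centralizer (Q : Set G) ≤ Q)
    (hiQ : i ∈ Q) (hjQ : j ∈ Q) (hi : i ^ 4 = 1) (hi2 : i * i ≠ 1) (hj : j * j = i * i)
    (hji : j * i = i ^ 3 * j) (hx : x ^ 3 = 1) (hxi : x * i = j * x) (hxj : x * j = i * j * x) (hx1 : x ≠ 1)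
    (hform : ∀ y ∈ Q, ∃ m < 4, y = i ^ m ∨ y = i ^ m * j)
    (hfree : ∀ w : G, Odd (orderOf w) → (∃ m : ℕ, w * i * w⁻¹ = i ^ m) → w = 1) :
    ∃ U : Subgroup G, U.Normal ∧ Nonempty (↥U ≃* Matrix.SpecialLinearGroup (Fin 2) (ZMod 3)) := by
  classical
  have hQn : Q.Normal := inferInstance
  have e1 : ∀ w, i * (i * (i * (i * w))) = w := fun w => by
    simpa [mul_assoc, pow_succ'] using congrArg (· * w) hi
  have e2 : ∀ w, j * (j * w) = i * (i * w) := fun w => by rw [← mul_assoc, hj, mul_assoc]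
  have e3 : ∀ w, j * (i * w) = i * (i * (i * (j * w))) := fun w => by
    rw [← mul_assoc, hji]; simp [mul_assoc, pow_succ']
  have e3' : j * i = i * (i * (i * j)) := by rw [hji]; simp [mul_assoc, pow_succ']
  have e5 : i * (i * (i * i)) = 1 := by simpa [mul_assoc, pow_succ'] using hi
  have hii : i⁻¹ = i * (i * i) := inv_eq_of_mul_eq_one_right (by simp [mul_assoc, e5])
  have hjj : j⁻¹ = i * (i * j) := inv_eq_of_mul_eq_one_right (by simp [mul_assoc, e1, e2, e3, e3', hj, e5])
  let K : Subgroup G :=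
    { carrier := {g | ∀ y ∈ Q, g * y * g⁻¹ = y ∨ g * y * g⁻¹ = y⁻¹}
      one_mem' := fun y _ => Or.inl (by simp)
      mul_mem' := by
        intro g h hg hh y hy
        rw [show g * h * y * (g * h)⁻¹ = g * (h * y * h⁻¹) * g⁻¹ by simp [mul_assoc]]
        rcases hh y hy with e | e <;> rw [e]
        · exact hg y hy
        · rw [← conj_inv]
          rcases hg y hy with e' | e' <;> simp [e']
      inv_mem' := by
        intro g hg y hy
        have hw : g⁻¹ * y * g ∈ Q := by simpa using hQn.conj_mem y hy g⁻¹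
        have hgw : g * (g⁻¹ * y * g) * g⁻¹ = y := by simp [mul_assoc]
        rw [inv_inv]
        rcases hg _ hw with e | e <;> rw [hgw] at e
        · exact Or.inl e.symm
        · exact Or.inr (inv_inj.mp (by rw [inv_inv]; exact e.symm)) }
  have hKn : K.Normal := ⟨fun g hg h y hy => by
    have hw : h⁻¹ * y * h ∈ Q := by simpa using hQn.conj_mem y hy h⁻¹
    rcases hg _ hw with e | e
    · refine Or.inl ?_
      calc h * g * h⁻¹ * y * (h * g * h⁻¹)⁻¹ = h * (g * (h⁻¹ * y * h) * g⁻¹) * h⁻¹ := by simp [mul_assoc]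
        _ = y := by rw [e]; simp [mul_assoc]
    · refine Or.inr ?_
      calc h * g * h⁻¹ * y * (h * g * h⁻¹)⁻¹ = h * (g * (h⁻¹ * y * h) * g⁻¹) * h⁻¹ := by simp [mul_assoc]
        _ = y⁻¹ := by rw [e]; simp [mul_assoc]⟩
  have hKQ : K ≤ Q := by
    refine hQmax K hKn fun ⟨g, hg⟩ => ?_
    have hgg : g * g ∈ Subgroup.centralizer (Q : Set G) := by
      intro y hy
      suffices g * g * y * (g * g)⁻¹ = y from (mul_inv_eq_iff_eq_mul.mp this).symm
      rw [show g * g * y * (g * g)⁻¹ = g * (g * y * g⁻¹) * g⁻¹ by simp [mul_assoc]]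
      rcases hg y hy with e | e <;> rw [e]
      · exact e
      · rw [← conj_inv, e, inv_inv]
    obtain ⟨l, hl⟩ := hQ2 ⟨g * g, hcent hgg⟩
    refine ⟨l + 1, Subtype.ext ?_⟩
    have := congrArg Subtype.val hl
    simp only [SubgroupClass.coe_pow, Subgroup.coe_one] at this ⊢
    rw [pow_succ', pow_mul, pow_two, this]
  set U := Subgroup.zpowers x ⊔ Q with hU
  have hxo : orderOf x = 3 := orderOf_eq_prime hx hx1
  have hxU : ∀ e : ℕ, x ^ e ∈ U := fun e =>
    U.pow_mem ((le_sup_left : _ ≤ U) (Subgroup.mem_zpowers x)) e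
  have hxk : x * (i * j) = i * x := by
    rw [← mul_assoc, hxi, mul_assoc, hxj]; simp [mul_assoc, e1, e2, e3, e3', hj, e5]
  have hx2i : x * x * i * (x * x)⁻¹ = i * j := by
    rw [mul_inv_eq_iff_eq_mul, mul_assoc x x, hxi, ← mul_assoc, hxj]; simp [mul_assoc]
  have hxi' : x * i * x⁻¹ = j := mul_inv_eq_iff_eq_mul.mpr hxi
  -- elements of order three lie in `U`
  have hkey : ∀ y : G, y ^ 3 = 1 → y ∈ U := by
    intro y hy
    have hyodd : Odd (orderOf y) := Odd.of_dvd_nat (by decide : Odd 3) (orderOf_dvd_of_pow_eq_one hy)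
    have hodd : ∀ g : G, Odd (orderOf (g⁻¹ * y * g)) := fun g =>
      Odd.of_dvd_nat (by decide : Odd 3) (orderOf_dvd_of_pow_eq_one (by
        have := conj_pow (i := 3) (a := g⁻¹) (b := y)
        rw [inv_inv] at this
        rw [this, hy]; simp))
    -- `v = x ^ (-e) * y` normalises the group generated by `i`
    have hstep : ∀ (v : G), (v * i * v⁻¹ = i ∨ v * i * v⁻¹ = i⁻¹) → ∀ e, e < 3 → y = x ^ e * v → y ∈ U := by
      intro v hv e he hye
      have hvi : ∀ m, ∃ l : ℕ, v * i ^ m * v⁻¹ = i ^ l := fun m => by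
        rw [← conj_pow]
        rcases hv with hv | hv
        · exact ⟨m, by rw [hv]⟩
        · exact ⟨3 * m, by rw [hv, hii, pow_mul]; simp [pow_succ', mul_assoc]⟩
      obtain ⟨m, hm, hvj | hvj⟩ := hform _ (hQn.conj_mem j hjQ v)
      · exfalso
        -- `v` normalises the cyclic group, so cannot move `j` into it
        apply hi2
        have hcm : (v * j * v⁻¹) * (v * i * v⁻¹) = (v * i * v⁻¹) * (v * j * v⁻¹) := by
          obtain ⟨l, hl⟩ := hvi 1
          rw [pow_one] at hl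
          rw [hvj, hl, ← pow_add, ← pow_add, add_comm]
        have h0 : j * i = i * j := by
          apply mul_left_cancel (a := v); apply mul_right_cancel (b := v⁻¹)
          simpa [mul_assoc] using hcm
        rw [hji, pow_succ'] at h0
        have h1 := mul_left_cancel ((mul_assoc i (i ^ 2) j).symm.trans h0)
        rw [mul_eq_right, pow_two] at h1
        exact h1
      · have hcase : (v * j * v⁻¹ = j ∨ v * j * v⁻¹ = j⁻¹) ∨
            (v * j * v⁻¹ = i * j ∨ v * j * v⁻¹ = i ^ 3 * j) := by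
          interval_cases m
          · exact Or.inl (Or.inl (by rw [hvj]; simp))
          · exact Or.inr (Or.inl (by rw [hvj]; simp))
          · exact Or.inl (Or.inr (by rw [hvj, hjj]; simp [pow_succ', mul_assoc]))
          · exact Or.inr (Or.inr hvj)
        rcases hcase with hvj' | hvj'
        · have hvK : v ∈ K := by
            intro u hu
            obtain ⟨l, hl, rfl | rfl⟩ := hform u hu
            · rw [← conj_pow]
              rcases hv with hv | hv <;> rw [hv]
              · exact Or.inl rfl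
              · exact Or.inr (inv_pow i l)
            · rw [show v * (i ^ l * j) * v⁻¹ = (v * i ^ l * v⁻¹) * (v * j * v⁻¹) by simp [mul_assoc],
                ← conj_pow]
              rcases hv with hv | hv <;> rcases hvj' with hvj' | hvj' <;> rw [hv, hvj'] <;>
                interval_cases l <;> simp [mul_assoc, pow_succ', mul_inv_rev, hii, hjj, e1, e2, e3, e3', hj, e5]
          rw [hye]
          exact U.mul_mem (hxU e) ((le_sup_right : Q ≤ U) (hKQ hvK))
        · -- a transposition times a power of `x` has no order three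
          exfalso
          have hvk : v * (i * j) * v⁻¹ = j ∨ v * (i * j) * v⁻¹ = j⁻¹ := by
            rw [show v * (i * j) * v⁻¹ = (v * i * v⁻¹) * (v * j * v⁻¹) by simp [mul_assoc]]
            rcases hv with hv | hv <;> rcases hvj' with hvj' | hvj' <;> rw [hv, hvj'] <;>
              simp [mul_assoc, pow_succ', hii, hjj, e1, e2, e3, e3', hj, e5]
          have hnot : ¬ (v * j * v⁻¹ = j ∨ v * j * v⁻¹ = j⁻¹) := by
            have hne : ∀ l : ℕ, (l = 1 ∨ l = 3) → i ^ l ≠ 1 ∧ i ^ l ≠ i * i := by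
              rintro l (rfl | rfl)
              · exact ⟨fun h => hi2 (by rw [pow_one] at h; rw [h, mul_one]),
                  fun h => hi2 (by rw [pow_one, left_eq_mul] at h; rw [h, mul_one])⟩
              · refine ⟨fun h => hi2 ?_, fun h => hi2 ?_⟩
                · have h' : i * (i * i) = 1 := by simpa [pow_succ', mul_assoc] using h
                  have hi1 : i = 1 := by simpa [h'] using e5
                  rw [hi1, mul_one]
                · have h' : i * (i * i) = i * i := by simpa [pow_succ', mul_assoc] using h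
                  have hi1 : i = 1 := mul_eq_right.mp h'
                  rw [hi1, mul_one]
            rintro (h | h) <;> rcases hvj' with h' | h' <;> rw [h] at h'
            · exact (hne 1 (Or.inl rfl)).1 (by rw [pow_one]; exact (right_eq_mul.mp h'))
            · exact (hne 3 (Or.inr rfl)).1 (right_eq_mul.mp h')
            · exact (hne 1 (Or.inl rfl)).2 (by
                rw [hjj, ← mul_assoc] at h'; rw [pow_one]; exact (mul_right_cancel h').symm)
            · exact (hne 3 (Or.inr rfl)).2 (by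
                rw [hjj, ← mul_assoc] at h'; exact (mul_right_cancel h').symm)
          interval_cases e
          · obtain ⟨l, hl⟩ := hvi 1
            have hy1 : y = 1 := hfree y hyodd ⟨l, by rw [hye]; simpa using hl⟩
            apply hnot
            rw [show v = 1 by simpa [hye] using hy1]
            simp
          · have hfix : ∃ l : ℕ, ((x * x)⁻¹ * y * (x * x)) * i * ((x * x)⁻¹ * y * (x * x))⁻¹ = i ^ l := by
              have hval : ((x * x)⁻¹ * y * (x * x)) * i * ((x * x)⁻¹ * y * (x * x))⁻¹ =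
                  (x * x)⁻¹ * (x * (v * (i * j) * v⁻¹) * x⁻¹) * (x * x) := by
                rw [← hx2i, hye]; simp [mul_assoc]
              rcases hvk with h | h
              · exact ⟨1, by rw [hval, h, ← hxi', pow_one]; simp [mul_assoc]⟩
              · exact ⟨3, by rw [hval, h, ← hxi', show i ^ 3 = i⁻¹ by rw [hii]; simp [pow_succ']]; simp [mul_assoc]⟩
            have h1 := hfree _ (hodd (x * x)) hfix
            have hy1 : y = 1 := by
              have := conj_eq_one_iff.mp (show (x * x)⁻¹ * y * ((x * x)⁻¹)⁻¹ = 1 by rw [inv_inv]; exact h1)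
              exact this
            have hvx : v = x⁻¹ := by
              rw [hy1, pow_one] at hye; exact eq_inv_of_mul_eq_one_right hye.symm
            obtain ⟨l, hl⟩ := hvi 1
            refine hx1 (inv_eq_one.mp (hfree x⁻¹ ?_ ⟨l, by rw [← hvx]; simpa using hl⟩))
            rw [orderOf_inv, hxo]; decide
          · have hfix : ∃ l : ℕ, (x⁻¹ * y * x) * i * (x⁻¹ * y * x)⁻¹ = i ^ l := by
              have hval : (x⁻¹ * y * x) * i * (x⁻¹ * y * x)⁻¹ = x * (v * j * v⁻¹) * x⁻¹ := by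
                rw [hye, ← hxi']; simp [mul_assoc, pow_succ']
              rcases hvj' with h | h
              · exact ⟨1, by rw [hval, h, pow_one, mul_inv_eq_iff_eq_mul, hxk]⟩
              · refine ⟨3, ?_⟩
                rw [hval, h, show i ^ 3 * j = (i * j)⁻¹ by
                  rw [mul_inv_rev, hii, hjj]; simp [pow_succ', mul_assoc, e1, e2, e3, e3', hj, e5],
                  ← conj_inv, mul_inv_eq_iff_eq_mul.mpr hxk, hii]
                simp [pow_succ', mul_assoc]
            have h1 := hfree _ (hodd x) hfix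
            have hy1 : y = 1 := by
              have := conj_eq_one_iff.mp (show x⁻¹ * y * (x⁻¹)⁻¹ = 1 by rw [inv_inv]; exact h1)
              exact this
            have hvx : v = x := by
              rw [hy1] at hye
              exact mul_left_cancel (a := x ^ 2) (by rw [← hye, ← pow_succ, hx])
            obtain ⟨l, hl⟩ := hvi 1
            exact hx1 (hfree x (by rw [hxo]; decide) ⟨l, by rw [← hvx]; simpa using hl⟩)
    -- where does `y` send `i`?
    obtain ⟨m, hm, hyi | hyi⟩ := hform _ (hQn.conj_mem i hiQ y)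
    · have hy1 : y = 1 := hfree y hyodd ⟨m, hyi⟩
      rw [hy1]; exact U.one_mem
    · have hne : ∀ e, y * i * y⁻¹ = x ^ e * i * (x ^ e)⁻¹ ∨ y * i * y⁻¹ = x ^ e * i⁻¹ * (x ^ e)⁻¹ →
          e < 3 → y ∈ U := by
        intro e he he3
        refine hstep ((x ^ e)⁻¹ * y) ?_ e he3 (by simp)
        rcases he with he | he
        · left
          calc (x ^ e)⁻¹ * y * i * ((x ^ e)⁻¹ * y)⁻¹ = (x ^ e)⁻¹ * (y * i * y⁻¹) * x ^ e := by simp [mul_assoc]
            _ = i := by rw [he]; simp [mul_assoc]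
        · right
          calc (x ^ e)⁻¹ * y * i * ((x ^ e)⁻¹ * y)⁻¹ = (x ^ e)⁻¹ * (y * i * y⁻¹) * x ^ e := by simp [mul_assoc]
            _ = i⁻¹ := by rw [he]; simp [mul_assoc]
      interval_cases m
      · exact hne 1 (Or.inl (by rw [hyi, pow_one, hxi']; simp)) (by norm_num)
      · exact hne 2 (Or.inl (by rw [hyi, pow_two x, hx2i]; simp)) (by norm_num)
      · exact hne 1 (Or.inr (by
          rw [hyi, pow_one x, ← conj_inv, hxi', hjj]; simp [pow_succ', mul_assoc])) (by norm_num)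
      · exact hne 2 (Or.inr (by
          rw [hyi, pow_two x, ← conj_inv, hx2i, mul_inv_rev, hii, hjj]
          simp [pow_succ', mul_assoc, e1, e2, e3, e3', hj, e5])) (by norm_num)
  have hUn : U.Normal := by
    refine ⟨fun u hu g => ?_⟩
    have hle : U ≤ U.comap (MulAut.conj g).toMonoidHom := by
      refine sup_le (Subgroup.zpowers_le.mpr (hkey _ (by rw [← map_pow, hx, map_one]))) ?_
      exact fun q hq => (le_sup_right : Q ≤ U) (hQn.conj_mem q hq g)
    exact hle hu
  refine ⟨U, hUn, ?_⟩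
  have hQcard : Nat.card Q ≤ 8 := by
    let f : Fin 4 × Fin 2 → Q := fun v => ⟨i ^ (v.1 : ℕ) * j ^ (v.2 : ℕ), Q.mul_mem (Q.pow_mem hiQ _) (Q.pow_mem hjQ _)⟩
    refine (Nat.card_le_card_of_surjective f fun y => ?_).trans (by simp)
    obtain ⟨m, hm, h | h⟩ := hform y y.2
    · exact ⟨(⟨m, hm⟩, 0), Subtype.ext (by simp [f, h])⟩
    · exact ⟨(⟨m, hm⟩, 1), Subtype.ext (by simp [f, h])⟩
  have hUcard : Nat.card U ≤ 24 := by
    refine (Nat.le_of_dvd (Nat.mul_pos Nat.card_pos Nat.card_pos)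
      (CfsgLib.PLength.card_sup_dvd_mul (Subgroup.zpowers x) Q)).trans ?_
    rw [Nat.card_zpowers, hxo]; omega
  exact CfsgLib.SL2Three.nonempty_mulEquiv hUcard
    (i := ⟨i, (le_sup_right : Q ≤ U) hiQ⟩) (j := ⟨j, (le_sup_right : Q ≤ U) hjQ⟩)
    (x := ⟨x, (le_sup_left : _ ≤ U) (Subgroup.mem_zpowers x)⟩)
    (Subtype.ext hi) (fun h => hi2 (congrArg Subtype.val h)) (Subtype.ext hj) (Subtype.ext hji)
    (Subtype.ext hx) (Subtype.ext hxi) (Subtype.ext hxj)

/-- Let G be a finite solvable group with O(G) = 1 whose Sylow 2-subgroup T is dihedral of order at least 8 or semidihedral, with G ≠ T and Z(T) normal in G. Then G has a normal subgroup isomorphic to SL₂(3). -/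
theorem result {G : Type*} [Group G] [Finite G] (hsol : IsSolvable G) (hO : Cfsg.oddCore G = ⊥) (T : Sylow 2 G) (hT : (∃ n : ℕ, 4 ≤ n ∧ Nonempty (↥(T : Subgroup G) ≃* DihedralGroup n)) ∨ Cfsg.IsQuasiDihedral ↥(T : Subgroup G)) (hne : (T : Subgroup G) ≠ ⊤) (hZ : ((T : Subgroup G) ⊓ Subgroup.centralizer ((T : Subgroup G) : Set G)).Normal) : ∃ U : Subgroup G, U.Normal ∧ Nonempty (↥U ≃* Matrix.SpecialLinearGroup (Fin 2) (ZMod 3)) := by
  classical
  haveI : Fact (Nat.Prime 2) := ⟨Nat.prime_two⟩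
  haveI : Group.IsSolvable G := hsol
  set Q := Cfsg.pCore 2 G with hQdef
  haveI : Q.Normal := CfsgLib.SolvableCore.pCore_normal' 2 G
  have hQ2 : IsPGroup 2 Q := CfsgLib.Constrained.isPGroup_pCore
  have hcent : Subgroup.centralizer (Q : Set G) ≤ Q := CfsgLib.SolvableCore.centralizer_pCore_le hO
  have hQmax : ∀ K : Subgroup G, K.Normal → IsPGroup 2 K → K ≤ Q := fun K h1 h2 => le_sSup ⟨h1, h2⟩
  have hQT : Q ≤ (T : Subgroup G) :=
    le_sup_left.trans (T.3 (hQ2.to_sup_of_normal_left T.2) le_sup_right).le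
  obtain ⟨c, hc4, hidx, hinv⟩ := exists_cyclic_part T.2 hT
  have hmem : ∀ y : (T : Subgroup G), (y : G) ∈ Subgroup.zpowers (c : G) ↔ y ∈ Subgroup.zpowers c := by
    intro y
    constructor
    · rintro ⟨m, hm⟩; exact ⟨m, Subtype.ext (by simpa using hm)⟩
    · rintro ⟨m, hm⟩; exact ⟨m, by rw [← hm]; simp⟩
  have hcT : Subgroup.zpowers (c : G) ≤ (T : Subgroup G) := Subgroup.zpowers_le.mpr c.2
  have hT2 : ∀ y ∈ (T : Subgroup G), ∀ y' ∈ (T : Subgroup G), y ∉ Subgroup.zpowers (c : G) →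
      y' ∉ Subgroup.zpowers (c : G) → y * y' ∈ Subgroup.zpowers (c : G) := by
    intro y hy y' hy' h h'
    refine (hmem ⟨_, (T : Subgroup G).mul_mem hy hy'⟩).mpr ?_
    rw [show (⟨y * y', (T : Subgroup G).mul_mem hy hy'⟩ : (T : Subgroup G)) = ⟨y, hy⟩ * ⟨y', hy'⟩ from rfl,
      Subgroup.mul_mem_iff_of_index_two hidx]
    exact ⟨fun hh => absurd ((hmem ⟨y, hy⟩).mpr hh) h, fun hh => absurd ((hmem ⟨y', hy'⟩).mpr hh) h'⟩
  have hinvG : ∀ y ∈ (T : Subgroup G), y ∉ Subgroup.zpowers (c : G) → ∀ d ∈ Subgroup.zpowers (c : G),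
      y * d = d * y → d * d = 1 := fun y hy h d hd hyd =>
    congrArg Subtype.val (hinv ⟨y, hy⟩ (fun hh => h ((hmem ⟨y, hy⟩).mpr hh)) ⟨d, hcT hd⟩
      ((hmem ⟨d, hcT hd⟩).mp hd) (Subtype.ext hyd))
  have hord : orderOf (c : G) = orderOf c := Subgroup.orderOf_coe c
  obtain ⟨l, hl⟩ := IsPGroup.iff_orderOf.mp T.2 c
  have hl0 : l ≠ 0 := fun h => by rw [h] at hl; omega
  set z := (c : G) ^ (2 ^ (l - 1)) with hzdef
  have hl' : 2 ^ (l - 1) * 2 = 2 ^ l := by rw [← pow_succ]; congr 1; omega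
  have hz : z ≠ 1 := by
    intro h
    have := Nat.le_of_dvd (Nat.two_pow_pos _) (orderOf_dvd_of_pow_eq_one h)
    rw [hord, hl] at this
    have := Nat.two_pow_pos (l - 1)
    omega
  have hz2 : z * z = 1 := by
    rw [hzdef, ← pow_add, ← mul_two, hl', ← hl, ← hord, pow_orderOf_eq_one]
  have hzC : z ∈ Subgroup.zpowers (c : G) := Subgroup.pow_mem _ (Subgroup.mem_zpowers _) _
  have hzu : ∀ d ∈ Subgroup.zpowers (c : G), d * d = 1 → d = 1 ∨ d = z := by
    intro d hd hdd
    obtain ⟨m, rfl⟩ := Submonoid.mem_powers_iff _ _ |>.mp (mem_powers_iff_mem_zpowers.mpr hd)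
    rw [← pow_add, ← two_mul] at hdd
    have h1 := orderOf_dvd_of_pow_eq_one hdd
    rw [hord, hl, ← hl', mul_comm _ 2] at h1
    obtain ⟨t, rfl⟩ := Nat.dvd_of_mul_dvd_mul_left two_pos h1
    rw [pow_mul, ← hzdef]
    rcases Nat.even_or_odd t with ⟨u, rfl⟩ | ⟨u, rfl⟩
    · left; rw [← two_mul, pow_mul, pow_two, hz2, one_pow]
    · right; rw [pow_succ, pow_mul, pow_two, hz2, one_pow, one_mul]
  set Z := (T : Subgroup G) ⊓ Subgroup.centralizer ((T : Subgroup G) : Set G)
  have hZsub : ∀ w ∈ Z, w = 1 ∨ w = z := by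
    rintro w ⟨hwT, hwc⟩
    by_cases hw : w ∈ Subgroup.zpowers (c : G)
    · obtain ⟨y, hy, hyC⟩ : ∃ y ∈ (T : Subgroup G), y ∉ Subgroup.zpowers (c : G) := by
        by_contra hall
        push_neg at hall
        have htop : Subgroup.zpowers c = ⊤ := eq_top_iff.mpr fun y _ => (hmem y).mp (hall y y.2)
        rw [htop, Subgroup.index_top] at hidx
        omega
      exact hzu w hw (hinvG y hy hyC w hw (hwc y hy))
    · exfalso
      have h1 := hinvG w hwT hw c (Subgroup.mem_zpowers _) (hwc c c.2).symm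
      rw [← pow_two] at h1
      have := Nat.le_of_dvd two_pos (orderOf_dvd_of_pow_eq_one h1)
      rw [hord] at this
      omega
  have hzZ : z ∈ Z := by
    haveI : Nontrivial (T : Subgroup G) := ⟨⟨c, 1, fun h => by rw [h, orderOf_one] at hc4; omega⟩⟩
    haveI := T.2.center_nontrivial
    obtain ⟨⟨w, hw⟩, hw1⟩ := exists_ne (1 : Subgroup.center (T : Subgroup G))
    have hwZ : (w : G) ∈ Z := ⟨w.2, fun y hy =>
      congrArg Subtype.val (Subgroup.mem_center_iff.mp hw ⟨y, hy⟩)⟩
    rcases hZsub _ hwZ with h | h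
    · exact absurd (Subtype.ext (Subtype.ext h)) hw1
    · exact h ▸ hwZ
  have hzcen : ∀ g : G, g * z * g⁻¹ = z := fun g => by
    rcases hZsub _ (hZ.conj_mem z hzZ g) with h | h
    · exact absurd (conj_eq_one_iff.mp h) hz
    · exact h
  have hzQ : z ∈ Q := hQmax Z hZ (T.2.to_le inf_le_left) hzZ
  obtain ⟨x, hx1, hxodd⟩ : ∃ x : G, x ≠ 1 ∧ Odd (orderOf x) := by
    have hnot : ¬ IsPGroup 2 G := fun h => hne (by
      have := T.3 (h.to_subgroup ⊤) le_top
      exact this.symm)
    rw [IsPGroup.iff_orderOf] at hnot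
    push_neg at hnot
    obtain ⟨g, hg⟩ := hnot
    obtain ⟨q, hq, hqd, hq2⟩ : ∃ q, q.Prime ∧ q ∣ orderOf g ∧ q ≠ 2 := by
      by_contra hall
      push_neg at hall
      exact hg _ (Nat.eq_prime_pow_of_unique_prime_dvd (orderOf_pos g).ne' fun {d} hd hdd => hall d hd hdd)
    refine ⟨g ^ (orderOf g / q), fun h => ?_, ?_⟩
    · have := orderOf_pow_orderOf_div (orderOf_pos g).ne' hqd
      rw [h, orderOf_one] at this
      exact hq.ne_one this.symm
    · rw [orderOf_pow_orderOf_div (orderOf_pos g).ne' hqd]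
      exact hq.odd_of_ne_two hq2
  obtain ⟨i, j, x, hiQ, hjQ, hi, hi2, hj, hji, hx, hxi, hxj, hx1, hform, hfree⟩ :=
    exists_generators Q (T : Subgroup G) (c : G) x hQ2 hQT hcent c.2 hT2 hinvG z hzC hz hz2 hzQ hzcen hzu hxodd hx1
  exact exists_normal Q i j x hQmax hQ2 hcent hiQ hjQ hi hi2 hj hji hx hxi hxj hx1 hform hfree

end Cfsg.Agent.S2879
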