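import Cfsg.Statements.S2880
import Cfsg.Agent.Eq.Def_Transfer
import Cfsg.Agent.PGroup.Frattini

set_option autoImplicit false
open Cfsg

open scoped commutatorElement

namespace Cfsg.Agent.S2880

theorem mul_sq_eq {E : Type*} [Group E] {x a : E} (ha : a * a = 1)
    (hc : ∀ g : E, g * ⁅x, a⁆ = ⁅x, a⁆ * g) : (x * a) * (x * a) = ⁅x, a⁆⁻¹ * (x * x) := by
  have h1 : a * x = ⁅x, a⁆⁻¹ * x * a := by simp [commutatorElement_def, mul_assoc]
  have h2 : x * ⁅x, a⁆⁻¹ = ⁅x, a⁆⁻¹ * x := ((show Commute x ⁅x, a⁆ from hc x).inv_right).eq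
  calc (x * a) * (x * a) = x * (a * x) * a := by simp [mul_assoc]
    _ = x * (⁅x, a⁆⁻¹ * x * a) * a := by rw [h1]
    _ = (x * ⁅x, a⁆⁻¹) * x * (a * a) := by simp [mul_assoc]
    _ = ⁅x, a⁆⁻¹ * (x * x) := by rw [h2, ha, mul_one]; simp [mul_assoc]

/-- In a finite 2-group `E` with a centre `⟨z⟩` of order 2 containing squares and commutators, an elementary
abelian subgroup of order `2 ^ (m + 1)`, `|E| = 2 ^ (2m+1)`, is self-centralizing. -/
theorem le_of_centralizes {E : Type*} [Group E] [Finite E] (m : ℕ)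
    (hcard : Nat.card E = 2 ^ (2 * m + 1)) (hZ : Nat.card (Subgroup.center E) = 2)
    (hcomm : ∀ x y : E, ⁅x, y⁆ ∈ Subgroup.center E) (hsq : ∀ x : E, x ^ 2 ∈ Subgroup.center E)
    (A : Subgroup E) (hA : IsMulCommutative A) (hAcard : Nat.card A = 2 ^ (m + 1)) :
    Subgroup.centralizer (A : Set E) ≤ A := by
  set C := Subgroup.centralizer (A : Set E) with hC
  have hAC : A ≤ C := fun a ha => Subgroup.mem_centralizer_iff.mpr fun b hb =>
    congrArg Subtype.val (hA.is_comm.comm (⟨b, hb⟩ : A) ⟨a, ha⟩)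
  have hp : IsPGroup 2 E := IsPGroup.of_card hcard
  have hCn : C.Normal := by
    refine ⟨fun c hc g => ?_⟩
    have h : g * c * g⁻¹ = ⁅g, c⁆ * c := by simp [commutatorElement_def, mul_assoc]
    rw [h]
    exact mul_mem (Subgroup.center_le_centralizer _ (hcomm g c)) hc
  obtain ⟨k, hk⟩ := IsPGroup.iff_card.mp (hp.to_quotient C)
  obtain ⟨e, he⟩ := CfsgLib.PGroup.exists_fin_gen hk
  choose g hg using fun i => QuotientGroup.mk_surjective (e i)
  let Ψ : A →* (Fin k → Subgroup.center E) :=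
    MonoidHom.mk' (fun a i => ⟨⁅g i, (a : E)⁆, hcomm _ _⟩) (fun a b => funext fun i => Subtype.ext (by
      show ⁅g i, (a : E) * b⁆ = ⁅g i, (a : E)⁆ * ⁅g i, (b : E)⁆
      have h := Subgroup.mem_center_iff.mp (hcomm (g i) b) a
      calc ⁅g i, (a : E) * b⁆ = ⁅g i, (a : E)⁆ * ((a : E) * ⁅g i, (b : E)⁆ * (a : E)⁻¹) := by
            simp [commutatorElement_def, mul_assoc]
        _ = _ := by rw [h, mul_inv_cancel_right]))
  have hker : Nat.card Ψ.ker ≤ 2 := by
    rw [← hZ]
    refine Nat.card_le_card_of_injective (fun a => (⟨((a : A) : E), ?_⟩ : Subgroup.center E)) ?_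
    · have hgc : ∀ i, g i * ((a : A) : E) = ((a : A) : E) * g i := fun i =>
        commutatorElement_eq_one_iff_mul_comm.mp (congrArg Subtype.val (congrFun a.2 i))
      rw [Subgroup.mem_center_iff]
      intro x
      have hx : (QuotientGroup.mk x : E ⧸ C) ∈ Subgroup.closure (Set.range e) := he ▸ Subgroup.mem_top _
      have hle : Subgroup.closure (Set.range e) ≤
          (Subgroup.centralizer ({((a : A) : E)} : Set E)).map (QuotientGroup.mk' C) := by
        rw [Subgroup.closure_le]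
        rintro _ ⟨i, rfl⟩
        exact ⟨g i, Subgroup.mem_centralizer_singleton_iff.mpr (hgc i), hg i⟩
      obtain ⟨y, hy, hyx⟩ := hle hx
      have hyc : y⁻¹ * x ∈ C := QuotientGroup.eq.mp hyx
      have h1 : y * ((a : A) : E) = ((a : A) : E) * y := Subgroup.mem_centralizer_singleton_iff.mp hy
      have h2 := Subgroup.mem_centralizer_iff.mp hyc _ (a : A).2
      calc x * ((a : A) : E) = y * (y⁻¹ * x * ((a : A) : E)) := by simp [mul_assoc]
        _ = y * ((a : A) : E) * (y⁻¹ * x) := by rw [← h2]; simp [mul_assoc]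
        _ = ((a : A) : E) * x := by rw [h1]; simp [mul_assoc]
    · intro a b h
      have h0 := congrArg (fun z : Subgroup.center E => (z : E)) h
      exact Subtype.ext (Subtype.ext h0)
  have hrange : Nat.card Ψ.range ≤ 2 ^ k := by
    refine (Subgroup.card_le_card_group _).trans ?_
    rw [Nat.card_fun, hZ, Nat.card_eq_fintype_card, Fintype.card_fin]
  have h1 : 2 ^ (m + 1) ≤ 2 * 2 ^ k := by
    rw [← hAcard, ← Ψ.ker.card_mul_index, Subgroup.index_ker]
    exact Nat.mul_le_mul hker hrange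
  have h2 : Nat.card C * 2 ^ k = 2 ^ (m + 1) * 2 ^ m := by
    rw [← hk, ← Subgroup.index_eq_card, C.card_mul_index, hcard, ← pow_add]
    congr 1; omega
  refine (Subgroup.eq_of_le_of_card_ge hAC ?_).ge
  rw [hAcard]
  have h3 : 2 ^ m ≤ 2 ^ k := by rw [pow_succ] at h1; omega
  exact Nat.le_of_mul_le_mul_right (h2.le.trans (Nat.mul_le_mul_left _ h3)) (Nat.two_pow_pos k)

/-- Let E be an extraspecial 2-group of order 2^(2m+1) of plus type, that is, containing an elementary abelian subgroup of order 2^(m+1) (equivalently, a central product of m dihedral groups of order 8). Then E has exactly 2^(2m) − 2^m elements of order 4. -/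
theorem result {E : Type*} [Group E] [Finite E] (m : ℕ) (hm : 1 ≤ m) (hE : Cfsg.IsExtraspecial 2 E) (hcard : Nat.card E = 2 ^ (2 * m + 1)) (hplus : ∃ A : Subgroup E, Cfsg.IsElementaryAbelian 2 A ∧ Nat.card A = 2 ^ (m + 1)) : Nat.card {x : E // orderOf x = 4} = 2 ^ (2 * m) - 2 ^ m := by
  obtain ⟨⟨hp, hfr, hco⟩, hZ⟩ := hE
  obtain ⟨A, ⟨hA, hA2⟩, hAcard⟩ := hplus
  have hcomm : ∀ x y : E, ⁅x, y⁆ ∈ Subgroup.center E := fun x y => hco ▸
    Subgroup.commutator_mem_commutator (Subgroup.mem_top x) (Subgroup.mem_top y)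
  have hsq : ∀ x : E, x ^ 2 ∈ Subgroup.center E := fun x =>
    hfr ▸ CfsgLib.PGroup.pow_prime_mem_frattini hp x
  have hCA := le_of_centralizes m hcard hZ hcomm hsq A hA hAcard
  have hAn : A.Normal := by
    refine ⟨fun a ha g => ?_⟩
    have h : g * a * g⁻¹ = ⁅g, a⁆ * a := by simp [commutatorElement_def, mul_assoc]
    rw [h]
    exact mul_mem (hCA (Subgroup.center_le_centralizer _ (hcomm g a))) ha
  -- the centre has a unique involution
  obtain ⟨z, hz⟩ := exists_prime_orderOf_dvd_card' (G := Subgroup.center E) 2 (by rw [hZ])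
  have hz1 : z ≠ 1 := fun h => by rw [h, orderOf_one] at hz; omega
  have hcase : ∀ c ∈ Subgroup.center E, c ≠ 1 → c = (z : E) := by
    intro c hc hc1
    have h2 : (Nat.card (Subgroup.center E)).Prime := by rw [hZ]; exact Nat.prime_two
    by_contra hne
    have : ({1, z, ⟨c, hc⟩} : Set (Subgroup.center E)).ncard ≤ 2 := by
      rw [← hZ, ← Set.ncard_univ]; exact Set.ncard_le_ncard (Set.subset_univ _)
    rw [Set.ncard_insert_of_notMem, Set.ncard_pair] at this
    · omega
    · exact fun h => hne (congrArg Subtype.val h).symm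
    · simp only [Set.mem_insert_iff, Set.mem_singleton_iff]
      rintro (h | h)
      · exact hz1 h.symm
      · exact hc1 (congrArg Subtype.val h).symm
  have hz2 : (z : E) * z = 1 := by
    have := pow_orderOf_eq_one z
    rw [hz, pow_two] at this
    exact congrArg Subtype.val this
  -- translation by an element of `A` flipping the square
  have hexists : ∀ q : E ⧸ A, q ≠ 1 → ∃ a ∈ A, ∀ x : E, (x : E ⧸ A) = q → (x * a) * (x * a) = (z : E) * (x * x) := by
    intro q hq
    obtain ⟨y, rfl⟩ := QuotientGroup.mk_surjective q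
    obtain ⟨a, ha, hne⟩ : ∃ a ∈ A, y * a ≠ a * y := by
      by_contra h
      push Not at h
      exact hq ((QuotientGroup.eq_one_iff y).mpr (hCA (Subgroup.mem_centralizer_iff.mpr fun a ha => (h a ha).symm)))
    refine ⟨a, ha, fun x hx => ?_⟩
    have hxne : ⁅x, a⁆ ≠ 1 := by
      intro h
      apply hne
      have h1 := commutatorElement_eq_one_iff_mul_comm.mp h
      have hb : x⁻¹ * y ∈ A := QuotientGroup.eq.mp hx
      have h2 : x⁻¹ * y * a = a * (x⁻¹ * y) :=
        congrArg Subtype.val (hA.is_comm.comm (⟨_, hb⟩ : A) ⟨a, ha⟩)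
      calc y * a = x * (x⁻¹ * y * a) := by simp [mul_assoc]
        _ = (x * a) * (x⁻¹ * y) := by rw [h2]; simp [mul_assoc]
        _ = a * y := by rw [h1]; simp [mul_assoc]
    rw [mul_sq_eq (by rw [← pow_two]; exact hA2 a ha) (fun g => Subgroup.mem_center_iff.mp (hcomm x a) g),
      hcase _ (hcomm x a) hxne, inv_eq_of_mul_eq_one_right hz2]
  choose f hfA hf using hexists
  -- the two classes outside `A`
  have hsqx : ∀ x : E, x * x = 1 ∨ x * x = (z : E) := fun x => by
    by_cases h : x * x = 1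
    · exact Or.inl h
    · exact Or.inr (hcase _ (pow_two x ▸ hsq x) h)
  have hq : ∀ {x : E}, x ∉ A → (x : E ⧸ A) ≠ 1 := fun {x} hx h => hx ((QuotientGroup.eq_one_iff x).mp h)
  set S := {x : E | x ∉ A ∧ x * x ≠ 1} with hS
  set T := {x : E | x ∉ A ∧ x * x = 1} with hT
  have hST : S.ncard = T.ncard := by
    refine Set.ncard_congr (fun x hx => x * f x (hq hx.1)) ?_ ?_ ?_
    · intro x hx
      refine ⟨fun h => hx.1 ((Subgroup.mul_mem_cancel_right A (hfA _ _)).mp h), ?_⟩
      show (x * f x (hq hx.1)) * (x * f x (hq hx.1)) = 1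
      rw [hf _ (hq hx.1) x rfl, (hsqx x).resolve_left hx.2, hz2]
    · intro x y hx hy h
      have hc : (x : E ⧸ A) = (y : E ⧸ A) := by
        have := congrArg (fun u : E => (u : E ⧸ A)) h
        simpa [(QuotientGroup.eq_one_iff _).mpr (hfA _ _)] using this
      have key : ∀ (q q' : E ⧸ A) (hq1 : q ≠ 1) (hq2 : q' ≠ 1), q = q' → f q hq1 = f q' hq2 := by
        intro q q' _ _ e; subst e; rfl
      rw [key _ _ (hq hx.1) (hq hy.1) hc] at h
      exact mul_right_cancel h
    · intro y hy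
      have hfy := hfA _ (hq hy.1)
      have hmem : y * f y (hq hy.1) ∈ S := by
        refine ⟨fun h => hy.1 ((Subgroup.mul_mem_cancel_right A hfy).mp h), ?_⟩
        rw [hf _ (hq hy.1) y rfl, hy.2, mul_one]
        exact fun h => hz1 (Subtype.ext h)
      refine ⟨_, hmem, ?_⟩
      have hc : ((y * f y (hq hy.1) : E) : E ⧸ A) = (y : E ⧸ A) := by
        rw [QuotientGroup.mk_mul, (QuotientGroup.eq_one_iff _).mpr hfy, mul_one]
      have key : ∀ (q q' : E ⧸ A) (hq1 : q ≠ 1) (hq2 : q' ≠ 1), q = q' → f q hq1 = f q' hq2 := by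
        intro q q' _ _ e; subst e; rfl
      show y * f y (hq hy.1) * f _ (hq hmem.1) = y
      rw [key _ _ (hq hmem.1) (hq hy.1) hc, mul_assoc, ← pow_two, hA2 _ hfy, mul_one]
  have hunion : S.ncard + T.ncard = 2 ^ (2 * m + 1) - 2 ^ (m + 1) := by
    rw [← Set.ncard_union_eq (Set.disjoint_left.mpr fun x hx hx' => hx.2 hx'.2)]
    have : S ∪ T = (Set.univ : Set E) \ (A : Set E) := by
      ext x; simp only [hS, hT, Set.mem_union, Set.mem_setOf_eq, Set.mem_diff, Set.mem_univ, true_and,
        SetLike.mem_coe]; tauto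
    rw [this, Set.ncard_diff (Set.subset_univ _), Set.ncard_univ, hcard, ← hAcard]
    rfl
  have hset : {x : E | orderOf x = 4} = S := by
    ext x
    simp only [Set.mem_setOf_eq, hS]
    constructor
    · intro h
      have h2 : x * x ≠ 1 := fun h2 => by
        have := orderOf_dvd_of_pow_eq_one (pow_two x ▸ h2 : x ^ 2 = 1)
        rw [h] at this
        exact absurd (Nat.le_of_dvd (by norm_num) this) (by norm_num)
      exact ⟨fun hxA => h2 (pow_two x ▸ hA2 x hxA), h2⟩
    · rintro ⟨-, h⟩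
      have h4 : x ^ 4 = 1 := by
        rw [show (4 : ℕ) = 2 * 2 from rfl, pow_mul, pow_two x, (hsqx x).resolve_left h, pow_two, hz2]
      have := orderOf_eq_prime_pow (p := 2) (n := 1) (x := x) (by rw [pow_one, pow_two]; exact h) h4
      simpa using this
  show ({x : E | orderOf x = 4} : Set E).ncard = _
  rw [hset]
  have e1 : 2 ^ (2 * m + 1) = 2 * 2 ^ (2 * m) := pow_succ' 2 (2 * m)
  have e2 : 2 ^ (m + 1) = 2 * 2 ^ m := pow_succ' 2 m
  omega

end Cfsg.Agent.S2880
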