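import Cfsg.Statements.S2881
import Cfsg.Agent.S2880

set_option autoImplicit false
open Cfsg

open scoped commutatorElement

namespace Cfsg.Agent.S2881

/-- Let E be an extraspecial 2-group of order 2^(2m+1) of plus type (containing an elementary abelian subgroup of order 2^(m+1)), and let ω be an automorphism of E of order 5 whose fixed points are exactly the centre of E. Then m is divisible by 4. -/
theorem result {E : Type*} [Group E] [Finite E] (m : ℕ) (hm : 1 ≤ m) (hE : Cfsg.IsExtraspecial 2 E) (hcard : Nat.card E = 2 ^ (2 * m + 1)) (hplus : ∃ A : Subgroup E, Cfsg.IsElementaryAbelian 2 A ∧ Nat.card A = 2 ^ (m + 1)) (ω : E ≃* E) (hω : orderOf ω = 5) (hfix : ∀ x : E, ω x = x ↔ x ∈ Subgroup.center E) : 4 ∣ m := by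
  have hS := Cfsg.Agent.S2880.result m hm hE hcard hplus
  have h5 : Fact (Nat.Prime 5) := ⟨Nat.prime_five⟩
  let Y := {x : E // orderOf x = 4}
  let P : Subgroup (E ≃* E) := Subgroup.zpowers ω
  have hP : IsPGroup 5 P := IsPGroup.of_card (n := 1) (by rw [Nat.card_zpowers, hω, pow_one])
  letI : MulAction P Y :=
    { smul := fun a x => ⟨(a : E ≃* E) x, (MulEquiv.orderOf_eq _ _).trans x.2⟩
      one_smul := fun x => Subtype.ext rfl
      mul_smul := fun a b x => Subtype.ext rfl }
  have hfixed : MulAction.fixedPoints P Y = ∅ := by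
    rw [Set.eq_empty_iff_forall_notMem]
    intro x hx
    have h1 : ω x = x := congrArg Subtype.val (hx ⟨ω, Subgroup.mem_zpowers ω⟩)
    have hc := (hfix x).mp h1
    have h2 : orderOf (x : E) ∣ 2 := by
      have h3 := Subgroup.orderOf_dvd_natCard (Subgroup.center E) hc
      rwa [hE.2] at h3
    rw [x.2] at h2
    exact absurd (Nat.le_of_dvd (by norm_num) h2) (by norm_num)
  have hmod := hP.card_modEq_card_fixedPoints Y
  rw [hfixed, Nat.card_of_isEmpty (α := (∅ : Set Y))] at hmod
  have hd : 5 ∣ Nat.card Y := Nat.modEq_zero_iff_dvd.mp hmod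
  rw [hS, show 2 ^ (2 * m) - 2 ^ m = 2 ^ m * (2 ^ m - 1) by rw [Nat.mul_sub_one, ← pow_add, two_mul]] at hd
  rcases (Nat.Prime.dvd_mul Nat.prime_five).mp hd with h | h
  · exact absurd ((Nat.prime_dvd_prime_iff_eq Nat.prime_five Nat.prime_two).mp (Nat.prime_five.dvd_of_dvd_pow h)) (by norm_num)
  · by_contra h4
    have h6 : 2 ^ m % 5 = 2 ^ (m % 4) % 5 := by
      conv_lhs => rw [← Nat.div_add_mod m 4, pow_add, pow_mul, Nat.mul_mod, Nat.pow_mod]
      norm_num
    have h7 : m % 4 < 4 := Nat.mod_lt _ (by norm_num)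
    have h8 := Nat.one_le_two_pow (n := m)
    obtain h9 | h9 | h9 : m % 4 = 1 ∨ m % 4 = 2 ∨ m % 4 = 3 := by omega
    all_goals (rw [h9] at h6; omega)

end Cfsg.Agent.S2881
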