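import Cfsg.Statements.S2933
import Cfsg.Agent.TwoFpf.Tower
import Cfsg.Agent.TwoFpf.Models
import Mathlib.FieldTheory.Finite.GaloisField

set_option autoImplicit false
open Cfsg

namespace Cfsg.Agent.S2933

/-- Let T be a 2-subgroup of a finite group G, V ≤ Z(T) a four-group, and t, ρ ∈ N_G(V) ∩ N_G(T) elements of order 2 and 3 with t commuting with ρ and with V. If [V, ρ] = V and C_T(t) = V, then T is elementary abelian of order 16, or homocyclic of rank 2 (ℤ/2ⁿ × ℤ/2ⁿ for some n ≥ 1), or isomorphic to a Sylow 2-subgroup of PSL₃(4) or of PSU₃(4). -/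
theorem result {G : Type*} [Group G] [Finite G] (T V : Subgroup G) (hT : IsPGroup 2 ↥T) (hVT : V ≤ T ⊓ Subgroup.centralizer (T : Set G)) (hV : Nat.card ↥V = 4 ∧ ∀ v ∈ V, v ^ 2 = 1) (t ρ : G) (ht : orderOf t = 2) (hρ : orderOf ρ = 3) (htn : t ∈ Subgroup.normalizer (V : Set G) ⊓ Subgroup.normalizer (T : Set G)) (hρn : ρ ∈ Subgroup.normalizer (V : Set G) ⊓ Subgroup.normalizer (T : Set G)) (htρ : t * ρ = ρ * t) (htV : t ∈ Subgroup.centralizer (V : Set G)) (hVρ : ⁅V, Subgroup.zpowers ρ⁆ = V) (hCt : T ⊓ Subgroup.centralizer ({t} : Set G) = V) : (Nat.card ↥T = 16 ∧ ∀ x ∈ T, x ^ 2 = 1) ∨ (∃ n : ℕ, 1 ≤ n ∧ Nonempty (↥T ≃* Multiplicative (ZMod (2 ^ n)) × Multiplicative (ZMod (2 ^ n)))) ∨ (∃ (F : Type) (_ : Field F) (_ : Fintype F), Fintype.card F = 4 ∧ ∀ P : Sylow 2 (Matrix.ProjectiveSpecialLinearGroup (Fin 3) F), Nonempty (↥T ≃* ↥(P : Subgroup (Matrix.ProjectiveSpecialLinearGroup (Fin 3) F)))) ∨ (∃ (F : Type) (_ : Field F) (_ : Fintype F), Fintype.card F = 16 ∧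 ∀ P : Sylow 2 (Cfsg.PSU 3 F 4), Nonempty (↥T ≃* ↥(P : Subgroup (Cfsg.PSU 3 F 4)))) := by
  classical
  haveI : Fact (Nat.Prime 2) := ⟨Nat.prime_two⟩
  have hVT' : V ≤ T := fun v hv => (hVT hv).1
  have hρ3 : ρ * ρ * ρ = 1 := by
    have := pow_orderOf_eq_one ρ
    rwa [hρ, pow_succ, pow_two] at this
  have ht2 : t * t = 1 := by
    have := pow_orderOf_eq_one t
    rwa [ht, pow_two] at this
  set tA : MulAut ↥T := T.normalizerMonoidHom ⟨t, htn.2⟩
  set ρA : MulAut ↥T := T.normalizerMonoidHom ⟨ρ, hρn.2⟩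
  have htA : ∀ x : ↥T, (tA x : G) = t * x * t⁻¹ := fun x => rfl
  have hρA : ∀ x : ↥T, (ρA x : G) = ρ * x * ρ⁻¹ := fun x => rfl
  have hV' : Nat.card ↥(V.subgroupOf T) = 4 := by
    rw [Nat.card_congr (Subgroup.subgroupOfEquivOfLe hVT').toEquiv]; exact hV.1
  have hρV : ∀ v ∈ V, ρ * v * ρ⁻¹ ∈ V := fun v hv =>
    (Subgroup.mem_normalizer_iff.1 hρn.1 v).1 hv
  have hF : CfsgLib.TwoFpf.IsFour ρA (V.subgroupOf T) := by
    refine ⟨fun v hv => Subgroup.mem_center_iff.2 fun g => Subtype.ext ?_, hV', fun w hw => ?_, fun w hw => ?_⟩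
    · exact Subgroup.mem_centralizer_iff.1 (hVT (Subgroup.mem_subgroupOf.1 hv)).2 g g.2
    · apply Subtype.ext
      show (w : G) * w = 1
      rw [← pow_two]; exact hV.2 _ (Subgroup.mem_subgroupOf.1 hw)
    · rw [Subgroup.mem_subgroupOf, hρA]
      exact hρV _ (Subgroup.mem_subgroupOf.1 hw)
  have hfix : ∀ x ∈ V, ρ * x * ρ⁻¹ = x → x = 1 := by
    intro x hx hxρ
    by_contra hx1
    let c : MulAut G := MulAut.conj ρ
    have hc : ∀ g, c g = ρ * g * ρ⁻¹ := fun g => rfl
    have hc3 : ∀ g, c (c (c g)) = g := fun g => by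
      simp only [hc]
      calc _ = ρ * ρ * ρ * g * (ρ * ρ * ρ)⁻¹ := by group
        _ = g := by rw [hρ3]; group
    have hcx : c x = x := hxρ
    have hall : ∀ y ∈ V, c y = y := by
      intro y hy
      by_contra hne
      have h1 : c y ∈ V := hρV y hy
      have h2 : c (c y) ∈ V := hρV _ h1
      have i : Function.Injective c := c.injective
      have y1 : y ≠ 1 := fun e => hne (by rw [e, map_one])
      have yx : y ≠ x := fun e => hne (by rw [e, hcx])
      have a1 : c y ≠ 1 := fun e => y1 (i (e.trans (map_one c).symm))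
      have ax : c y ≠ x := fun e => yx (i (e.trans hcx.symm))
      have b1 : c (c y) ≠ 1 := fun e => a1 (i (e.trans (map_one c).symm))
      have bx : c (c y) ≠ x := fun e => ax (i (e.trans hcx.symm))
      have bay : c (c y) ≠ c y := fun e => hne (i e)
      have bb : c (c y) ≠ y := fun e => hne (by
        have := congrArg c e
        rw [hc3] at this
        exact this.symm)
      have hsub : (↑({1, x, y, c y, c (c y)} : Finset G) : Set G) ⊆ (V : Set G) := by
        intro g hg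
        simp only [Finset.coe_insert, Finset.coe_singleton, Set.mem_insert_iff, Set.mem_singleton_iff] at hg
        rcases hg with rfl | rfl | rfl | rfl | rfl
        exacts [one_mem V, hx, hy, h1, h2]
      have := Set.ncard_le_ncard hsub (Set.toFinite _)
      rw [Set.ncard_coe_finset, show (V : Set G).ncard = 4 from hV.1] at this
      have h5 : ({1, x, y, c y, c (c y)} : Finset G).card = 5 := by
        simp [Ne.symm hx1, y1.symm, yx.symm, a1.symm, ax.symm, b1.symm, bx.symm, bay.symm, bb.symm,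
          Ne.symm hne]
      omega
    have hbot : ⁅V, Subgroup.zpowers ρ⁆ = ⊥ := by
      rw [Subgroup.commutator_eq_bot_iff_le_centralizer]
      intro v hv
      rw [Subgroup.mem_centralizer_iff]
      intro g hg
      obtain ⟨i, rfl⟩ := Subgroup.mem_zpowers_iff.1 hg
      have : Commute ρ v := mul_inv_eq_iff_eq_mul.1 (hall v hv)
      exact (this.zpow_left i).eq
    rw [hVρ] at hbot
    have := hV.1
    rw [hbot, Subgroup.card_bot] at this
    omega
  have hC : ∀ x : ↥T, tA x = x ↔ x ∈ V.subgroupOf T := by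
    intro x
    have h : (x : G) ∈ V ↔ (x : G) ∈ T ⊓ Subgroup.centralizer ({t} : Set G) := by rw [hCt]
    rw [Subgroup.mem_subgroupOf, h, Subtype.ext_iff, htA, mul_inv_eq_iff_eq_mul,
      Subgroup.mem_inf, Subgroup.mem_centralizer_singleton_iff]
    exact ⟨fun e => ⟨x.2, e.symm⟩, fun e => e.2.symm⟩
  have hmain := CfsgLib.TwoFpf.classify_tower hT (t := tA) (ρ := ρA) (V := V.subgroupOf T)
    (fun x => Subtype.ext (by
      rw [htA, htA]
      calc _ = t * t * (x : G) * (t * t)⁻¹ := by group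
        _ = x := by rw [ht2]; group))
    (fun x => Subtype.ext (by
      rw [hρA, hρA, hρA]
      calc _ = ρ * ρ * ρ * (x : G) * (ρ * ρ * ρ)⁻¹ := by group
        _ = x := by rw [hρ3]; group))
    (fun x => Subtype.ext (by
      rw [htA, hρA, hρA, htA]
      calc _ = t * ρ * (x : G) * (t * ρ)⁻¹ := by group
        _ = ρ * t * (x : G) * (ρ * t)⁻¹ := by rw [htρ]
        _ = _ := by group))
    hF (fun x hx e => Subtype.ext (hfix _ (Subgroup.mem_subgroupOf.1 hx) (congrArg Subtype.val e :)))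
    hC
  rcases hmain with ⟨h16, hexp⟩ | hH | ⟨hS, hna⟩
  · exact Or.inl ⟨h16, fun x hx => by
      rw [pow_two]; exact congrArg Subtype.val (hexp ⟨x, hx⟩)⟩
  · obtain ⟨n, hn, ⟨e⟩⟩ := hH.exists_mulEquiv
    exact Or.inr (Or.inl ⟨n, hn, ⟨e.trans (MulEquiv.prodMultiplicative _ _)⟩⟩)
  by_cases hiso : ∀ x : ↥T, x * x = 1 → x ∈ V.subgroupOf T
  · right; right; right
    letI : Fintype (GaloisField 2 4) := Fintype.ofFinite _
    have hcard : Fintype.card (GaloisField 2 4) = 16 := by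
      rw [← Nat.card_eq_fintype_card, GaloisField.card 2 4 (by norm_num)]; norm_num
    exact ⟨GaloisField 2 4, inferInstance, inferInstance, hcard, fun P =>
      CfsgLib.TwoFpf.IsUnitaryType.nonempty_mulEquiv ⟨hS, hiso⟩ hcard P⟩
  · right; right; left
    push Not at hiso
    obtain ⟨x₀, hx₀, hx₀V⟩ := hiso
    letI : Fintype (GaloisField 2 2) := Fintype.ofFinite _
    have hcard : Fintype.card (GaloisField 2 2) = 4 := by
      rw [← Nat.card_eq_fintype_card, GaloisField.card 2 2 (by norm_num)]; norm_num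
    exact ⟨GaloisField 2 2, inferInstance, inferInstance, hcard, fun P =>
      CfsgLib.TwoFpf.nonempty_mulEquiv_linear hS hna hx₀ hx₀V hcard P⟩

end Cfsg.Agent.S2933
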