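import Cfsg.Statements.S2934
import Cfsg.Agent.OddFourFix.Generation
import Cfsg.Agent.SymplecticHall.Lemmas
import Cfsg.Agent.OmegaFour.Main
import Cfsg.Agent.QuatCore.Aut
import Cfsg.Agent.RegularSolvable.Quaternion
import Cfsg.Agent.PGroup.Normal
import Cfsg.Agent.S0095

set_option autoImplicit false
open Cfsg
open scoped commutatorElement

namespace Cfsg.Agent.S2934

/-- Let p be an odd prime, W a finite 2-group and E a non-cyclic abelian p-subgroup of Aut(W) such that, for every nontrivial e ∈ E, the fixed points of e in W contain at most one involution. Then E has order 9, W is extraspecial of order 2⁵, 2⁷ or 2⁹, and the common fixed points of E in W form exactly the centre Z(W). -/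
theorem result {W : Type*} [Group W] [Finite W] (hW : IsPGroup 2 W) {p : ℕ} [Fact p.Prime] (hp : p ≠ 2) (E : Subgroup (MulAut W)) (hE : IsPGroup p ↥E) (hab : IsMulCommutative ↥E) (hnc : ¬ IsCyclic ↥E) (hfix : ∀ e ∈ E, e ≠ 1 → ∀ x y : W, orderOf x = 2 → orderOf y = 2 → e x = x → e y = y → x = y) : Nat.card ↥E = 9 ∧ Cfsg.IsExtraspecial 2 W ∧ (Nat.card W = 2 ^ 5 ∨ Nat.card W = 2 ^ 7 ∨ Nat.card W = 2 ^ 9) ∧ {x : W | ∀ e ∈ E, e x = x} = (Subgroup.center W : Set W) := by
  classical
  haveI : Fact (Nat.Prime 2) := ⟨Nat.prime_two⟩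
  let φ : E →* MulAut W := E.subtype
  have hcop : (Nat.card E).Coprime (Nat.card W) := by
    obtain ⟨i, hi⟩ := IsPGroup.iff_card.mp hE
    obtain ⟨j, hj⟩ := IsPGroup.iff_card.mp hW
    rw [hi, hj]
    exact ((Nat.coprime_primes (Fact.out : p.Prime) Nat.prime_two).mpr hp).pow i j
  let F : E → Subgroup W := fun a => (a : MulAut W).toMonoidHom.eqLocus (MonoidHom.id W)
  have memF : ∀ {a : E} {x : W}, x ∈ F a ↔ (a : MulAut W) x = x := fun {a x} => Iff.rfl
  have hcomm : ∀ (a b : E) (x : W), (a : MulAut W) ((b : MulAut W) x) = (b : MulAut W) ((a : MulAut W) x) :=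
    fun a b x => congrArg (fun c : E => (c : MulAut W) x) (mul_comm' a b)
  have hFinv : ∀ (a b : E), ∀ x ∈ F a, (b : MulAut W) x ∈ F a := fun a b x hx => by
    rw [memF, hcomm, memF.mp hx]
  have hgen : ∀ H K : Subgroup W, (∀ a : E, ∀ h ∈ H, (a : MulAut W) h ∈ H) →
      (∀ a : E, a ≠ 1 → ∀ h ∈ H, h ∈ F a → h ∈ K) → H ≤ K := fun H K hH hK =>
    CfsgLib.OddFourFix.le_of_fixed_points φ hab hnc hcop H K hH hK
  have hfix' : ∀ a : E, a ≠ 1 → ∀ x y : W, orderOf x = 2 → orderOf y = 2 → x ∈ F a → y ∈ F a → x = y :=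
    fun a ha x y hx hy hxF hyF => hfix a a.2 (fun h => ha (Subtype.ext h)) x y hx hy hxF hyF
  -- the central involution
  haveI : Nontrivial W := by
    by_contra h
    rw [not_nontrivial_iff_subsingleton] at h
    refine hnc ?_
    haveI : Subsingleton (MulAut W) := ⟨fun f g => MulEquiv.ext fun x => Subsingleton.elim _ _⟩
    infer_instance
  haveI := hW.center_nontrivial
  obtain ⟨c, hc⟩ : ∃ c : Subgroup.center W, orderOf c = 2 := by
    refine exists_prime_orderOf_dvd_card' 2 ?_
    obtain ⟨k, hk⟩ := IsPGroup.iff_card.mp (hW.to_subgroup (Subgroup.center W))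
    have := Finite.one_lt_card (α := Subgroup.center W)
    rw [hk] at this ⊢
    exact dvd_pow_self 2 (fun h => by rw [h, pow_zero] at this; omega)
  obtain ⟨z, hz⟩ : ∃ z : W, z = (c : W) := ⟨_, rfl⟩
  have hz2 : orderOf z = 2 := by rw [hz, Subgroup.orderOf_coe, hc]
  have hzc : ∀ g : W, g * z = z * g := fun g => hz ▸ Subgroup.mem_center_iff.mp c.2 g
  have hz1 : z ≠ 1 := fun h => by rw [h, orderOf_one] at hz2; omega
  have hzz : z * z = 1 := by rw [← pow_two, ← hz2, pow_orderOf_eq_one]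
  let J : Subgroup W :=
    { carrier := {x | x ∈ Subgroup.center W ∧ x * x = 1}
      one_mem' := ⟨one_mem _, one_mul 1⟩
      inv_mem' := fun {x} h => by rw [inv_eq_of_mul_eq_one_right h.2]; exact h
      mul_mem' := fun {x y} hx hy => ⟨mul_mem hx.1 hy.1, by
        rw [(show Commute y x from Subgroup.mem_center_iff.mp hx.1 y).mul_mul_mul_comm x y, hx.2, hy.2, one_mul]⟩ }
  have hord : ∀ x : W, x ≠ 1 → x * x = 1 → orderOf x = 2 := fun x hx h =>
    orderOf_eq_prime (by rw [pow_two, h]) hx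
  let C₀ : Subgroup W := ⨅ a : E, F a
  have memC₀ : ∀ {x : W}, x ∈ C₀ ↔ ∀ a : E, (a : MulAut W) x = x := fun {x} => Subgroup.mem_iInf
  have hJ : J ≤ C₀ := by
    refine hgen J C₀ (fun a x hx => ⟨?_, by rw [← map_mul, hx.2, map_one]⟩) ?_
    · exact Subgroup.mem_center_iff.mpr fun g => (a : MulAut W).symm.injective (by
        rw [map_mul, map_mul, MulEquiv.symm_apply_apply, Subgroup.mem_center_iff.mp hx.1])
    · intro a ha x hx hxa
      rw [memC₀]
      intro b
      by_cases hx1 : x = 1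
      · rw [hx1, map_one]
      exact hfix' a ha _ x (hord _ (fun h => hx1 ((b : MulAut W).map_eq_one_iff.mp h))
        (by rw [← map_mul, hx.2, map_one])) (hord x hx1 hx.2) (hFinv a b x hxa) hxa
  have hzfix : ∀ a : E, z ∈ F a := fun a => memC₀.mp (hJ ⟨hz ▸ c.2, hzz⟩) a
  have huniq : ∀ a : E, a ≠ 1 → ∀ x ∈ F a, x * x = 1 → x ≠ 1 → x = z := fun a ha x hx hxx hx1 =>
    hfix' a ha x z (hord x hx1 hxx) hz2 hx (hzfix a)
  -- nontrivial action on a fixed point subgroup
  have hamo : ∀ a : E, a ≠ 1 → CfsgLib.TwoGroup.AtMostOneInvolution (F a) := fun a ha x y hx hy =>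
    Subtype.ext (hfix' a ha x y (by rw [Subgroup.orderOf_coe, hx]) (by rw [Subgroup.orderOf_coe, hy]) x.2 y.2)
  have hrest : ∀ a : E, ∃ r : E →* MulAut (F a), ∀ (b : E) (x : F a), (r b x : W) = (b : MulAut W) x := by
    intro a
    refine ⟨{ toFun := fun b => CfsgLib.OmegaFour.restrictAut (F a) b (hFinv a b)
              map_one' := by ext x; rfl
              map_mul' := fun b b' => by ext x; rfl }, fun b x => rfl⟩
  have hq8 : ∀ a : E, a ≠ 1 → (∃ b : E, ∃ x ∈ F a, (b : MulAut W) x ≠ x) →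
      p = 3 ∧ Nonempty (F a ≃* QuaternionGroup 2) ∧ ∀ b : E, ∀ x ∈ F a, ((b ^ 3 : E) : MulAut W) x = x := by
    intro a ha ⟨b₀, x₀, hx₀, hmove⟩
    obtain ⟨r, hr⟩ := hrest a
    have hpow : ∀ b : E, ∃ k : ℕ, orderOf (r b) = p ^ k := fun b => by
      obtain ⟨k, hk⟩ := IsPGroup.iff_orderOf.mp hE b
      obtain ⟨i, -, hi⟩ := (Nat.dvd_prime_pow (Fact.out : p.Prime)).mp (hk ▸ orderOf_map_dvd r b)
      exact ⟨i, hi⟩
    rcases CfsgLib.QuatCore.aut_or_q8 (hW.to_subgroup (F a)) (hamo a ha) with h | hne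
    · exfalso
      obtain ⟨k, hk⟩ := hpow b₀
      obtain ⟨l, hl⟩ := IsPGroup.iff_orderOf.mp h (r b₀)
      have h1 : orderOf (r b₀) = 1 := Nat.eq_one_of_dvd_coprimes
        (((Nat.coprime_primes (Fact.out : p.Prime) Nat.prime_two).mpr hp).pow k l) (hk ▸ dvd_rfl) (hl ▸ dvd_rfl)
      exact hmove (by rw [← hr b₀ ⟨x₀, hx₀⟩, orderOf_eq_one_iff.mp h1]; rfl)
    · obtain ⟨e⟩ := hne
      have h24 : ∀ b : E, orderOf (r b) ∣ 3 ∧ (orderOf (r b) ≠ 1 → p = 3) := fun b => by
        have hd : orderOf (r b) ∣ 24 := by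
          rw [← (MulAut.congr e).orderOf_eq]
          exact (Subgroup.orderOf_mk _ (Subgroup.mem_top (MulAut.congr e (r b))) ▸ orderOf_dvd_natCard _).trans
            (CfsgLib.QuatCore.card_aut_q8 ⊤)
        obtain ⟨k, hk⟩ := hpow b
        rw [hk] at hd ⊢
        rcases Nat.eq_zero_or_pos k with rfl | hk0
        · simp
        have hp24 : p ∣ 24 := (dvd_pow_self p hk0.ne').trans hd
        have hp3 : p = 3 := by
          rcases (Fact.out : p.Prime).dvd_mul.mp (show p ∣ 2 ^ 3 * 3 by norm_num; exact hp24) with h | h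
          · exact absurd ((Nat.prime_dvd_prime_iff_eq Fact.out Nat.prime_two).mp
              ((Fact.out : p.Prime).dvd_of_dvd_pow h)) hp
          · exact (Nat.prime_dvd_prime_iff_eq Fact.out Nat.prime_three).mp h
        refine ⟨?_, fun _ => hp3⟩
        subst hp3
        rcases Nat.lt_or_ge k 2 with h | h
        · rw [show k = 1 by omega, pow_one]
        · exact absurd ((pow_dvd_pow 3 h).trans hd) (by norm_num)
      refine ⟨(h24 b₀).2 fun h => hmove ?_, ⟨e⟩, fun b x hx => ?_⟩
      · rw [← hr b₀ ⟨x₀, hx₀⟩, orderOf_eq_one_iff.mp h]; rfl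
      · rw [← hr (b ^ 3) ⟨x, hx⟩, map_pow, orderOf_dvd_iff_pow_eq_one.mp (h24 b).1]; rfl
  -- some fixed point subgroup is moved
  obtain ⟨e₁, he₁, hmv₁⟩ : ∃ a : E, a ≠ 1 ∧ ∃ b : E, ∃ x ∈ F a, (b : MulAut W) x ≠ x := by
    by_contra hno
    push Not at hno
    have hall : (⊤ : Subgroup W) ≤ C₀ := hgen ⊤ C₀ (fun _ _ _ => trivial)
      fun a ha x _ hx => memC₀.mpr fun b => hno a ha b x hx
    have : ∀ b : E, b = 1 := fun b => Subtype.ext (MulEquiv.ext fun x => memC₀.mp (hall trivial) b)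
    haveI : Subsingleton E := ⟨fun a b => by rw [this a, this b]⟩
    exact hnc inferInstance
  obtain ⟨hp3, ⟨q₁⟩, -⟩ := hq8 e₁ he₁ hmv₁
  -- elements of a moved fixed point subgroup
  have hquat : ∀ a : E, a ≠ 1 → ∀ h ∈ F a, h * h ≠ 1 → (∃ b : E, (b : MulAut W) h ≠ h) →
      ∃ b : E, ∀ H : Subgroup W, h ∈ H → (b : MulAut W) h ∈ H → F a ≤ H := by
    intro a ha h hh hh2 ⟨b, hb⟩
    obtain ⟨-, ⟨e⟩, hb3⟩ := hq8 a ha ⟨b, h, hh, hb⟩
    refine ⟨b, fun H hH hbH x hx => ?_⟩
    have hsq : ∀ y : F a, y * y ≠ 1 → e y * e y ≠ 1 := fun y hy h' =>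
      hy (e.injective (by rw [map_mul, h', map_one]))
    have hinv : ∀ y : QuaternionGroup 2, y * y * y * (y * y * y) * (y * y * y) = y := by decide +kernel
    obtain ⟨u, hu⟩ : ∃ u : F a, u = ⟨h, hh⟩ := ⟨_, rfl⟩
    obtain ⟨v, hv⟩ : ∃ v : F a, v = ⟨(b : MulAut W) h, hFinv a b h hh⟩ := ⟨_, rfl⟩
    have hu2 : u * u ≠ 1 := fun h' => hh2 (by
      simpa [hu] using congrArg Subtype.val h')
    have hv2 : v * v ≠ 1 := fun h' => hh2 ((b : MulAut W).injective (by
      rw [map_mul, map_one]; simpa [hv] using congrArg Subtype.val h'))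
    have hvu : e v ≠ e u := fun h' => hb (by
      simpa [hu, hv] using congrArg Subtype.val (e.injective h'))
    have hvu3 : e v ≠ e u * e u * e u := by
      rw [← map_mul, ← map_mul]
      intro h'
      have h1 : (b : MulAut W) h = h * h * h := by
        simpa [hu, hv] using congrArg Subtype.val (e.injective h')
      have h9 : h * h * h * (h * h * h) * (h * h * h) = h := by
        have := hinv (e u)
        rw [← map_mul, ← map_mul, ← map_mul, ← map_mul] at this
        simpa [hu] using congrArg Subtype.val (e.injective this)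
      have h2 : (b : MulAut W) ((b : MulAut W) h) = h := by rw [h1, map_mul, map_mul, h1, h9]
      have h3 := hb3 b h hh
      simp only [pow_succ, pow_zero, one_mul, Subgroup.coe_mul, MulAut.mul_apply] at h3
      rw [h2] at h3
      exact hb h3
    obtain ⟨-, -, -, hall⟩ := CfsgLib.RegularSolvable.q8_pair _ _ (hsq u hu2) (hsq v hv2) hvu hvu3
    have huH : (u : W) ∈ H := by rw [hu]; exact hH
    have hvH : (v : W) ∈ H := by rw [hv]; exact hbH
    have key : ∀ w : F a, e ⟨x, hx⟩ = e w → (w : W) ∈ H → x ∈ H := fun w hw hwH => by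
      rw [show x = (w : W) from congrArg Subtype.val (e.injective hw)]; exact hwH
    rcases hall (e ⟨x, hx⟩) with h' | h' | h' | h' | h' | h' | h' | h'
    · exact key 1 (h'.trans (map_one e).symm) H.one_mem
    · exact key u h' huH
    · exact key (u * u) (by rw [h', map_mul]) (H.mul_mem huH huH)
    · exact key (u * u * u) (by rw [h', map_mul, map_mul]) (H.mul_mem (H.mul_mem huH huH) huH)
    · exact key v h' hvH
    · exact key (u * v) (by rw [h', map_mul]) (H.mul_mem huH hvH)
    · exact key (u * u * v) (by rw [h', map_mul, map_mul]) (H.mul_mem (H.mul_mem huH huH) hvH)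
    · exact key (u * u * u * v) (by rw [h', map_mul, map_mul, map_mul])
        (H.mul_mem (H.mul_mem (H.mul_mem huH huH) huH) hvH)
  -- the common fixed points
  have hC₀ : ∀ x ∈ C₀, x = 1 ∨ x = z := by
    intro x hx
    have hxF : x ∈ F e₁ := memC₀.mp hx e₁
    by_contra hne
    push Not at hne
    have hxx : x * x ≠ 1 := fun h => hne.2 (huniq e₁ he₁ x hxF h hne.1)
    obtain ⟨b, y, hy, hby⟩ := hmv₁
    obtain ⟨-, -, hb3⟩ := hq8 e₁ he₁ ⟨b, y, hy, hby⟩
    obtain ⟨r, hr⟩ := hrest e₁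
    let ψ : MulAut (QuaternionGroup 2) := MulAut.congr q₁ (r b)
    have hψ : ∀ g, ψ g = q₁ (r b (q₁.symm g)) := fun g => rfl
    have h3 : ∀ g, ψ (ψ (ψ g)) = g := fun g => by
      simp only [hψ, MulEquiv.symm_apply_apply]
      have : r b (r b (r b (q₁.symm g))) = q₁.symm g := Subtype.ext (by
        rw [hr, hr, hr]
        have := hb3 b _ (q₁.symm g).2
        simpa [pow_succ] using this)
      rw [this, MulEquiv.apply_symm_apply]
    have hxfix : ψ (q₁ ⟨x, hxF⟩) = q₁ ⟨x, hxF⟩ := by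
      rw [hψ, MulEquiv.symm_apply_apply]
      exact congrArg q₁ (Subtype.ext (by rw [hr]; exact memC₀.mp hx b))
    have := CfsgLib.RegularSolvable.q8_aut_no_fix ψ h3 _ (fun h' => hxx (by
      rw [← map_mul, q₁.map_eq_one_iff] at h'
      simpa using congrArg Subtype.val h')) hxfix (q₁ ⟨y, hy⟩)
    rw [hψ, MulEquiv.symm_apply_apply] at this
    exact hby (by rw [← hr b ⟨y, hy⟩, q₁.injective this])
  let Z : Subgroup W := Subgroup.zpowers z
  have hzZ : z ∈ Z := Subgroup.mem_zpowers z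
  have hZmem : ∀ x ∈ Z, x = 1 ∨ x = z := by
    intro x hx
    obtain ⟨k, rfl⟩ := Subgroup.mem_zpowers_iff.mp hx
    rcases Int.even_or_odd k with ⟨j, rfl⟩ | ⟨j, rfl⟩
    · left; rw [zpow_add, ← (Commute.refl z).mul_zpow, hzz, one_zpow]
    · right; rw [zpow_add_one, two_mul, zpow_add, ← (Commute.refl z).mul_zpow, hzz, one_zpow, one_mul]
  have hC₀Z : ∀ x ∈ C₀, x ∈ Z := fun x hx => by
    rcases hC₀ x hx with rfl | rfl
    exacts [Z.one_mem, hzZ]
  have hZc : Z ≤ Subgroup.center W := Subgroup.zpowers_le.mpr (hz ▸ c.2)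
  have hZcard : Nat.card Z = 2 := by rw [Nat.card_zpowers, hz2]
  haveI hZn : Z.Normal := ⟨fun x hx g => by
    rw [Subgroup.mem_center_iff.mp (hZc hx) g, mul_inv_cancel_right]; exact hx⟩
  have hZF : ∀ a : E, Z ≤ F a := fun a => Subgroup.zpowers_le.mpr (hzfix a)
  have hsqF : ∀ a : E, a ≠ 1 → ∀ x ∈ F a, x * x ∈ Z := by
    intro a ha x hx
    by_cases hm : ∃ b : E, (b : MulAut W) x ≠ x
    · obtain ⟨b, hb⟩ := hm
      obtain ⟨-, ⟨e⟩, -⟩ := hq8 a ha ⟨b, x, hx, hb⟩
      have h4 : ∀ g : QuaternionGroup 2, g * g * (g * g) = 1 := by decide +kernel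
      have hx4 : x * x * (x * x) = 1 := by
        have := h4 (e ⟨x, hx⟩)
        rw [← map_mul, ← map_mul, e.map_eq_one_iff] at this
        simpa using congrArg Subtype.val this
      by_cases h1 : x * x = 1
      · rw [h1]; exact Z.one_mem
      · rw [huniq a ha _ (mul_mem hx hx) hx4 h1]; exact hzZ
    · push Not at hm
      have hxZ := hC₀Z x (memC₀.mpr hm)
      exact mul_mem hxZ hxZ
  have hsmall : ∀ a : E, a ≠ 1 → ∀ x ∈ F a, x ∉ Z → x * x ≠ 1 ∧ ∃ b : E, (b : MulAut W) x ≠ x := by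
    intro a ha x hx hxZ
    refine ⟨fun h => hxZ ?_, ?_⟩
    · by_cases h1 : x = 1
      · rw [h1]; exact Z.one_mem
      · rw [huniq a ha x hx h h1]; exact hzZ
    · by_contra hm
      push Not at hm
      exact hxZ (hC₀Z x (memC₀.mpr hm))
  -- class two
  have hclass : ∀ g g' : W, ⁅g, g'⁆ ∈ Z := by
    by_contra hno
    have hnle : ¬ commutator W ≤ Z := fun h => hno fun g g' =>
      h (Subgroup.commutator_mem_commutator trivial trivial)
    haveI : (commutator W).Normal := inferInstance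
    let f := QuotientGroup.mk' Z
    haveI hNn : ((commutator W).map f).Normal :=
      Subgroup.Normal.map inferInstance f (QuotientGroup.mk'_surjective Z)
    have hN1 : (commutator W).map f ≠ ⊥ := by
      rw [Ne, Subgroup.map_eq_bot_iff, QuotientGroup.ker_mk']; exact hnle
    have hmeet := CfsgLib.PGroup.inf_center_ne_bot (hW.to_quotient Z) _ hN1
    obtain ⟨y, hy, hy1⟩ := (Subgroup.bot_or_exists_ne_one _).resolve_left hmeet
    obtain ⟨⟨x, hxc, rfl⟩, hyc⟩ := Subgroup.mem_inf.mp hy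
    let M : Subgroup W := (commutator W) ⊓ (Subgroup.center (W ⧸ Z)).comap f
    have hxM : x ∈ M := ⟨hxc, hyc⟩
    have memM : ∀ {m : W}, m ∈ M → ∀ g : W, ⁅g, m⁆ ∈ Z := fun {m} hm g => by
      rw [← QuotientGroup.eq_one_iff, ← QuotientGroup.mk'_apply, map_commutatorElement]
      exact commutatorElement_eq_one_iff_mul_comm.mpr (Subgroup.mem_center_iff.mp hm.2 (f g))
    have hZinv : ∀ (a : E), ∀ w ∈ Z, (a : MulAut W) w ∈ Z := fun a w hw => by
      rw [memF.mp (hZF a hw)]; exact hw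
    have hMinv : ∀ a : E, ∀ m ∈ M, (a : MulAut W) m ∈ M := by
      intro a m hm
      have hchar : (commutator W).Characteristic := inferInstance
      refine ⟨Subgroup.characteristic_iff_map_le.mp hchar (a : MulAut W) ⟨m, hm.1, rfl⟩, ?_⟩
      refine Subgroup.mem_center_iff.mpr fun w => ?_
      obtain ⟨g, rfl⟩ := QuotientGroup.mk'_surjective Z w
      refine commutatorElement_eq_one_iff_mul_comm.mp ?_
      rw [← map_commutatorElement, QuotientGroup.mk'_apply, QuotientGroup.eq_one_iff,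
        ← (a : MulAut W).apply_symm_apply g, ← map_commutatorElement]
      exact hZinv a _ (memM hm _)
    have hle : M ≤ Z := by
      refine hgen M Z hMinv fun a ha h hhM hhF => ?_
      by_contra hhZ
      obtain ⟨hh2, hmove⟩ := hsmall a ha h hhF hhZ
      obtain ⟨b, hb⟩ := hquat a ha h hhF hh2 hmove
      have hQM : F a ≤ M := hb M hhM (hMinv b h hhM)
      obtain ⟨-, ⟨e⟩, -⟩ := hq8 a ha ⟨hmove.choose, h, hhF, hmove.choose_spec⟩
      have hQn : (F a).Normal := ⟨fun n hn g => by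
        rw [show g * n * g⁻¹ = ⁅g, n⁆ * n by simp [commutatorElement_def]]
        exact mul_mem (hZF a (memM (hQM hn) g)) hn⟩
      have hcent : Subgroup.centralizer (F a : Set W) ⊓ F a = Z := by
        refine le_antisymm (fun n hn => ?_) (fun n hn => ⟨Subgroup.mem_centralizer_iff.mpr fun g _ =>
          Subgroup.mem_center_iff.mp (hZc hn) g, hZF a hn⟩)
        have h2 : ∀ g : QuaternionGroup 2, (∀ g', g' * g = g * g') → g * g = 1 := by decide +kernel
        have hnn : n * n = 1 := by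
          have := h2 (e ⟨n, hn.2⟩) (fun g' => by
            obtain ⟨m, rfl⟩ := e.surjective g'
            rw [← map_mul, ← map_mul]
            exact congrArg e (Subtype.ext (Subgroup.mem_centralizer_iff.mp hn.1 m m.2)))
          rw [← map_mul, e.map_eq_one_iff] at this
          simpa using congrArg Subtype.val this
        by_contra hnZ
        exact (hsmall a ha n hn.2 hnZ).1 hnn
      have htop := CfsgLib.SymplecticHall.sup_centralizer_eq_top hW (F a) Z hZc hcent fun t ht =>
        CfsgLib.SymplecticHall.index_centralizer_le Z hZc hZcard t (fun g => memM (hQM ht) g)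
      set C := Subgroup.centralizer (F a : Set W) with hC
      haveI : C.Normal := by rw [hC]; infer_instance
      have hcomC : commutator W ≤ C := by
        have hall : ∀ g : W, ∃ q ∈ F a, ∃ d ∈ C, g = q * d := fun g => by
          have hg : g ∈ ((F a ⊔ C : Subgroup W) : Set W) := htop ▸ Subgroup.mem_top g
          rw [Subgroup.mul_normal] at hg
          obtain ⟨q, hq, d, hd, h'⟩ := hg
          exact ⟨q, hq, d, hd, h'.symm⟩
        rw [commutator_eq_closure, Subgroup.closure_le]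
        rintro _ ⟨g, g', rfl⟩
        obtain ⟨q, hq, d, hd, rfl⟩ := hall g
        obtain ⟨q', hq', d', hd', rfl⟩ := hall g'
        show ⁅q * d, q' * d'⁆ ∈ C
        rw [← QuotientGroup.eq_one_iff, ← QuotientGroup.mk'_apply, map_commutatorElement, map_mul, map_mul,
          (QuotientGroup.eq_one_iff d).mpr hd |> fun e => (show QuotientGroup.mk' C d = 1 from e),
          (QuotientGroup.eq_one_iff d').mpr hd' |> fun e => (show QuotientGroup.mk' C d' = 1 from e),
          mul_one, mul_one, ← map_commutatorElement, QuotientGroup.mk'_apply, QuotientGroup.eq_one_iff]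
        exact Subgroup.mem_centralizer_iff.mpr fun m _ =>
          Subgroup.mem_center_iff.mp (hZc (memM (hQM hq') q)) m
      exact hhZ (hcent ▸ ⟨hcomC hhM.1, hhF⟩)
    exact hy1 ((QuotientGroup.eq_one_iff x).mpr (hle hxM))
  -- extraspecial
  have hpow : ∀ x : W, x * x ∈ Z := by
    let S : Subgroup W :=
      { carrier := {x | x * x ∈ Z}
        one_mem' := by simpa using Z.one_mem
        inv_mem' := fun {x} hx => by
          show x⁻¹ * x⁻¹ ∈ Z
          rw [← mul_inv_rev]; exact Z.inv_mem hx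
        mul_mem' := fun {x y} hx hy => by
          show x * y * (x * y) ∈ Z
          have h1 : x * y * (x * y) = x * ⁅y, x⁆ * x * (y * y) := by simp [commutatorElement_def, mul_assoc]
          rw [h1, show x * ⁅y, x⁆ * x = x * x * ⁅y, x⁆ by
            rw [mul_assoc, ← Subgroup.mem_center_iff.mp (hZc (hclass y x)) x, ← mul_assoc]]
          exact mul_mem (mul_mem hx (hclass y x)) hy }
    exact fun x => hgen ⊤ S (fun _ _ _ => trivial) (fun a ha h _ hh => hsqF a ha h hh) (Subgroup.mem_top x)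
  have hcenter : Subgroup.center W = Z := by
    refine le_antisymm (hgen _ Z (fun a x hx => ?_) fun a ha h hh hhF => ?_) hZc
    · exact Subgroup.mem_center_iff.mpr fun g => (a : MulAut W).symm.injective (by
        rw [map_mul, map_mul, MulEquiv.symm_apply_apply, Subgroup.mem_center_iff.mp hx])
    · by_contra hhZ
      obtain ⟨hh2, hmove⟩ := hsmall a ha h hhF hhZ
      obtain ⟨b, hb⟩ := hquat a ha h hhF hh2 hmove
      obtain ⟨-, ⟨e⟩, -⟩ := hq8 a ha ⟨hmove.choose, h, hhF, hmove.choose_spec⟩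
      have hQc : F a ≤ Subgroup.center W := hb _ hh (Subgroup.mem_center_iff.mpr fun g =>
        (b : MulAut W).symm.injective (by
          rw [map_mul, map_mul, MulEquiv.symm_apply_apply, Subgroup.mem_center_iff.mp hh]))
      have hne : ¬ ∀ g g' : QuaternionGroup 2, g * g' = g' * g := by decide +kernel
      refine hne fun g g' => ?_
      obtain ⟨m, rfl⟩ := e.surjective g
      obtain ⟨m', rfl⟩ := e.surjective g'
      rw [← map_mul, ← map_mul]
      exact congrArg e (Subtype.ext (Subgroup.mem_center_iff.mp (hQc m'.2) m))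
  have hq1ne : ∃ g g' : F e₁, g * g' ≠ g' * g := by
    by_contra hc'
    push Not at hc'
    have hne : ¬ ∀ g g' : QuaternionGroup 2, g * g' = g' * g := by decide +kernel
    exact hne fun g g' => q₁.symm.injective (by rw [map_mul, map_mul]; exact hc' _ _)
  have hes : Cfsg.IsExtraspecial 2 W := by
    refine CfsgLib.SymplecticHall.isExtraspecial_of_center hW (hcenter ▸ hZcard)
      (fun x => hcenter ▸ (by rw [pow_two]; exact hpow x)) (fun g g' => hcenter ▸ hclass g g') ?_
    obtain ⟨g, g', hgg⟩ := hq1ne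
    exact fun h => hgg (Subtype.ext (h g g'))
  have hexp : ∀ a : E, a ^ 3 = 1 := fun a => by
    refine Subtype.ext (MulEquiv.ext fun x => ?_)
    have hle : (⊤ : Subgroup W) ≤ F (a ^ 3) := hgen ⊤ _ (fun _ _ _ => trivial) fun b hb h _ hh => by
      by_cases hm : ∃ d : E, (d : MulAut W) h ≠ h
      · obtain ⟨d, hd⟩ := hm
        exact (hq8 b hb ⟨d, h, hh, hd⟩).2.2 a h hh
      · push Not at hm
        exact hm _
    exact hle (Subgroup.mem_top x)
  have hFtop : ∀ a : E, a ≠ 1 → F a ≠ ⊤ := fun a ha h => ha (Subtype.ext (MulEquiv.ext fun x =>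
    (h ▸ Subgroup.mem_top x : x ∈ F a)))
  have hFcard : ∀ a : E, a ≠ 1 → Nat.card (F a) ≤ 8 ∧ ((∃ b : E, ∃ x ∈ F a, (b : MulAut W) x ≠ x) →
      Nat.card (F a) = 8) := by
    intro a ha
    have h8 : (∃ b : E, ∃ x ∈ F a, (b : MulAut W) x ≠ x) → Nat.card (F a) = 8 := fun h => by
      obtain ⟨-, ⟨e⟩, -⟩ := hq8 a ha h
      rw [Nat.card_congr e.toEquiv, Nat.card_eq_fintype_card, QuaternionGroup.card]
    refine ⟨?_, h8⟩
    by_cases hm : ∃ b : E, ∃ x ∈ F a, (b : MulAut W) x ≠ x
    · exact le_of_eq (h8 hm)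
    · push Not at hm
      have : F a ≤ Z := fun x hx => hC₀Z x (memC₀.mpr fun b => hm b x hx)
      exact (Nat.le_of_dvd Nat.card_pos (Subgroup.card_dvd_of_le this)).trans (hZcard ▸ by norm_num)
  -- the order of `E`
  have hE9 : Nat.card E = 9 := by
    subst hp3
    obtain ⟨r, hr⟩ := hrest e₁
    obtain ⟨k, hk⟩ := IsPGroup.iff_card.mp hE
    have hk2 : 2 ≤ k := by
      by_contra h
      push Not at h
      interval_cases k
      · haveI : Subsingleton E := (Nat.card_eq_one_iff_unique.mp hk).1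
        exact hnc inferInstance
      · haveI : Fact (Nat.Prime 3) := ⟨Nat.prime_three⟩
        exact hnc (isCyclic_of_prime_card (hk.trans (pow_one 3)))
    by_contra hne
    have hk3 : 3 ≤ k := by
      by_contra h
      exact hne (by rw [hk, show k = 2 by omega]; norm_num)
    have hidx : r.ker.index ∣ 24 := by
      rw [Subgroup.index_ker, Nat.card_congr (r.range.equivMapOfInjective (MulAut.congr q₁).toMonoidHom
        (MulAut.congr q₁).injective).toEquiv]
      exact CfsgLib.QuatCore.card_aut_q8 _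
    obtain ⟨i, hi, hidx'⟩ := (Nat.dvd_prime_pow Nat.prime_three).mp (hk ▸ r.ker.index_dvd_card)
    have hi1 : i ≤ 1 := by
      by_contra h
      exact absurd ((pow_dvd_pow 3 (show 2 ≤ i by omega)).trans (hidx' ▸ hidx)) (by norm_num)
    have hKcard : 9 ≤ Nat.card r.ker := by
      have h1 := r.ker.card_mul_index
      rw [hidx', hk] at h1
      have h2 : 3 ^ 3 ≤ 3 ^ k := Nat.pow_le_pow_right (by norm_num) hk3
      interval_cases i <;> omega
    have hKnc : ¬ IsCyclic r.ker := fun hc' => by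
      obtain ⟨g, hg⟩ := hc'.exists_generator
      have : Nat.card r.ker ≤ 3 := by
        rw [← orderOf_eq_card_of_forall_mem_zpowers hg]
        exact Nat.le_of_dvd (by norm_num) (orderOf_dvd_of_pow_eq_one (Subtype.ext (hexp g)))
      omega
    have hsub : ∀ a : r.ker, a ≠ 1 → F (a : E) ≤ F e₁ := by
      intro a ha
      have ha1 : (a : E) ≠ 1 := fun h => ha (Subtype.ext h)
      have h1 : F e₁ ≤ F (a : E) := fun x hx => by
        rw [memF, ← hr (a : E) ⟨x, hx⟩, MonoidHom.mem_ker.mp a.2]; rfl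
      refine (Subgroup.eq_of_le_of_card_ge h1 ?_).symm.le
      rw [(hFcard e₁ he₁).2 hmv₁]
      exact (hFcard _ ha1).1
    refine hFtop e₁ he₁ (top_le_iff.mp ?_)
    exact CfsgLib.OddFourFix.le_of_fixed_points (φ.comp r.ker.subtype) ⟨⟨fun a b => mul_comm' a b⟩⟩ hKnc
      (hcop.coprime_dvd_left r.ker.card_subgroup_dvd_card) ⊤ _ (fun _ _ _ => trivial)
      fun a ha h _ hh => hsub a ha hh
  refine ⟨hE9, hes, ?_, ?_⟩
  · obtain ⟨n, hn, hcardW⟩ := Cfsg.Agent.S0095.result hes
    have hn1 : n ≠ 1 := by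
      rintro rfl
      refine hFtop e₁ he₁ (Subgroup.eq_top_of_card_eq _ ?_)
      rw [(hFcard e₁ he₁).2 hmv₁, hcardW]
      norm_num
    -- four lines cover `E`
    obtain ⟨f₂, hf₂⟩ : ∃ f₂ : E, f₂ ∉ Subgroup.zpowers e₁ := by
      by_contra hc'
      push Not at hc'
      exact hnc ⟨e₁, hc'⟩
    haveI : Fact (Nat.Prime 3) := ⟨Nat.prime_three⟩
    have ho : orderOf e₁ = 3 := orderOf_eq_prime (hexp e₁) he₁
    have hlines : ∀ a : E, a ≠ 1 → ∃ l : E, (l = e₁ ∨ l = f₂ ∨ l = e₁ * f₂ ∨ l = e₁ * e₁ * f₂) ∧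
        (a = l ∨ a = l * l) := by
      intro a ha
      have hall : Subgroup.zpowers e₁ ⊔ Subgroup.zpowers f₂ = ⊤ := by
        refine Subgroup.eq_top_of_le_card _ ?_
        have hlt : Subgroup.zpowers e₁ < Subgroup.zpowers e₁ ⊔ Subgroup.zpowers f₂ :=
          lt_of_le_of_ne le_sup_left fun h => hf₂ (h ▸ Subgroup.mem_sup_right (Subgroup.mem_zpowers f₂))
        obtain ⟨m, hm⟩ := Subgroup.card_dvd_of_le hlt.le
        rw [Nat.card_zpowers, ho] at hm
        have h2 := Subgroup.card_subgroup_dvd_card (Subgroup.zpowers e₁ ⊔ Subgroup.zpowers f₂)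
        rw [hE9, hm] at h2
        have hm1 : m ≠ 1 := by
          rintro rfl
          exact hlt.ne (Subgroup.eq_of_le_of_card_ge hlt.le (by rw [hm, Nat.card_zpowers, ho]))
        have hm3 : m ∣ 3 := Nat.dvd_of_mul_dvd_mul_left (by norm_num : 0 < 3) (by simpa using h2)
        rcases (Nat.dvd_prime Nat.prime_three).mp hm3 with h | h
        · exact absurd h hm1
        · rw [hm, h, hE9]
      haveI : (Subgroup.zpowers f₂).Normal :=
        ⟨fun x hx g => by rw [mul_comm' g x, mul_inv_cancel_right]; exact hx⟩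
      have ha' : a ∈ ((Subgroup.zpowers e₁ ⊔ Subgroup.zpowers f₂ : Subgroup E) : Set E) :=
        hall ▸ Subgroup.mem_top a
      rw [Subgroup.mul_normal] at ha'
      obtain ⟨u, hi, v, hj, huv⟩ := ha'
      simp only at huv
      have hcases : ∀ g x : E, x ∈ Subgroup.zpowers g → x = 1 ∨ x = g ∨ x = g * g := by
        intro g x hx
        obtain ⟨i, rfl⟩ := Subgroup.mem_zpowers_iff.mp hx
        have hg3 : g ^ (3 : ℤ) = 1 := by exact_mod_cast hexp g
        rw [← Int.emod_add_mul_ediv i 3, zpow_add, zpow_mul, hg3, one_zpow, mul_one]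
        have h1 := Int.emod_nonneg i (by norm_num : (3 : ℤ) ≠ 0)
        have h2 := Int.emod_lt_of_pos i (by norm_num : (0 : ℤ) < 3)
        interval_cases (i % 3)
        · left; simp
        · right; left; simp
        · right; right; exact zpow_two g
      have h33 : ∀ g : E, g * g * (g * g) = g := fun g => by
        rw [← pow_two, ← pow_two, ← pow_mul, show 2 * 2 = 3 + 1 by norm_num, pow_succ, hexp, one_mul]
      have hmc : ∀ u v : E, u * v * (u * v) = u * u * (v * v) := fun u v => by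
        rw [mul_assoc, ← mul_assoc v u, mul_comm' v u]; simp [mul_assoc]
      rcases hcases _ _ hi with h | h | h <;> rcases hcases _ _ hj with h' | h' | h' <;> subst huv <;>
        rw [h, h'] at ha ⊢
      · exact absurd (one_mul 1) ha
      · exact ⟨f₂, Or.inr (Or.inl rfl), Or.inl (one_mul _)⟩
      · exact ⟨f₂, Or.inr (Or.inl rfl), Or.inr (one_mul _)⟩
      · exact ⟨e₁, Or.inl rfl, Or.inl (mul_one _)⟩
      · exact ⟨e₁ * f₂, Or.inr (Or.inr (Or.inl rfl)), Or.inl rfl⟩
      · exact ⟨e₁ * e₁ * f₂, Or.inr (Or.inr (Or.inr rfl)), Or.inr (by rw [hmc (e₁ * e₁) f₂, h33])⟩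
      · exact ⟨e₁, Or.inl rfl, Or.inr (mul_one _)⟩
      · exact ⟨e₁ * e₁ * f₂, Or.inr (Or.inr (Or.inr rfl)), Or.inl rfl⟩
      · exact ⟨e₁ * f₂, Or.inr (Or.inr (Or.inl rfl)), Or.inr (hmc e₁ f₂).symm⟩
    let T : Subgroup W := F e₁ ⊔ F f₂ ⊔ F (e₁ * f₂) ⊔ F (e₁ * e₁ * f₂)
    have hT : T = ⊤ := top_le_iff.mp (hgen ⊤ T (fun _ _ _ => trivial) fun a ha h _ hh => by
      obtain ⟨l, hl, hal⟩ := hlines a ha
      have hlh : h ∈ F l := by
        rcases hal with rfl | rfl
        · exact hh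
        · have h1 : (l : MulAut W) ((l : MulAut W) h) = h := hh
          have h3 : (l : MulAut W) ((l : MulAut W) ((l : MulAut W) h)) = h := by
            have := congrArg (fun t : E => (t : MulAut W) h) (hexp l)
            simpa [pow_succ] using this
          rw [h1] at h3
          exact h3
      rcases hl with rfl | rfl | rfl | rfl
      · exact Subgroup.mem_sup_left (Subgroup.mem_sup_left (Subgroup.mem_sup_left hlh))
      · exact Subgroup.mem_sup_left (Subgroup.mem_sup_left (Subgroup.mem_sup_right hlh))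
      · exact Subgroup.mem_sup_left (Subgroup.mem_sup_right hlh)
      · exact Subgroup.mem_sup_right hlh)
    have hne12 : e₁ * f₂ ≠ 1 := fun h => hf₂ (by
      rw [eq_inv_of_mul_eq_one_right h]; exact inv_mem (Subgroup.mem_zpowers e₁))
    have hne22 : e₁ * e₁ * f₂ ≠ 1 := fun h => hf₂ (by
      rw [eq_inv_of_mul_eq_one_right h]
      exact inv_mem (mul_mem (Subgroup.mem_zpowers e₁) (Subgroup.mem_zpowers e₁)))
    have hf21 : f₂ ≠ 1 := fun h => hf₂ (h ▸ one_mem _)
    have hnormal : ∀ K : Subgroup W, Z ≤ K → K.Normal := fun K hK => ⟨fun n hn g => by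
      rw [show g * n * g⁻¹ = ⁅g, n⁆ * n by simp [commutatorElement_def]]
      exact mul_mem (hK (hclass g n)) hn⟩
    have hstep : ∀ K : Subgroup W, Z ≤ K → ∀ a : E, a ≠ 1 →
        Nat.card (K ⊔ F a : Subgroup W) ≤ Nat.card K * 4 := by
      intro K hK a ha
      haveI := hnormal K hK
      have h1 := Subgroup.card_mul_index ((K.subgroupOf (K ⊔ F a)))
      rw [Nat.card_congr (Subgroup.subgroupOfEquivOfLe (le_sup_left : K ≤ K ⊔ F a)).toEquiv] at h1
      rw [← h1]
      refine Nat.mul_le_mul le_rfl ?_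
      show K.relIndex (K ⊔ F a) ≤ 4
      rw [sup_comm, Subgroup.relIndex_sup_right]
      have h2 := Subgroup.relIndex_mul_relIndex ⊥ (K ⊓ F a) (F a) bot_le inf_le_right
      rw [Subgroup.relIndex_bot_left, Subgroup.relIndex_bot_left, Subgroup.inf_relIndex_right] at h2
      have h3 : 2 ≤ Nat.card (K ⊓ F a : Subgroup W) :=
        hZcard ▸ Nat.le_of_dvd Nat.card_pos (Subgroup.card_dvd_of_le (le_inf hK (hZF a)))
      have h4 := (hFcard a ha).1
      nlinarith
    have hZT : Z ≤ F e₁ := hZF e₁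
    have hup : Nat.card W ≤ 2 ^ 9 := by
      rw [← Subgroup.card_top (G := W), ← hT]
      calc Nat.card T ≤ Nat.card (F e₁ ⊔ F f₂ ⊔ F (e₁ * f₂) : Subgroup W) * 4 :=
            hstep _ (le_sup_of_le_left (le_sup_of_le_left hZT)) _ hne22
        _ ≤ Nat.card (F e₁ ⊔ F f₂ : Subgroup W) * 4 * 4 :=
            Nat.mul_le_mul (hstep _ (le_sup_of_le_left hZT) _ hne12) le_rfl
        _ ≤ Nat.card (F e₁) * 4 * 4 * 4 :=
            Nat.mul_le_mul (Nat.mul_le_mul (hstep _ hZT _ hf21) le_rfl) le_rfl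
        _ ≤ 8 * 4 * 4 * 4 := by
            have := (hFcard e₁ he₁).1
            omega
        _ = 2 ^ 9 := by norm_num
    rw [hcardW] at hup ⊢
    have hn4 : n ≤ 4 := by
      have := (Nat.pow_le_pow_iff_right (by norm_num : 1 < 2)).mp hup
      omega
    interval_cases n <;> simp_all
  · ext x
    rw [hcenter]
    constructor
    · intro hx; exact hC₀Z x (memC₀.mpr fun a => hx a a.2)
    · intro hx e he; exact hZF ⟨e, he⟩ hx

end Cfsg.Agent.S2934
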