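import Cfsg.Statements.S2968
import Cfsg.Agent.LocalP.Isolated

set_option autoImplicit false
open Cfsg

namespace Cfsg.Agent.S2968

/-- Let G be a finite group, p a prime, P a Sylow p-subgroup of G and x ∈ P an element of p-power order which is isolated in G (the only conjugate of x commuting with x is x itself). Then x lies in the centre of P, and the subgroup generated by x is both strongly closed and weakly closed in P with respect to G. -/
theorem result {G : Type*} [Group G] [Finite G] {p : ℕ} [Fact p.Prime] (P : Sylow p G) (x : G) (hxP : x ∈ (P : Subgroup G)) (hx : ∃ k : ℕ, orderOf x = p ^ k) (hiso : Cfsg.IsIsolated x) : x ∈ (P : Subgroup G) ⊓ Subgroup.centralizer ((P : Subgroup G) : Set G) ∧ Cfsg.IsStronglyClosed (Subgroup.zpowers x) (P : Subgroup G) ∧ Cfsg.IsWeaklyClosed (Subgroup.zpowers x) (P : Subgroup G) := by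
  have hcent : ∀ u ∈ (P : Subgroup G), x * u = u * x :=
    CfsgLib.LocalP.isolated_commute_of_mem hiso P.isPGroup' hxP
  refine ⟨⟨hxP, Subgroup.mem_centralizer_iff.mpr fun u hu => (hcent u hu).symm⟩,
    ⟨Subgroup.zpowers_le.mpr hxP, fun y hy g hz => ?_⟩, Subgroup.zpowers_le.mpr hxP, fun g hg => ?_⟩
  · obtain ⟨i, rfl⟩ := Subgroup.mem_zpowers_iff.mp hy
    set z := g * x ^ i * g⁻¹ with hzdef
    have hxH : x ∈ Subgroup.centralizer {z} :=
      Subgroup.mem_centralizer_singleton_iff.mpr (hcent z hz)
    have hgH : g * x * g⁻¹ ∈ Subgroup.centralizer {z} := by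
      apply Subgroup.mem_centralizer_singleton_iff.mpr
      have : Commute (g * x * g⁻¹) z := by
        rw [hzdef, ← conj_zpow]
        exact Commute.self_zpow _ i
      exact this.eq
    obtain ⟨h, hh, he⟩ := CfsgLib.LocalP.isolated_conj_in hiso hx _ hxH hgH
    have hh' : h * z = z * h := Subgroup.mem_centralizer_singleton_iff.mp hh
    have e1 : h * z * h⁻¹ = x ^ i := by
      have := congrArg (fun a => a ^ i) he
      simpa [conj_zpow, hzdef] using this
    have e2 : z = x ^ i := by rw [← e1, hh', mul_inv_cancel_right]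
    rw [e2]
    exact Subgroup.zpow_mem _ (Subgroup.mem_zpowers x) i
  · rw [MonoidHom.map_zpowers] at hg ⊢
    have h1 : g * x * g⁻¹ ∈ (P : Subgroup G) := by simpa using hg (Subgroup.mem_zpowers _)
    have h2 := CfsgLib.LocalP.isolated_eq_of_mem hiso P.isPGroup' hxP h1
    simp [h2]

end Cfsg.Agent.S2968
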