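import Cfsg.Statements.S2971
import Cfsg.Agent.LocalP.Isolated
import Cfsg.Agent.LocalP.RankOne

set_option autoImplicit false
open Cfsg

namespace Cfsg.Agent.S2971

/-- Let G be a finite group and p an odd prime such that G has p-rank at most 1 (no elementary abelian subgroup of order p²). If x ∈ G is an isolated element of order p, then x is central modulo the largest normal subgroup of G of order prime to p. -/
theorem result {G : Type*} [Group G] [Finite G] {p : ℕ} [Fact p.Prime] (hp : p ≠ 2) (hrk : Cfsg.PRankLE p 1 G) (x : G) (hx : orderOf x = p) (hiso : Cfsg.IsIsolated x) : Cfsg.InZStar p x := by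
  have hx1 : x ≠ 1 := fun h => (Fact.out : p.Prime).ne_one (by rw [← hx, h, orderOf_one])
  obtain ⟨P, hP⟩ := (CfsgLib.LocalP.isPGroup_zpowers_of_orderOf (p := p)
    (⟨1, by rw [hx, pow_one]⟩ : ∃ k : ℕ, orderOf x = p ^ k)).exists_le_sylow
  have hxP : x ∈ (P : Subgroup G) := hP (Subgroup.mem_zpowers x)
  have hcyc : IsCyclic ↥(P : Subgroup G) :=
    CfsgLib.LocalP.isCyclic_of_pRankLE_one P.isPGroup' hp (CfsgLib.LocalP.pRankLE_subgroup hrk _)
  have hle := CfsgLib.LocalP.isolated_normalizer_le_centralizer hiso P hcyc hxP hx1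
  set f := MonoidHom.transferSylow P hle with hf
  have hK : f.ker ≤ Cfsg.pPrimeCore p G := le_sSup (show f.ker ∈ {N : Subgroup G | N.Normal ∧
      (Nat.card N).Coprime p} from ⟨MonoidHom.normal_ker f, ((Fact.out : p.Prime).coprime_iff_not_dvd.mpr
        (MonoidHom.not_dvd_card_ker_transferSylow P hle)).symm⟩)
  intro g
  apply hK
  rw [MonoidHom.mem_ker]
  simp only [map_mul, map_inv]
  have hc : f g * f x = f x * f g := by
    letI := hcyc.commGroup
    exact mul_comm _ _
  rw [hc]
  group

end Cfsg.Agent.S2971
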