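import Cfsg.Statements.S2972
import Cfsg.Agent.LocalP.Isolated
import Cfsg.Agent.Balance.ExtendedLayer
import Cfsg.Agent.MinNormal.Basic
import Mathlib.GroupTheory.SchurZassenhaus

set_option autoImplicit false
open Cfsg

namespace Cfsg.Agent.S2972

theorem eq_one_core_of_not_dvd {H : Type*} [Group H] {p : ℕ} [Fact p.Prime] (M : Subgroup H)
    (hM : M.Normal) (hMp : ¬ p ∣ Nat.card ↥M) : M ≤ Cfsg.pPrimeCore p H :=
  le_sSup (show M ∈ {N : Subgroup H | N.Normal ∧ (Nat.card N).Coprime p} from
    ⟨hM, ((Fact.out : p.Prime).coprime_iff_not_dvd.mpr hMp).symm⟩)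

theorem card_comap {H : Type*} [Group H] [Finite H] (M : Subgroup H) [M.Normal]
    (B : Subgroup (H ⧸ M)) :
    Nat.card ↥(B.comap (QuotientGroup.mk' M)) = Nat.card ↥M * Nat.card ↥B := by
  have h1 : (B.comap (QuotientGroup.mk' M)).index = B.index :=
    Subgroup.index_comap_of_surjective _ (QuotientGroup.mk'_surjective M)
  have h2 := Subgroup.card_mul_index (B.comap (QuotientGroup.mk' M))
  have h3 := Subgroup.card_mul_index B
  have h4 := Subgroup.card_mul_index M
  rw [h1, ← h4, Subgroup.index_eq_card M, ← h3, ← mul_assoc] at h2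
  exact Nat.eq_of_mul_eq_mul_right (Nat.pos_of_ne_zero Subgroup.index_ne_zero_of_finite) h2

theorem not_dvd_comap {H : Type*} [Group H] [Finite H] {p : ℕ} [Fact p.Prime] (M : Subgroup H)
    [M.Normal] (hM : ¬ p ∣ Nat.card ↥M) (B : Subgroup (H ⧸ M)) (hB : ¬ p ∣ Nat.card ↥B) :
    ¬ p ∣ Nat.card ↥(B.comap (QuotientGroup.mk' M)) := by
  rw [card_comap]
  exact fun h => ((Fact.out : p.Prime).dvd_mul.mp h).elim hM hB

theorem relIndex_dvd_of_le {H : Type*} [Group H] {M D K : Subgroup H} [M.Normal] (h : D ≤ K)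
    (hMK : M ≤ K) : M.relIndex D ∣ M.relIndex K := by
  have h1 := Subgroup.relIndex_mul_relIndex M (D ⊔ M) K le_sup_right (sup_le h hMK)
  rw [Subgroup.relIndex_sup_right] at h1
  exact Dvd.intro _ h1

/-- Let G be a finite group, p a prime and x ∈ G an isolated element of order p (the only conjugate of x commuting with x is x) which is not central modulo the largest normal subgroup of order prime to p, while x is central modulo the largest normal subgroup of order prime to p in every proper subgroup containing x, and the image of x is so in every quotient of G by a nontrivial normal subgroup (a minimal counterexample to the Z*_p statement). Then the derived subgroup G' is a non-abelian simple group and G = G'⟨x⟩. -/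
theorem result {G : Type*} [Group G] [Finite G] {p : ℕ} [Fact p.Prime] (x : G) (hx : orderOf x = p) (hiso : Cfsg.IsIsolated x) (hnz : ¬ Cfsg.InZStar p x) (hmin : ∀ (H : Subgroup G) (hxH : x ∈ H), H ≠ ⊤ → Cfsg.InZStar p (⟨x, hxH⟩ : ↥H)) (hquot : ∀ (N : Subgroup G) [N.Normal], N ≠ ⊥ → Cfsg.InZStar p (QuotientGroup.mk x : G ⧸ N)) : IsSimpleGroup ↥(commutator G) ∧ ¬ IsMulCommutative ↥(commutator G) ∧ commutator G ⊔ Subgroup.zpowers x = ⊤ := by
  have hp : p.Prime := Fact.out
  have hx1 : x ≠ 1 := fun h => hp.ne_one (by rw [← hx, h, orderOf_one])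
  have hxk : ∃ k : ℕ, orderOf x = p ^ k := ⟨1, by rw [hx, pow_one]⟩
  -- no normal p'-subgroup
  have hcore : Cfsg.pPrimeCore p G = ⊥ := by
    by_contra hR
    refine hnz fun g => ?_
    set R := Cfsg.pPrimeCore p G with hRdef
    set K := (Cfsg.pPrimeCore p (G ⧸ R)).comap (QuotientGroup.mk' R) with hK
    have hKle : K ≤ R := by
      apply eq_one_core_of_not_dvd
      · infer_instance
      · exact not_dvd_comap R (CfsgLib.Balance.pPrimeCore_not_dvd p G) _
          (CfsgLib.Balance.pPrimeCore_not_dvd p (G ⧸ R))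
    apply hKle
    rw [hK, Subgroup.mem_comap]
    simpa using hquot R hR (QuotientGroup.mk g)
  have hnoprime : ∀ M : Subgroup G, M.Normal → ¬ p ∣ Nat.card ↥M → M = ⊥ := fun M hM hMp =>
    le_bot_iff.mp (hcore ▸ eq_one_core_of_not_dvd M hM hMp)
  -- no normal p-subgroup
  have hnop : ∀ M : Subgroup G, M.Normal → IsPGroup p M → M = ⊥ := by
    intro M hMn hMp
    by_contra hM1
    apply hnz
    intro g
    have hR : IsPGroup p (M ⊔ Subgroup.zpowers x : Subgroup G) :=
      hMp.to_sup_of_normal_left (CfsgLib.LocalP.isPGroup_zpowers_of_orderOf hxk)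
    have hxM : ∀ (b : G), ∀ m ∈ M, Commute (b * x * b⁻¹) m := by
      intro b m hm
      have h : Commute x (b⁻¹ * m * b) := CfsgLib.LocalP.isolated_commute_of_mem hiso hR
        (Subgroup.mem_sup_right (Subgroup.mem_zpowers x)) _
        (Subgroup.mem_sup_left (by simpa using hMn.conj_mem m hm b⁻¹))
      have h' := h.map (MulAut.conj b).toMonoidHom
      simpa [mul_assoc] using h'
    set K := (Cfsg.pPrimeCore p (G ⧸ M)).comap (QuotientGroup.mk' M) with hK
    set D : Subgroup G := K ⊓ Subgroup.centralizer (M : Set G) with hD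
    have hDn : D.Normal := inferInstance
    have hu : g * x * g⁻¹ * x⁻¹ ∈ D := by
      refine ⟨?_, Subgroup.mem_centralizer_iff.mpr fun m hm => ?_⟩
      · simpa [hK, Subgroup.mem_comap] using hquot M hM1 (QuotientGroup.mk g)
      · have h1 : Commute (1 * x * 1⁻¹) m := hxM 1 m hm
        simp only [one_mul, inv_one, mul_one] at h1
        exact ((hxM g m hm).mul_left h1.inv_left).symm.eq
    -- the p'-elements of `D` form a normal p'-subgroup
    set Z := M.subgroupOf D with hZ
    have hZc : ∀ z ∈ Z, ∀ d : ↥D, Commute z d := by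
      intro z hz d
      exact Subtype.ext (Subgroup.mem_centralizer_iff.mp d.2.2 z hz)
    haveI : Z.Normal := hMn.subgroupOf D
    have hcop : Nat.Coprime (Nat.card ↥Z) Z.index := by
      obtain ⟨k, hk⟩ := IsPGroup.iff_card.mp (hMp.comap_of_injective D.subtype D.subtype_injective)
      rw [show Nat.card ↥Z = p ^ k from hk]
      apply Nat.Coprime.pow_left
      rw [hp.coprime_iff_not_dvd]
      intro hdvd
      have h1 : M.relIndex D ∣ M.relIndex K := by
        haveI := hMn
        exact relIndex_dvd_of_le (inf_le_left : D ≤ K) fun m hm => by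
          simp [hK, Subgroup.mem_comap, (QuotientGroup.eq_one_iff m).mpr hm]
      have h2 : M.relIndex K * Nat.card ↥M = Nat.card ↥K := by
        rw [Subgroup.relIndex, mul_comm,
          ← Nat.card_congr (Subgroup.subgroupOfEquivOfLe (show M ≤ K from fun m hm => by
            simp [hK, Subgroup.mem_comap, (QuotientGroup.eq_one_iff m).mpr hm])).toEquiv,
          Subgroup.card_mul_index]
      have h3 := card_comap M (Cfsg.pPrimeCore p (G ⧸ M))
      rw [← hK, ← h2] at h3
      have h4 : M.relIndex K = Nat.card ↥(Cfsg.pPrimeCore p (G ⧸ M)) :=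
        Nat.eq_of_mul_eq_mul_right Nat.card_pos (h3.trans (mul_comm _ _))
      exact CfsgLib.Balance.pPrimeCore_not_dvd p (G ⧸ M) (h4 ▸ hdvd.trans h1)
    obtain ⟨L, hL⟩ := Subgroup.exists_right_complement'_of_coprime hcop
    have hLcard : Nat.card ↥L = Z.index := by
      have := hL.card_mul_card
      rw [← Subgroup.card_mul_index Z] at this
      exact Nat.eq_of_mul_eq_mul_left Nat.card_pos this
    have hLp : ¬ p ∣ Nat.card ↥(L.map D.subtype) := by
      rw [← Nat.card_congr (L.equivMapOfInjective D.subtype D.subtype_injective).toEquiv, hLcard]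
      obtain ⟨k, hk⟩ := IsPGroup.iff_card.mp (hMp.comap_of_injective D.subtype D.subtype_injective)
      intro hdvd
      rcases Nat.eq_zero_or_pos k with rfl | hk0
      · -- trivial `Z`
        have hb : Z = ⊥ := Subgroup.eq_bot_of_card_eq Z (hk.trans (pow_zero p))
        rw [hb, Subgroup.index_bot] at hdvd
        obtain ⟨d, hd⟩ := exists_prime_orderOf_dvd_card' p hdvd
        have hDM : D ⊓ M = ⊥ := by
          rw [eq_bot_iff]
          rintro u ⟨hu1, hu2⟩
          have : (⟨u, hu1⟩ : ↥D) ∈ Z := hu2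
          rw [hb, Subgroup.mem_bot] at this
          simpa using congrArg Subtype.val this
        have hq : (QuotientGroup.mk (d : G) : G ⧸ M) ∈ Cfsg.pPrimeCore p (G ⧸ M) := d.2.1
        have hpow : (QuotientGroup.mk (d : G) : G ⧸ M) ^ p = 1 := by
          rw [← QuotientGroup.mk_pow, ← Subgroup.coe_pow, ← hd, pow_orderOf_eq_one]
          rfl
        have h1 : (QuotientGroup.mk (d : G) : G ⧸ M) = 1 := by
          have hc : (⟨_, hq⟩ : ↥(Cfsg.pPrimeCore p (G ⧸ M))) ^ p = 1 := Subtype.ext hpow
          have := pow_gcd_eq_one.mpr ⟨hc, pow_card_eq_one'⟩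
          rw [(hp.coprime_iff_not_dvd.mpr (CfsgLib.Balance.pPrimeCore_not_dvd p _)).gcd_eq_one,
            pow_one] at this
          exact congrArg Subtype.val this
        have : (d : G) ∈ D ⊓ M := ⟨d.2, (QuotientGroup.eq_one_iff _).mp h1⟩
        rw [hDM, Subgroup.mem_bot, OneMemClass.coe_eq_one] at this
        rw [this, orderOf_one] at hd
        exact hp.ne_one hd.symm
      · exact hp.coprime_iff_not_dvd.mp ((Nat.coprime_pow_left_iff hk0 _ _).mp
          (show Nat.Coprime (p ^ k) Z.index from by rw [← hk]; exact hcop)) hdvd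
    have hLn : (L.map D.subtype).Normal := by
      refine ⟨?_⟩
      rintro _ ⟨l, hl, rfl⟩ b
      set d : ↥D := ⟨b * (l : G) * b⁻¹, hDn.conj_mem _ l.2 b⟩ with hd
      refine ⟨d, ?_, rfl⟩
      obtain ⟨⟨⟨z, hz⟩, ⟨l', hl'⟩⟩, hzl⟩ := (hL : Subgroup.IsComplement _ _).2 d
      simp only at hzl
      have hpd : d ^ Nat.card ↥L = 1 := by
        apply Subtype.ext
        have hl1 : (l : G) ^ Nat.card ↥L = 1 := by
          simpa using congrArg Subtype.val
            (orderOf_dvd_iff_pow_eq_one.mp (Subgroup.orderOf_dvd_natCard L hl))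
        rw [Subgroup.coe_pow, hd, conj_pow, hl1]
        simp
      have hl'1 : l' ^ Nat.card ↥L = 1 := by
        exact orderOf_dvd_iff_pow_eq_one.mp (Subgroup.orderOf_dvd_natCard L hl')
      rw [← hzl, (hZc z hz l').mul_pow, hl'1, mul_one] at hpd
      have hz1 : z = 1 := by
        have hzc : z ^ Nat.card ↥Z = 1 := by
          exact orderOf_dvd_iff_pow_eq_one.mp (Subgroup.orderOf_dvd_natCard Z hz)
        have := pow_gcd_eq_one.mpr ⟨hzc, hpd⟩
        rw [hLcard] at this
        rwa [hcop.gcd_eq_one, pow_one] at this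
      rw [← hzl, hz1, one_mul]
      exact hl'
    have hL1 := hnoprime _ hLn hLp
    have huM : g * x * g⁻¹ * x⁻¹ ∈ M := by
      obtain ⟨⟨⟨z, hz⟩, ⟨l', hl'⟩⟩, hzl⟩ := (hL : Subgroup.IsComplement _ _).2 ⟨_, hu⟩
      simp only at hzl
      have hl1 : (l' : G) ∈ L.map D.subtype := ⟨l', hl', rfl⟩
      rw [hL1, Subgroup.mem_bot] at hl1
      have := congrArg Subtype.val hzl
      simp only [Subgroup.coe_mul, hl1, mul_one] at this
      exact this ▸ hz
    have hcomm : Commute x (g * x * g⁻¹) := by
      have h1 := hxM 1 _ huM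
      simp only [one_mul, inv_one, mul_one] at h1
      simpa [mul_assoc] using h1.mul_right (Commute.refl x)
    rw [hiso g hcomm, mul_inv_cancel]
    exact one_mem _
  -- a minimal normal subgroup supplemented by x
  obtain ⟨N, hN, hNx⟩ : ∃ N : Subgroup G, CfsgLib.MinNormal.IsMinNormal N ∧
      N ⊔ Subgroup.zpowers x = ⊤ := by
    by_contra hno
    push Not at hno
    have hcent : ∀ N : Subgroup G, CfsgLib.MinNormal.IsMinNormal N →
        x ∈ Subgroup.centralizer (N : Set G) := by
      intro N hN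
      set H := N ⊔ Subgroup.zpowers x with hH
      have hxH : x ∈ H := Subgroup.mem_sup_right (Subgroup.mem_zpowers x)
      set C := (Cfsg.pPrimeCore p ↥H).map H.subtype ⊓ N with hC
      haveI := hN.normal
      have hCn : (C.subgroupOf N).Normal := by
        refine ⟨fun c hc b => ?_⟩
        obtain ⟨⟨v, hv, hvc⟩, hcN⟩ := hc
        refine ⟨⟨(⟨b, Subgroup.mem_sup_left b.2⟩ : ↥H) * v * ⟨b, Subgroup.mem_sup_left b.2⟩⁻¹,
          (Cfsg.pPrimeCore_normal p ↥H).conj_mem v hv _, ?_⟩, (b * c * b⁻¹).2⟩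
        simp only [Subgroup.coe_subtype] at hvc ⊢
        simp [hvc]
      have hCp : ¬ p ∣ Nat.card ↥(C.subgroupOf N) := by
        intro hdvd
        apply CfsgLib.Balance.pPrimeCore_not_dvd p ↥H
        rw [Nat.card_congr (Subgroup.subgroupOfEquivOfLe (inf_le_right : C ≤ N)).toEquiv] at hdvd
        refine hdvd.trans ?_
        rw [Nat.card_congr ((Cfsg.pPrimeCore p ↥H).equivMapOfInjective H.subtype
          H.subtype_injective).toEquiv]
        exact Subgroup.card_dvd_of_le inf_le_left
      have hch : (Cfsg.pPrimeCore p ↥N).Characteristic :=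
        Subgroup.characteristic_iff_map_le.mpr fun φ => le_of_eq (CfsgLib.Balance.pPrimeCore_map φ p)
      have hb : (Cfsg.pPrimeCore p ↥N).map N.subtype = ⊥ := hnoprime _ inferInstance (by
        rw [← Nat.card_congr ((Cfsg.pPrimeCore p ↥N).equivMapOfInjective N.subtype
          N.subtype_injective).toEquiv]
        exact CfsgLib.Balance.pPrimeCore_not_dvd p _)
      refine Subgroup.mem_centralizer_iff.mpr fun n hn => ?_
      have hmem : n * x * n⁻¹ * x⁻¹ ∈ C := by
        refine ⟨⟨_, hmin H hxH (hno N hN) ⟨n, Subgroup.mem_sup_left hn⟩, rfl⟩, ?_⟩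
        have := mul_mem hn (hN.normal.conj_mem _ (inv_mem hn) x)
        simpa [mul_assoc] using this
      have hmem' : n * x * n⁻¹ * x⁻¹ ∈ (Cfsg.pPrimeCore p ↥N).map N.subtype :=
        ⟨⟨_, hmem.2⟩, eq_one_core_of_not_dvd _ hCn hCp hmem, rfl⟩
      rw [hb, Subgroup.mem_bot, mul_inv_eq_one, mul_inv_eq_iff_eq_mul] at hmem'
      exact hmem'
    have hM1 : Subgroup.normalClosure {x} ≠ ⊥ := fun h =>
      hx1 (Subgroup.mem_bot.mp (h ▸ Subgroup.subset_normalClosure (Set.mem_singleton x)))
    obtain ⟨N', hN', hle⟩ := CfsgLib.MinNormal.exists_isMinNormal_le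
      (Subgroup.normalClosure_normal (s := {x})) hM1
    haveI := hN'.normal
    have hab : IsMulCommutative ↥N' := by
      rw [← Subgroup.le_centralizer_iff_isMulCommutative]
      exact hle.trans (Subgroup.normalClosure_le_normal (by simpa using hcent N' hN'))
    obtain ⟨q, hq, hqx⟩ := hN'.exists_prime_pow_eq_one hab
    have hqp : IsPGroup q ↥N' := fun y => ⟨1, Subtype.ext (by simpa using hqx y y.2)⟩
    by_cases hpq : p = q
    · exact hN'.ne_bot (hnop N' hN'.normal (hpq ▸ hqp))
    · haveI := Fact.mk hq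
      obtain ⟨k, hk⟩ := IsPGroup.iff_card.mp hqp
      refine hN'.ne_bot (hnoprime N' hN'.normal ?_)
      rw [hk]
      exact fun h => hpq ((Nat.prime_dvd_prime_iff_eq hp hq).mp (hp.dvd_of_dvd_pow h))
  haveI := hN.normal
  have hna : ¬ IsMulCommutative ↥N := by
    intro hab
    obtain ⟨q, hq, hqx⟩ := hN.exists_prime_pow_eq_one hab
    have hqp : IsPGroup q ↥N := fun y => ⟨1, Subtype.ext (by simpa using hqx y y.2)⟩
    by_cases hpq : p = q
    · exact hN.ne_bot (hnop N hN.normal (hpq ▸ hqp))
    · haveI := Fact.mk hq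
      obtain ⟨k, hk⟩ := IsPGroup.iff_card.mp hqp
      refine hN.ne_bot (hnoprime N hN.normal ?_)
      rw [hk]
      exact fun h => hpq ((Nat.prime_dvd_prime_iff_eq hp hq).mp (hp.dvd_of_dvd_pow h))
  have hcomm : commutator G = N := by
    have hle : commutator G ≤ N := by
      rw [commutator_def, Subgroup.commutator_le]
      intro a _ b _
      rw [← QuotientGroup.eq_one_iff]
      have hcyc : ∀ c : G, ∃ i : ℤ, (QuotientGroup.mk c : G ⧸ N) = (QuotientGroup.mk x) ^ i := by
        intro c
        have hc : c ∈ N ⊔ Subgroup.zpowers x := hNx ▸ Subgroup.mem_top c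
        obtain ⟨m, hm, w, hw, rfl⟩ := Subgroup.mem_sup_of_normal_left.mp hc
        obtain ⟨i, rfl⟩ := Subgroup.mem_zpowers_iff.mp hw
        exact ⟨i, by rw [QuotientGroup.mk_mul, (QuotientGroup.eq_one_iff m).mpr hm, one_mul,
          QuotientGroup.mk_zpow]⟩
      obtain ⟨i, hi⟩ := hcyc a
      obtain ⟨j, hj⟩ := hcyc b
      simp only [commutatorElement_def, QuotientGroup.mk_mul, QuotientGroup.mk_inv, hi, hj]
      group
    refine hN.eq_of_le inferInstance ?_ hle
    intro hbot
    apply hna
    refine ⟨⟨fun a b => Subtype.ext ?_⟩⟩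
    have h1 := Subgroup.commutator_mem_commutator (H₁ := (⊤ : Subgroup G)) (H₂ := ⊤)
      (Subgroup.mem_top (a : G)) (Subgroup.mem_top (b : G))
    rw [← commutator_def, hbot, Subgroup.mem_bot, commutatorElement_eq_one_iff_commute] at h1
    exact h1
  rw [hcomm]
  haveI : Nontrivial ↥N := (Subgroup.nontrivial_iff_ne_bot N).2 hN.ne_bot
  refine ⟨?_, hna, hNx⟩
  rw [← CfsgLib.MinNormal.isMinNormal_top_iff]
  obtain ⟨T, hT⟩ := CfsgLib.MinNormal.exists_isMinNormal (G := ↥N)
  by_cases hTt : T = ⊤
  · exact hTt ▸ hT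
  exfalso
  -- T meets a Sylow subgroup containing x
  obtain ⟨P, hP⟩ := (CfsgLib.LocalP.isPGroup_zpowers_of_orderOf hxk).exists_le_sylow
  have hTp : p ∣ Nat.card ↥T := by
    by_contra hTp
    have hch : (Cfsg.pPrimeCore p ↥N).Characteristic :=
      Subgroup.characteristic_iff_map_le.mpr fun φ => le_of_eq (CfsgLib.Balance.pPrimeCore_map φ p)
    have hb : (Cfsg.pPrimeCore p ↥N).map N.subtype = ⊥ := hnoprime _ inferInstance (by
      rw [← Nat.card_congr ((Cfsg.pPrimeCore p ↥N).equivMapOfInjective N.subtype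
        N.subtype_injective).toEquiv]
      exact CfsgLib.Balance.pPrimeCore_not_dvd p _)
    exact hT.ne_bot (le_bot_iff.mp ((eq_one_core_of_not_dvd T hT.normal hTp).trans
      (le_of_eq ((Subgroup.map_eq_bot_iff_of_injective _ N.subtype_injective).mp hb))))
  obtain ⟨t, ht⟩ := exists_prime_orderOf_dvd_card' p hTp
  have htN : ((t : ↥N) : G) ∈ N := (t : ↥N).2
  have htp : IsPGroup p (Subgroup.zpowers ((t : ↥N) : G)) :=
    CfsgLib.LocalP.isPGroup_zpowers_of_orderOf ⟨1, by rw [Subgroup.orderOf_coe, Subgroup.orderOf_coe, ht, pow_one]⟩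
  obtain ⟨Q, hQ⟩ := htp.exists_le_sylow
  obtain ⟨b, hb⟩ := MulAction.exists_smul_eq G Q P
  set φ : ↥N ≃* ↥N := MulAut.conjNormal b with hφ
  set T' : Subgroup ↥N := T.map φ.toMonoidHom with hT'
  have hT'min : CfsgLib.MinNormal.IsMinNormal T' := by
    refine ⟨hT.normal.map _ φ.surjective, ?_, fun M hM hMT => ?_⟩
    · rw [hT']; exact (Subgroup.map_eq_bot_iff_of_injective _ φ.injective).not.mpr hT.ne_bot
    · rcases hT.eq_or_eq (M.comap φ.toMonoidHom) (hM.comap _) (fun m hm => by
        obtain ⟨w, hw, hwm⟩ := hMT hm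
        exact φ.injective hwm ▸ hw) with h | h
      · left
        refine (Subgroup.map_comap_eq_self_of_surjective φ.surjective M).symm.trans ?_
        exact (congrArg (Subgroup.map φ.toMonoidHom) h).trans (Subgroup.map_bot _)
      · right
        exact (Subgroup.map_comap_eq_self_of_surjective φ.surjective M).symm.trans
          (congrArg (Subgroup.map φ.toMonoidHom) h)
  have hfix : (MulAut.conjNormal x : MulAut ↥N) (φ t) = φ t := by
    apply Subtype.ext
    have hmem : b * ((t : ↥N) : G) * b⁻¹ ∈ (P : Subgroup G) := by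
      rw [← hb]
      exact ⟨_, hQ (Subgroup.mem_zpowers _), rfl⟩
    have := CfsgLib.LocalP.isolated_commute_of_mem hiso P.isPGroup' (hP (Subgroup.mem_zpowers x)) _ hmem
    simp only [hφ, MulAut.conjNormal_apply]
    rw [this, mul_inv_cancel_right]
  set ψ : ↥N ≃* ↥N := MulAut.conjNormal x with hψ
  have hne : φ t ≠ 1 := by
    rw [Ne, map_eq_one_iff φ φ.injective]
    intro h
    rw [← Subgroup.orderOf_coe, h, orderOf_one] at ht
    exact hp.ne_one ht.symm
  have hinv : T'.map ψ.toMonoidHom = T' := by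
    have hn' : (T'.map ψ.toMonoidHom).Normal := hT'min.normal.map _ ψ.surjective
    have hle : T' ≤ T'.map ψ.toMonoidHom := by
      rcases hT'min.le_or_inf_eq_bot hn' with h | h
      · exact h
      · exfalso
        have hmem : φ t ∈ T' ⊓ T'.map ψ.toMonoidHom :=
          ⟨⟨t, t.2, rfl⟩, ⟨φ t, ⟨t, t.2, rfl⟩, hfix⟩⟩
        rw [h, Subgroup.mem_bot] at hmem
        exact hne hmem
    exact (Subgroup.eq_of_le_of_card_ge hle
      (le_of_eq (Nat.card_congr (T'.equivMapOfInjective ψ.toMonoidHom ψ.injective).toEquiv).symm)).symm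
  have hTn : (T'.map N.subtype).Normal := by
    rw [← Subgroup.normalizer_eq_top_iff, eq_top_iff, ← hNx, sup_le_iff, Subgroup.zpowers_le]
    constructor
    · refine le_trans (le_of_eq ?_) (Subgroup.le_normalizer_map N.subtype)
      haveI := hT'min.normal
      rw [Subgroup.normalizer_eq_top, ← MonoidHom.range_eq_map, Subgroup.range_subtype]
    · rw [Subgroup.mem_normalizer_iff]
      intro u
      constructor
      · rintro ⟨w, hw, rfl⟩
        exact ⟨ψ w, hinv.le ⟨w, hw, rfl⟩, by simp [hψ]⟩
      · rintro ⟨w, hw, hwu⟩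
        obtain ⟨v, hv, hvw⟩ := hinv.ge hw
        refine ⟨v, hv, ?_⟩
        have := congrArg Subtype.val hvw
        simp only [Subgroup.coe_subtype] at hwu
        simp [hψ, hwu] at this
        simpa using this
  rcases hN.eq_or_eq _ hTn (Subgroup.map_subtype_le T') with h | h
  · exact hT'min.ne_bot ((Subgroup.map_eq_bot_iff_of_injective _ N.subtype_injective).mp h)
  · have : T' = ⊤ := by
      apply Subgroup.map_injective N.subtype_injective
      rw [h, ← MonoidHom.range_eq_map, Subgroup.range_subtype]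
    exact hTt (Subgroup.map_injective φ.injective
      ((hT'.symm.trans this).trans (Subgroup.map_top_of_surjective φ.toMonoidHom φ.surjective).symm))

end Cfsg.Agent.S2972
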