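import Cfsg.Statements.S2975
import Cfsg.Agent.Eq.Def_IsolatedElements
import Cfsg.Agent.Eq.Def_Solvable
import Cfsg.Agent.Balance.ExtendedLayer
import Cfsg.Agent.Coprime44.InvariantSylow

set_option autoImplicit false
open Cfsg

namespace Cfsg.Agent.S2975

theorem conj_eq_of_mem_pGroup {G : Type*} [Group G] [Finite G] {p : ℕ} [Fact p.Prime] {x : G}
    (hiso : Cfsg.IsIsolated x) {U : Subgroup G} (hU : IsPGroup p U) (hx : x ∈ U) {g : G}
    (hg : g * x * g⁻¹ ∈ U) : g * x * g⁻¹ = x := by
  haveI : Group.IsNilpotent ↥U := hU.isNilpotent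
  have h : (Subgroup.centralizer ({x} : Set G)).subgroupOf U = ⊤ := by
    refine normalizerCondition_iff_only_full_group_self_normalizing.mp
      Group.normalizerCondition_of_isNilpotent _ (le_antisymm ?_ Subgroup.le_normalizer)
    intro n hn
    rw [Subgroup.mem_subgroupOf, Subgroup.mem_centralizer_singleton_iff]
    have h1 : n * ⟨x, hx⟩ * n⁻¹ ∈ (Subgroup.centralizer ({x} : Set G)).subgroupOf U :=
      (Subgroup.mem_normalizer_iff.mp hn _).mp
        (Subgroup.mem_subgroupOf.mpr (Subgroup.mem_centralizer_singleton_iff.mpr rfl))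
    rw [Subgroup.mem_subgroupOf, Subgroup.mem_centralizer_singleton_iff] at h1
    have h2 : (n : G) * x * (n : G)⁻¹ = x := hiso n h1.symm
    exact mul_inv_eq_iff_eq_mul.mp h2
  have h3 : g * x * g⁻¹ ∈ Subgroup.centralizer ({x} : Set G) :=
    Subgroup.subgroupOf_eq_top.mp h hg
  exact hiso g (Subgroup.mem_centralizer_singleton_iff.mp h3).symm

theorem card_sylow_congr {G : Type*} [Group G] [Finite G] {q : ℕ} [Fact q.Prime] (A B : Sylow q G) :
    Nat.card ↥(A : Subgroup G) = Nat.card ↥(B : Subgroup G) := by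
  rw [A.card_eq_multiplicity, B.card_eq_multiplicity]


/-- Let G be a finite group, p a prime and x ∈ G an isolated element of order p (the only conjugate of x commuting with x is x) which is not central modulo the largest normal subgroup of order prime to p, while x is central modulo the largest normal subgroup of order prime to p in every proper subgroup containing x, and the image of x is so in every quotient of G by a nontrivial normal subgroup (a minimal counterexample to the Z*_p statement). Then for every prime q, every q-subgroup of G that is normalized by x and maximal among the q-subgroups normalized by x is either trivial or a Sylow q-subgroup of G; and C_G(x) permutes the x-invariant Sylow q-subgroups of G transitively by conjugation. -/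
theorem result {G : Type*} [Group G] [Finite G] {p : ℕ} [Fact p.Prime] (x : G) (hx : orderOf x = p) (hiso : Cfsg.IsIsolated x) (hnz : ¬ Cfsg.InZStar p x) (hmin : ∀ (H : Subgroup G) (hxH : x ∈ H), H ≠ ⊤ → Cfsg.InZStar p (⟨x, hxH⟩ : ↥H)) (hquot : ∀ (N : Subgroup G) [N.Normal], N ≠ ⊥ → Cfsg.InZStar p (QuotientGroup.mk x : G ⧸ N)) (q : ℕ) [Fact q.Prime] : (∀ Q : Subgroup G, IsPGroup q ↥Q → x ∈ Subgroup.normalizer (Q : Set G) → (∀ R : Subgroup G, IsPGroup q ↥R → x ∈ Subgroup.normalizer (R : Set G) → Q ≤ R → R = Q) → Q = ⊥ ∨ ∃ S : Sylow q G, (S : Subgroup G) = Q) ∧ (∀ S₁ S₂ : Sylow q G, x ∈ Subgroup.normalizer ((S₁ : Subgroup G) : Set G) → x ∈ Subgroup.normalizer ((S₂ : Subgroup G) : Set G) → ∃ c ∈ Subgroup.centralizer ({x} : Set G), (S₁ : Subgroup G).map (MulAut.conj c).toMonoidHom = (S₂ : Subgroup G)) := by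
  classical
  have hxp : IsPGroup p ↥(Subgroup.zpowers x) := IsPGroup.of_card (n := 1) (by rw [Nat.card_zpowers, hx, pow_one])
  refine ⟨fun Q hQ hxQ hmax => ?_, fun S₁ S₂ h1 h2 => ?_⟩
  · by_cases hQ1 : Q = ⊥
    · exact Or.inl hQ1
    right
    obtain ⟨S, hQS⟩ := hQ.exists_le_sylow
    refine ⟨S, ?_⟩
    by_cases hqp : q = p
    · subst hqp
      have hUp : IsPGroup q ↥(Subgroup.zpowers x ⊔ Q : Subgroup G) :=
        hxp.to_sup_of_normal_right' hQ (Subgroup.zpowers_le.mpr hxQ)
      have hxU : x ∈ Subgroup.zpowers x ⊔ Q := Subgroup.mem_sup_left (Subgroup.mem_zpowers x)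
      have h := hmax _ hUp (Subgroup.le_normalizer hxU) le_sup_right
      exact hmax _ S.isPGroup' (Subgroup.le_normalizer (hQS (h ▸ hxU))) hQS
    haveI := CfsgLib.Balance.oddCore_normal_inst (G := G) p
    set H := Subgroup.normalizer (Q : Set G) with hH
    by_cases hHt : H = ⊤
    · exfalso
      have hQn : Q.Normal := Subgroup.normalizer_eq_top_iff.mp hHt
      have hQc : (Nat.card Q).Coprime p := by
        obtain ⟨k, hk⟩ := hQ.exists_card_eq
        rw [hk]
        exact ((Nat.coprime_primes (Fact.out : q.Prime) (Fact.out : p.Prime)).mpr hqp).pow_left k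
      set K := Cfsg.pPrimeCore p G with hK
      have hKne : K ≠ ⊥ := ne_bot_of_le_ne_bot hQ1 (le_sSup ⟨hQn, hQc⟩)
      apply hnz
      intro g
      have h := hquot K hKne (QuotientGroup.mk g)
      haveI := CfsgLib.Balance.oddCore_normal_inst (G := G ⧸ K) p
      have hle : (Cfsg.pPrimeCore p (G ⧸ K)).comap (QuotientGroup.mk' K) ≤ K := by
        refine le_sSup ⟨inferInstance, Nat.Coprime.symm (((Fact.out : p.Prime).coprime_iff_not_dvd).mpr ?_)⟩
        rw [← Subgroup.relIndex_bot_left, ← Subgroup.relIndex_mul_relIndex ⊥ K _ bot_le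
          (QuotientGroup.le_comap_mk' _ _), Subgroup.relIndex_bot_left]
        intro hd
        rcases (Fact.out : p.Prime).dvd_mul.mp hd with h3 | h3
        · exact CfsgLib.Balance.pPrimeCore_not_dvd p G h3
        · apply CfsgLib.Balance.pPrimeCore_not_dvd p (G ⧸ K)
          rwa [show K.relIndex ((Cfsg.pPrimeCore p (G ⧸ K)).comap (QuotientGroup.mk' K)) =
              Nat.card ↥(Cfsg.pPrimeCore p (G ⧸ K)) from ?_] at h3
          have h4 : (⊥ : Subgroup (G ⧸ K)).comap (QuotientGroup.mk' K) = K := by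
            rw [MonoidHom.comap_bot, QuotientGroup.ker_mk']
          nth_rewrite 1 [← h4]
          rw [Subgroup.relIndex_comap, Subgroup.map_comap_eq_self_of_surjective
            (QuotientGroup.mk'_surjective K), Subgroup.relIndex_bot_left]
      exact hle (Subgroup.mem_comap.mpr h)
    · -- inside the proper subgroup `H`
      have hz := hmin H hxQ hHt
      haveI := CfsgLib.Balance.oddCore_normal_inst (G := ↥H) p
      set K := Cfsg.pPrimeCore p ↥H with hK
      set xh : ↥H := ⟨x, hxQ⟩ with hxh
      obtain ⟨T⟩ := (inferInstance : Nonempty (Sylow q ↥H))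
      set W := K ⊔ (T : Subgroup ↥H) with hW
      have hWp : ¬ p ∣ Nat.card ↥W :=
        CfsgLib.Balance.not_dvd_card_sup (CfsgLib.Balance.pPrimeCore_not_dvd p ↥H) (by
          obtain ⟨k, hk⟩ := T.isPGroup'.exists_card_eq
          rw [hk]
          intro hd
          exact hqp ((Nat.prime_dvd_prime_iff_eq Fact.out Fact.out).mp ((Fact.out : p.Prime).dvd_of_dvd_pow hd)).symm)
      have hxW : Subgroup.zpowers xh ≤ Subgroup.normalizer (W : Set ↥H) := by
        rw [Subgroup.zpowers_le, Subgroup.mem_normalizer_iff_map_conj_eq]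
        refine Subgroup.eq_of_le_of_card_ge ?_
          (Subgroup.card_map_of_injective (f := (MulAut.conj xh).toMonoidHom) (MulAut.conj xh).injective).ge
        rintro _ ⟨t, ht, rfl⟩
        have h1 : (t * xh * t⁻¹ * xh⁻¹)⁻¹ ∈ W := Subgroup.mem_sup_left (inv_mem (hz t))
        have h2 := mul_mem h1 ht
        show xh * t * xh⁻¹ ∈ W
        convert h2 using 1
        group
      have hxhp : IsPGroup p ↥(Subgroup.zpowers xh) :=
        IsPGroup.of_card (n := 1) (by rw [Nat.card_zpowers, hxh, Subgroup.orderOf_mk, hx, pow_one])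
      obtain ⟨T', hT'⟩ := CfsgLib.Coprime44.exists_invariant_sylow hxhp hWp hxW q
      set TH := (T' : Subgroup ↥W).map W.subtype with hTH
      have hTHp : IsPGroup q ↥TH := T'.isPGroup'.map _
      have hTHcard : Nat.card ↥TH = Nat.card ↥(T : Subgroup ↥H) := by
        rw [hTH, Subgroup.card_map_of_injective W.subtype_injective,
          card_sylow_congr T' (T.subtype (le_sup_right : (T : Subgroup ↥H) ≤ W)), Sylow.coe_subtype]
        exact Nat.card_congr (Subgroup.subgroupOfEquivOfLe le_sup_right).toEquiv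
      obtain ⟨T2, hT2⟩ := hTHp.exists_le_sylow
      have hTH2 : TH = (T2 : Subgroup ↥H) :=
        Subgroup.eq_of_le_of_card_ge hT2 ((card_sylow_congr T2 T).le.trans hTHcard.ge)
      have hQH : Q ≤ H := Subgroup.le_normalizer
      have hQT : Q.subgroupOf H ≤ TH := by
        rw [hTH2]
        exact (hQ.of_equiv (Subgroup.subgroupOfEquivOfLe hQH).symm).le_sylow_of_normal T2
      have hxT : x ∈ Subgroup.normalizer ((TH.map H.subtype : Subgroup G) : Set G) := by
        rw [Subgroup.mem_normalizer_iff_map_conj_eq]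
        refine Subgroup.eq_of_le_of_card_ge ?_
          (Subgroup.card_map_of_injective (f := (MulAut.conj x).toMonoidHom) (MulAut.conj x).injective).ge
        rintro _ ⟨_, ⟨t, ht, rfl⟩, rfl⟩
        exact ⟨xh * t * xh⁻¹,
          (Subgroup.mem_normalizer_iff.mp (hT' (Subgroup.mem_zpowers xh)) t).mp ht, rfl⟩
      have hle : Q ≤ TH.map H.subtype := by
        calc Q = (Q.subgroupOf H).map H.subtype := (Subgroup.map_subgroupOf_eq_of_le hQH).symm
          _ ≤ _ := Subgroup.map_mono hQT
      have hQeq : TH.map H.subtype = Q := hmax _ (hTHp.map _) hxT hle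
      -- `Q` is Sylow in its normalizer, hence in `G`
      haveI : Group.IsNilpotent ↥(S : Subgroup G) := S.isPGroup'.isNilpotent
      refine le_antisymm ?_ hQS
      refine Subgroup.subgroupOf_eq_top.mp
        (normalizerCondition_iff_only_full_group_self_normalizing.mp
          Group.normalizerCondition_of_isNilpotent _ ?_)
      refine le_antisymm ?_ Subgroup.le_normalizer
      rw [← Subgroup.subgroupOf_normalizer_eq hQS]
      intro n hn
      rw [Subgroup.mem_subgroupOf] at hn ⊢
      have hSH : IsPGroup q ↥((S : Subgroup G).subgroupOf H) :=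
        S.isPGroup'.comap_of_injective H.subtype H.subtype_injective
      obtain ⟨T3, hT3⟩ := hSH.exists_le_sylow
      have h6 : Q.subgroupOf H = (T3 : Subgroup ↥H) := by
        refine Subgroup.eq_of_le_of_card_ge
          ((hQ.of_equiv (Subgroup.subgroupOfEquivOfLe hQH).symm).le_sylow_of_normal T3) ?_
        refine ((card_sylow_congr T3 T).le.trans hTHcard.ge).trans ?_
        rw [← hQeq, Subgroup.subgroupOf, Subgroup.comap_map_eq_self_of_injective H.subtype_injective]
      have h7 : (⟨(n : G), hn⟩ : ↥H) ∈ Q.subgroupOf H := by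
        rw [h6]; exact hT3 (Subgroup.mem_subgroupOf.mpr n.2)
      exact h7
  · obtain ⟨g, hg⟩ := MulAction.exists_smul_eq G S₁ S₂
    set N := Subgroup.normalizer ((S₂ : Subgroup G) : Set G) with hN
    set y := g * x * g⁻¹ with hy
    have e : (S₂ : Subgroup G) = (S₁ : Subgroup G).map (MulAut.conj g).toMonoidHom := by
      rw [← hg]; rfl
    have hyN : y ∈ N := by
      rw [hN, Subgroup.mem_normalizer_iff_map_conj_eq, e]
      refine Subgroup.eq_of_le_of_card_ge ?_
        (Subgroup.card_map_of_injective (f := (MulAut.conj y).toMonoidHom) (MulAut.conj y).injective).ge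
      rintro _ ⟨_, ⟨a, ha, rfl⟩, rfl⟩
      refine ⟨x * a * x⁻¹, (Subgroup.mem_normalizer_iff.mp h1 a).mp ha, ?_⟩
      show g * (x * a * x⁻¹) * g⁻¹ = y * (g * a * g⁻¹) * y⁻¹
      rw [hy]; group
    obtain ⟨P, hP⟩ := ((hxp.comap_of_injective N.subtype N.subtype_injective)).exists_le_sylow
    have hyp : IsPGroup p ↥(Subgroup.zpowers y) := IsPGroup.of_card (n := 1) (by
      rw [Nat.card_zpowers, pow_one, hy, show g * x * g⁻¹ = MulAut.conj g x from rfl,
        MulEquiv.orderOf_eq, hx])
    obtain ⟨P', hP'⟩ := ((hyp.comap_of_injective N.subtype N.subtype_injective)).exists_le_sylow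
    obtain ⟨n, hn⟩ := MulAction.exists_smul_eq (↥N) P' P
    have hxU : x ∈ (P : Subgroup ↥N).map N.subtype :=
      ⟨⟨x, h2⟩, hP (Subgroup.mem_comap.mpr (Subgroup.mem_zpowers x)), rfl⟩
    have hyU : ((n : G) * g) * x * ((n : G) * g)⁻¹ ∈ (P : Subgroup ↥N).map N.subtype := by
      refine ⟨n * ⟨y, hyN⟩ * n⁻¹, ?_, ?_⟩
      · rw [← hn]
        show n * ⟨y, hyN⟩ * n⁻¹ ∈ ((n • P' : Sylow p ↥N) : Subgroup ↥N)
        rw [Sylow.coe_subgroup_smul]
        exact Subgroup.smul_mem_pointwise_smul _ _ _
          (hP' (Subgroup.mem_comap.mpr (Subgroup.mem_zpowers y)))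
      · show (n : G) * y * (n : G)⁻¹ = _
        rw [hy]; group
    have heq := conj_eq_of_mem_pGroup hiso (P.isPGroup'.map _) hxU hyU
    refine ⟨(n : G) * g, Subgroup.mem_centralizer_singleton_iff.mpr (mul_inv_eq_iff_eq_mul.mp heq), ?_⟩
    refine Subgroup.eq_of_le_of_card_ge ?_ ?_
    · rintro _ ⟨a, ha, rfl⟩
      have h6 : g * a * g⁻¹ ∈ (S₂ : Subgroup G) := e ▸ ⟨a, ha, rfl⟩
      show ((n : G) * g) * a * ((n : G) * g)⁻¹ ∈ (S₂ : Subgroup G)
      have h7 := (Subgroup.mem_normalizer_iff.mp n.2 _).mp h6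
      convert h7 using 1
      group
    · rw [Subgroup.card_map_of_injective (f := (MulAut.conj ((n : G) * g)).toMonoidHom)
        (MulAut.conj ((n : G) * g)).injective]
      exact (card_sylow_congr S₂ S₁).le

end Cfsg.Agent.S2975
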