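import Cfsg.Statements.S2985
import Cfsg.Agent.BaumannBlock.CentModule.Assemble
import Cfsg.Agent.Eq.Def_BaumannBlocks
-- import your own Cfsg.Agent.* helpers here

set_option autoImplicit false
open Cfsg
open scoped commutatorElement

namespace Cfsg.Agent.S2985

/-- Let G be a finite group of characteristic p (C_G(O_p(G)) ≤ O_p(G)), T a Sylow p-subgroup and E a B(T)-block of G, with W_E = [Ω₁(Z(O_p(E))), E]. Then E is normalized by C_G(W_E); that is, E is a normal subgroup of E·C_G(W_E). -/
theorem result {G : Type*} [Group G] [Finite G] {p : ℕ} [Fact p.Prime] (hG : Subgroup.centralizer (Cfsg.pCore p G : Set G) ≤ Cfsg.pCore p G) (T : Sylow p G) (E : Subgroup G) (hE : Cfsg.IsBaumannBlock p (T : Subgroup G) E) : Subgroup.centralizer ((⁅Cfsg.omegaOneCenter p (Cfsg.pCoreOf p E), E⁆ : Subgroup G) : Set G) ≤ Subgroup.normalizer (E : Set G) := by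
  obtain ⟨heq, hUW, -, -, hUZ, -⟩ := CfsgLib.BaumannBlock.block_commutator_eq hG T hE
  rw [heq]
  set O := Cfsg.pCore p G with hO
  set V := Cfsg.omegaOneCenter p O with hV
  set W := Cfsg.omegaOneCenter p (Cfsg.pCoreOf p E) with hW
  set U := ⁅V, E⁆ with hU
  obtain ⟨hres, hcomm, -, -, -⟩ := id hE
  have hOn : O.Normal := CfsgLib.Constrained.instNormalPCore p
  have hOp : IsPGroup p O := CfsgLib.Constrained.isPGroup_pCore
  have hBE := CfsgLib.BaumannBlock.le_normalizer_of_commutator_eq hcomm
  have hWn : ∀ g ∈ Subgroup.normalizer (E : Set G), g ∈ Subgroup.normalizer (W : Set G) := fun g hg =>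
    CfsgLib.BaumannBlock.CentModule.normalizer_le_normalizer_omegaOneCenter _
      (CfsgLib.BaumannBlock.CentModule.normalizer_le_normalizer_pCoreOf E hg)
  have hUn : ∀ g ∈ Subgroup.normalizer (E : Set G), g ∈ Subgroup.normalizer (U : Set G) := fun g hg => by
    rw [Subgroup.mem_normalizer_iff_map_conj_eq, ← heq, Subgroup.map_commutator,
      Subgroup.mem_normalizer_iff_map_conj_eq.1 (hWn g hg), Subgroup.mem_normalizer_iff_map_conj_eq.1 hg]
  by_cases hnot : ⁅O, E⁆ ≤ W
  · have hWc : ∀ a ∈ W, ∀ b ∈ W, a * b = b * a := fun a ha b hb =>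
      CfsgLib.BaumannBlock.omegaOneCenter_comm _ ha hb
    have hWp : IsPGroup p W :=
      (CfsgLib.BaumannBlock.isPGroup_pCoreOf E).to_le (CfsgLib.BaumannBlock.omegaOneCenter_le _)
    have hEU : E ≤ Subgroup.normalizer (U : Set G) := fun e he => hUn e (Subgroup.le_normalizer he)
    have hWE : ∀ w ∈ W, ∀ e ∈ E, e * w * e⁻¹ * w⁻¹ ∈ U := fun w hw e he => by
      rw [← commutatorElement_def, ← commutatorElement_inv, ← heq]
      exact inv_mem (Subgroup.commutator_mem_commutator hw he)
    have hUO : U ≤ O := by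
      rw [hU, Subgroup.commutator_le]
      intro v hv e he
      rw [commutatorElement_def, show v * e * v⁻¹ * e⁻¹ = v * (e * v⁻¹ * e⁻¹) by group]
      exact mul_mem (CfsgLib.BaumannBlock.omegaOneCenter_le O hv)
        (hOn.conj_mem _ (inv_mem (CfsgLib.BaumannBlock.omegaOneCenter_le O hv)) e)
    exact CfsgLib.BaumannBlock.CentModule.centralizer_le_normalizer_of_trivial T hres hcomm hOp hG hUO hEU
      (fun b hb => hUn b (hBE hb)) (fun o ho => CfsgLib.BaumannBlock.CentModule.commutator_mem_of_residual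
        hres hWp hUW hWc hWE hEU (fun e he => hnot (Subgroup.commutator_mem_commutator ho he)))
  · have hp3 : p = 3 := by
      obtain ⟨-, -, hcases⟩ := CfsgLib.BaumannBlock.block_module hE
      rcases hcases with h | ⟨h, -⟩
      · exfalso
        refine hnot (Subgroup.commutator_le.2 fun o ho e he => ?_)
        have hmem : ⁅o, e⁆ ∈ O ⊓ E := by
          obtain ⟨-, -, -, -, -, hON⟩ := CfsgLib.BaumannBlock.block_commutator_eq hG T hE
          rw [Subgroup.mem_inf, commutatorElement_def]
          refine ⟨?_, mul_mem ((Subgroup.mem_normalizer_iff.1 (hON ho) e).1 he) (inv_mem he)⟩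
          rw [show o * e * o⁻¹ * e⁻¹ = o * (e * o⁻¹ * e⁻¹) by group]
          exact mul_mem ho (hOn.conj_mem _ (inv_mem ho) e)
        rw [hW, ← h]
        refine CfsgLib.BaumannBlock.le_pCoreOf inf_le_right (fun x hx => ?_) (hOp.to_le inf_le_left) hmem
        rw [Subgroup.mem_normalizer_iff_map_conj_eq, Subgroup.map_inf _ _ _ (MulAut.conj x).injective,
          Subgroup.mem_normalizer_iff_map_conj_eq.1 (Subgroup.le_normalizer hx),
          Subgroup.mem_normalizer_iff_map_conj_eq.1 (by
            rw [Subgroup.normalizer_eq_top_iff.2 hOn]; exact Subgroup.mem_top x)]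
      · exact h
    subst hp3
    obtain ⟨F, _, _, D, hD⟩ := CfsgLib.BaumannBlock.CentModule.exists_exc hG T hE hnot
    obtain ⟨R, hR, hBR, hER, hc⟩ := D.exists_pgroup_commutators
    rw [hD] at hc
    exact CfsgLib.BaumannBlock.CentModule.mem_normalizer_of_pgroup T hres hcomm hR hBR hER hc


end Cfsg.Agent.S2985
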