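import Cfsg.Statements.S2989
import Cfsg.Agent.PushingUp44.MinimalCLNormal
import Cfsg.Agent.Eq.Def_BaumannBlocks
import Cfsg.Agent.Eq.Def_PLocal
import Cfsg.Agent.Eq.Def_Transfer

set_option autoImplicit false
open Cfsg

namespace Cfsg.Agent.S2989

/-- Let G be a finite group and S a Sylow p-subgroup of G in the basic pushing-up situation (G ≠ 1, C_G(O_p(G)) ≤ O_p(G), S lies in a unique maximal subgroup of G, and some quotient of G is isomorphic to PSL₂ over a field of order a power of p), and suppose that S centralizes Z(J(S)), where J(S) is generated by the abelian subgroups of S of largest order (that is, J̃(S) = C_S(Z(J(S))) = S). Call a subgroup R of S centrally large if |R|·|Z(R)| is as large as possible among subgroups of S, and let S_Φ be the subgroup generated by the Frattini subgroups Φ(Q) of those minimal centrally large subgroups Q of S whose Ω₁(Z(Q)) has the largest order among minimal centrally large subgroups. Then Z(S) or S_Φ is normal in G; and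 if S_Φ = 1, the minimal centrally large subgroups of S are exactly the abelian subgroups of S of largest order, and at least one of them is elementary abelian. -/
theorem result {G : Type*} [Group G] [Finite G] {p : ℕ} [Fact p.Prime] (S : Subgroup G) (hE : Cfsg.IsPushingUpSituation p S) (hJ : S ≤ Subgroup.centralizer (Cfsg.centerThompsonAOf S : Set G)) : ((S ⊓ Subgroup.centralizer (S : Set G)).Normal ∨ ((Cfsg.frattiniOfMinimalCLJoin p ↥S).map S.subtype).Normal) ∧ (Cfsg.frattiniOfMinimalCLJoin p ↥S = ⊥ → (∀ Q : Subgroup ↥S, Cfsg.IsMinimalCentrallyLarge Q ↔ Q ∈ Cfsg.maxAbelianSubgroups ↥S) ∧ ∃ A ∈ Cfsg.maxAbelianSubgroups ↥S, Cfsg.IsElementaryAbelian p A) := by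
  obtain ⟨P, F, hF, hFt, π, n, rfl, h⟩ := CfsgLib.PushingUp44.exists_hyp_of_situation hE
  refine ⟨CfsgLib.PushingUp44.center_or_frattiniJoin h, fun hΦ => ?_⟩
  obtain ⟨R, hR⟩ := CfsgLib.CentrallyLarge.exists_isCentrallyLarge (G := (P : Subgroup G))
  obtain ⟨R₀, -, hR₀⟩ := CfsgLib.CentrallyLarge.exists_minimal_le hR
  obtain ⟨Q, hQ, hQsel⟩ : Cfsg.maxOmegaCenterOfMinimalCL p (P : Subgroup G) ∈
      {k : ℕ | ∃ Q : Subgroup (P : Subgroup G),
        Cfsg.IsMinimalCentrallyLarge Q ∧ Nat.card ↥(Cfsg.omegaOneCenter p Q) = k} :=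
    Nat.sSup_mem ⟨_, R₀, hR₀, rfl⟩ ⟨Nat.card (P : Subgroup G), by
      rintro k ⟨X, -, rfl⟩; exact Subgroup.card_le_card_group _⟩
  have h1 : (frattini ↥Q).map Q.subtype ≤ ⊥ := hΦ ▸ le_iSup
    (fun Q : {Q : Subgroup (P : Subgroup G) // Cfsg.IsMinimalCentrallyLarge Q ∧
      Nat.card ↥(Cfsg.omegaOneCenter p Q) = Cfsg.maxOmegaCenterOfMinimalCL p (P : Subgroup G)} =>
      (frattini ↥(Q : Subgroup (P : Subgroup G))).map (Q : Subgroup (P : Subgroup G)).subtype)
    ⟨Q, hQ, hQsel⟩
  obtain ⟨hc, hp⟩ := (CfsgLib.PGroup.frattini_eq_bot_iff (P.isPGroup'.to_subgroup Q)).1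
    ((Subgroup.map_eq_bot_iff_of_injective _ Q.subtype_injective).1 (le_bot_iff.1 h1))
  have hab : IsMulCommutative ↥Q := ⟨⟨hc⟩⟩
  have hiff := (Cfsg.Agent.S3007.result _ P.isPGroup' Q Q hQ hQ).2.2.2.2 hab
  exact ⟨hiff, Q, (hiff Q).1 hQ, hab, fun a ha => congrArg Subtype.val (hp ⟨a, ha⟩)⟩

end Cfsg.Agent.S2989
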