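import Cfsg.Statements.S3035
import Cfsg.Agent.CentralizerD8.HalfFused
import Cfsg.Agent.CentralizerD8.Simple
import Cfsg.Agent.CentralizerD8.Dihedral
import Cfsg.Agent.SimpleOrders.OneSixtyEight
import Cfsg.Agent.SmallIso.PSLThreeTwo
import Cfsg.Agent.Classical.Linear.Simple
import Cfsg.Agent.S0497

set_option autoImplicit false
open Cfsg

namespace Cfsg.Agent.S3035

open CfsgLib.CentralizerD8

/-- `SL₃(2)` is simple, being its own central quotient. -/
theorem isSimpleGroup_sl_three_two :
    IsSimpleGroup (Matrix.SpecialLinearGroup (Fin 3) (ZMod 2)) := by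
  haveI : Fact (Nat.Prime 2) := ⟨Nat.prime_two⟩
  have h2 : ∀ r : ZMod 2, r ^ 3 = 1 → r = 1 := by decide +revert
  have hc : Subgroup.center (Matrix.SpecialLinearGroup (Fin 3) (ZMod 2)) = ⊥ := by
    rw [Subgroup.eq_bot_iff_forall]
    intro x hx
    obtain ⟨r, hr, hrx⟩ := Matrix.SpecialLinearGroup.mem_center_iff.mp hx
    apply Subtype.ext
    rw [← hrx, h2 r (by simpa using hr)]
    simp
  haveI : IsSimpleGroup (Matrix.ProjectiveSpecialLinearGroup (Fin 3) (ZMod 2)) :=
    CfsgLib.Classical.Linear.isSimpleGroup_psl_fin (by norm_num) (by norm_num)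
  exact MulEquiv.isSimpleGroup (H := Matrix.ProjectiveSpecialLinearGroup (Fin 3) (ZMod 2))
    (QuotientGroup.quotientBot.symm.trans (QuotientGroup.quotientMulEquivOfEq hc.symm))

theorem result {G : Type*} [Group G] [Finite G] (z : G) (hz : orderOf z = 2)
    (hC : Nonempty (↥(Subgroup.centralizer ({z} : Set G)) ≃* DihedralGroup 4)) :
    Subgroup.centralizer ({z} : Set G) ⊔ Cfsg.oddCore G = ⊤ ∨ Nonempty (G ≃* Equiv.Perm (Fin 4)) ∨ Nonempty (G ≃* Equiv.Perm (Fin 5)) ∨
      Nonempty (G ≃* Matrix.SpecialLinearGroup (Fin 3) (ZMod 2)) ∨ Nonempty (G ≃* ↥(alternatingGroup (Fin 6))) := by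
  obtain ⟨e⟩ := hC
  obtain ⟨a, b, hD⟩ := exists_data hz e
  by_cases h1 : IsConj z b
  · by_cases h2 : IsConj z (b * a)
    · -- both classes fused: simple of order 168 or 360
      have hno := hD.index_ne_two (hD.isConj_of_fused h1 h2)
      haveI := hD.isSimpleGroup_of_no_index_two hno
      rcases hD.card_eq_of_no_index_two hno with h | h
      · haveI := isSimpleGroup_sl_three_two
        obtain ⟨e₁⟩ := CfsgLib.SimpleOrders.OneSixtyEight.nonempty_equiv_model h
        obtain ⟨e₂⟩ := CfsgLib.SimpleOrders.OneSixtyEight.nonempty_equiv_model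
          CfsgLib.SmallIso.card_sl_three_two
        exact .inr (.inr (.inr (.inl ⟨e₁.trans e₂.symm⟩)))
      · exact .inr (.inr (.inr (.inr (Cfsg.Agent.S0497.result h))))
    · have h3 : IsConj z (b * a * a) := by
        rw [mul_assoc, hD.a_sq]
        exact h1.trans (isConj_iff.mpr ⟨a, hD.conj_b⟩)
      rcases hD.swap.half_fused h2 h3 with h | h
      · exact .inr (.inl h)
      · exact .inr (.inr (.inl h))
  · by_cases h2 : IsConj z (b * a)
    · rcases hD.half_fused h1 h2 with h | h
      · exact .inr (.inl h)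
      · exact .inr (.inr (.inl h))
    · exact .inl (hD.sup_oddCore_of_not_fused h1 h2)

end Cfsg.Agent.S3035
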