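import Cfsg.Statements.S3038
import Cfsg.Agent.Eq.Def_IsolatedElements
import Cfsg.Agent.Eq.Def_CaseTheorems
import Cfsg.Agent.Eq.Def_Local
import Cfsg.Agent.Eq.Def_Transfer
import Cfsg.Agent.IsolatedRankTwo.Structure
import Cfsg.Agent.IsolatedRankTwo.SylowStructure

set_option autoImplicit false
open Cfsg

namespace Cfsg.Agent.S3038

/-- Let G be a finite group and p an odd prime with O_{p'}(G) = 1. Suppose that G has p-rank at most 2 and that some element x of order p is isolated in G and not central. Then F*(G) is a non-abelian simple group, and for every Sylow p-subgroup P of F*(G), either no conjugate of x lies in P and P is cyclic, or some conjugate of x lies in P and either P is extraspecial of order p³ and exponent p, or p = 3 and P has order 3^{2k+1} for some k ≥ 2 and is of maximal class (nilpotency class 2k). Since O_{p'}(G) = 1, such an x is not central modulo O_{p'}(G): the hypotheses describe a counterexample to the Z*_p statement in p-rank at most 2, and the conclusion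 records the structure it would have. -/
theorem result {G : Type*} [Group G] [Finite G] {p : ℕ} [Fact p.Prime] (hp : p ≠ 2) (hcore : Cfsg.pPrimeCore p G = ⊥)
    (hrank : Cfsg.PRankLE p 2 G) (x : G) (hx : orderOf x = p) (hiso : Cfsg.IsIsolated x) (hnc : x ∉ Subgroup.center G) :
    IsSimpleGroup ↥(Cfsg.generalizedFittingSubgroup G) ∧ ¬ IsMulCommutative ↥(Cfsg.generalizedFittingSubgroup G) ∧
    ∀ P : Sylow p ↥(Cfsg.generalizedFittingSubgroup G),
      ((∀ g : G, g * x * g⁻¹ ∉ ((P : Subgroup ↥(Cfsg.generalizedFittingSubgroup G)).map (Cfsg.generalizedFittingSubgroup G).subtype)) ∧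
          IsCyclic ↥(P : Subgroup ↥(Cfsg.generalizedFittingSubgroup G))) ∨
      ((∃ g : G, g * x * g⁻¹ ∈ ((P : Subgroup ↥(Cfsg.generalizedFittingSubgroup G)).map (Cfsg.generalizedFittingSubgroup G).subtype)) ∧
        ((Cfsg.IsExtraspecial p ↥(P : Subgroup ↥(Cfsg.generalizedFittingSubgroup G)) ∧
            Nat.card (P : Subgroup ↥(Cfsg.generalizedFittingSubgroup G)) = p ^ 3 ∧
            ∀ y ∈ (P : Subgroup ↥(Cfsg.generalizedFittingSubgroup G)), y ^ p = 1) ∨
         (p = 3 ∧ ∃ k : ℕ, 2 ≤ k ∧ Nat.card (P : Subgroup ↥(Cfsg.generalizedFittingSubgroup G)) = 3 ^ (2 * k + 1) ∧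
            ∃ _ : Group.IsNilpotent ↥(P : Subgroup ↥(Cfsg.generalizedFittingSubgroup G)),
              Group.nilpotencyClass ↥(P : Subgroup ↥(Cfsg.generalizedFittingSubgroup G)) = 2 * k))) := by
  set L := Cfsg.generalizedFittingSubgroup G with hLdef
  obtain ⟨hcomp, hF⟩ :=
    CfsgLib.IsolatedRankTwo.generalizedFitting_component hp hcore hrank hiso hx hnc
  rw [← hLdef] at hcomp
  have hp' : p.Prime := Fact.out
  have hxp : x ^ p = 1 := hx ▸ pow_orderOf_eq_one x
  have hlay : L ≤ Cfsg.layer G := CfsgLib.Cores.le_layer hcomp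
  haveI hLn : L.Normal := by
    have hle : Cfsg.layer G = L := le_antisymm le_sup_left hlay
    constructor
    intro n hn g
    rw [← hle] at hn ⊢
    have := CfsgLib.Cores.map_layer_equiv (MulAut.conj g)
    rw [← this]
    exact ⟨n, hn, rfl⟩
  have hab : ∀ N : Subgroup G, N.Normal → IsMulCommutative ↥N → N = ⊥ := fun N hN hc =>
    le_bot_iff.1 (hF ▸ CfsgLib.Cores.le_fittingSubgroup_of_isMulCommutative hN hc)
  have hZ : Subgroup.center ↥L = ⊥ := by
    have h1 : ((Subgroup.center ↥L).map L.subtype).Normal := inferInstance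
    have h2 : IsMulCommutative ↥((Subgroup.center ↥L).map L.subtype) := by
      refine ⟨⟨?_⟩⟩
      rintro ⟨_, a, ha, rfl⟩ ⟨_, b, hb, rfl⟩
      exact Subtype.ext (congrArg (Subgroup.subtype L) (Subgroup.mem_center_iff.1 hb a))
    exact (Subgroup.map_eq_bot_iff_of_injective _ L.subtype_injective).1 (hab _ h1 h2)
  have hnt : Nontrivial ↥L := CfsgLib.Cores.nontrivial_of_isQuasisimple hcomp.2
  have hsimple : IsSimpleGroup ↥L := by
    refine ⟨fun N hN => ?_⟩
    rcases CfsgLib.Cores.normal_eq_top_or_le_center hcomp.2 N hN with h | h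
    · exact Or.inr h
    · exact Or.inl (le_bot_iff.1 (hZ ▸ h))
  refine ⟨hsimple, fun hc => CfsgLib.Cores.ne_bot_of_isComponent hcomp (hab L hLn hc), fun P => ?_⟩
  set P' := (P : Subgroup ↥L).map L.subtype with hP'
  by_cases hconj : ∃ g : G, g * x * g⁻¹ ∈ P'
  · refine Or.inr ⟨hconj, ?_⟩
    obtain ⟨g, y, hy, hyx⟩ := hconj
    have hyo : orderOf y = p := by
      rw [← hx, ← Subgroup.orderOf_coe, show (y : G) = g * x * g⁻¹ from hyx]
      exact MulEquiv.orderOf_eq (MulAut.conj g) x
    have hyiso : Cfsg.IsIsolated y := by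
      intro l hl
      have h1 := CfsgLib.IsolatedRankTwo.isolated_conjugate hiso g
      rw [← show (y : G) = g * x * g⁻¹ from hyx] at h1
      exact Subtype.ext (h1 (l : G) (congrArg (Subgroup.subtype L) hl.eq))
    exact CfsgLib.IsolatedRankTwo.sylow_structure hp hcomp.2.1.commutator_eq_top
      (CfsgLib.LocalP.pRankLE_subgroup hrank L) P hyiso hy hyo
  · refine Or.inl ⟨fun g hg => hconj ⟨g, hg⟩, ?_⟩
    push Not at hconj
    obtain ⟨T, hT⟩ := (P.2.map L.subtype).exists_le_sylow
    obtain ⟨R, hR⟩ := (CfsgLib.LocalP.isPGroup_zpowers_of_orderOf (p := p) (x := x)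
      ⟨1, by rw [pow_one]; exact hx⟩).exists_le_sylow
    obtain ⟨c, hc⟩ := MulAction.exists_smul_eq G R T
    have hxT : c * x * c⁻¹ ∈ (T : Subgroup G) := by
      rw [← hc]
      exact ⟨x, hR (Subgroup.mem_zpowers x), rfl⟩
    have hxiso := CfsgLib.IsolatedRankTwo.isolated_conjugate hiso c
    have hxp' : (c * x * c⁻¹) ^ p = 1 := by rw [conj_pow, hxp, mul_one, mul_inv_cancel]
    have hxL : c * x * c⁻¹ ∉ L := by
      intro hxL
      have hpg : IsPGroup p (Subgroup.zpowers (⟨_, hxL⟩ : ↥L)) := fun u => ⟨1, by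
        obtain ⟨i, hi⟩ := Subgroup.mem_zpowers_iff.1 u.2
        apply Subtype.ext
        rw [SubmonoidClass.coe_pow, ← hi, pow_one, ← zpow_natCast, ← zpow_mul, mul_comm, zpow_mul,
          zpow_natCast, show (⟨_, hxL⟩ : ↥L) ^ p = 1 from Subtype.ext hxp', one_zpow]
        rfl⟩
      obtain ⟨S, hS⟩ := hpg.exists_le_sylow
      obtain ⟨l, hl⟩ := MulAction.exists_smul_eq ↥L S P
      refine hconj ((l : G) * c) ⟨l * ⟨_, hxL⟩ * l⁻¹, ?_, by simp [mul_assoc]⟩
      rw [SetLike.mem_coe, ← hl]
      exact ⟨_, hS (Subgroup.mem_zpowers _), rfl⟩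
    refine CfsgLib.LocalP.isCyclic_of_pRankLE_one P.2 hp fun A hA hA' => ?_
    rw [pow_one]
    let A' : Subgroup G := (A.map (P : Subgroup ↥L).subtype).map L.subtype
    have hA'P : A' ≤ P' := Subgroup.map_mono (Subgroup.map_subtype_le _)
    let B : Subgroup G := A' ⊔ Subgroup.zpowers (c * x * c⁻¹)
    have hcA : ∀ u ∈ A', ∀ v ∈ A', u * v = v * u := by
      rintro _ ⟨_, ⟨a, ha, rfl⟩, rfl⟩ _ ⟨_, ⟨b, hb, rfl⟩, rfl⟩
      have := congrArg Subtype.val (hA.is_comm.comm (⟨a, ha⟩ : A) ⟨b, hb⟩)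
      exact congrArg (fun t : ↥(P : Subgroup ↥L) => (((t : ↥L) : G))) this
    have hxA : ∀ u ∈ A', c * x * c⁻¹ * u = u * (c * x * c⁻¹) := fun u hu =>
      CfsgLib.LocalP.isolated_commute_of_mem hxiso T.2 hxT u (hT (hA'P hu))
    have hpA : ∀ u ∈ A', u ^ p = 1 := by
      rintro _ ⟨_, ⟨a, ha, rfl⟩, rfl⟩
      have := congrArg (fun t : ↥(P : Subgroup ↥L) => (((t : ↥L) : G))) (hA' a ha)
      simpa using this
    have hBc : IsMulCommutative ↥B := by
      rw [← Subgroup.le_centralizer_iff_isMulCommutative]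
      have h1 : B ≤ Subgroup.centralizer (A' : Set G) := by
        refine sup_le (fun u hu v hv => hcA v hv u hu) (Subgroup.zpowers_le.2 fun v hv => ?_)
        exact (hxA v hv).symm
      have h2 : B ≤ Subgroup.centralizer ({c * x * c⁻¹} : Set G) := by
        refine sup_le (fun u hu => Subgroup.mem_centralizer_singleton_iff.2 (hxA u hu).symm) ?_
        exact Subgroup.zpowers_le.2 (Subgroup.mem_centralizer_singleton_iff.2 rfl)
      refine sup_le (fun u hu v hv => (h1 hv u hu).symm) (Subgroup.zpowers_le.2 fun v hv => ?_)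
      exact (Subgroup.mem_centralizer_singleton_iff.1 (h2 hv))
    have hBp : ∀ u ∈ B, u ^ p = 1 := by
      let f : ↥B →* ↥B :=
        { toFun := fun u => u ^ p, map_one' := one_pow p,
          map_mul' := fun u v => (show Commute u v from hBc.is_comm.comm u v).mul_pow p }
      have hle : B ≤ f.ker.map B.subtype := by
        refine sup_le (fun v hv => ⟨⟨v, Subgroup.mem_sup_left hv⟩, Subtype.ext (hpA v hv), rfl⟩) ?_
        rw [Subgroup.zpowers_le]
        exact ⟨⟨_, Subgroup.mem_sup_right (Subgroup.mem_zpowers _)⟩, Subtype.ext hxp', rfl⟩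
      intro u hu
      obtain ⟨v, hv, rfl⟩ := hle hu
      exact congrArg Subtype.val hv
    have hB := hrank B hBc hBp
    have hlt : A' < B := lt_of_le_of_ne le_sup_left fun h => hxL
      (Subgroup.map_subtype_le _ (hA'P (h ▸ Subgroup.mem_sup_right (Subgroup.mem_zpowers _))))
    have hcard : Nat.card A' = Nat.card A := by
      rw [Subgroup.card_map_of_injective L.subtype_injective,
        Subgroup.card_map_of_injective (Subgroup.subtype_injective _)]
    have hBpg : IsPGroup p ↥B := fun u => ⟨1, Subtype.ext (by simpa using hBp u u.2)⟩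
    obtain ⟨s, hs⟩ := IsPGroup.iff_card.1 hBpg
    obtain ⟨r, hr⟩ := IsPGroup.iff_card.1 (hBpg.to_le hlt.le)
    have h9 : Nat.card A' < Nat.card B := lt_of_le_of_ne (Subgroup.card_le_of_le hlt.le)
      fun he => hlt.ne (Subgroup.eq_of_le_of_card_ge hlt.le he.ge)
    rw [hs, hr, Nat.pow_lt_pow_iff_right hp'.one_lt] at h9
    rw [hs, Nat.pow_le_pow_iff_right hp'.one_lt] at hB
    rw [← hcard, hr]
    calc p ^ r ≤ p ^ 1 := Nat.pow_le_pow_right hp'.pos (by omega)
      _ = p := pow_one p

end Cfsg.Agent.S3038
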