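import Cfsg.Statements.S3053
import Cfsg.Agent.PGroup.Extraspecial
import Cfsg.Agent.S3078

set_option autoImplicit false
open Cfsg

namespace Cfsg.Agent.S3053

open scoped commutatorElement

/-- The `p`-th power map of an extraspecial group, `p` odd. -/
def powHom {P : Type*} [Group P] [Finite P] {p : ℕ} [Fact p.Prime] (hp : p ≠ 2)
    (h : Cfsg.IsExtraspecial p P) : P →* P where
  toFun a := a ^ p
  map_one' := one_pow p
  map_mul' a b := by
    have hz := CfsgLib.PGroup.extraspecial_comm_mem h b a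
    have hc : ∀ c : P, Commute ⁅b, a⁆ c := fun c => ((Subgroup.mem_center_iff.1 hz) c).symm
    rw [(Cfsg.Agent.S3078.mul_pow_of_comm_central (hc a) (hc b)
      (show b * a = ⁅b, a⁆ * (a * b) by rw [commutatorElement_def]; group) p).2]
    obtain ⟨m, hm⟩ := (Fact.out : p.Prime).odd_of_ne_two hp
    have hch : p.choose 2 = p * m := by
      rw [Nat.choose_two_right, hm, Nat.add_sub_cancel, mul_comm 2 m, ← mul_assoc,
        Nat.mul_div_cancel _ two_pos]
    rw [hch, pow_mul, CfsgLib.PGroup.extraspecial_comm_pow h, one_pow, one_mul]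

/-- Conjugation by an element inverting every element of a set, iterated an odd number of times. -/
theorem odd_pow_inverts {G : Type*} [Group G] {E : Subgroup G} {t : G}
    (h : ∀ e ∈ E, t * e * t⁻¹ = e⁻¹) {m : ℕ} (hm : Odd m) : ∀ e ∈ E, t ^ m * e * (t ^ m)⁻¹ = e⁻¹ := by
  obtain ⟨i, rfl⟩ := hm
  induction i with
  | zero => simpa using h
  | succ i ih =>
    intro e he
    have h1 := h e he
    have h2 := h _ (inv_mem he)
    rw [inv_inv] at h2
    calc t ^ (2 * (i + 1) + 1) * e * (t ^ (2 * (i + 1) + 1))⁻¹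
        = t ^ (2 * i + 1) * (t * (t * e * t⁻¹) * t⁻¹) * (t ^ (2 * i + 1))⁻¹ := by
          rw [show 2 * (i + 1) + 1 = (2 * i + 1) + 1 + 1 by ring, pow_succ, pow_succ]
          group
      _ = _ := by rw [h1, h2, ih e he]

/-- The elements acting on an abelian subgroup as `±1`. -/
def signGroup {G : Type*} [Group G] (E : Subgroup G) : Subgroup G where
  carrier := {g | (∀ e ∈ E, g * e * g⁻¹ = e) ∨ (∀ e ∈ E, g * e * g⁻¹ = e⁻¹)}
  one_mem' := Or.inl fun e _ => by simp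
  mul_mem' := by
    intro a b ha hb
    rcases ha with ha | ha <;> rcases hb with hb | hb
    · exact Or.inl fun e he => by
        rw [show a * b * e * (a * b)⁻¹ = a * (b * e * b⁻¹) * a⁻¹ by group, hb e he, ha e he]
    · exact Or.inr fun e he => by
        rw [show a * b * e * (a * b)⁻¹ = a * (b * e * b⁻¹) * a⁻¹ by group, hb e he, ha _ (inv_mem he)]
    · exact Or.inr fun e he => by
        rw [show a * b * e * (a * b)⁻¹ = a * (b * e * b⁻¹) * a⁻¹ by group, hb e he, ha e he]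
    · exact Or.inl fun e he => by
        rw [show a * b * e * (a * b)⁻¹ = a * (b * e * b⁻¹) * a⁻¹ by group, hb e he, ha _ (inv_mem he),
          inv_inv]
  inv_mem' := by
    intro a ha
    rcases ha with ha | ha
    · refine Or.inl fun e he => ?_
      conv_lhs => rw [← ha e he]
      group
    · refine Or.inr fun e he => ?_
      have h := ha _ (inv_mem he)
      rw [inv_inv] at h
      conv_lhs => rw [← h]
      group

theorem center_stronglyClosed {G : Type*} [Group G] [Finite G]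
    {p : ℕ} [Fact p.Prime] (hp : p ≠ 2) (P : Sylow p G) (hE : Cfsg.IsExtraspecial p ↥(P : Subgroup G))
    (hcard : Nat.card (P : Subgroup G) = p ^ 3) (hexp : Monoid.exponent ↥(P : Subgroup G) = p ^ 2) :
    Cfsg.IsStronglyClosed ((Subgroup.center ↥(P : Subgroup G)).map (P : Subgroup G).subtype) (P : Subgroup G) := by
  classical
  haveI : Fact (Nat.Prime 2) := ⟨Nat.prime_two⟩
  have hpp : p.Prime := Fact.out
  refine ⟨Subgroup.map_subtype_le _, ?_⟩
  rintro c ⟨c₀, hc₀, rfl⟩ g hgP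
  set c : G := (c₀ : G) with hcdef
  change g * c * g⁻¹ ∈ (P : Subgroup G) at hgP
  show g * c * g⁻¹ ∈ (Subgroup.center ↥(P : Subgroup G)).map (P : Subgroup G).subtype
  set Z := (Subgroup.center ↥(P : Subgroup G)).map (P : Subgroup G).subtype with hZ
  have hcZ : c ∈ Z := ⟨c₀, hc₀, rfl⟩
  have hZcard : Nat.card Z = p := by
    rw [hZ, Subgroup.card_map_of_injective Subtype.val_injective, hE.2]
  have hZcomm : ∀ z ∈ Z, ∀ y ∈ (P : Subgroup G), y * z = z * y := by
    rintro _ ⟨z, hz, rfl⟩ y hy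
    exact congrArg Subtype.val (Subgroup.mem_center_iff.1 hz ⟨y, hy⟩)
  have hZgen : ∀ z ∈ Z, z ≠ 1 → ∀ z' ∈ Z, z' ∈ Subgroup.zpowers z := fun z hz hz1 z' hz' => by
    have := mem_zpowers_of_prime_card hZcard (g := (⟨z, hz⟩ : Z)) (g' := ⟨z', hz'⟩)
      (fun h => hz1 (congrArg Subtype.val h))
    obtain ⟨k, hk⟩ := this
    exact ⟨k, congrArg Subtype.val hk⟩
  by_contra hxZ
  set x := g * c * g⁻¹ with hxdef
  have hx1 : x ≠ 1 := fun h => hxZ (h ▸ one_mem Z)
  have hc1 : c ≠ 1 := fun h => hx1 (by rw [hxdef, h]; group)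
  -- the subgroup of elements of order at most `p`
  set E := (powHom hp hE).ker.map (P : Subgroup G).subtype with hEdef
  have hmemE : ∀ y, y ∈ E ↔ y ∈ (P : Subgroup G) ∧ y ^ p = 1 := fun y => by
    constructor
    · rintro ⟨z, hz, rfl⟩
      exact ⟨z.2, congrArg Subtype.val (hz : z ^ p = 1)⟩
    · rintro ⟨hy, hy'⟩
      exact ⟨⟨y, hy⟩, show (⟨y, hy⟩ : (P : Subgroup G)) ^ p = 1 from Subtype.ext hy', rfl⟩
  have hEP : E ≤ (P : Subgroup G) := Subgroup.map_subtype_le _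
  have hkcard : Nat.card (powHom hp hE).ker = p ^ 2 := by
    have h1 := (powHom hp hE).ker.card_mul_index
    rw [Subgroup.index_ker, hcard] at h1
    have hle : (powHom hp hE).range ≤ Subgroup.center ↥(P : Subgroup G) := by
      rintro _ ⟨a, rfl⟩
      exact CfsgLib.PGroup.extraspecial_pow_mem hE a
    have hne : (powHom hp hE).range ≠ ⊥ := by
      intro h
      have h2 : Monoid.exponent ↥(P : Subgroup G) ∣ p := Monoid.exponent_dvd_of_forall_pow_eq_one fun a =>
        Subgroup.mem_bot.1 (h ▸ ⟨a, rfl⟩ : a ^ p ∈ (⊥ : Subgroup ↥(P : Subgroup G)))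
      rw [hexp] at h2
      have := Nat.le_of_dvd hpp.pos h2
      nlinarith [hpp.two_le]
    rw [((Nat.dvd_prime hpp).1 ((Subgroup.card_dvd_of_le hle).trans hE.2.dvd)).resolve_left
      fun h => hne (Subgroup.eq_bot_of_card_eq _ h)] at h1
    exact Nat.eq_of_mul_eq_mul_right hpp.pos (h1.trans (pow_succ p 2))
  have hEcard : Nat.card E = p ^ 2 := by
    rw [hEdef, Subgroup.card_map_of_injective Subtype.val_injective, hkcard]
  have hEab : ∀ a ∈ E, ∀ b ∈ E, a * b = b * a := fun a ha b hb =>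
    congrArg Subtype.val ((IsPGroup.commutative_of_card_eq_prime_sq hEcard) ⟨a, ha⟩ ⟨b, hb⟩)
  have hEp : ∀ a ∈ E, a ^ p = 1 := fun a ha => ((hmemE a).1 ha).2
  have hZE : Z ≤ E := fun z hz => (hmemE z).2 ⟨Subgroup.map_subtype_le _ hz, by
    have := pow_card_eq_one' (G := Z) (x := ⟨z, hz⟩)
    rw [hZcard] at this
    exact congrArg Subtype.val this⟩
  have hcent : ∀ e ∈ E, e ∉ Z → ∀ y ∈ (P : Subgroup G), y * e = e * y → y ∈ E := by
    intro e he heZ y hy hye
    obtain ⟨e₀, he₀, rfl⟩ := he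
    have hi := CfsgLib.PGroup.extraspecial_centralizer_index hE (x := e₀) fun h => heZ ⟨e₀, h, rfl⟩
    have hc := (Subgroup.centralizer ({e₀} : Set ↥(P : Subgroup G))).card_mul_index
    rw [hi, hcard] at hc
    have heq : (powHom hp hE).ker = Subgroup.centralizer ({e₀} : Set ↥(P : Subgroup G)) := by
      refine Subgroup.eq_of_le_of_card_ge (fun a ha => Subgroup.mem_centralizer_singleton_iff.2 ?_)
        (le_of_eq (by rw [hkcard]; exact Nat.eq_of_mul_eq_mul_right hpp.pos (hc.trans (pow_succ p 2))))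
      exact Subtype.ext (hEab _ ⟨a, ha, rfl⟩ _ ⟨e₀, he₀, rfl⟩)
    exact ⟨⟨y, hy⟩, heq ▸ Subgroup.mem_centralizer_singleton_iff.2 (Subtype.ext hye), rfl⟩
  have hnorm : ∀ k : G, (∀ e ∈ E, k⁻¹ * e * k ∈ (P : Subgroup G)) →
      k ∈ Subgroup.normalizer (E : Set G) := fun k hk => by
    rw [← Subgroup.inv_mem_iff]
    refine Subgroup.mem_normalizer_fintype fun e he => ?_
    rw [inv_inv]
    refine (hmemE _).2 ⟨hk e he, ?_⟩
    rw [show k⁻¹ * e * k = k⁻¹ * e * (k⁻¹)⁻¹ by group, conj_pow, hEp e he]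
    group
  have hPn : (P : Subgroup G) ≤ Subgroup.normalizer (E : Set G) := fun y hy =>
    hnorm y fun e he => mul_mem (mul_mem (inv_mem hy) (hEP he)) hy
  have hxE : x ∈ E := (hmemE x).2 ⟨hgP, by rw [hxdef, conj_pow, hEp c (hZE hcZ)]; group⟩
  -- a conjugating element normalizing `E`
  set C := Subgroup.centralizer ({x} : Set G)
  set R := g • P
  have hmemR : ∀ y, y ∈ (R : Subgroup G) ↔ g⁻¹ * y * g ∈ (P : Subgroup G) := fun y => by
    rw [show (R : Subgroup G) = (P : Subgroup G).map (MulAut.conj g).toMonoidHom from rfl,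
      Subgroup.mem_map_equiv, MulAut.conj_symm_apply]
  have hRC : (R : Subgroup G) ≤ C := fun y hy => by
    have h := hZcomm c hcZ _ ((hmemR y).1 hy)
    rw [Subgroup.mem_centralizer_singleton_iff, hxdef]
    calc y * (g * c * g⁻¹) = g * ((g⁻¹ * y * g) * c) * g⁻¹ := by group
      _ = _ := by rw [h]; group
  have hEC : E ≤ C := fun e he => Subgroup.mem_centralizer_singleton_iff.2 (hEab e he x hxE)
  obtain ⟨Q, hQ⟩ := ((P.isPGroup'.to_le hEP).of_injective (Subgroup.subgroupOfEquivOfLe hEC).toMonoidHom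
    (MulEquiv.injective _) : IsPGroup p (E.subgroupOf C)).exists_le_sylow
  obtain ⟨k, hk⟩ := MulAction.exists_smul_eq C (R.subtype hRC) Q
  set h := (k : G) * g with hhdef
  have hhx : h * c * h⁻¹ = x := by
    have hk' := Subgroup.mem_centralizer_singleton_iff.1 k.2
    calc h * c * h⁻¹ = (k : G) * x * (k : G)⁻¹ := by rw [hhdef, hxdef]; group
      _ = _ := by rw [hk']; group
  have hhN : h ∈ Subgroup.normalizer (E : Set G) := by
    refine hnorm h fun e he => ?_
    have h1 : (⟨e, hEC he⟩ : C) ∈ ((k • R.subtype hRC : Sylow p C) : Subgroup C) := hk.symm ▸ hQ he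
    rw [show ((k • R.subtype hRC : Sylow p C) : Subgroup C) =
        ((R.subtype hRC : Sylow p C) : Subgroup C).map (MulAut.conj k).toMonoidHom from rfl,
      Subgroup.mem_map_equiv, MulAut.conj_symm_apply] at h1
    have h2 : ((k⁻¹ * ⟨e, hEC he⟩ * k : C) : G) ∈ (R : Subgroup G) := h1
    rw [hmemR] at h2
    simpa [hhdef, mul_assoc] using h2
  have hmove : ∀ {a e : G}, a ∈ Subgroup.normalizer (E : Set G) → e ∈ E → a * e * a⁻¹ ∈ E :=
    fun ha he => (Subgroup.mem_normalizer_iff.1 ha _).1 he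
  -- an element of `P` outside `E`
  obtain ⟨s, hs, hsE⟩ : ∃ s ∈ (P : Subgroup G), s ∉ E := by
    by_contra hcon
    push Not at hcon
    have := Subgroup.card_le_of_le (show (P : Subgroup G) ≤ E from hcon)
    rw [hEcard, hcard] at this
    have := Nat.pow_lt_pow_right hpp.one_lt (show 2 < 3 by norm_num)
    omega
  set c' := s * x * s⁻¹ * x⁻¹ with hc'def
  have hc'Z : c' ∈ Z := ⟨⁅(⟨s, hs⟩ : (P : Subgroup G)), ⟨x, hgP⟩⁆, CfsgLib.PGroup.extraspecial_comm_mem hE _ _, rfl⟩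
  have hc'1 : c' ≠ 1 := fun h0 => hsE (hcent x hxE hxZ s hs
    (mul_inv_eq_iff_eq_mul.1 (mul_inv_eq_one.1 h0)))
  have hc'x : c' ∉ Subgroup.zpowers x := by
    intro h0
    have hox : Nat.card (Subgroup.zpowers x) = p := by
      rw [Nat.card_zpowers]
      exact orderOf_eq_prime (hEp x hxE) hx1
    refine hxZ ?_
    obtain ⟨i, hi⟩ := mem_zpowers_of_prime_card hox (g := (⟨c', h0⟩ : Subgroup.zpowers x))
      (g' := ⟨x, Subgroup.mem_zpowers x⟩) (fun h' => hc'1 (congrArg Subtype.val h'))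
    have hi' : c' ^ i = x := congrArg Subtype.val hi
    exact hi' ▸ Z.zpow_mem hc'Z i
  set a := h * s * h⁻¹ with hadef
  have hax : a * x * a⁻¹ = x := by
    rw [← hhx, hadef]
    calc _ = h * (s * c * s⁻¹) * h⁻¹ := by group
      _ = _ := by rw [hZcomm c hcZ s hs]; group
  set e := h⁻¹ * c' * h with hedef
  have he : e ∈ E := by simpa [hedef] using hmove (inv_mem hhN) (hZE hc'Z)
  have heZ : e ∉ Z := by
    intro h0
    obtain ⟨i, hi⟩ := hZgen c hcZ hc1 e h0
    refine hc'x ⟨i, ?_⟩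
    show x ^ i = c'
    rw [← hhx, conj_zpow]
    show h * c ^ i * h⁻¹ = c'
    rw [show c ^ i = e from hi, hedef]
    group
  have hse : s * e * s⁻¹ * e⁻¹ ∈ Z :=
    ⟨⁅(⟨s, hs⟩ : (P : Subgroup G)), ⟨e, hEP he⟩⁆, CfsgLib.PGroup.extraspecial_comm_mem hE _ _, rfl⟩
  obtain ⟨j, hj⟩ := hZgen c hcZ hc1 _ hse
  have hj' : c ^ j = s * e * s⁻¹ * e⁻¹ := hj
  have hac : a * c' * a⁻¹ = x ^ j * c' := by
    rw [← hhx, conj_zpow, hj', hadef, hedef]
    group
  have hxj : x ^ j ≠ 1 := by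
    intro h0
    rw [← hhx, conj_zpow, conj_eq_one_iff, hj'] at h0
    exact hsE (hcent e he heZ s hs (mul_inv_eq_iff_eq_mul.1 (mul_inv_eq_one.1 h0)))
  obtain ⟨m, hm⟩ : ∃ m : ℕ, (x ^ j) ^ m = x⁻¹ := by
    have hox : orderOf (x ^ j) = p :=
      orderOf_eq_prime (by rw [← zpow_natCast, ← zpow_mul, mul_comm, zpow_mul, zpow_natCast, hEp x hxE,
        one_zpow]) hxj
    have h1 : x⁻¹ ∈ Subgroup.zpowers (x ^ j) := by
      have hle : Subgroup.zpowers (x ^ j) = Subgroup.zpowers x := by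
        refine Subgroup.eq_of_le_of_card_ge (Subgroup.zpowers_le.2 ⟨j, rfl⟩) (le_of_eq ?_)
        rw [Nat.card_zpowers, Nat.card_zpowers, hox, orderOf_eq_prime (hEp x hxE) hx1]
      rw [hle]
      exact inv_mem (Subgroup.mem_zpowers x)
    rwa [← mem_powers_iff_mem_zpowers, Submonoid.mem_powers_iff] at h1
  set r := a ^ m with hrdef
  have hr : ∀ i : ℕ, a ^ i * x * (a ^ i)⁻¹ = x ∧ a ^ i * c' * (a ^ i)⁻¹ = (x ^ j) ^ i * c' := by
    intro i
    induction i with
    | zero => simp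
    | succ i ih =>
      refine ⟨?_, ?_⟩
      · calc _ = a * (a ^ i * x * (a ^ i)⁻¹) * a⁻¹ := by rw [pow_succ']; group
          _ = x := by rw [ih.1, hax]
      · have hxa : a * (x ^ j) ^ i * a⁻¹ = (x ^ j) ^ i := by rw [← conj_pow, ← conj_zpow, hax]
        calc _ = a * (a ^ i * c' * (a ^ i)⁻¹) * a⁻¹ := by rw [pow_succ']; group
          _ = (a * (x ^ j) ^ i * a⁻¹) * (a * c' * a⁻¹) := by rw [ih.2]; group
          _ = _ := by rw [hxa, hac, pow_succ, mul_assoc]
  have hrx : r * x * r⁻¹ = x := (hr m).1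
  have hrc : r * c' * r⁻¹ = x⁻¹ * c' := by rw [hrdef, (hr m).2, hm]
  have hsx : s * x * s⁻¹ = c' * x := by rw [hc'def]; group
  have hsc : s * c' * s⁻¹ = c' := by rw [hZcomm c' hc'Z s hs]; group
  have hxc : x * c' = c' * x := hEab x hxE c' (hZE hc'Z)
  set w := s * r * s with hwdef
  have hwx : w * x * w⁻¹ = c' := by
    calc w * x * w⁻¹ = s * ((r * (s * x * s⁻¹) * r⁻¹)) * s⁻¹ := by rw [hwdef]; group
      _ = s * ((r * c' * r⁻¹) * (r * x * r⁻¹)) * s⁻¹ := by rw [hsx]; group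
      _ = s * (x⁻¹ * (c' * x)) * s⁻¹ := by rw [hrc, hrx]; group
      _ = c' := by rw [← hxc, inv_mul_cancel_left, hsc]
  have hwc : w * c' * w⁻¹ = x⁻¹ := by
    calc w * c' * w⁻¹ = s * ((r * (s * c' * s⁻¹) * r⁻¹)) * s⁻¹ := by rw [hwdef]; group
      _ = s * (x⁻¹ * c') * s⁻¹ := by rw [hsc, hrc]
      _ = (s * x * s⁻¹)⁻¹ * (s * c' * s⁻¹) := by group
      _ = x⁻¹ := by rw [hsx, hsc]; group
  set t := w * w with htdef
  have htx : t * x * t⁻¹ = x⁻¹ := by
    calc t * x * t⁻¹ = w * (w * x * w⁻¹) * w⁻¹ := by rw [htdef]; group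
      _ = x⁻¹ := by rw [hwx, hwc]
  have htc : t * c' * t⁻¹ = c'⁻¹ := by
    calc t * c' * t⁻¹ = w * (w * c' * w⁻¹) * w⁻¹ := by rw [htdef]; group
      _ = (w * x * w⁻¹)⁻¹ := by rw [hwc]; group
      _ = c'⁻¹ := by rw [hwx]
  have ht : ∀ e ∈ E, t * e * t⁻¹ = e⁻¹ := by
    have hgen : E = Subgroup.closure {c', x} := by
      have hle : Subgroup.closure {c', x} ≤ E := (Subgroup.closure_le _).2 (by
        rintro y (rfl | rfl)
        exacts [hZE hc'Z, hxE])
      refine (Subgroup.eq_of_le_of_card_ge hle ?_).symm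
      obtain ⟨i, hi2, hi⟩ := (Nat.dvd_prime_pow hpp).1 (hEcard ▸ Subgroup.card_dvd_of_le hle)
      rw [hEcard, hi]
      refine Nat.pow_le_pow_right hpp.pos ?_
      by_contra hlt
      have hxle : Subgroup.zpowers x ≤ Subgroup.closure {c', x} :=
        Subgroup.zpowers_le.2 (Subgroup.subset_closure (by simp))
      have heq := Subgroup.eq_of_le_of_card_ge hxle (by
        rw [hi, Nat.card_zpowers, orderOf_eq_prime (hEp x hxE) hx1]
        calc p ^ i ≤ p ^ 1 := Nat.pow_le_pow_right hpp.pos (by omega)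
          _ = p := pow_one p)
      exact hc'x (heq ▸ Subgroup.subset_closure (by simp))
    intro e he
    rw [hgen] at he
    induction he using Subgroup.closure_induction with
    | mem y hy => rcases hy with rfl | rfl <;> assumption
    | one => group
    | mul y z hy hz ihy ihz =>
      rw [← hgen] at hy hz
      calc t * (y * z) * t⁻¹ = (t * y * t⁻¹) * (t * z * t⁻¹) := by group
        _ = (z * y)⁻¹ := by rw [ihy, ihz]; group
        _ = _ := by rw [hEab z hz y hy]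
    | inv y hy ihy =>
      calc t * y⁻¹ * t⁻¹ = (t * y * t⁻¹)⁻¹ := by group
        _ = _ := by rw [ihy]
  obtain ⟨al, m₂, hm₂, hot⟩ := Nat.exists_eq_pow_mul_and_not_dvd (orderOf_pos t).ne' 2 (by norm_num)
  set t' := t ^ m₂ with ht'def
  have ht' : ∀ e ∈ E, t' * e * t'⁻¹ = e⁻¹ :=
    odd_pow_inverts ht (Nat.odd_iff.2 (Nat.two_dvd_ne_zero.1 hm₂))
  have ht'2 : t' ^ (2 ^ al) = 1 := by rw [ht'def, ← pow_mul, mul_comm, ← hot, pow_orderOf_eq_one]
  -- a Frattini argument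
  set D := signGroup E with hD
  have ht'D : t' ∈ D := Or.inr ht'
  have hTp : IsPGroup 2 (Subgroup.zpowers (⟨t', ht'D⟩ : D)) := by
    refine IsPGroup.of_card_dvd_pow (n := al) ?_
    rw [Nat.card_zpowers]
    exact orderOf_dvd_of_pow_eq_one (Subtype.ext ht'2)
  obtain ⟨T, hT⟩ := hTp.exists_le_sylow
  set TG := (T : Subgroup D).map D.subtype with hTG
  have ht'T : t' ∈ TG := ⟨⟨t', ht'D⟩, hT (Subgroup.mem_zpowers _), rfl⟩
  have hTG2 : IsPGroup 2 TG := T.isPGroup'.map _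
  have hsN : ∀ e ∈ E, s⁻¹ * e * s ∈ E := fun e he => by
    simpa using hmove (inv_mem (hPn hs)) he
  have hsD : ∀ d ∈ D, s * d * s⁻¹ ∈ D := by
    intro d hd
    rcases hd with hd | hd
    · refine Or.inl fun e he => ?_
      rw [show s * d * s⁻¹ * e * (s * d * s⁻¹)⁻¹ = s * (d * (s⁻¹ * e * s) * d⁻¹) * s⁻¹ by group,
        hd _ (hsN e he)]
      group
    · refine Or.inr fun e he => ?_
      rw [show s * d * s⁻¹ * e * (s * d * s⁻¹)⁻¹ = s * (d * (s⁻¹ * e * s) * d⁻¹) * s⁻¹ by group,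
        hd _ (hsN e he)]
      group
  let σ : D →* D := ((MulAut.conj s).toMonoidHom.comp D.subtype).codRestrict D fun d => hsD d d.2
  have hσi : Function.Injective σ := fun u v huv =>
    Subtype.ext ((MulAut.conj s).injective (congrArg Subtype.val huv))
  obtain ⟨T₂, hT₂⟩ := (T.isPGroup'.map σ).exists_le_sylow
  have hT₂' : (T : Subgroup D).map σ = (T₂ : Subgroup D) := Subgroup.eq_of_le_of_card_ge hT₂ (by
    rw [Subgroup.card_map_of_injective hσi, Sylow.card_eq_multiplicity, Sylow.card_eq_multiplicity])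
  obtain ⟨d, hd⟩ := MulAction.exists_smul_eq D T T₂
  set u₀ := (d : G)⁻¹ * s with hu₀
  have hu₀T : u₀ ∈ Subgroup.normalizer (TG : Set G) := by
    refine Subgroup.mem_normalizer_fintype ?_
    rintro _ ⟨y, hy, rfl⟩
    have h1 : σ y ∈ ((d • T : Sylow 2 D) : Subgroup D) := by rw [hd, ← hT₂']; exact ⟨y, hy, rfl⟩
    rw [show ((d • T : Sylow 2 D) : Subgroup D) = (T : Subgroup D).map (MulAut.conj d).toMonoidHom from rfl,
      Subgroup.mem_map_equiv, MulAut.conj_symm_apply] at h1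
    refine ⟨d⁻¹ * σ y * d, h1, ?_⟩
    show (d : G)⁻¹ * (s * (y : G) * s⁻¹) * (d : G) = u₀ * (y : G) * u₀⁻¹
    rw [hu₀]
    group
  have hu₀2 : ∀ e ∈ E, u₀ ^ 2 * e * (u₀ ^ 2)⁻¹ = s ^ 2 * e * (s ^ 2)⁻¹ := by
    intro e he
    have h1 : s * e * s⁻¹ ∈ E := hmove (hPn hs) he
    have h2 : s * (s * e * s⁻¹) * s⁻¹ ∈ E := hmove (hPn hs) h1
    calc u₀ ^ 2 * e * (u₀ ^ 2)⁻¹
        = (d : G)⁻¹ * (s * ((d : G)⁻¹ * (s * e * s⁻¹) * (d : G)⁻¹⁻¹) * s⁻¹) * (d : G)⁻¹⁻¹ := by
          rw [hu₀, pow_two]; group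
      _ = s * (s * e * s⁻¹) * s⁻¹ := by
          rcases (inv_mem d.2 : (d : G)⁻¹ ∈ D) with hdd | hdd
          · rw [hdd _ h1, hdd _ h2]
          · rw [hdd _ h1, show s * (s * e * s⁻¹)⁻¹ * s⁻¹ = (s * (s * e * s⁻¹) * s⁻¹)⁻¹ by
              simp only [mul_inv_rev, inv_inv, mul_assoc],
              hdd _ (inv_mem h2), inv_inv]
      _ = _ := by simp only [pow_two, mul_inv_rev, mul_assoc]
  have hpow : ∀ i : ℕ, ∀ e ∈ E,
      (u₀ ^ 2) ^ i * e * ((u₀ ^ 2) ^ i)⁻¹ = (s ^ 2) ^ i * e * ((s ^ 2) ^ i)⁻¹ := by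
    intro i
    induction i with
    | zero => simp
    | succ i ih =>
      intro e he
      have h1 : (s ^ 2) ^ i * e * ((s ^ 2) ^ i)⁻¹ ∈ E :=
        hmove (hPn (pow_mem (pow_mem hs 2) i)) he
      calc _ = u₀ ^ 2 * ((u₀ ^ 2) ^ i * e * ((u₀ ^ 2) ^ i)⁻¹) * (u₀ ^ 2)⁻¹ := by rw [pow_succ']; group
        _ = _ := by rw [ih e he, hu₀2 _ h1, pow_succ' (s ^ 2)]; group
  obtain ⟨pe, mm, hmm, houm⟩ := Nat.exists_eq_pow_mul_and_not_dvd (orderOf_pos (u₀ ^ 2)).ne' p
    hpp.one_lt.ne'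
  set u := (u₀ ^ 2) ^ mm with hudef
  have hup : u ^ p ^ pe = 1 := by rw [hudef, ← pow_mul, mul_comm, ← houm, pow_orderOf_eq_one]
  have hu : ∀ e ∈ E, u * e * u⁻¹ = s ^ (2 * mm) * e * (s ^ (2 * mm))⁻¹ := fun e he => by
    rw [hudef, hpow mm e he, ← pow_mul]
  have huE : u ∈ Subgroup.normalizer (E : Set G) := Subgroup.mem_normalizer_fintype fun e he => by
    show u * e * u⁻¹ ∈ E
    rw [hu e he]
    exact hmove (hPn (pow_mem hs _)) he
  have hux : u * x * u⁻¹ ≠ x := by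
    intro h0
    rw [hu x hxE, mul_inv_eq_iff_eq_mul] at h0
    have h1 := hcent x hxE hxZ _ (pow_mem hs _) h0
    have h2 : (2 * mm).Coprime (orderOf s) := by
      have h3 : orderOf s ∣ p ^ 2 := by
        rw [← hexp, show orderOf s = orderOf (⟨s, hs⟩ : (P : Subgroup G)) from Subgroup.orderOf_coe (⟨s, hs⟩ : (P : Subgroup G))]
        exact Monoid.order_dvd_exponent _
      refine Nat.Coprime.coprime_dvd_right h3 (Nat.Coprime.pow_right _ ?_)
      rw [Nat.coprime_comm, hpp.coprime_iff_not_dvd, hpp.dvd_mul, not_or]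
      exact ⟨fun h4 => hp ((Nat.prime_dvd_prime_iff_eq hpp Nat.prime_two).1 h4), hmm⟩
    obtain ⟨i, hi⟩ := exists_pow_eq_self_of_coprime h2
    exact hsE (hi ▸ pow_mem h1 i)
  have hzu : IsPGroup p (Subgroup.zpowers u) := by
    refine IsPGroup.of_card_dvd_pow (n := pe) ?_
    rw [Nat.card_zpowers]
    exact orderOf_dvd_of_pow_eq_one hup
  obtain ⟨P', hP'⟩ := (hzu.to_sup_of_normal_right' (P.isPGroup'.to_le hEP)
    (Subgroup.zpowers_le.2 huE)).exists_le_sylow
  obtain ⟨k', hk'⟩ := MulAction.exists_smul_eq G P P'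
  have hin : ∀ y ∈ Subgroup.zpowers u ⊔ E, k'⁻¹ * y * k' ∈ (P : Subgroup G) := fun y hy => by
    have h1 := hP' hy
    rw [← hk', show ((k' • P : Sylow p G) : Subgroup G) =
        (P : Subgroup G).map (MulAut.conj k').toMonoidHom from rfl,
      Subgroup.mem_map_equiv, MulAut.conj_symm_apply] at h1
    exact h1
  have hk'N := hnorm k' fun e he => hin e (Subgroup.mem_sup_right he)
  set v := k'⁻¹ * u * k' with hv
  have hvP : v ∈ (P : Subgroup G) := hin u (Subgroup.mem_sup_left (Subgroup.mem_zpowers u))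
  have hvE : v ∉ E := by
    intro h0
    have h1 : u ∈ E := by simpa [hv, mul_assoc] using hmove hk'N h0
    exact hux (by rw [hEab u h1 x hxE]; group)
  have hupE : u ^ p ∈ E := by
    have h1 : v ^ p ∈ E := hZE ⟨(⟨v, hvP⟩ : (P : Subgroup G)) ^ p, CfsgLib.PGroup.extraspecial_pow_mem hE _, rfl⟩
    have h2 := hmove hk'N h1
    rwa [show v ^ p = k'⁻¹ * u ^ p * k'⁻¹⁻¹ by rw [← conj_pow, hv, inv_inv],
      show k' * (k'⁻¹ * u ^ p * k'⁻¹⁻¹) * k'⁻¹ = u ^ p by group] at h2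
  have hupT : u ^ p ∈ Subgroup.normalizer (TG : Set G) := pow_mem (pow_mem (pow_mem hu₀T 2) mm) p
  have hsq : (u ^ p) ^ 2 ∈ TG := by
    have h1 : (u ^ p) * t' * (u ^ p)⁻¹ ∈ TG := (Subgroup.mem_normalizer_iff.1 hupT t').1 ht'T
    have h2 : (u ^ p) * t' * (u ^ p)⁻¹ * t'⁻¹ = (u ^ p) ^ 2 := by
      calc _ = (u ^ p) * (t' * (u ^ p)⁻¹ * t'⁻¹) := by group
        _ = _ := by rw [ht' _ (inv_mem hupE), inv_inv, pow_two]
    exact h2 ▸ mul_mem h1 (inv_mem ht'T)
  have hsq1 : (u ^ p) ^ 2 = 1 := by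
    obtain ⟨l, hl⟩ := hTG2 ⟨_, hsq⟩
    have h1 : orderOf ((u ^ p) ^ 2) ∣ 2 ^ l := orderOf_dvd_of_pow_eq_one (congrArg Subtype.val hl)
    have h2 : orderOf ((u ^ p) ^ 2) ∣ p := orderOf_dvd_of_pow_eq_one (hEp _ (pow_mem hupE 2))
    refine orderOf_eq_one_iff.1 (Nat.dvd_one.1 ?_)
    have hco : (2 ^ l).Coprime p :=
      ((Nat.coprime_primes Nat.prime_two hpp).2 hp.symm).pow_left _
    exact hco.gcd_eq_one ▸ Nat.dvd_gcd h1 h2
  have hup1 : u ^ p = 1 := by
    have h1 := orderOf_dvd_of_pow_eq_one hsq1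
    have h2 := orderOf_dvd_of_pow_eq_one (hEp _ hupE)
    refine orderOf_eq_one_iff.1 (Nat.dvd_one.1 ?_)
    exact ((Nat.coprime_primes Nat.prime_two hpp).2 hp.symm).gcd_eq_one ▸ Nat.dvd_gcd h1 h2
  refine hvE ((hmemE v).2 ⟨hvP, ?_⟩)
  rw [hv, show k'⁻¹ * u * k' = k'⁻¹ * u * k'⁻¹⁻¹ by group, conj_pow, hup1]
  group

/-- Let p be an odd prime and G a finite group with a Sylow p-subgroup P that is extraspecial of order p³ and exponent p². Then the centre of P is strongly closed in P with respect to G: a G-conjugate of an element of Z(P) that lies in P already lies in Z(P). In particular a nontrivial central element of P is conjugate in G to no noncentral element of P. -/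
theorem result {G : Type*} [Group G] [Finite G]
    {p : ℕ} [Fact p.Prime] (hp : p ≠ 2) (P : Sylow p G) (hE : Cfsg.IsExtraspecial p ↥P)
    (hcard : Nat.card P = p ^ 3) (hexp : Monoid.exponent ↥P = p ^ 2) :
    Cfsg.IsStronglyClosed ((Subgroup.center ↥P).map (P : Subgroup G).subtype) (P : Subgroup G) := by
  exact center_stronglyClosed hp P hE hcard hexp

end Cfsg.Agent.S3053
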