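import Cfsg.Statements.S3062
import Cfsg.Agent.DStarLib.Basic

set_option autoImplicit false
open Cfsg

namespace Cfsg.Agent.S3062

/-- Let S be a finite p-group, J(S) the subgroup generated by the abelian subgroups of S of largest order and Z(J(S)) its centre. Then Z(S) ≤ D*(S) ≤ Z(J(S)), and every maximal normal abelian subgroup of S contains D*(S). -/
theorem result {S : Type*} [Group S] [Finite S] {p : ℕ} [Fact p.Prime]
    (hS : IsPGroup p S) :
    Subgroup.center S ≤ Cfsg.dStar S ∧
    Cfsg.dStar S ≤ Cfsg.thompsonSubgroupA S ⊓ Subgroup.centralizer (Cfsg.thompsonSubgroupA S : Set S) ∧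
    ∀ A : Subgroup S, A.Normal → IsMulCommutative A →
      (∀ B : Subgroup S, B.Normal → IsMulCommutative B → A ≤ B → B = A) → Cfsg.dStar S ≤ A := by
  classical
  have hB : ∀ B ∈ Cfsg.maxAbelianSubgroups S, Cfsg.dStar S ≤ B := fun B hB =>
    CfsgLib.DStarBasic.dStar_le_maxAb hS hB
  refine ⟨CfsgLib.DStarBasic.center_le_dStar, le_inf ?_ ?_, fun A hA hAc hmax => ?_⟩
  · obtain ⟨B, hBc, hBmax⟩ := Set.exists_max_image {B : Subgroup S | IsMulCommutative B}
      (fun B => Nat.card B) (Set.toFinite _) ⟨⊥, CfsgLib.WeakClosureJ.isMulCommutative_bot'⟩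
    exact (hB B ⟨hBc, hBmax⟩).trans (le_sSup ⟨hBc, hBmax⟩)
  · rw [Subgroup.le_centralizer_iff]
    refine sSup_le fun B hBm => ?_
    rw [Subgroup.le_centralizer_iff]
    intro x hx
    rw [Subgroup.mem_centralizer_iff]
    exact fun y hy => CfsgLib.GlaubermanZJ.isMulCommutative_apply hBm.1 hy (hB B hBm hx)
  · haveI := hA
    exact CfsgLib.DStarBasic.dStar_le_of_maximal hS hAc hmax

end Cfsg.Agent.S3062
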