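import Cfsg.Statements.S3071
import Cfsg.Agent.GlaubermanZJ.LocallyFree
-- import your own Cfsg.Agent.* helpers here

set_option autoImplicit false
open Cfsg

namespace Cfsg.Agent.S3071

/-- Let p be an odd prime and S a Sylow p-subgroup of the finite group G such that, for every subgroup P with Z(S) ≤ P ≤ S, the normalizer N_G(P) has no section isomorphic to SL₂(p). Let J(S) be the subgroup generated by the abelian subgroups of S of largest order. Then two elements of S are conjugate in G if and only if they are conjugate in N_G(Z(J(S))). -/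
theorem result {G : Type*} [Group G] [Finite G] {p : ℕ} [Fact p.Prime]
    (hp : p ≠ 2) (S : Sylow p G)
    (hfree : ∀ P : Subgroup G, (S : Subgroup G) ⊓ Subgroup.centralizer ((S : Subgroup G) : Set G) ≤ P → P ≤ S →
      ¬ ∃ (H K : Subgroup G) (hK : (K.subgroupOf H).Normal), H ≤ Subgroup.normalizer (P : Set G) ∧
        Nonempty ((H ⧸ K.subgroupOf H) ≃* Matrix.SpecialLinearGroup (Fin 2) (ZMod p))) :
    ∀ x ∈ S, ∀ y ∈ S, (∃ g : G, g * x * g⁻¹ = y) ↔
      ∃ n ∈ Subgroup.normalizer (Cfsg.centerThompsonAOf (S : Subgroup G) : Set G), n * x * n⁻¹ = y := by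
  intro x hx y hy
  refine ⟨fun ⟨g, hg⟩ => ?_, fun ⟨n, _, hn⟩ => ⟨n, hn⟩⟩
  have hq : ∀ T : Subgroup G, (S : Subgroup G) ⊓ Subgroup.centralizer ((S : Subgroup G) : Set G) ≤ T →
      T ≤ (S : Subgroup G) → ¬ Cfsg.Involves (Cfsg.qd p) ↥(Subgroup.normalizer (T : Set G)) := by
    intro T hT hTS hi
    obtain ⟨K, L, hL, ⟨e⟩⟩ := CfsgLib.QdSection.sl_two_section_of_involves_qd hi
    haveI := hL
    let N := Subgroup.normalizer (T : Set G)
    let j := (K.equivMapOfInjective N.subtype N.subtype_injective).symm.toMonoidHom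
    obtain ⟨L', hL', he⟩ := CfsgLib.QdSection.section_of_hom (K.map N.subtype)
      ((e.toMonoidHom.comp (QuotientGroup.mk' (L.subgroupOf K))).comp j)
      ((e.surjective.comp (QuotientGroup.mk'_surjective _)).comp (MulEquiv.surjective _))
    exact hfree T hT hTS ⟨_, L', hL', Subgroup.map_subtype_le K, he⟩
  obtain ⟨n, hn, hna⟩ := CfsgLib.GlaubermanZJ.inducedIn_of_locally_qdFree hp S hq (Subgroup.zpowers x) g
    (Subgroup.zpowers_le.2 hx) (by
      rw [CfsgLib.ConjFunctor.conjOf, MonoidHom.map_zpowers, Subgroup.zpowers_le]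
      show g * x * g⁻¹ ∈ (S : Subgroup G)
      rw [hg]; exact hy)
  exact ⟨n, hn, (hna x (Subgroup.mem_zpowers x)).trans hg⟩

end Cfsg.Agent.S3071
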