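import Cfsg.Statements.S3086
import Cfsg.Agent.PGVTheorem.Main
import Cfsg.Agent.S1921
import Cfsg.Agent.Cores.Quasisimple
import Cfsg.Agent.Eq.Def_Local
import Cfsg.Agent.Eq.Def_CaseTheorems

set_option autoImplicit false
open Cfsg
open scoped commutatorElement

namespace Cfsg.Agent.S3086

/-- The P(G,V)-theorem. Let p be a prime, G a finite group acting faithfully and linearly on a finite vector space V over the field with p elements, and A a nontrivial elementary abelian p-subgroup of G such that |A|·|C_V(A)| ≥ |B|·|C_V(B)| for every subgroup B of A. Then A normalizes every component (subnormal quasisimple subgroup) of G. -/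
theorem result {G V : Type*} [Group G] [Finite G] [AddCommGroup V] [Finite V] (p : ℕ) [Fact p.Prime] [Module (ZMod p) V]
    (ρ : Representation (ZMod p) G V) (hρ : Function.Injective ρ)
    (A : Subgroup G) (hA : A ≠ ⊥) (hAel : Cfsg.IsElementaryAbelian p A)
    (hP : ∀ B : Subgroup G, B ≤ A →
      Nat.card ↥B * Nat.card {v : V // ∀ b ∈ B, ρ b v = v} ≤ Nat.card ↥A * Nat.card {v : V // ∀ a ∈ A, ρ a v = v}) :
    ∀ K : Subgroup G, Cfsg.IsComponent K → A ≤ Subgroup.normalizer (K : Set G) := by
  intro K hK
  have hperf : ⁅K, K⁆ = K := by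
    haveI : Group.IsPerfect ↥K := hK.2.1
    rw [← Subgroup.map_subtype_commutator, show commutator ↥K = ⊤ from Group.IsPerfect.commutator_eq_top,
      ← MonoidHom.range_eq_map, Subgroup.range_subtype]
  have hcomm : ∀ a ∈ A, ∀ b ∈ A, a * b = b * a := fun a ha b hb =>
    congrArg Subtype.val (hAel.1.is_comm.comm ⟨a, ha⟩ ⟨b, hb⟩)
  have C : CfsgLib.PGV.Ctx p K A :=
    { perfect := hperf
      qs := fun N hN => (CfsgLib.Cores.normal_eq_top_or_le_center hK.2 N hN).symm
      comm := hcomm
      pow := fun a ha => by simpa using hAel.2 a ha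
      disj := by
        intro a _ ⟨m, hm, hmK⟩ k hk l hl
        have hK' := Cfsg.Agent.S1921.isComponent_conj hK a
        have hne : K ≠ K.map (MulAut.conj a).toMonoidHom := fun e =>
          hmK (e.symm ▸ ⟨m, hm, by simp⟩)
        have h := Cfsg.Agent.S1921.components_commute_aux _ G le_rfl K _ hK hK' hne
        exact commutatorElement_eq_one_iff_commute.mp (Subgroup.mem_bot.mp
          (h ▸ Subgroup.commutator_mem_commutator hk ⟨l, hl, by simp⟩)) }
  have hchar : (p : Module.End (ZMod p) V) = 0 := LinearMap.ext fun v => by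
    rw [Module.End.natCast_apply, LinearMap.zero_apply, ← Nat.cast_smul_eq_nsmul (ZMod p),
      ZMod.natCast_self, zero_smul]
  have hbest : CfsgLib.PGV.IsBest ρ A := fun B hB => hP B hB
  have hne : ∃ k ∈ K, ρ k ≠ 1 := by
    haveI := CfsgLib.Cores.nontrivial_of_isQuasisimple hK.2
    obtain ⟨k, hk⟩ := exists_ne (1 : ↥K)
    exact ⟨k, k.2, fun h => hk (Subtype.ext (hρ (by rw [h, Subgroup.coe_one, map_one])))⟩
  have hkey := CfsgLib.PGV.main C ρ hchar hbest hne
  intro a ha
  rw [Subgroup.mem_normalizer_iff]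
  intro k
  refine ⟨fun hk => CfsgLib.PGV.not_moves (hkey a ha) hk, fun hk => ?_⟩
  have := CfsgLib.PGV.not_moves (hkey a⁻¹ (A.inv_mem ha)) hk
  simpa [mul_assoc] using this

end Cfsg.Agent.S3086
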