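import Cfsg.Agent.Eq.Def_Classical
import Cfsg.Agent.S3157
import Mathlib.GroupTheory.Sylow
import Mathlib.Tactic
import Cfsg.Statements.S3156

set_option autoImplicit false
open Cfsg
open scoped commutatorElement Matrix

namespace Cfsg.Agent.S3156

section Field

variable {F : Type*} [Field F] [Fintype F]

theorem char_two (hF : Fintype.card F = 16) : CharP F 2 := by
  obtain ⟨p, hp⟩ := CharP.exists F
  haveI := hp
  obtain ⟨n, hpr, hn⟩ := FiniteField.card F p
  have h2 : p ∣ 16 := by rw [← hF, hn]; exact dvd_pow_self p n.pos.ne'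
  have h3 : p ∣ 2 := hpr.dvd_of_dvd_pow (show p ∣ 2 ^ 4 from h2)
  rwa [← (Nat.prime_dvd_prime_iff_eq hpr Nat.prime_two).1 h3]

/-- The coordinates of the unipotent radical of the stabiliser of an isotropic vector. -/
abbrev Pts (F : Type*) [Field F] : Type _ := {p : F × F // p.2 + p.2 ^ 4 = p.1 ^ 5}

noncomputable instance instFinitePts : Finite (Pts F) := Subtype.finite

theorem field_facts (hF : Fintype.card F = 16) :
    (∀ c : F, c ^ 4 = c → Nat.card {b : F // b + b ^ 4 = c} = 4) ∧
      (∀ a : F, a ^ 16 = a) ∧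
      (∀ c : F, c ^ 4 = c → c ≠ 0 → Nat.card {a : F // a ^ 5 = c} = 5) ∧
      (∀ a : F, (a ^ 5) ^ 4 = a ^ 5) ∧ Nat.card (Pts F) = 64 := by
  classical
  haveI := char_two hF
  haveI : Fact (Nat.Prime 2) := ⟨Nat.prime_two⟩
  have h16 : ∀ a : F, a ^ 16 = a := fun a => by rw [← hF]; exact FiniteField.pow_card a
  have h54 : ∀ a : F, (a ^ 5) ^ 4 = a ^ 5 := fun a => by
    calc (a ^ 5) ^ 4 = a ^ 16 * a ^ 4 := by ring
      _ = a ^ 5 := by rw [h16]; ring
  let ψ : F →+ F :=
    { toFun := fun b => b + b ^ 4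
      map_zero' := by simp
      map_add' := fun x y => by
        show x + y + (x + y) ^ 4 = x + x ^ 4 + (y + y ^ 4)
        rw [show (4 : ℕ) = 2 ^ 2 from rfl, add_pow_char_pow]
        ring }
  let K := (Finset.univ : Finset F).filter fun x => x ^ 4 = x
  have hKle : K.card ≤ 4 := by
    have h1 : K.val ⊆ (Polynomial.X ^ 4 - Polynomial.X : Polynomial F).roots := by
      intro x hx
      have hx' : x ^ 4 = x := (Finset.mem_filter.1 hx).2
      rw [Polynomial.mem_roots (FiniteField.X_pow_card_sub_X_ne_zero F (by norm_num))]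
      simp [hx']
    have h2 := Multiset.card_le_card ((Multiset.le_iff_subset K.nodup).2 h1)
    exact h2.trans ((Polynomial.card_roots' _).trans
      (FiniteField.X_pow_card_sub_X_natDegree_eq F (by norm_num)).le)
  have hkerK : ∀ x : F, x ∈ ψ.ker ↔ x ∈ K := fun x => by
    rw [AddMonoidHom.mem_ker, Finset.mem_filter]
    show x + x ^ 4 = 0 ↔ _
    rw [CharTwo.add_eq_zero]
    simp [eq_comm]
  have hker : Nat.card ψ.ker = K.card := by
    rw [Nat.card_congr (Equiv.subtypeEquivRight hkerK), Nat.card_eq_fintype_card, Fintype.card_coe]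
  have hrange : ∀ x ∈ ψ.range, x ^ 4 = x := by
    rintro _ ⟨b, rfl⟩
    show (b + b ^ 4) ^ 4 = b + b ^ 4
    rw [show (4 : ℕ) = 2 ^ 2 from rfl, add_pow_char_pow, ← pow_mul, show 2 ^ 2 * 2 ^ 2 = 16 from rfl, h16, add_comm]
  let ι : ψ.range → K := fun x => ⟨x.1, Finset.mem_filter.2 ⟨Finset.mem_univ _, hrange x x.2⟩⟩
  have hι : Function.Injective ι := fun x y h => Subtype.ext (congrArg Subtype.val h : _)
  have hrc : Nat.card ψ.range ≤ K.card := by
    have := Nat.card_le_card_of_injective ι hι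
    rwa [Nat.card_eq_fintype_card (α := K), Fintype.card_coe] at this
  have h1 := AddSubgroup.card_eq_card_quotient_mul_card_addSubgroup ψ.ker
  rw [Nat.card_congr (QuotientAddGroup.quotientKerEquivRange ψ).toEquiv, hker, Nat.card_eq_fintype_card, hF] at h1
  have hK4 : K.card = 4 := by nlinarith
  rw [hK4] at h1 hrc
  have hr4 : Nat.card ψ.range = 4 := by omega
  have hsurj : Function.Surjective ι := by
    refine ((Nat.bijective_iff_injective_and_card ι).2 ⟨hι, ?_⟩).2
    rw [hr4, Nat.card_eq_fintype_card (α := K), Fintype.card_coe, hK4]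
  have hfib : ∀ c : F, c ^ 4 = c → Nat.card {b : F // b + b ^ 4 = c} = 4 := by
    intro c hc
    obtain ⟨⟨_, b₀, rfl⟩, hb⟩ := hsurj ⟨c, Finset.mem_filter.2 ⟨Finset.mem_univ _, hc⟩⟩
    have hb' : ψ b₀ = c := congrArg Subtype.val hb
    have e : {b : F // b + b ^ 4 = c} ≃ ψ.ker :=
      { toFun := fun b => ⟨b.1 - b₀, by
          rw [AddMonoidHom.mem_ker, map_sub, hb']
          show b.1 + b.1 ^ 4 - c = 0
          rw [b.2, sub_self]⟩
        invFun := fun k => ⟨k.1 + b₀, by
          show ψ (k.1 + b₀) = c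
          rw [map_add, AddMonoidHom.mem_ker.1 k.2, hb', zero_add]⟩
        left_inv := fun b => by simp
        right_inv := fun k => by simp }
    rw [Nat.card_congr e, hker, hK4]
  refine ⟨hfib, h16, ?_, h54, ?_⟩
  · -- fifth roots
    have hle : ∀ c : F, c ≠ 0 → ((Finset.univ : Finset F).filter fun a => a ^ 5 = c).card ≤ 5 := by
      intro c _
      calc _ ≤ (Polynomial.nthRoots 5 c).toFinset.card := Finset.card_le_card fun a ha => by
              rw [Multiset.mem_toFinset, Polynomial.mem_nthRoots (by norm_num)]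
              exact (Finset.mem_filter.1 ha).2
        _ ≤ Multiset.card (Polynomial.nthRoots 5 c) := Multiset.toFinset_card_le _
        _ ≤ 5 := Polynomial.card_nthRoots 5 c
    intro c hc hc0
    have hK0 : (K.erase 0).card = 3 := by
      rw [Finset.card_erase_of_mem (Finset.mem_filter.2 ⟨Finset.mem_univ _, by simp⟩), hK4]
    have hsum := Finset.card_eq_sum_card_fiberwise (f := fun a : F => a ^ 5)
      (s := (Finset.univ : Finset F).erase 0) (t := K.erase 0) (fun a ha => Finset.mem_coe.2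
        (Finset.mem_erase.2 ⟨pow_ne_zero 5 (Finset.mem_erase.1 (Finset.mem_coe.1 ha)).1,
          Finset.mem_filter.2 ⟨Finset.mem_univ _, h54 a⟩⟩))
    have hfilt : ∀ d ∈ K.erase 0, ((Finset.univ : Finset F).erase 0).filter (fun a => a ^ 5 = d) =
        (Finset.univ : Finset F).filter fun a => a ^ 5 = d := fun d hd => by
      ext a
      simp only [Finset.mem_filter, Finset.mem_erase, Finset.mem_univ, and_true, true_and]
      constructor
      · exact fun h => h.2
      · intro h
        refine ⟨fun ha => (Finset.mem_erase.1 hd).1 ?_, h⟩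
        rw [← h, ha]; simp
    rw [Finset.sum_congr rfl fun d hd => by rw [hfilt d hd], Finset.card_erase_of_mem (Finset.mem_univ _),
      Finset.card_univ, hF] at hsum
    have hcK : c ∈ K.erase 0 := Finset.mem_erase.2 ⟨hc0, Finset.mem_filter.2 ⟨Finset.mem_univ _, hc⟩⟩
    rw [← Finset.add_sum_erase _ _ hcK] at hsum
    have hrest := Finset.sum_le_card_nsmul ((K.erase 0).erase c)
      (fun d => ((Finset.univ : Finset F).filter fun a => a ^ 5 = d).card) 5
      (fun d hd => hle d (Finset.mem_erase.1 (Finset.mem_erase.1 hd).2).1)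
    rw [Finset.card_erase_of_mem hcK, hK0] at hrest
    have := hle c hc0
    rw [Nat.card_eq_fintype_card, Fintype.card_subtype]
    simp only [smul_eq_mul] at hrest
    omega
  · let e : Pts F ≃ Σ a : F, {b : F // b + b ^ 4 = a ^ 5} :=
      { toFun := fun p => ⟨p.1.1, p.1.2, p.2⟩
        invFun := fun s => ⟨(s.1, s.2.1), s.2.2⟩
        left_inv := fun p => rfl
        right_inv := fun s => rfl }
    rw [Nat.card_congr e, Nat.card_sigma, Finset.sum_congr rfl fun a _ => hfib (a ^ 5) (h54 a)]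
    simp [hF]

end Field

section Unitary

variable {F : Type*} [Field F] [Fintype F]

/-- The matrix with coordinates `(a, b)`. -/
def mat (a b : F) : Matrix (Fin 3) (Fin 3) F := !![1 + b, b, a ^ 4; b, 1 + b, a ^ 4; a, a, 1]

theorem det_mat (hF : Fintype.card F = 16) (a b : F) : (mat a b).det = 1 := by
  haveI := char_two hF
  have h2 : (2 : F) = 0 := CharTwo.two_eq_zero
  simp [mat, Matrix.det_fin_three]
  linear_combination (b - a ^ 5) * h2

theorem mul_mat (hF : Fintype.card F = 16) (a b a' b' : F) :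
    mat a b * mat a' b' = mat (a + a') (b + b' + a ^ 4 * a') := by
  haveI := char_two hF
  have h2 : (2 : F) = 0 := CharTwo.two_eq_zero
  have h4 : (a + a') ^ 4 = a ^ 4 + a' ^ 4 := by
    haveI : Fact (Nat.Prime 2) := ⟨Nat.prime_two⟩
    rw [show (4 : ℕ) = 2 ^ 2 from rfl, add_pow_char_pow]
  ext i j
  fin_cases i <;> fin_cases j <;> simp [mat, Matrix.mul_apply, Fin.sum_univ_three, h4]
  all_goals first
    | ring1
    | linear_combination (b * b') * h2
    | linear_combination (b * a' ^ 4) * h2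
    | linear_combination (a * b') * h2
    | linear_combination (a * a' ^ 4) * h2
    | grind

theorem form_mat (hF : Fintype.card F = 16) (a b : F) (h : b + b ^ 4 = a ^ 5) (u v : Fin 3 → F) :
    hermForm 3 F 4 (mat a b *ᵥ u) (mat a b *ᵥ v) = hermForm 3 F 4 u v := by
  haveI := char_two hF
  haveI : Fact (Nat.Prime 2) := ⟨Nat.prime_two⟩
  have h2 : (2 : F) = 0 := CharTwo.two_eq_zero
  have h16 : (a ^ 4) ^ 4 = a := by
    rw [← pow_mul, show 4 * 4 = Fintype.card F from hF.symm]; exact FiniteField.pow_card a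
  have h4 : ∀ x y : F, (x + y) ^ 4 = x ^ 4 + y ^ 4 := fun x y => by
    rw [show (4 : ℕ) = 2 ^ 2 from rfl, add_pow_char_pow]
  have hone : (1 + b) ^ 4 = 1 + b ^ 4 := by rw [h4, one_pow]
  simp [hermForm, mat, Matrix.mulVec, dotProduct, Fin.sum_univ_three, h4, mul_pow, h16, hone]
  linear_combination ((u 0 + u 1) * (v 0 ^ 4 + v 1 ^ 4)) * h +
    ((u 0 + u 1) * (v 0 ^ 4 + v 1 ^ 4) * (a * a ^ 4) + b * b ^ 4 * (u 0 + u 1) * (v 0 ^ 4 + v 1 ^ 4) +
      (u 2 * a ^ 4) * (v 0 ^ 4 + v 1 ^ 4) + (u 0 + u 1) * v 2 ^ 4 * a + u 2 * v 2 ^ 4 * (a ^ 4 * a) + b * a * v 2 ^ 4 * (u 0 + u 1) +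
      b ^ 4 * a ^ 4 * u 2 * (v 0 ^ 4 + v 1 ^ 4)) * h2

/-- The element of the unitary group with given coordinates. -/
def elt (hF : Fintype.card F = 16) (p : Pts F) : SU 3 F 4 :=
  ⟨⟨mat p.1.1 p.1.2, det_mat hF _ _⟩, fun u v => form_mat hF _ _ p.2 u v⟩

theorem elt_coe (hF : Fintype.card F = 16) (p : Pts F) :
    ((elt hF p : SU 3 F 4) : Matrix.SpecialLinearGroup (Fin 3) F).1 = mat p.1.1 p.1.2 := rfl

/-- The stabiliser of `(1,1,0)`. -/
def stab : Subgroup (SU 3 F 4) where
  carrier := {g | (g : Matrix.SpecialLinearGroup (Fin 3) F).1 *ᵥ ![1, 1, 0] = ![1, 1, 0]}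
  mul_mem' {g h} hg hh := by
    show ((g : Matrix.SpecialLinearGroup (Fin 3) F).1 * (h : Matrix.SpecialLinearGroup (Fin 3) F).1) *ᵥ _ = _
    rw [← Matrix.mulVec_mulVec]
    exact (congrArg _ hh).trans hg
  one_mem' := Matrix.one_mulVec _
  inv_mem' {g} hg := by
    show ((g⁻¹ : SU 3 F 4) : Matrix.SpecialLinearGroup (Fin 3) F).1 *ᵥ _ = _
    nth_rewrite 1 [← hg]
    rw [Matrix.mulVec_mulVec]
    have : ((g⁻¹ : SU 3 F 4) : Matrix.SpecialLinearGroup (Fin 3) F).1 *
        (g : Matrix.SpecialLinearGroup (Fin 3) F).1 = 1 :=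
      congrArg (fun z : SU 3 F 4 => (z : Matrix.SpecialLinearGroup (Fin 3) F).1) (inv_mul_cancel g)
    rw [this, Matrix.one_mulVec]

theorem mem_stab_iff (hF : Fintype.card F = 16) (g : SU 3 F 4) :
    g ∈ stab (F := F) ↔ ∃ p : Pts F, elt hF p = g := by
  haveI := char_two hF
  haveI : Fact (Nat.Prime 2) := ⟨Nat.prime_two⟩
  have h2 : (2 : F) = 0 := CharTwo.two_eq_zero
  constructor
  · intro hg
    set M := (g : Matrix.SpecialLinearGroup (Fin 3) F).1 with hM
    have hdet : M.det = 1 := (g : Matrix.SpecialLinearGroup (Fin 3) F).2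
    have hform : ∀ u v, hermForm 3 F 4 (M *ᵥ u) (M *ᵥ v) = hermForm 3 F 4 u v := g.2
    have hg' : M *ᵥ ![1, 1, 0] = ![1, 1, 0] := hg
    have r0 := congrFun hg' 0
    have r1 := congrFun hg' 1
    have r2 := congrFun hg' 2
    simp [Matrix.mulVec, dotProduct, Fin.sum_univ_three] at r0 r1 r2
    have e : ∀ i j : Fin 3, hermForm 3 F 4 (fun k => M k i) (fun k => M k j) =
        if i = j then 1 else 0 := by
      intro i j
      have := hform (Pi.single i 1) (Pi.single j 1)
      rw [Matrix.mulVec_single_one, Matrix.mulVec_single_one] at this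
      exact this.trans (by fin_cases i <;> fin_cases j <;> simp [hermForm, Fin.sum_univ_three, Pi.single_apply])
    have c0 := hform (Pi.single 0 1) ![1, 1, 0]
    have c1 := hform (Pi.single 1 1) ![1, 1, 0]
    have c2 := hform (Pi.single 2 1) ![1, 1, 0]
    rw [hg'] at c0 c1 c2
    simp [hermForm, Fin.sum_univ_three, Matrix.mulVec_single_one, Pi.single_apply] at c0 c1 c2
    set a := M 2 0 with ha
    set b := M 0 1 with hb
    have m00 : M 0 0 = 1 + b := by linear_combination r0 - b * h2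
    have m10 : M 1 0 = b := by linear_combination c0 - m00 - b * h2 + (0 : F) * h2
    have m11 : M 1 1 = 1 + b := by linear_combination r1 - m10 - b * h2
    have m21 : M 2 1 = a := by linear_combination r2 - a * h2
    have m12 : M 1 2 = M 0 2 := by linear_combination c2 - M 0 2 * h2
    have m22 : M 2 2 = 1 := by
      rw [Matrix.det_fin_three, m00, m10, m11, m12, ← hb, m21, ← ha] at hdet
      linear_combination hdet + (b * a * M 0 2 - b * M 2 2 + a * M 0 2 - b * a * M 0 2) * h2
    have h02 := e 0 2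
    have h00 := e 0 0
    simp [hermForm, Fin.sum_univ_three, m00, m10, m12, m22, ← ha] at h02 h00
    have h4 : ∀ x y : F, (x + y) ^ 4 = x ^ 4 + y ^ 4 := fun x y => by
      rw [show (4 : ℕ) = 2 ^ 2 from rfl, add_pow_char_pow]
    have hc : M 0 2 = a ^ 4 := by
      have e1 : M 0 2 ^ 4 = a := by linear_combination h02 - b * M 0 2 ^ 4 * h2 - a * h2
      have e2 : (M 0 2 ^ 4) ^ 4 = M 0 2 := by
        rw [← pow_mul, show 4 * 4 = Fintype.card F from hF.symm]; exact FiniteField.pow_card _
      rw [← e1, e2]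
    rw [h4, one_pow] at h00
    refine ⟨⟨(a, b), ?_⟩, ?_⟩
    · show b + b ^ 4 = a ^ 5
      linear_combination h00 - (b * b ^ 4 + a ^ 5) * h2
    · apply Subtype.ext; apply Subtype.ext
      show mat a b = M
      ext i j
      fin_cases i <;> fin_cases j <;> simp [mat, m00, m10, m11, m12, m21, m22, hc, ← ha, ← hb]
  · rintro ⟨p, rfl⟩
    show mat p.1.1 p.1.2 *ᵥ _ = _
    ext i
    fin_cases i <;> simp [mat, Matrix.mulVec, dotProduct, Fin.sum_univ_three]
    · linear_combination (p.1.2) * h2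
    · linear_combination (p.1.2) * h2
    · linear_combination (p.1.1) * h2

theorem elt_injective (hF : Fintype.card F = 16) : Function.Injective (elt hF) := by
  intro p q h
  have h1 : mat p.1.1 p.1.2 = mat q.1.1 q.1.2 :=
    congrArg (fun z : SU 3 F 4 => (z : Matrix.SpecialLinearGroup (Fin 3) F).1) h
  have e1 := congrFun (congrFun h1 2) 0
  have e2 := congrFun (congrFun h1 0) 1
  simp [mat] at e1 e2
  exact Subtype.ext (Prod.ext e1 e2)

/-- Any group isomorphic to a Sylow 2-subgroup of `PSU₃(4)` is coordinatised by `Pts F`. -/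
theorem sylow_coords (hF : Fintype.card F = 16) (S : Sylow 2 (PSU 3 F 4)) :
    ∃ E : (S : Subgroup (PSU 3 F 4)) ≃ Pts F, ∀ u v,
      (E (u * v)).1 = ((E u).1.1 + (E v).1.1, (E u).1.2 + (E v).1.2 + (E u).1.1 ^ 4 * (E v).1.1) := by
  classical
  haveI : Fact (Nat.Prime 2) := ⟨Nat.prime_two⟩
  haveI := char_two hF
  have h2 : (2 : F) = 0 := CharTwo.two_eq_zero
  obtain ⟨hfib, h16, -, h54, hcard⟩ := field_facts hF
  let e0 : Pts F ≃ stab (F := F) := Equiv.ofBijective (fun p => ⟨elt hF p, (mem_stab_iff hF _).2 ⟨p, rfl⟩⟩)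
    ⟨fun p q h => elt_injective hF (congrArg Subtype.val h), fun g => by
      obtain ⟨p, hp⟩ := (mem_stab_iff hF g.1).1 g.2
      exact ⟨p, Subtype.ext hp⟩⟩
  have hP : IsPGroup 2 (stab (F := F)) := by
    refine IsPGroup.of_card (n := 6) ?_
    rw [← Nat.card_congr e0, hcard]; norm_num
  obtain ⟨S0, hS0⟩ := hP.exists_le_sylow
  -- the Sylow subgroup is the stabiliser
  have hS0eq : (S0 : Subgroup (SU 3 F 4)) = stab := by
    refine le_antisymm ?_ hS0
    letI : MulAction (S0 : Subgroup (SU 3 F 4)) (Fin 3 → F) :=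
      { smul := fun g v => ((g : SU 3 F 4) : Matrix.SpecialLinearGroup (Fin 3) F).1 *ᵥ v
        one_smul := fun v => Matrix.one_mulVec v
        mul_smul := fun g h v => (Matrix.mulVec_mulVec v _ _).symm }
    haveI : Finite (Fin 3 → F) := inferInstance
    have hd : 2 ∣ Nat.card (Fin 3 → F) := by simp [Nat.card_eq_fintype_card, hF]
    obtain ⟨v, hv, hv0⟩ := S0.2.exists_fixed_point_of_prime_dvd_card_of_fixed_point (Fin 3 → F) hd
      (a := 0) (fun g => Matrix.mulVec_zero _)
    have hfix : ∀ p : Pts F, mat p.1.1 p.1.2 *ᵥ v = v := fun p =>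
      hv ⟨elt hF p, hS0 ((mem_stab_iff hF _).2 ⟨p, rfl⟩)⟩
    obtain ⟨⟨b₀, hb₀⟩, hb₀0⟩ : ∃ b : {b : F // b + b ^ 4 = 0}, b.1 ≠ 0 := by
      by_contra hne
      push Not at hne
      have h1 := hfib 0 (by simp)
      haveI : Subsingleton {b : F // b + b ^ 4 = 0} := ⟨fun x y => Subtype.ext ((hne x).trans (hne y).symm)⟩
      have := Finite.card_le_one_iff_subsingleton.2 this
      omega
    have k1 := congrFun (hfix ⟨(0, b₀), by simp [hb₀]⟩) 0
    simp [mat, Matrix.mulVec, dotProduct, Fin.sum_univ_three] at k1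
    have hv01 : v 0 + v 1 = 0 := by
      have : b₀ * (v 0 + v 1) = 0 := by linear_combination k1
      exact (mul_eq_zero.1 this).resolve_left hb₀0
    obtain ⟨⟨b₁, hb₁⟩⟩ : Nonempty {b : F // b + b ^ 4 = 1} :=
      (Nat.card_ne_zero.1 (by rw [hfib 1 (by simp)]; norm_num)).1
    have k2 := congrFun (hfix ⟨(1, b₁), by simp [hb₁]⟩) 0
    simp [mat, Matrix.mulVec, dotProduct, Fin.sum_univ_three] at k2
    have hv2 : v 2 = 0 := by linear_combination k2 - b₁ * hv01
    have hvv : v = v 0 • ![1, 1, 0] := by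
      ext i
      fin_cases i <;> simp [hv2]
      exact (CharTwo.add_eq_zero.1 hv01).symm
    have hv00 : v 0 ≠ 0 := fun h => hv0 (by rw [hvv, h, zero_smul])
    intro g hg
    have h1 : (g : Matrix.SpecialLinearGroup (Fin 3) F).1 *ᵥ v = v := hv ⟨g, hg⟩
    rw [hvv, Matrix.mulVec_smul] at h1
    exact smul_right_injective _ hv00 h1
  -- compose with the projection
  let π := QuotientGroup.mk' (Subgroup.center (SU 3 F 4))
  let S1 : Sylow 2 (PSU 3 F 4) := S0.mapSurjective (QuotientGroup.mk'_surjective _)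
  have hS1 : (S1 : Subgroup (PSU 3 F 4)) = (stab (F := F)).map π := by
    rw [Sylow.coe_mapSurjective, hS0eq]
  let θ : stab (F := F) →* PSU 3 F 4 := π.comp (stab (F := F)).subtype
  have hθ : Function.Injective θ := by
    rw [injective_iff_map_eq_one]
    intro g hg
    have hc : (g : SU 3 F 4) ∈ Subgroup.center (SU 3 F 4) := (QuotientGroup.eq_one_iff _).1 hg
    obtain ⟨p, hp⟩ := e0.surjective g
    subst hp
    -- commute with the radical and with the swap of the last two coordinates
    have hcomm : ∀ w : SU 3 F 4, mat p.1.1 p.1.2 * (w : Matrix.SpecialLinearGroup (Fin 3) F).1 =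
        (w : Matrix.SpecialLinearGroup (Fin 3) F).1 * mat p.1.1 p.1.2 := fun w =>
      (congrArg (fun z : SU 3 F 4 => (z : Matrix.SpecialLinearGroup (Fin 3) F).1) (Subgroup.mem_center_iff.1 hc w)).symm
    let Q : Matrix (Fin 3) (Fin 3) F := !![1, 0, 0; 0, 0, 1; 0, 1, 0]
    have hQd : Q.det = 1 := by
      simp [Q, Matrix.det_fin_three, CharTwo.neg_eq]
    have hQf : ∀ u v, hermForm 3 F 4 (Q *ᵥ u) (Q *ᵥ v) = hermForm 3 F 4 u v := fun u v => by
      simp [Q, hermForm, Matrix.mulVec, dotProduct, Fin.sum_univ_three]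
      ring
    have hq := hcomm ⟨⟨Q, hQd⟩, hQf⟩
    change mat p.1.1 p.1.2 * Q = Q * mat p.1.1 p.1.2 at hq
    have q1 := congrFun (congrFun hq 0) 1
    have q2 := congrFun (congrFun hq 2) 0
    simp [Q, mat, Matrix.mul_apply, Fin.sum_univ_three] at q1 q2
    have hb : p.1.2 = p.1.1 := q2.symm
    have ha : p.1.1 ^ 4 = p.1.1 := by rw [q1, hb]
    have ha0 : p.1.1 = 0 := by
      have := p.2
      rw [hb] at this
      have h5 : p.1.1 ^ 5 = p.1.1 ^ 2 := by rw [pow_succ, ha, pow_two]
      rw [h5, ha] at this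
      have h0 : p.1.1 ^ 2 = 0 := by linear_combination -this + p.1.1 * h2
      exact pow_eq_zero_iff (two_ne_zero) |>.1 h0
    apply Subtype.ext; apply Subtype.ext; apply Subtype.ext
    show mat p.1.1 p.1.2 = 1
    ext i j
    fin_cases i <;> fin_cases j <;> simp [mat, hb, ha0]
  have hr : θ.range = (S1 : Subgroup (PSU 3 F 4)) := by rw [hS1, MonoidHom.range_comp, Subgroup.range_subtype]
  let e1 : (S : Subgroup (PSU 3 F 4)) ≃* stab (F := F) :=
    ((Sylow.equiv S S1).trans (MulEquiv.subgroupCongr hr.symm)).trans (MonoidHom.ofInjective hθ).symm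
  refine ⟨e1.toEquiv.trans e0.symm, fun u v => ?_⟩
  obtain ⟨p, hp⟩ := e0.surjective (e1 u)
  obtain ⟨q, hq⟩ := e0.surjective (e1 v)
  obtain ⟨r, hr⟩ := e0.surjective (e1 (u * v))
  show (e0.symm (e1 (u * v))).1 = ((e0.symm (e1 u)).1.1 + (e0.symm (e1 v)).1.1,
    (e0.symm (e1 u)).1.2 + (e0.symm (e1 v)).1.2 + (e0.symm (e1 u)).1.1 ^ 4 * (e0.symm (e1 v)).1.1)
  rw [← hp, ← hq, ← hr, Equiv.symm_apply_apply, Equiv.symm_apply_apply, Equiv.symm_apply_apply]
  rw [map_mul, ← hp, ← hq] at hr
  have h1 : mat r.1.1 r.1.2 = mat p.1.1 p.1.2 * mat q.1.1 q.1.2 :=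
    congrArg (fun z : stab (F := F) => ((z : SU 3 F 4) : Matrix.SpecialLinearGroup (Fin 3) F).1) hr
  rw [mul_mat hF] at h1
  have x1 := congrFun (congrFun h1 2) 0
  have x2 := congrFun (congrFun h1 0) 1
  simp [mat] at x1 x2
  exact Prod.ext x1 x2

end Unitary

/-- If a finite group T is isomorphic to a Sylow 2-subgroup of the projective special unitary group of dimension 3 with parameter 4 (realised over the field with 16 elements), then no subgroup of the automorphism group of T is isomorphic to the symmetric group of degree 3. -/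
theorem result {T : Type*} [Group T] [Finite T] (hT : (∃ (F : Type) (_ : Field F) (_ : Fintype F), Fintype.card F = 16 ∧ ∃ S : Sylow 2 (Cfsg.PSU 3 F 4), Nonempty (T ≃* ↥(S : Subgroup (Cfsg.PSU 3 F 4))))) (H : Subgroup (MulAut T)) : ¬ Nonempty (↥H ≃* Equiv.Perm (Fin 3)) := by
  classical
  rintro ⟨e⟩
  obtain ⟨F, _, _, hF, S, ⟨f⟩⟩ := hT
  haveI := char_two hF
  haveI : Fact (Nat.Prime 2) := ⟨Nat.prime_two⟩
  haveI : Fact (Nat.Prime 3) := ⟨Nat.prime_three⟩
  obtain ⟨hfib, h16, hfive, h54, hcard⟩ := field_facts hF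
  obtain ⟨E₀, hE₀⟩ := sylow_coords hF S
  let E : T ≃ Pts F := f.toEquiv.trans E₀
  have hmul : ∀ u v : T, (E (u * v)).1 =
      ((E u).1.1 + (E v).1.1, (E u).1.2 + (E v).1.2 + (E u).1.1 ^ 4 * (E v).1.1) := fun u v => by
    show (E₀ (f (u * v))).1 = _
    rw [map_mul]
    exact hE₀ _ _
  have h2 : (2 : F) = 0 := CharTwo.two_eq_zero
  have h1 : (E 1).1 = (0, 0) := by
    have h := hmul 1 1
    rw [one_mul] at h
    have x1 := congrArg Prod.fst h
    have x2 := congrArg Prod.snd h
    simp only at x1 x2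
    have a0 : (E 1).1.1 = 0 := by linear_combination -x1
    rw [a0] at x2
    exact Prod.ext a0 (by linear_combination -x2)
  have hsq : ∀ t : T, (E (t * t)).1 = (0, (E t).1.1 ^ 5) := fun t => by
    rw [hmul]
    refine Prod.ext ?_ ?_
    · linear_combination (E t).1.1 * h2
    · linear_combination (E t).1.2 * h2
  have eq_iff : ∀ s t : T, s = t ↔ (E s).1 = (E t).1 :=
    fun s t => ⟨fun h => by rw [h], fun h => E.injective (Subtype.ext h)⟩
  have hinvol : ∀ t : T, t * t = 1 ↔ (E t).1.1 = 0 := fun t => by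
    rw [eq_iff, hsq, h1, Prod.mk.injEq]
    simp
  let Z : Subgroup T :=
    { carrier := {t | (E t).1.1 = 0}
      mul_mem' := fun {a b} ha hb => by
        show (E (a * b)).1.1 = 0
        rw [hmul]
        exact (congrArg₂ (· + ·) ha hb).trans (add_zero 0)
      one_mem' := by show (E 1).1.1 = 0; rw [h1]
      inv_mem' := fun {a} ha => by
        have h := hmul a a⁻¹
        rw [mul_inv_cancel, h1] at h
        have hh := congrArg Prod.fst h
        simp only at hh
        show (E a⁻¹).1.1 = 0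
        rw [show (E a).1.1 = 0 from ha] at hh
        linear_combination -hh }
  have hZ4 : Nat.card Z = 4 := by
    rw [← hfib 0 (by simp)]
    exact Nat.card_congr
      { toFun := fun t => ⟨(E t.1).1.2, by
          rw [(E t.1).2, show (E t.1).1.1 = 0 from t.2]; simp⟩
        invFun := fun b => ⟨E.symm ⟨(0, b.1), by simp [b.2]⟩, by
          show (E (E.symm _)).1.1 = 0
          rw [Equiv.apply_symm_apply]⟩
        left_inv := fun t => Subtype.ext (E.injective (Subtype.ext (by
          rw [Equiv.apply_symm_apply]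
          exact Prod.ext (t.2 : (E t.1).1.1 = 0).symm rfl)))
        right_inv := fun b => Subtype.ext (by simp) }
  have hT64 : Nat.card T = 64 := by rw [Nat.card_congr E, hcard]
  have hZcen : ∀ z ∈ Z, ∀ t : T, t * z = z * t := fun z hz t => by
    have hz' : (E z).1.1 = 0 := hz
    rw [eq_iff, hmul, hmul, hz']
    exact Prod.ext (by ring) (by ring)
  have hna : ¬ IsMulCommutative T := by
    intro hc
    -- choose a outside the fixed field of x ↦ x^4
    obtain ⟨w, hw⟩ : ∃ w : F, w + w ^ 4 ≠ 0 := by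
      by_contra hne
      push Not at hne
      have := hfib 0 (by simp)
      rw [Nat.card_congr (Equiv.subtypeUnivEquiv hne), Nat.card_eq_fintype_card, hF] at this
      omega
    have hb1 : Nonempty {b : F // b + b ^ 4 = (1 : F) ^ 5} :=
      (Nat.card_ne_zero.1 (by rw [hfib _ (h54 1)]; norm_num)).1
    have hbw : Nonempty {b : F // b + b ^ 4 = w ^ 5} :=
      (Nat.card_ne_zero.1 (by rw [hfib _ (h54 w)]; norm_num)).1
    obtain ⟨⟨b, hb⟩⟩ := hb1
    obtain ⟨⟨b', hb'⟩⟩ := hbw
    let u := E.symm ⟨(1, b), hb⟩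
    let v := E.symm ⟨(w, b'), hb'⟩
    have h := (eq_iff _ _).1 (hc.is_comm.comm u v)
    rw [hmul, hmul] at h
    simp [u, v] at h
    apply hw
    linear_combination h.2 + w ^ 4 * h2
  -- the two automorphisms
  let ρ' : H := e.symm (finRotate 3)
  let x' : H := e.symm (Equiv.swap 0 1)
  let ρ : MulAut T := ρ'
  let x : MulAut T := x'
  have hρ : orderOf ρ = 3 := by
    rw [Subgroup.orderOf_coe, MulEquiv.orderOf_eq]
    exact orderOf_eq_prime (by decide) (by decide)
  have hx : orderOf x = 2 := by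
    rw [Subgroup.orderOf_coe, MulEquiv.orderOf_eq]
    exact orderOf_eq_prime (by decide) (by decide)
  have hxr : x * ρ * x⁻¹ = ρ⁻¹ := by
    have : x' * ρ' * x'⁻¹ = ρ'⁻¹ := by
      show e.symm _ * e.symm _ * (e.symm _)⁻¹ = (e.symm _)⁻¹
      rw [← map_inv, ← map_inv, ← map_mul, ← map_mul]
      congr 1
      decide
    exact congrArg Subtype.val this
  have h3 : ρ ^ 3 = 1 := by rw [← hρ]; exact pow_orderOf_eq_one ρ
  have h3' : ∀ t, ρ (ρ (ρ t)) = t := fun t => DFunLike.congr_fun h3 t
  have hinv : ∀ z ∈ Z, ρ z ∈ Z := fun z hz => by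
    show (E (ρ z)).1.1 = 0
    rw [← hinvol, ← map_mul, (hinvol z).2 hz, map_one]
  have modEq : ∀ (X : Type _) [Finite X] (g : X → X), (∀ y, g (g (g y)) = y) →
      Nat.card X % 3 = Nat.card {y // g y = y} % 3 := by
    intro X _ g hg
    haveI := Fintype.ofFinite X
    let g' : Function.End X := g
    have hg' : g' ^ 3 ^ 1 = 1 := funext hg
    rw [Nat.card_eq_fintype_card, Nat.card_eq_fintype_card]
    exact (Equiv.Perm.card_fixedPoints_modEq hg').trans (by rw [Fintype.card_congr (Equiv.refl _)]; rfl)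
  -- ρ is fixed-point-free
  have hfp : ∀ y, ρ y = y → y = 1 := by
    intro y hy
    by_contra hy1
    -- a nontrivial fixed point in Z
    obtain ⟨z, hz, hz1, hρz⟩ : ∃ z ∈ Z, z ≠ 1 ∧ ρ z = z := by
      by_cases hyy : y * y = 1
      · exact ⟨y, (hinvol y).1 hyy, hy1, hy⟩
      · refine ⟨y * y, ?_, hyy, by rw [map_mul, hy]⟩
        show (E (y * y)).1.1 = 0
        rw [hsq]
    have hZfix : ∀ v ∈ Z, ρ v = v := by
      have hm := modEq Z (fun v => ⟨ρ v, hinv v v.2⟩) (fun v => Subtype.ext (h3' v))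
      rw [hZ4] at hm
      let Fx := {v : Z // (⟨ρ v, hinv v v.2⟩ : Z) = v}
      have h4 : Nat.card Fx = 4 := by
        have hle : Nat.card Fx ≤ 4 := hZ4 ▸ Nat.card_le_card_of_injective _ Subtype.val_injective
        have hge : 1 < Nat.card Fx := by
          rw [Finite.one_lt_card_iff_nontrivial]
          exact ⟨⟨⟨z, hz⟩, Subtype.ext hρz⟩, ⟨1, Subtype.ext (map_one ρ)⟩, fun h => hz1 (congrArg (fun q : Fx => ((q : Z) : T)) h)⟩
        change 4 % 3 = Nat.card Fx % 3 at hm
        omega
      have hb : Function.Surjective (Subtype.val : Fx → Z) :=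
        ((Nat.bijective_iff_injective_and_card _).2 ⟨Subtype.val_injective, h4.trans hZ4.symm⟩).2
      intro v hv
      obtain ⟨⟨q, hq⟩, rfl⟩ : ∃ q : Fx, ((q : Z) : T) = v := by
        obtain ⟨q, hq⟩ := hb ⟨v, hv⟩
        exact ⟨q, congrArg Subtype.val hq⟩
      exact congrArg Subtype.val hq
    let W : Subgroup T :=
      { carrier := {t | ρ t = t}
        mul_mem' := fun {a b} (ha : ρ a = a) (hb : ρ b = b) => by show ρ _ = _; rw [map_mul, ha, hb]
        one_mem' := map_one ρ
        inv_mem' := fun {a} (ha : ρ a = a) => by show ρ _ = _; rw [map_inv, ha] }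
    -- each square fibre meets W in at least 8 points
    have fibre : ∀ c : F, c ^ 4 = c → c ≠ 0 → 8 ≤ Nat.card {t : T // (E t).1.1 ^ 5 = c ∧ ρ t = t} := by
      intro c hc hc0
      let X := {t : T // (E t).1.1 ^ 5 = c}
      have hX : Nat.card X = 20 := by
        have e : X ≃ Σ a : {a : F // a ^ 5 = c}, {b : F // b + b ^ 4 = c} :=
          { toFun := fun t => ⟨⟨(E t.1).1.1, t.2⟩, (E t.1).1.2, (E t.1).2.trans t.2⟩
            invFun := fun s => ⟨E.symm ⟨(s.1.1, s.2.1), s.2.2.trans s.1.2.symm⟩, by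
              rw [Equiv.apply_symm_apply]; exact s.1.2⟩
            left_inv := fun t => Subtype.ext (E.symm_apply_apply t.1)
            right_inv := fun s => by
              rcases s with ⟨⟨a, ha⟩, ⟨b, hb⟩⟩
              simp }
        rw [Nat.card_congr e, Nat.card_sigma, Finset.sum_const, smul_eq_mul, Finset.card_univ,
          ← Nat.card_eq_fintype_card, hfive c hc hc0, hfib c hc]
      have hρsq : ∀ t : T, (E (ρ t)).1.1 ^ 5 = (E t).1.1 ^ 5 := fun t => by
        have hm : t * t ∈ Z := by show (E (t * t)).1.1 = 0; rw [hsq]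
        have h := congrArg (fun q => (E q).1.2) (hZfix _ hm)
        simp only [map_mul, hsq] at h
        exact h
      have hm := modEq X (fun t => ⟨ρ t.1, (hρsq t.1).trans t.2⟩) (fun t => Subtype.ext (h3' t.1))
      rw [hX] at hm
      let Y := {t : T // (E t).1.1 ^ 5 = c ∧ ρ t = t}
      rw [Nat.card_congr (show {t : X // (⟨ρ t.1, (hρsq t.1).trans t.2⟩ : X) = t} ≃ Y from
        { toFun := fun t => ⟨t.1.1, t.1.2, congrArg Subtype.val t.2⟩
          invFun := fun t => ⟨⟨t.1, t.2.1⟩, Subtype.ext t.2.2⟩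
          left_inv := fun t => rfl
          right_inv := fun t => rfl })] at hm
      have hYne : Nonempty Y := (Nat.card_ne_zero.1 (by omega)).1
      obtain ⟨⟨t₀, ht₀, ht₀'⟩⟩ := hYne
      have coset : ∀ t : T, (E t).1.1 ^ 5 = c → ρ t = t →
          ∀ z : Z, (E (t * z.1)).1.1 ^ 5 = c ∧ ρ (t * z.1) = t * z.1 := by
        intro t ht ht' z
        refine ⟨?_, by rw [map_mul, ht', hZfix _ z.2]⟩
        rw [hmul, show (E z.1).1.1 = 0 from z.2]
        simpa using ht
      have hY4 : 4 ≤ Nat.card Y := by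
        rw [← hZ4]
        exact Nat.card_le_card_of_injective (fun z : Z => (⟨t₀ * z.1, coset t₀ ht₀ ht₀' z⟩ : Y))
          fun p q h => Subtype.ext (mul_left_cancel (congrArg Subtype.val h))
      obtain ⟨t₁, ht₁, ht₁', ht₁Z⟩ : ∃ t₁, (E t₁).1.1 ^ 5 = c ∧ ρ t₁ = t₁ ∧ t₀⁻¹ * t₁ ∉ Z := by
        by_contra hne
        push Not at hne
        have : Nat.card Y ≤ 4 := by
          rw [← hZ4]
          exact Nat.card_le_card_of_injective (fun t : Y => (⟨t₀⁻¹ * t.1, hne t.1 t.2.1 t.2.2⟩ : Z))
            fun p q h => Subtype.ext (mul_left_cancel (congrArg Subtype.val h))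
        omega
      have h8 : Nat.card (Bool × Z) ≤ Nat.card Y := by
        refine Nat.card_le_card_of_injective (fun q : Bool × Z => if q.1 then
          (⟨t₀ * q.2.1, coset t₀ ht₀ ht₀' q.2⟩ : Y) else ⟨t₁ * q.2.1, coset t₁ ht₁ ht₁' q.2⟩) ?_
        rintro ⟨p, z⟩ ⟨q, z'⟩ h
        have h' := congrArg Subtype.val h
        cases p <;> cases q <;> simp at h'
        · rw [h']
        · exfalso
          apply ht₁Z
          have : t₀⁻¹ * t₁ = z'.1 * z.1⁻¹ := by
            rw [eq_mul_inv_iff_mul_eq, mul_assoc, h', inv_mul_cancel_left]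
          rw [this]
          exact Z.mul_mem z'.2 (Z.inv_mem z.2)
        · exfalso
          apply ht₁Z
          have : t₀⁻¹ * t₁ = z.1 * z'.1⁻¹ := by
            rw [eq_mul_inv_iff_mul_eq, mul_assoc, ← h', inv_mul_cancel_left]
          rw [this]
          exact Z.mul_mem z.2 (Z.inv_mem z'.2)
        · rw [h']
      rw [Nat.card_prod, hZ4, Nat.card_eq_fintype_card, Fintype.card_bool] at h8
      omega
    -- W is everything
    have hW28 : 28 ≤ Nat.card W := by
      haveI := Fintype.ofFinite T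
      let K := (Finset.univ : Finset F).filter fun c => c ^ 4 = c
      have hK : K.card = 4 := by
        rw [← hfib 0 (by simp), Nat.card_eq_fintype_card, Fintype.card_subtype]
        congr 1
        ext c
        simp only [K, Finset.mem_filter, Finset.mem_univ, true_and]
        rw [CharTwo.add_eq_zero]
        exact eq_comm
      have hW : Nat.card W = ((Finset.univ : Finset T).filter fun t => ρ t = t).card := by
        rw [Nat.card_eq_fintype_card]
        exact Fintype.card_subtype _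
      rw [hW, Finset.card_eq_sum_card_fiberwise (f := fun t => (E t).1.1 ^ 5) (t := K)
        (fun t _ => Finset.mem_coe.2 (Finset.mem_filter.2 ⟨Finset.mem_univ _, h54 _⟩)),
        ← Finset.add_sum_erase _ _ (show (0 : F) ∈ K from Finset.mem_filter.2 ⟨Finset.mem_univ _, by simp⟩)]
      have h0 : 4 ≤ (((Finset.univ : Finset T).filter fun t => ρ t = t).filter fun t => (E t).1.1 ^ 5 = 0).card := by
        rw [Finset.filter_filter, ← Fintype.card_subtype, ← Nat.card_eq_fintype_card]
        refine le_of_eq_of_le hZ4.symm ?_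
        exact Nat.card_le_card_of_injective
          (fun z : Z => (⟨z.1, hZfix _ z.2, by rw [show (E z.1).1.1 = 0 from z.2]; simp⟩ :
            {t : T // ρ t = t ∧ (E t).1.1 ^ 5 = 0})) fun p q h => Subtype.ext (congrArg Subtype.val h : _)
      have h8 : ∀ c ∈ K.erase 0,
          8 ≤ (((Finset.univ : Finset T).filter fun t => ρ t = t).filter fun t => (E t).1.1 ^ 5 = c).card := by
        intro c hc
        rw [Finset.filter_filter, ← Fintype.card_subtype]
        have := fibre c (Finset.mem_filter.1 (Finset.mem_erase.1 hc).2).2 (Finset.mem_erase.1 hc).1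
        rw [Nat.card_congr (Equiv.subtypeEquivRight fun t => and_comm), Nat.card_eq_fintype_card] at this
        exact this
      have h3c := Finset.card_nsmul_le_sum (K.erase 0) _ 8 h8
      rw [Finset.card_erase_of_mem (Finset.mem_filter.2 ⟨Finset.mem_univ _, by simp⟩), hK, smul_eq_mul] at h3c
      omega
    have hWdvd : Nat.card W ∣ 64 := hT64 ▸ Subgroup.card_subgroup_dvd_card W
    have hm := modEq T ρ h3'
    rw [hT64] at hm
    change 64 % 3 = Nat.card W % 3 at hm
    have hW64 : Nat.card W = 64 := by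
      have hle : Nat.card W ≤ 64 := Nat.le_of_dvd (by norm_num) hWdvd
      obtain ⟨k, hk, hk2⟩ := (Nat.dvd_prime_pow Nat.prime_two).1 (show Nat.card W ∣ 2 ^ 6 from hWdvd)
      rw [hk2] at hW28 hm ⊢
      interval_cases k <;> simp_all
    have hWtop : W = ⊤ := Subgroup.eq_top_of_card_eq W (by rw [hW64, hT64])
    have : ρ = 1 := MulEquiv.ext fun t => (hWtop ▸ Subgroup.mem_top t : t ∈ W)
    rw [this, orderOf_one] at hρ
    omega
  let C : Subgroup T :=
    { carrier := {t | x t = t}
      mul_mem' := fun {a b} (ha : x a = a) (hb : x b = b) => by show x _ = _; rw [map_mul, ha, hb]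
      one_mem' := map_one x
      inv_mem' := fun {a} (ha : x a = a) => by show x _ = _; rw [map_inv, ha] }
  obtain ⟨-, -, a, b, ha, hab⟩ := Cfsg.Agent.S3157.core hT64 hna ρ x hρ hx hxr hfp C fun y => Iff.rfl
  exact hab (commutatorElement_eq_one_iff_mul_comm.2 (hZcen a ((hinvol a).1 ha) b).symm)

end Cfsg.Agent.S3156
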