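import Cfsg.Statements.S3192
import Cfsg.Agent.RankThree.Free
import Cfsg.Agent.RankThree.Model

set_option autoImplicit false
open Cfsg

namespace Cfsg.Agent.S3192

/-- Simple groups of conjugate type rank three. For a finite group G consider the set of indices of the centralizers of the non-central elements of G. Then G is a non-abelian simple group for which this set has exactly three members if and only if G is isomorphic to PSL(2, 2^m) for some m ≥ 2. -/
theorem result (G : Type*) [Group G] [Finite G] :
    (IsSimpleGroup G ∧ ¬ IsMulCommutative G ∧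
        Set.ncard {m : ℕ | ∃ x : G, x ∉ Subgroup.center G ∧ m = (Subgroup.centralizer ({x} : Set G)).index} = 3) ↔
      ∃ (m : ℕ) (F : Type) (_ : Field F) (_ : Fintype F), 2 ≤ m ∧ Fintype.card F = 2 ^ m ∧
        Nonempty (G ≃* Matrix.ProjectiveSpecialLinearGroup (Fin 2) F) := by
  constructor
  · rintro ⟨h1, h2, h3⟩
    exact CfsgLib.RankThree.exists_mulEquiv_psl ⟨h1, h2, h3⟩
  · rintro ⟨m, F, iF, iF', hm, hcard, ⟨e⟩⟩
    haveI : Fact (Nat.Prime 2) := ⟨Nat.prime_two⟩
    haveI : CharP F 2 := charP_of_card_eq_prime_pow (by rw [hcard])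
    have h4 : 4 ≤ Fintype.card F := hcard ▸ Nat.pow_le_pow_right two_pos hm
    have h4' : 4 ≤ Nat.card F := by rwa [Nat.card_eq_fintype_card]
    let e' := e.trans (CfsgLib.CAGroups.mulEquivPslOfSl2 F).symm
    have hs := CfsgLib.Classical.Linear.isSimpleGroup_psl_fin (F := F) le_rfl (fun _ => h4')
    refine ⟨MulEquiv.isSimpleGroup e, fun hc => ?_, ?_⟩
    · exact CfsgLib.Classical.Linear.not_isMulCommutative_psl
        (CfsgLib.Classical.Linear.commutator_sl_fin_eq_top 2 fun _ =>
          CfsgLib.Classical.Linear.exists_sq_ne_one_of_four_le h4')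
        ⟨⟨fun a b => e.symm.injective (by rw [map_mul, map_mul, hc.is_comm.comm])⟩⟩
    · rw [CfsgLib.RankThree.idx_set_congr e']
      exact CfsgLib.RankThree.ncard_idx_sl2 h4

end Cfsg.Agent.S3192
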