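import Cfsg.Statements.S3199
import Cfsg.Agent.J2SylShape96.Main
import Cfsg.Agent.J2SylShape96.J2Side

set_option autoImplicit false
open Cfsg

namespace Cfsg.Agent.S3199

/-- Let G be a finite group with no normal subgroup of index 2 whose Sylow 2-subgroups are isomorphic to those of the Hall–Janko group J₂, and let z be an involution central in a Sylow 2-subgroup of G. Then the centralizer of z modulo its largest normal subgroup of odd order is isomorphic to the centralizer of a 2-central involution in J₂ or to the centralizer of a 2-central involution in the third Janko group J₃. -/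
theorem result {G : Type*} [Group G] [Finite G]
    (S : Sylow 2 G) (P : Sylow 2 Cfsg.Spor.J2) (hS : Nonempty (↥(S : Subgroup G) ≃* ↥(P : Subgroup Cfsg.Spor.J2)))
    (h2 : ∀ H : Subgroup G, H.Normal → H.index ≠ 2)
    (z : G) (hz : orderOf z = 2) (hzS : z ∈ (S : Subgroup G)) (hzc : ∀ s ∈ (S : Subgroup G), s * z = z * s) :
    (∃ (z' : Cfsg.Spor.J2) (Q : Sylow 2 Cfsg.Spor.J2), orderOf z' = 2 ∧ z' ∈ (Q : Subgroup Cfsg.Spor.J2) ∧
        (∀ s ∈ (Q : Subgroup Cfsg.Spor.J2), s * z' = z' * s) ∧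
        Nonempty ((↥(Subgroup.centralizer ({z} : Set G)) ⧸ Cfsg.oddCore ↥(Subgroup.centralizer ({z} : Set G))) ≃*
          ↥(Subgroup.centralizer ({z'} : Set Cfsg.Spor.J2)))) ∨
      (∃ (F : Type) (_ : Field F) (_ : Fintype F) (ω : F), Fintype.card F = 4 ∧ ω ^ 2 + ω + 1 = 0 ∧
        ∃ (z' : Cfsg.Spor.J3 F ω) (Q : Sylow 2 (Cfsg.Spor.J3 F ω)), orderOf z' = 2 ∧ z' ∈ (Q : Subgroup (Cfsg.Spor.J3 F ω)) ∧
          (∀ s ∈ (Q : Subgroup (Cfsg.Spor.J3 F ω)), s * z' = z' * s) ∧
          Nonempty ((↥(Subgroup.centralizer ({z} : Set G)) ⧸ Cfsg.oddCore ↥(Subgroup.centralizer ({z} : Set G))) ≃*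
            ↥(Subgroup.centralizer ({z'} : Set (Cfsg.Spor.J3 F ω))))) := by
  classical
  left
  haveI : Fact (Nat.Prime 2) := ⟨Nat.prime_two⟩
  obtain ⟨e⟩ := CfsgLib.SporJ2.exists_equiv_J2
  obtain ⟨eS⟩ := hS
  haveI : Finite Cfsg.Spor.J2 := Finite.of_equiv _ e.symm.toEquiv
  set ψ : Cfsg.Spor.J2 →* Equiv.Perm (Fin CfsgLib.SporJ2.Hundred.D.n) :=
    CfsgLib.SporJ2.Hundred.grp.subtype.comp e.toMonoidHom with hψ
  have hinj : Function.Injective ψ := Subtype.coe_injective.comp e.injective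
  set S₀ : Sylow 2 CfsgLib.SporJ2.Hundred.grp :=
    Sylow.ofCard (CfsgLib.SporJ2.Fusion.syl.subgroupOf CfsgLib.SporJ2.Hundred.grp)
      CfsgLib.J2SylShape96.J2Side.grp_sylow_card with hS₀
  set Q₀ : Sylow 2 Cfsg.Spor.J2 := S₀.mapSurjective (f := e.symm.toMonoidHom) e.symm.surjective
    with hQ₀
  have eQ : ↥(Q₀ : Subgroup Cfsg.Spor.J2) ≃* CfsgLib.J2SylShape96.Tm :=
    (((S₀ : Subgroup CfsgLib.SporJ2.Hundred.grp).equivMapOfInjective e.symm.toMonoidHom
      e.symm.injective).symm.trans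
      (Subgroup.subgroupOfEquivOfLe CfsgLib.SporJ2.Fusion.syl_le)).trans
      CfsgLib.J2SylShape96.J2Side.sylEquiv
  set F : CfsgLib.J2SylShape96.Frame G := ⟨S, eS.trans ((Sylow.equiv P Q₀).trans eQ)⟩ with hF
  have hFZ : F.Z = z := by
    have hc : ∀ t, F.φ ⟨z, hzS⟩ * t = t * F.φ ⟨z, hzS⟩ := fun t => by
      obtain ⟨s, rfl⟩ := F.φ.surjective t
      rw [← map_mul, ← map_mul]
      exact congrArg _ (Subtype.ext (hzc s s.2).symm)
    rcases CfsgLib.J2SylShape96.center_iff.1 hc with h | h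
    · have h1 : z = 1 := congrArg Subtype.val ((map_eq_one_iff F.φ F.φ.injective).1 h)
      rw [h1, orderOf_one] at hz
      exact absurd hz (by norm_num)
    · show F.emb CfsgLib.J2SylShape96.zm = z
      rw [← h]
      exact F.emb_phi hzS
  subst hFZ
  haveI hO : (Cfsg.oddCore ↥(Subgroup.centralizer ({F.Z} : Set G))).Normal :=
    CfsgLib.SelfCentPrime.pPrimeCore_mem 2 |>.1
  obtain ⟨E, hE⟩ := CfsgLib.J2SylShape96.exists_rigid_centralizer F h2
  obtain ⟨eC⟩ := CfsgLib.J2SylShape96.rigid_unique hE CfsgLib.J2SylShape96.J2Side.frame_rigid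
  set zz : CfsgLib.SporJ2.Hundred.grp :=
    ⟨CfsgLib.SporJ2.Fusion.z, CfsgLib.SporJ2.Fusion.z_spec.2.2.2⟩ with hzz
  refine ⟨e.symm zz, Q₀, ?_, ⟨zz, ?_, rfl⟩, ?_, ⟨eC.trans ?_⟩⟩
  · rw [MulEquiv.orderOf_eq, Subgroup.orderOf_mk]
    refine orderOf_eq_prime ?_ CfsgLib.SporJ2.Fusion.z_spec.2.2.1
    have hzm : CfsgLib.J2SylShape96.J2Side.frame.Z * CfsgLib.J2SylShape96.J2Side.frame.Z = 1 :=
      CfsgLib.J2SylShape96.J2Side.frame.Z_mul_self
    have hval : ((CfsgLib.J2SylShape96.J2Side.frame.Z : CfsgLib.J2SylShape96.J2Side.CenGrp) :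
        Equiv.Perm (Fin CfsgLib.SporJ2.Hundred.D.n)) = CfsgLib.SporJ2.Fusion.z := by
      set w : CfsgLib.SporJ2.Fusion.syl :=
        CfsgLib.J2SylShape96.J2Side.sylEquiv.symm CfsgLib.J2SylShape96.zm with hw
      show (w : Equiv.Perm (Fin CfsgLib.SporJ2.Hundred.D.n)) = _
      refine (CfsgLib.SporJ2.Fusion.z_unique w.2 fun s hs => ?_).resolve_left fun h1 => ?_
      · have h2' : (⟨s, hs⟩ : CfsgLib.SporJ2.Fusion.syl) * w = w * ⟨s, hs⟩ := by
          refine CfsgLib.J2SylShape96.J2Side.sylEquiv.injective ?_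
          rw [map_mul, map_mul, hw, MulEquiv.apply_symm_apply]
          exact (CfsgLib.J2SylShape96.zm_comm _).symm
        exact congrArg Subtype.val h2'
      · have hw1 : w = 1 := Subtype.ext h1
        rw [hw, map_eq_one_iff _ (MulEquiv.injective _)] at hw1
        exact CfsgLib.J2SylShape96.const_facts.2.2.2.2.2.2.2.2.2.1 hw1
    rw [sq, ← hval]
    exact congrArg Subtype.val hzm
  · exact CfsgLib.SporJ2.Fusion.z_spec.1
  · rintro _ ⟨s, hs, rfl⟩
    show e.symm s * e.symm zz = e.symm zz * e.symm s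
    rw [← map_mul, ← map_mul]
    exact congrArg _ (Subtype.ext (CfsgLib.SporJ2.Fusion.z_comm _ hs))
  · refine
      { toFun := fun c => ⟨e.symm ⟨c.1, CfsgLib.SporJ2.Fusion.cen_le.1 c.2⟩,
          Subgroup.mem_centralizer_singleton_iff.2 (by
            rw [← map_mul, ← map_mul]
            exact congrArg _ (Subtype.ext (Subgroup.mem_centralizer_singleton_iff.1
              (CfsgLib.SporJ2.Fusion.cen_le.2.1 c.2))))⟩
        invFun := fun x => ⟨(e x.1).1, CfsgLib.SporJ2.Fusion.mem_cen_of_comm (e x.1).2 (by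
          have h := congrArg (fun y => ((e y : CfsgLib.SporJ2.Hundred.grp) :
            Equiv.Perm (Fin CfsgLib.SporJ2.Hundred.D.n)))
            (Subgroup.mem_centralizer_singleton_iff.1 x.2)
          simpa [map_mul, hzz] using h)⟩
        left_inv := fun c => Subtype.ext (by simp)
        right_inv := fun x => Subtype.ext (by simp)
        map_mul' := fun a b => Subtype.ext (by
          show e.symm _ = e.symm _ * e.symm _
          rw [← map_mul]
          rfl) }

end Cfsg.Agent.S3199
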