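import Cfsg.Statements.S3221
import Cfsg.Agent.PSpFourThree.Rels
import Cfsg.Agent.PSpFourThree.PSp

set_option autoImplicit false
open Cfsg

namespace Cfsg.Agent.S3221

/-- Let F be the field with 3 elements and t₀ an involution of PSp₄(3) = PSp₄(F) lying in the centre of a Sylow 2-subgroup. If G is a finite group of even order that has no subgroup of index 2 and contains an involution t whose centralizer C_G(t) is isomorphic to C_{PSp₄(3)}(t₀), then G ≅ PSp₄(3). -/
theorem result {G : Type*} [Group G] [Finite G] (hev : Even (Nat.card G))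
    (hG : ∀ H : Subgroup G, H.index ≠ 2) {F : Type*} [Field F] [Fintype F] (hF : Fintype.card F = 3)
    (U : Sylow 2 (Cfsg.PSp 2 F)) (t₀ : Cfsg.PSp 2 F) (ht₀ : orderOf t₀ = 2) (ht₀U : t₀ ∈ (U : Subgroup (Cfsg.PSp 2 F)))
    (ht₀c : ∀ u ∈ (U : Subgroup (Cfsg.PSp 2 F)), u * t₀ = t₀ * u) (t : G) (ht : orderOf t = 2)
    (e : ↥(Subgroup.centralizer ({t} : Set G)) ≃* ↥(Subgroup.centralizer ({t₀} : Set (Cfsg.PSp 2 F)))) :
    Nonempty (G ≃* Cfsg.PSp 2 F) := by
  classical
  haveI : Fact (Nat.Prime 3) := ⟨Nat.prime_three⟩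
  obtain ⟨eR, -, -, -⟩ := CfsgLib.PSpFourThree.exists_pspRange
  let ρ := CfsgLib.FieldChange.pspEquiv (ZMod.ringEquivOfPrime F Nat.prime_three hF).symm 2
  let σ : Cfsg.PSp 2 F ≃* CfsgLib.PSpFourThree.Rg := ρ.trans eR
  obtain ⟨k, hk⟩ := CfsgLib.PSpFourThree.conj_central
    (U.comapOfInjective σ.symm.toMonoidHom σ.symm.injective (fun x _ => ⟨σ x, σ.symm_apply_apply x⟩))
    (t₀ := σ t₀) (by rw [σ.orderOf_eq, ht₀])
    (by show σ.symm (σ t₀) ∈ (U : Subgroup (Cfsg.PSp 2 F)); rw [σ.symm_apply_apply]; exact ht₀U)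
    (fun u hu => by
      have := congrArg σ (ht₀c (σ.symm u) hu)
      simpa using this)
  -- the numbering of the centraliser
  have hC := CfsgLib.PSpFourThree.emb_elR
  have hk' : ∀ i, i < 576 → σ.symm (k * CfsgLib.PSpFourThree.elR i * k⁻¹) ∈
      Subgroup.centralizer ({t₀} : Set (Cfsg.PSp 2 F)) := by
    intro i hi
    refine Subgroup.mem_centralizer_singleton_iff.mpr (σ.injective ?_)
    rw [map_mul σ, map_mul σ, σ.apply_symm_apply, ← hk]
    calc k * CfsgLib.PSpFourThree.elR i * k⁻¹ * (k * CfsgLib.PSpFourThree.elR CfsgLib.PSpFourThree.tI * k⁻¹)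
        = k * (CfsgLib.PSpFourThree.elR i * CfsgLib.PSpFourThree.elR CfsgLib.PSpFourThree.tI) * k⁻¹ := by
          group
      _ = k * (CfsgLib.PSpFourThree.elR CfsgLib.PSpFourThree.tI * CfsgLib.PSpFourThree.elR i) * k⁻¹ := by
          rw [hC.comm_s hi]
      _ = _ := by group
  let f : ℕ → G := fun i => if hi : i < 576 then ((e.symm ⟨_, hk' i hi⟩ : _) : G) else 1
  have hf : ∀ {i} (hi : i < 576), f i = ((e.symm ⟨_, hk' i hi⟩ : _) : G) := fun hi => dif_pos hi
  have hsurj : ∀ y : G, y * t = t * y → ∃ i < 576, f i = y := by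
    intro y hy
    set w := e ⟨y, Subgroup.mem_centralizer_singleton_iff.mpr hy⟩
    have hw := congrArg σ (Subgroup.mem_centralizer_singleton_iff.mp w.2)
    rw [map_mul, map_mul, ← hk] at hw
    obtain ⟨i, hi, hie⟩ := hC.surj (k⁻¹ * σ w * k) (by
      calc k⁻¹ * σ w * k * CfsgLib.PSpFourThree.elR CfsgLib.PSpFourThree.tI
          = k⁻¹ * (σ w * (k * CfsgLib.PSpFourThree.elR CfsgLib.PSpFourThree.tI * k⁻¹)) * k := by group
        _ = k⁻¹ * (k * CfsgLib.PSpFourThree.elR CfsgLib.PSpFourThree.tI * k⁻¹ * σ w) * k := by rw [hw]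
        _ = _ := by group)
    refine ⟨i, hi, ?_⟩
    have : (⟨_, hk' i hi⟩ : Subgroup.centralizer ({t₀} : Set (Cfsg.PSp 2 F))) = w := Subtype.ext (by
      show σ.symm (k * CfsgLib.PSpFourThree.elR i * k⁻¹) = (w : Cfsg.PSp 2 F)
      rw [hie, show k * (k⁻¹ * σ w * k) * k⁻¹ = σ w by group, σ.symm_apply_apply])
    rw [hf hi, this, e.symm_apply_apply]
  have hmul : ∀ i < 576, ∀ j < 576, f (CfsgLib.PSpFourThree.mul5 i j) = f i * f j := by
    intro i hi j hj
    rw [hf hi, hf hj, hf (CfsgLib.PSpFourThree.mul5_lt hi hj), ← Subgroup.coe_mul, ← map_mul]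
    refine congrArg (fun z => ((e.symm z : _) : G)) (Subtype.ext ?_)
    show σ.symm _ = σ.symm _ * σ.symm _
    rw [← map_mul, hC.mul i hi j hj]
    congr 1
    group
  have hinj : ∀ i < 576, ∀ j < 576, f i = f j → i = j := by
    intro i hi j hj he
    rw [hf hi, hf hj] at he
    have := σ.symm.injective (congrArg Subtype.val (e.symm.injective (Subtype.ext he)))
    exact hC.inj i hi j hj (mul_left_cancel (mul_right_cancel this))
  -- `t` is the image of the centre
  have hT : f CfsgLib.PSpFourThree.tI = t := by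
    obtain ⟨i, hi, hie⟩ := hsurj t rfl
    have hz : ∀ j < 576, CfsgLib.PSpFourThree.com5 i j = true := by
      intro j hj
      refine CfsgLib.PSpFourThree.com5_spec.2 (hinj _ (CfsgLib.PSpFourThree.mul5_lt hi hj) _
        (CfsgLib.PSpFourThree.mul5_lt hj hi) ?_)
      rw [hmul i hi j hj, hmul j hj i hi, hie, hf hj]
      exact (Subgroup.mem_centralizer_singleton_iff.mp (e.symm ⟨_, hk' j hj⟩).2).symm
    have h01 : i = 0 ∨ i = CfsgLib.PSpFourThree.tI := by
      have hd : CfsgLib.CosetEnum.allBelow (fun i => CfsgLib.PSpFourThree.impB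
          (CfsgLib.PSpFourThree.com5 i CfsgLib.PSpFourThree.uG &&
            CfsgLib.PSpFourThree.com5 i CfsgLib.PSpFourThree.vG)
          (Nat.beq i 0 || Nat.beq i CfsgLib.PSpFourThree.tI)) 576 = true := by decide +kernel
      have := CfsgLib.PSpFourThree.impB_spec (CfsgLib.PSpFourThree.allBelow_spec hd i hi)
        (by rw [hz _ CfsgLib.PSpFourThree.const_lt.2.2.2.2.1,
          hz _ CfsgLib.PSpFourThree.const_lt.2.2.2.2.2.1]; rfl)
      simpa [CfsgLib.PSpFourThree.beq_spec] using this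
    rcases h01 with rfl | rfl
    · exfalso
      have h1 : f 0 = 1 := by
        have := hmul 0 (by norm_num) 0 (by norm_num)
        rwa [(CfsgLib.PSpFourThree.inv5_lt (i := 0) (by norm_num)).2.2.1, left_eq_mul] at this
      exact (CfsgLib.StronglyEmbedded.orderOf_two_iff.1 ht).2 (hie.symm.trans h1)
    · exact hie
  have hemb : CfsgLib.PSpFourThree.Emb5 f t := ⟨hmul, hinj, hsurj, hT⟩
  obtain ⟨f', hf', hsa⟩ := hemb.exists_twisted hG
  obtain ⟨g, hg⟩ := hf'.exists_swap hsa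
  have st : CfsgLib.PSpFourThree.Setup f' t g := ⟨hf', hg, hG⟩
  obtain ⟨r, hr, hsat⟩ := st.exists_sat
  by_cases hr0 : r = 0
  · subst hr0
    obtain ⟨eG⟩ := CfsgLib.PSpFourThree.iso_model hf' st.card_group hsat
    exact ⟨eG.trans (ρ.symm)⟩
  · exfalso
    obtain ⟨i, hi, hig⟩ := CfsgLib.PSpFourThree.enum_twisted f' hf'.mul g hr hr0 hsat
    have h1 := (hg.conj_s hf').1
    rw [← hig, hf'.comm_s hi, mul_inv_cancel_right, ← hf'.map_t] at h1
    exact absurd (hf'.inj _ CfsgLib.PSpFourThree.const_lt.1 _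
      CfsgLib.PSpFourThree.const_lt.2.1 h1) (by decide)

end Cfsg.Agent.S3221
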