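import Cfsg.Statements.S4377


set_option autoImplicit false
open Cfsg

namespace Cfsg.Agent.S4377

theorem card_pow_eq_one_eq_sum (K : Type*) [Group K] [Finite K] (n : ℕ) (hn : n ≠ 0) :
    Nat.card {g : K // g ^ n = 1} = ∑ d ∈ n.divisors, Nat.card {g : K // orderOf g = d} := by
  classical
  cases nonempty_fintype K
  simp only [Nat.card_eq_fintype_card, Fintype.card_subtype]
  rw [Finset.card_eq_sum_card_fiberwise (f := orderOf) (t := n.divisors)
    (fun g hg => Nat.mem_divisors.2 ⟨orderOf_dvd_of_pow_eq_one (Finset.mem_filter.1 hg).2, hn⟩)]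
  refine Finset.sum_congr rfl fun d hd => ?_
  rw [Finset.filter_filter]
  congr 1
  ext g
  simp only [Finset.mem_filter, Finset.mem_univ, true_and, and_iff_right_iff_imp]
  intro hg
  exact orderOf_dvd_iff_pow_eq_one.1 (hg ▸ Nat.dvd_of_mem_divisors hd)

theorem card_subtype_of_forall {K : Type*} (q : K → Prop) (h : ∀ g, q g) :
    Nat.card {g : K // q g} = Nat.card K :=
  Nat.card_congr (Equiv.subtypeUnivEquiv h)


/-- Two finite groups have the same number of elements of each order if and only if, for every n, they have the same number of elements g with gⁿ = 1. -/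
theorem result {G H : Type*} [Group G] [Finite G] [Group H] [Finite H] :
    (∀ n : ℕ, Nat.card {g : G // orderOf g = n} = Nat.card {h : H // orderOf h = n}) ↔
      ∀ n : ℕ, Nat.card {g : G // g ^ n = 1} = Nat.card {h : H // h ^ n = 1} := by
  have keyG := card_pow_eq_one_eq_sum G
  have keyH := card_pow_eq_one_eq_sum H
  have hne : Nat.card G * Nat.card H ≠ 0 := Nat.mul_ne_zero Nat.card_pos.ne' Nat.card_pos.ne'
  constructor
  · intro h n
    rcases Nat.eq_zero_or_pos n with rfl | hn
    · have hN : Nat.card {g : G // g ^ (Nat.card G * Nat.card H) = 1} =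
          Nat.card {g : H // g ^ (Nat.card G * Nat.card H) = 1} := by
        rw [keyG _ hne, keyH _ hne]
        exact Finset.sum_congr rfl fun d _ => h d
      rw [card_subtype_of_forall _ (fun g : G => pow_zero g),
        card_subtype_of_forall _ (fun g : H => pow_zero g)]
      rwa [card_subtype_of_forall _ (fun g : G => by rw [pow_mul, pow_card_eq_one', one_pow]),
        card_subtype_of_forall _ (fun g : H => by rw [mul_comm, pow_mul, pow_card_eq_one', one_pow])]
        at hN
    · rw [keyG n hn.ne', keyH n hn.ne']
      exact Finset.sum_congr rfl fun d _ => h d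
  · intro h n
    induction n using Nat.strong_induction_on with
    | _ n ih =>
      rcases Nat.eq_zero_or_pos n with rfl | hn
      · simp [(fun g => (orderOf_pos g).ne' : ∀ g : G, orderOf g ≠ 0),
          (fun g => (orderOf_pos g).ne' : ∀ g : H, orderOf g ≠ 0)]
      · have h1 := h n
        rw [keyG n hn.ne', keyH n hn.ne', ← Nat.cons_self_properDivisors hn.ne',
          Finset.sum_cons, Finset.sum_cons] at h1
        have h2 : ∑ d ∈ n.properDivisors, Nat.card {g : G // orderOf g = d} =
            ∑ d ∈ n.properDivisors, Nat.card {g : H // orderOf g = d} :=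
          Finset.sum_congr rfl fun d hd => ih d (Nat.mem_properDivisors.1 hd).2
        omega

end Cfsg.Agent.S4377
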