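import Cfsg.Statements.S4376
import Cfsg.Agent.OrderType.Affine
import Cfsg.Agent.S4377

set_option autoImplicit false
open Cfsg

namespace Cfsg.Agent.S4376

open CfsgLib.OrderType
open scoped commutatorElement

/-- The field with four elements. -/
abbrev F4 : Type := QuadraticAlgebra (ZMod 2) 1 1

/-- The field with forty-nine elements. -/
abbrev F49 : Type := QuadraticAlgebra (ZMod 7) 6 0

instance instFintypeQuadAlg {R : Type} [Fintype R] (a b : R) : Fintype (QuadraticAlgebra R a b) :=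
  Fintype.ofEquiv _ (QuadraticAlgebra.equivProd a b).symm

theorem cardZ3 : Nat.card (ZMod 3) = 3 := Nat.card_zmod 3
theorem cardZ7 : Nat.card (ZMod 7) = 7 := Nat.card_zmod 7
theorem cardF4 : Nat.card F4 = 4 := by
  rw [Nat.card_congr (QuadraticAlgebra.equivProd _ _), Nat.card_prod, Nat.card_zmod]
theorem cardF49 : Nat.card F49 = 49 := by
  rw [Nat.card_congr (QuadraticAlgebra.equivProd _ _), Nat.card_prod, Nat.card_zmod]

theorem card_prod' {α β : Type} {a b : ℕ} (ha : Nat.card α = a) (hb : Nat.card β = b) :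
    Nat.card (α × β) = a * b := by rw [Nat.card_prod, ha, hb]

theorem countsZ3 : Counts (ZMod 3) (domainCount (ZMod 3) 3) :=
  counts_domain cardZ3 (by decide +kernel)
theorem countsZ7 : Counts (ZMod 7) (domainCount (ZMod 7) 7) :=
  counts_domain cardZ7 (by decide +kernel)
theorem countsF4 : Counts F4 (domainCount F4 4) := counts_domain cardF4 (by decide +kernel)
theorem countsF49 : Counts F49 (domainCount F49 49) := counts_domain cardF49 (by decide +kernel)

/-- `g ^ n` computed by three short powers when `n ∣ 84`. -/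
def pw {M : Type} [Monoid M] (g : M) (n : ℕ) : M :=
  ((g ^ Nat.gcd n 4) ^ Nat.gcd n 3) ^ Nat.gcd n 7

theorem pw_eq {M : Type} [Monoid M] (g : M) {n : ℕ} (hn : n ∈ Nat.divisors 84) :
    pw g n = g ^ n := by
  rw [pw, ← pow_mul, ← pow_mul]
  congr 1
  revert n; decide +kernel

/-- Counts in the symmetric group on four letters. -/
def countS4 (n : ℕ) : ℕ :=
  match Nat.gcd n 12 with
  | 1 => 1 | 2 => 10 | 3 => 9 | 4 => 16 | 6 => 18 | _ => 24

theorem perm4_isSolvable : Group.IsSolvable (Equiv.Perm (Fin 4)) := by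
  haveI : Group.IsSolvable (alternatingGroup (Fin 4)) := by
    rw [Group.isSolvable_def]
    refine ⟨2, ?_⟩
    rw [eq_bot_iff]
    have key : ∀ x ∈ derivedSeries (alternatingGroup (Fin 4)) 1, x * x = 1 := by
      let V : Subgroup (alternatingGroup (Fin 4)) :=
        { carrier := {x | x * x = 1}
          one_mem' := one_mul 1
          mul_mem' := fun {x y} => by revert x y; decide +kernel
          inv_mem' := fun {x} => by revert x; decide +kernel }
      intro x hx
      have : derivedSeries (alternatingGroup (Fin 4)) 1 ≤ V := by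
        rw [derivedSeries_succ, derivedSeries_zero, Subgroup.commutator_le]
        intro a _ b _
        change ⁅a, b⁆ * ⁅a, b⁆ = 1
        exact (by decide +kernel : ∀ a b : alternatingGroup (Fin 4), ⁅a, b⁆ * ⁅a, b⁆ = 1) a b
      exact this hx
    rw [derivedSeries_succ, Subgroup.commutator_le]
    intro a ha b hb
    have : ∀ a b : alternatingGroup (Fin 4), a * a = 1 → b * b = 1 → ⁅a, b⁆ = 1 := by decide +kernel
    exact this a b (key a ha) (key b hb)
  exact Group.isSolvable_of_ker_le_range (alternatingGroup (Fin 4)).subtype Equiv.Perm.sign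
    (by rw [Subgroup.range_subtype]; exact le_rfl)

/-- The symmetric group on four letters. -/
def gS4 : CountedSolvable 84 where
  toCounted :=
    { carrier := Equiv.Perm (Fin 4)
      count := countS4
      count_eq := fun n hn => by
        rw [cnt_eq_filter, Finset.filter_congr (fun g _ => by rw [← pw_eq g hn])]
        revert n; decide +kernel
      pow_eq_one := fun g => by
        rw [← pw_eq g (by decide)]
        revert g; decide +kernel }
  solvable := perm4_isSolvable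

/-- The field with eight elements, `x ^ 3 = x + 1`. -/
structure F8 where
  a : ZMod 2
  b : ZMod 2
  c : ZMod 2
deriving DecidableEq

instance instFintypeF8 : Fintype F8 :=
  Fintype.ofEquiv (ZMod 2 × ZMod 2 × ZMod 2)
    { toFun := fun p => ⟨p.1, p.2.1, p.2.2⟩
      invFun := fun p => (p.a, p.b, p.c)
      left_inv := fun _ => rfl
      right_inv := fun _ => rfl }

instance instAddF8 : Add F8 := ⟨fun x y => ⟨x.a + y.a, x.b + y.b, x.c + y.c⟩⟩
instance instZeroF8 : Zero F8 := ⟨⟨0, 0, 0⟩⟩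
instance instOneF8 : One F8 := ⟨⟨1, 0, 0⟩⟩
instance instNegF8 : Neg F8 := ⟨id⟩
instance instMulF8 : Mul F8 :=
  ⟨fun x y => ⟨x.a * y.a + x.b * y.c + x.c * y.b,
    x.a * y.b + x.b * y.a + x.b * y.c + x.c * y.b + x.c * y.c,
    x.a * y.c + x.b * y.b + x.c * y.a + x.c * y.c⟩⟩

instance instCommRingF8 : CommRing F8 :=
  CommRing.ofMinimalAxioms (by decide +kernel) (by decide +kernel) (by decide +kernel)
    (by decide +kernel) (by decide +kernel) (by decide +kernel) (by decide +kernel)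

/-- The generator of the units of `F8`. -/
def zeta8 : F8ˣ := ⟨⟨0, 1, 0⟩, ⟨1, 0, 1⟩, by decide +kernel, by decide +kernel⟩

/-- The homomorphism from the cyclic group of order seven to the units of `F8`. -/
def chi8 : Multiplicative (ZMod 7 × ZMod 1) →* F8ˣ :=
  twoGenHom 7 1 zeta8 1 (by decide +kernel) (one_pow 1)

instance instDecEqAff8 : DecidableEq (Aff chi8) :=
  SemidirectProduct.equivProd.decidableEq

instance instFintypeAff8 : Fintype (Aff chi8) :=
  Fintype.ofEquiv _ SemidirectProduct.equivProd.symm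

/-- The field automorphism on the affine group of the line over `F8`. -/
def frob8Fun (x : Aff chi8) : Aff chi8 :=
  ⟨Multiplicative.ofAdd (x.left.toAdd * x.left.toAdd), x.right * x.right⟩

/-- The field automorphism as a group automorphism. -/
def frob8 : MulAut (Aff chi8) where
  toFun := frob8Fun
  invFun x := frob8Fun (frob8Fun x)
  left_inv := by decide +kernel
  right_inv := by decide +kernel
  map_mul' := by decide +kernel

theorem frob8_pow_three : frob8 ^ 3 = 1 := by
  ext1 x; revert x; decide +kernel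

/-- The action of the cyclic group of order three. -/
def frobHom : Multiplicative (ZMod 3) →* MulAut (Aff chi8) where
  toFun k := frob8 ^ k.toAdd.val
  map_one' := by simp
  map_mul' k l := by rw [toAdd_mul, ZMod.val_add, ← pow_eq_pow_mod _ frob8_pow_three, pow_add]

/-- The semilinear affine group of the line over `F8`, of order 168. -/
abbrev AGammaL : Type := Aff chi8 ⋊[frobHom] Multiplicative (ZMod 3)

instance instDecEqAGammaL : DecidableEq AGammaL := SemidirectProduct.equivProd.decidableEq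

instance instFintypeAGammaL : Fintype AGammaL :=
  Fintype.ofEquiv _ SemidirectProduct.equivProd.symm

/-- Counts in the semilinear affine group. -/
def countA8 (n : ℕ) : ℕ :=
  match n with
  | 1 => 1 | 2 => 8 | 3 => 57 | 4 => 8 | 6 => 120 | 7 => 49 | 12 => 120 | 14 => 56 | 21 => 105
  | 28 => 56 | _ => 168

/-- The semilinear affine group, counted. -/
def gA8 : CountedSolvable 84 where
  toCounted :=
    { carrier := AGammaL
      count := countA8
      count_eq := fun n hn => by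
        rw [cnt_eq_filter, Finset.filter_congr (fun g _ => by rw [← pw_eq g hn])]
        revert n; decide +kernel
      pow_eq_one := fun g => by
        rw [← pw_eq g (by decide)]
        revert g; decide +kernel }
  solvable := by
    haveI : Group.IsSolvable (Aff chi8) := aff_isSolvable _
    exact Group.isSolvable_of_ker_le_range (SemidirectProduct.inl (φ := frobHom))
      SemidirectProduct.rightHom (by rw [SemidirectProduct.range_inl_eq_ker_rightHom])

/-- Three by three matrices over the field with two elements, by their columns. -/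
structure M3 where
  r0 : Fin 8
  r1 : Fin 8
  r2 : Fin 8
deriving DecidableEq

instance instFintypeM3 : Fintype M3 :=
  Fintype.ofEquiv (Fin 8 × Fin 8 × Fin 8)
    { toFun := fun p => ⟨p.1, p.2.1, p.2.2⟩
      invFun := fun p => (p.r0, p.r1, p.r2)
      left_inv := fun _ => rfl
      right_inv := fun _ => rfl }

/-- Addition of vectors. -/
def vadd (x y : Fin 8) : Fin 8 := ⟨(x.val ^^^ y.val) % 8, Nat.mod_lt _ (by decide)⟩

theorem vadd_assoc : ∀ x y z, vadd (vadd x y) z = vadd x (vadd y z) := by decide +kernel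
theorem vadd_comm : ∀ x y, vadd x y = vadd y x := by decide +kernel
theorem vadd_self : ∀ x, vadd x x = 0 := by decide +kernel
theorem vadd_zero : ∀ x, vadd x 0 = x := by decide +kernel
theorem zero_vadd : ∀ x, vadd 0 x = x := by decide +kernel

/-- Application to a vector. -/
def M3.app (A : M3) (v : Fin 8) : Fin 8 :=
  vadd (vadd (if v.val.testBit 0 then A.r0 else 0) (if v.val.testBit 1 then A.r1 else 0))
    (if v.val.testBit 2 then A.r2 else 0)

theorem vadd_testBit : ∀ (v w : Fin 8) (i : Fin 3),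
    (vadd v w).val.testBit i = ((v.val.testBit i).xor (w.val.testBit i)) := by decide +kernel

theorem bitSelect (s t : Bool) (r : Fin 8) :
    (if Bool.xor s t then r else 0) = vadd (if s then r else 0) (if t then r else 0) := by
  cases s <;> cases t <;> simp [vadd_self, vadd_zero, zero_vadd]

theorem app_vadd (A : M3) (v w : Fin 8) : A.app (vadd v w) = vadd (A.app v) (A.app w) := by
  have h0 := vadd_testBit v w 0
  have h1 := vadd_testBit v w 1
  have h2 := vadd_testBit v w 2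
  simp only [Fin.val_zero, Fin.val_one, Fin.val_two] at h0 h1 h2
  simp only [M3.app, h0, h1, h2, bitSelect]
  haveI : Std.Associative vadd := ⟨vadd_assoc⟩
  haveI : Std.Commutative vadd := ⟨vadd_comm⟩
  ac_rfl

instance instMulM3 : Mul M3 := ⟨fun A B => ⟨A.app B.r0, A.app B.r1, A.app B.r2⟩⟩
instance instOneM3 : One M3 := ⟨⟨1, 2, 4⟩⟩

theorem app_zero (A : M3) : A.app 0 = 0 := by simp [M3.app, vadd_zero]

theorem app_mul (A B : M3) (v : Fin 8) : (A * B).app v = A.app (B.app v) := by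
  have e : ∀ (b : Bool) (r : Fin 8), A.app (if b then r else 0) = if b then A.app r else 0 := by
    intro b r; cases b <;> simp [app_zero]
  rw [show B.app v = vadd (vadd (if v.val.testBit 0 then B.r0 else 0)
    (if v.val.testBit 1 then B.r1 else 0)) (if v.val.testBit 2 then B.r2 else 0) from rfl,
    app_vadd, app_vadd, e, e, e]
  rfl

instance instMonoidM3 : Monoid M3 where
  mul_assoc A B C := by
    change M3.mk _ _ _ = M3.mk _ _ _
    rw [app_mul, app_mul, app_mul]
    rfl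
  one_mul := by decide +kernel
  mul_one := by decide +kernel

theorem one_app : ∀ v : Fin 8, (1 : M3).app v = v := by decide +kernel

theorem unit_not_singular (g : M3ˣ) (v : Fin 8) (hv : (g : M3).app v = 0) : v = 0 := by
  have h := app_mul (g⁻¹ : M3ˣ) g v
  rw [← Units.val_mul, inv_mul_cancel, hv, app_zero] at h
  rw [Units.val_one, one_app] at h
  exact h

theorem unit_pow (g : M3ˣ) : g ^ 84 = 1 := by
  apply Units.ext
  rw [Units.val_pow_eq_pow_val, Units.val_one, ← pw_eq (g : M3) (by decide)]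
  have key : ∀ A : M3, pw A 84 = 1 ∨ ∃ v, v ≠ 0 ∧ A.app v = 0 := by decide +kernel
  exact (key g).resolve_right fun ⟨v, h1, h2⟩ => h1 (unit_not_singular g v h2)

/-- Counts in the simple group of order 168. -/
def countL (n : ℕ) : ℕ :=
  match n with
  | 1 => 1 | 2 => 22 | 3 => 57 | 4 => 64 | 6 => 78 | 7 => 49 | 12 => 120 | 14 => 70 | 21 => 105
  | 28 => 112 | 42 => 126 | _ => 168

theorem cnt_units {M : Type} [Monoid M] [Fintype M] [DecidableEq M] {n : ℕ} (hn : n ≠ 0) :
    cnt Mˣ n = (Finset.univ.filter fun A : M => A ^ n = 1).card := by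
  rw [cnt, ← Fintype.card_subtype, ← Nat.card_eq_fintype_card]
  refine Nat.card_congr
    { toFun := fun g => ⟨(g.1 : M), by rw [← Units.val_pow_eq_pow_val, g.2, Units.val_one]⟩
      invFun := fun A => ⟨Units.ofPowEqOne A.1 n A.2 hn,
        Units.ext (by rw [Units.val_pow_eq_pow_val, Units.val_one]; exact A.2)⟩
      left_inv := fun g => Subtype.ext (Units.ext rfl)
      right_inv := fun A => rfl }

/-- The simple group of order 168, counted. -/
def gL : Counted 84 where
  carrier := M3ˣ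
  count := countL
  count_eq n hn := by
    rw [cnt_units (Nat.pos_of_mem_divisors hn).ne',
      Finset.filter_congr (fun g _ => by rw [← pw_eq g hn])]
    revert n; decide +kernel
  pow_eq_one := unit_pow

/-- Affine group [(3, (1,)), (7, (1,))] over `(2,)`. -/
def g1 : CountedSolvable 84 :=
  CountedSolvable.ofAff (by decide) (R := ZMod 3 × ZMod 7)
    (twoGenHom 2 1 ⟨((2 : ZMod 3) ^ 1, (3 : ZMod 7) ^ 3), ((2 : ZMod 3) ^ 1, (3 : ZMod 7) ^ 3), by decide +kernel, by decide +kernel⟩ ⟨((2 : ZMod 3) ^ 0, (3 : ZMod 7) ^ 0), ((2 : ZMod 3) ^ 0, (3 : ZMod 7) ^ 0), by decide +kernel, by decide +kernel⟩ (by decide +kernel) (by decide +kernel))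
    (counts_prod countsZ3 countsZ7) _ (card_prod' cardZ3 cardZ7) (by decide +kernel)

/-- Affine group [] over `(7,)`. -/
def g2 : CountedSolvable 84 :=
  CountedSolvable.ofAff (by decide) (R := PUnit.{1})
    (twoGenHom 7 1 1 1 (by decide +kernel) (by decide +kernel))
    counts_trivial _ Nat.card_unique (by decide +kernel)

/-- Affine group [(7, (1,))] over `(2,)`. -/
def g3 : CountedSolvable 84 :=
  CountedSolvable.ofAff (by decide) (R := ZMod 7)
    (twoGenHom 2 1 ⟨(3 : ZMod 7) ^ 3, (3 : ZMod 7) ^ 3, by decide +kernel, by decide +kernel⟩ ⟨(3 : ZMod 7) ^ 0, (3 : ZMod 7) ^ 0, by decide +kernel, by decide +kernel⟩ (by decide +kernel) (by decide +kernel))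
    countsZ7 _ cardZ7 (by decide +kernel)

/-- Affine group [(7, (5,))] over `(6,)`. -/
def g4 : CountedSolvable 84 :=
  CountedSolvable.ofAff (by decide) (R := ZMod 7)
    (twoGenHom 6 1 ⟨(3 : ZMod 7) ^ 5, (3 : ZMod 7) ^ 1, by decide +kernel, by decide +kernel⟩ ⟨(3 : ZMod 7) ^ 0, (3 : ZMod 7) ^ 0, by decide +kernel, by decide +kernel⟩ (by decide +kernel) (by decide +kernel))
    countsZ7 _ cardZ7 (by decide +kernel)

/-- Affine group [(7, (2,))] over `(3,)`. -/
def g5 : CountedSolvable 84 :=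
  CountedSolvable.ofAff (by decide) (R := ZMod 7)
    (twoGenHom 3 1 ⟨(3 : ZMod 7) ^ 4, (3 : ZMod 7) ^ 2, by decide +kernel, by decide +kernel⟩ ⟨(3 : ZMod 7) ^ 0, (3 : ZMod 7) ^ 0, by decide +kernel, by decide +kernel⟩ (by decide +kernel) (by decide +kernel))
    countsZ7 _ cardZ7 (by decide +kernel)

/-- Affine group [(2, (2,))] over `(3,)`. -/
def g6 : CountedSolvable 84 :=
  CountedSolvable.ofAff (by decide) (R := F4)
    (twoGenHom 3 1 ⟨(⟨0, 1⟩ : F4) ^ 2, (⟨0, 1⟩ : F4) ^ 1, by decide +kernel, by decide +kernel⟩ ⟨(⟨0, 1⟩ : F4) ^ 0, (⟨0, 1⟩ : F4) ^ 0, by decide +kernel, by decide +kernel⟩ (by decide +kernel) (by decide +kernel))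
    countsF4 _ cardF4 (by decide +kernel)

/-- Affine group [] over `(4,)`. -/
def g7 : CountedSolvable 84 :=
  CountedSolvable.ofAff (by decide) (R := PUnit.{1})
    (twoGenHom 4 1 1 1 (by decide +kernel) (by decide +kernel))
    counts_trivial _ Nat.card_unique (by decide +kernel)

/-- Affine group [(3, (2,)), (7, (2,))] over `(4,)`. -/
def g8 : CountedSolvable 84 :=
  CountedSolvable.ofAff (by decide) (R := ZMod 3 × ZMod 7)
    (twoGenHom 4 1 ⟨((2 : ZMod 3) ^ 1, (3 : ZMod 7) ^ 3), ((2 : ZMod 3) ^ 1, (3 : ZMod 7) ^ 3), by decide +kernel, by decide +kernel⟩ ⟨((2 : ZMod 3) ^ 0, (3 : ZMod 7) ^ 0), ((2 : ZMod 3) ^ 0, (3 : ZMod 7) ^ 0), by decide +kernel, by decide +kernel⟩ (by decide +kernel) (by decide +kernel))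
    (counts_prod countsZ3 countsZ7) _ (card_prod' cardZ3 cardZ7) (by decide +kernel)

/-- Affine group [(7, (2,))] over `(4,)`. -/
def g9 : CountedSolvable 84 :=
  CountedSolvable.ofAff (by decide) (R := ZMod 7)
    (twoGenHom 4 1 ⟨(3 : ZMod 7) ^ 3, (3 : ZMod 7) ^ 3, by decide +kernel, by decide +kernel⟩ ⟨(3 : ZMod 7) ^ 0, (3 : ZMod 7) ^ 0, by decide +kernel, by decide +kernel⟩ (by decide +kernel) (by decide +kernel))
    countsZ7 _ cardZ7 (by decide +kernel)

/-- Affine group [(7, (0, 5)), (7, (1, 0)), (7, (1, 5))] over `(2, 6)`. -/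
def g10 : CountedSolvable 84 :=
  CountedSolvable.ofAff (by decide) (R := ZMod 7 × ZMod 7 × ZMod 7)
    (twoGenHom 2 6 ⟨((3 : ZMod 7) ^ 0, ((3 : ZMod 7) ^ 3, (3 : ZMod 7) ^ 3)), ((3 : ZMod 7) ^ 0, ((3 : ZMod 7) ^ 3, (3 : ZMod 7) ^ 3)), by decide +kernel, by decide +kernel⟩ ⟨((3 : ZMod 7) ^ 5, ((3 : ZMod 7) ^ 0, (3 : ZMod 7) ^ 5)), ((3 : ZMod 7) ^ 1, ((3 : ZMod 7) ^ 0, (3 : ZMod 7) ^ 1)), by decide +kernel, by decide +kernel⟩ (by decide +kernel) (by decide +kernel))
    (counts_prod countsZ7 (counts_prod countsZ7 countsZ7)) _ (card_prod' cardZ7 (card_prod' cardZ7 cardZ7)) (by decide +kernel)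

/-- Affine group [(3, (1,)), (7, (1,)), (7, (1,))] over `(2,)`. -/
def g11 : CountedSolvable 84 :=
  CountedSolvable.ofAff (by decide) (R := ZMod 3 × ZMod 7 × ZMod 7)
    (twoGenHom 2 1 ⟨((2 : ZMod 3) ^ 1, ((3 : ZMod 7) ^ 3, (3 : ZMod 7) ^ 3)), ((2 : ZMod 3) ^ 1, ((3 : ZMod 7) ^ 3, (3 : ZMod 7) ^ 3)), by decide +kernel, by decide +kernel⟩ ⟨((2 : ZMod 3) ^ 0, ((3 : ZMod 7) ^ 0, (3 : ZMod 7) ^ 0)), ((2 : ZMod 3) ^ 0, ((3 : ZMod 7) ^ 0, (3 : ZMod 7) ^ 0)), by decide +kernel, by decide +kernel⟩ (by decide +kernel) (by decide +kernel))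
    (counts_prod countsZ3 (counts_prod countsZ7 countsZ7)) _ (card_prod' cardZ3 (card_prod' cardZ7 cardZ7)) (by decide +kernel)

/-- Affine group [(3, (1,)), (3, (1,))] over `(2,)`. -/
def g12 : CountedSolvable 84 :=
  CountedSolvable.ofAff (by decide) (R := ZMod 3 × ZMod 3)
    (twoGenHom 2 1 ⟨((2 : ZMod 3) ^ 1, (2 : ZMod 3) ^ 1), ((2 : ZMod 3) ^ 1, (2 : ZMod 3) ^ 1), by decide +kernel, by decide +kernel⟩ ⟨((2 : ZMod 3) ^ 0, (2 : ZMod 3) ^ 0), ((2 : ZMod 3) ^ 0, (2 : ZMod 3) ^ 0), by decide +kernel, by decide +kernel⟩ (by decide +kernel) (by decide +kernel))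
    (counts_prod countsZ3 countsZ3) _ (card_prod' cardZ3 cardZ3) (by decide +kernel)

/-- Affine group [(3, (2,)), (3, (2,))] over `(4,)`. -/
def g13 : CountedSolvable 84 :=
  CountedSolvable.ofAff (by decide) (R := ZMod 3 × ZMod 3)
    (twoGenHom 4 1 ⟨((2 : ZMod 3) ^ 1, (2 : ZMod 3) ^ 1), ((2 : ZMod 3) ^ 1, (2 : ZMod 3) ^ 1), by decide +kernel, by decide +kernel⟩ ⟨((2 : ZMod 3) ^ 0, (2 : ZMod 3) ^ 0), ((2 : ZMod 3) ^ 0, (2 : ZMod 3) ^ 0), by decide +kernel, by decide +kernel⟩ (by decide +kernel) (by decide +kernel))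
    (counts_prod countsZ3 countsZ3) _ (card_prod' cardZ3 cardZ3) (by decide +kernel)

/-- Affine group [(7, (10,))] over `(12,)`. -/
def g14 : CountedSolvable 84 :=
  CountedSolvable.ofAff (by decide) (R := ZMod 7)
    (twoGenHom 12 1 ⟨(3 : ZMod 7) ^ 5, (3 : ZMod 7) ^ 1, by decide +kernel, by decide +kernel⟩ ⟨(3 : ZMod 7) ^ 0, (3 : ZMod 7) ^ 0, by decide +kernel, by decide +kernel⟩ (by decide +kernel) (by decide +kernel))
    countsZ7 _ cardZ7 (by decide +kernel)

/-- Affine group [(7, (1,)), (7, (1,))] over `(2,)`. -/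
def g15 : CountedSolvable 84 :=
  CountedSolvable.ofAff (by decide) (R := ZMod 7 × ZMod 7)
    (twoGenHom 2 1 ⟨((3 : ZMod 7) ^ 3, (3 : ZMod 7) ^ 3), ((3 : ZMod 7) ^ 3, (3 : ZMod 7) ^ 3), by decide +kernel, by decide +kernel⟩ ⟨((3 : ZMod 7) ^ 0, (3 : ZMod 7) ^ 0), ((3 : ZMod 7) ^ 0, (3 : ZMod 7) ^ 0), by decide +kernel, by decide +kernel⟩ (by decide +kernel) (by decide +kernel))
    (counts_prod countsZ7 countsZ7) _ (card_prod' cardZ7 cardZ7) (by decide +kernel)

/-- Affine group [(7, (2,)), (7, (2,))] over `(4,)`. -/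
def g16 : CountedSolvable 84 :=
  CountedSolvable.ofAff (by decide) (R := ZMod 7 × ZMod 7)
    (twoGenHom 4 1 ⟨((3 : ZMod 7) ^ 3, (3 : ZMod 7) ^ 3), ((3 : ZMod 7) ^ 3, (3 : ZMod 7) ^ 3), by decide +kernel, by decide +kernel⟩ ⟨((3 : ZMod 7) ^ 0, (3 : ZMod 7) ^ 0), ((3 : ZMod 7) ^ 0, (3 : ZMod 7) ^ 0), by decide +kernel, by decide +kernel⟩ (by decide +kernel) (by decide +kernel))
    (counts_prod countsZ7 countsZ7) _ (card_prod' cardZ7 cardZ7) (by decide +kernel)

/-- Affine group [(3, (1,)), (3, (1,)), (7, (1,))] over `(2,)`. -/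
def g17 : CountedSolvable 84 :=
  CountedSolvable.ofAff (by decide) (R := ZMod 3 × ZMod 3 × ZMod 7)
    (twoGenHom 2 1 ⟨((2 : ZMod 3) ^ 1, ((2 : ZMod 3) ^ 1, (3 : ZMod 7) ^ 3)), ((2 : ZMod 3) ^ 1, ((2 : ZMod 3) ^ 1, (3 : ZMod 7) ^ 3)), by decide +kernel, by decide +kernel⟩ ⟨((2 : ZMod 3) ^ 0, ((2 : ZMod 3) ^ 0, (3 : ZMod 7) ^ 0)), ((2 : ZMod 3) ^ 0, ((2 : ZMod 3) ^ 0, (3 : ZMod 7) ^ 0)), by decide +kernel, by decide +kernel⟩ (by decide +kernel) (by decide +kernel))
    (counts_prod countsZ3 (counts_prod countsZ3 countsZ7)) _ (card_prod' cardZ3 (card_prod' cardZ3 cardZ7)) (by decide +kernel)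

/-- Affine group [(7, (2,)), (7, (2,))] over `(3,)`. -/
def g18 : CountedSolvable 84 :=
  CountedSolvable.ofAff (by decide) (R := ZMod 7 × ZMod 7)
    (twoGenHom 3 1 ⟨((3 : ZMod 7) ^ 4, (3 : ZMod 7) ^ 4), ((3 : ZMod 7) ^ 2, (3 : ZMod 7) ^ 2), by decide +kernel, by decide +kernel⟩ ⟨((3 : ZMod 7) ^ 0, (3 : ZMod 7) ^ 0), ((3 : ZMod 7) ^ 0, (3 : ZMod 7) ^ 0), by decide +kernel, by decide +kernel⟩ (by decide +kernel) (by decide +kernel))
    (counts_prod countsZ7 countsZ7) _ (card_prod' cardZ7 cardZ7) (by decide +kernel)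

/-- Affine group [(7, (10,)), (7, (9,))] over `(12,)`. -/
def g19 : CountedSolvable 84 :=
  CountedSolvable.ofAff (by decide) (R := ZMod 7 × F49)
    (twoGenHom 12 1 ⟨((3 : ZMod 7) ^ 5, (⟨0, 2⟩ : F49) ^ 9), ((3 : ZMod 7) ^ 1, (⟨0, 2⟩ : F49) ^ 3), by decide +kernel, by decide +kernel⟩ ⟨((3 : ZMod 7) ^ 0, (⟨0, 2⟩ : F49) ^ 0), ((3 : ZMod 7) ^ 0, (⟨0, 2⟩ : F49) ^ 0), by decide +kernel, by decide +kernel⟩ (by decide +kernel) (by decide +kernel))
    (counts_prod countsZ7 countsF49) _ (card_prod' cardZ7 cardF49) (by decide +kernel)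

/-- Affine group [(7, (11,)), (7, (6,))] over `(12,)`. -/
def g20 : CountedSolvable 84 :=
  CountedSolvable.ofAff (by decide) (R := F49 × ZMod 7)
    (twoGenHom 12 1 ⟨((⟨0, 2⟩ : F49) ^ 11, (3 : ZMod 7) ^ 3), ((⟨0, 2⟩ : F49) ^ 1, (3 : ZMod 7) ^ 3), by decide +kernel, by decide +kernel⟩ ⟨((⟨0, 2⟩ : F49) ^ 0, (3 : ZMod 7) ^ 0), ((⟨0, 2⟩ : F49) ^ 0, (3 : ZMod 7) ^ 0), by decide +kernel, by decide +kernel⟩ (by decide +kernel) (by decide +kernel))
    (counts_prod countsF49 countsZ7) _ (card_prod' cardF49 cardZ7) (by decide +kernel)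

/-- Affine group [(7, (11,))] over `(12,)`. -/
def g21 : CountedSolvable 84 :=
  CountedSolvable.ofAff (by decide) (R := F49)
    (twoGenHom 12 1 ⟨(⟨0, 2⟩ : F49) ^ 11, (⟨0, 2⟩ : F49) ^ 1, by decide +kernel, by decide +kernel⟩ ⟨(⟨0, 2⟩ : F49) ^ 0, (⟨0, 2⟩ : F49) ^ 0, by decide +kernel, by decide +kernel⟩ (by decide +kernel) (by decide +kernel))
    countsF49 _ cardF49 (by decide +kernel)

/-- Affine group [(3, (2,)), (7, (2,)), (7, (2,))] over `(4,)`. -/
def g22 : CountedSolvable 84 :=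
  CountedSolvable.ofAff (by decide) (R := ZMod 3 × ZMod 7 × ZMod 7)
    (twoGenHom 4 1 ⟨((2 : ZMod 3) ^ 1, ((3 : ZMod 7) ^ 3, (3 : ZMod 7) ^ 3)), ((2 : ZMod 3) ^ 1, ((3 : ZMod 7) ^ 3, (3 : ZMod 7) ^ 3)), by decide +kernel, by decide +kernel⟩ ⟨((2 : ZMod 3) ^ 0, ((3 : ZMod 7) ^ 0, (3 : ZMod 7) ^ 0)), ((2 : ZMod 3) ^ 0, ((3 : ZMod 7) ^ 0, (3 : ZMod 7) ^ 0)), by decide +kernel, by decide +kernel⟩ (by decide +kernel) (by decide +kernel))
    (counts_prod countsZ3 (counts_prod countsZ7 countsZ7)) _ (card_prod' cardZ3 (card_prod' cardZ7 cardZ7)) (by decide +kernel)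

/-- Affine group [(3, (2,)), (3, (2,)), (7, (2,))] over `(4,)`. -/
def g23 : CountedSolvable 84 :=
  CountedSolvable.ofAff (by decide) (R := ZMod 3 × ZMod 3 × ZMod 7)
    (twoGenHom 4 1 ⟨((2 : ZMod 3) ^ 1, ((2 : ZMod 3) ^ 1, (3 : ZMod 7) ^ 3)), ((2 : ZMod 3) ^ 1, ((2 : ZMod 3) ^ 1, (3 : ZMod 7) ^ 3)), by decide +kernel, by decide +kernel⟩ ⟨((2 : ZMod 3) ^ 0, ((2 : ZMod 3) ^ 0, (3 : ZMod 7) ^ 0)), ((2 : ZMod 3) ^ 0, ((2 : ZMod 3) ^ 0, (3 : ZMod 7) ^ 0)), by decide +kernel, by decide +kernel⟩ (by decide +kernel) (by decide +kernel))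
    (counts_prod countsZ3 (counts_prod countsZ3 countsZ7)) _ (card_prod' cardZ3 (card_prod' cardZ3 cardZ7)) (by decide +kernel)

/-- Affine group [(7, (10,)), (7, (6,))] over `(12,)`. -/
def g24 : CountedSolvable 84 :=
  CountedSolvable.ofAff (by decide) (R := ZMod 7 × ZMod 7)
    (twoGenHom 12 1 ⟨((3 : ZMod 7) ^ 5, (3 : ZMod 7) ^ 3), ((3 : ZMod 7) ^ 1, (3 : ZMod 7) ^ 3), by decide +kernel, by decide +kernel⟩ ⟨((3 : ZMod 7) ^ 0, (3 : ZMod 7) ^ 0), ((3 : ZMod 7) ^ 0, (3 : ZMod 7) ^ 0), by decide +kernel, by decide +kernel⟩ (by decide +kernel) (by decide +kernel))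
    (counts_prod countsZ7 countsZ7) _ (card_prod' cardZ7 cardZ7) (by decide +kernel)

/-- Affine group [(7, (5,)), (7, (3,))] over `(6,)`. -/
def g25 : CountedSolvable 84 :=
  CountedSolvable.ofAff (by decide) (R := ZMod 7 × ZMod 7)
    (twoGenHom 6 1 ⟨((3 : ZMod 7) ^ 5, (3 : ZMod 7) ^ 3), ((3 : ZMod 7) ^ 1, (3 : ZMod 7) ^ 3), by decide +kernel, by decide +kernel⟩ ⟨((3 : ZMod 7) ^ 0, (3 : ZMod 7) ^ 0), ((3 : ZMod 7) ^ 0, (3 : ZMod 7) ^ 0), by decide +kernel, by decide +kernel⟩ (by decide +kernel) (by decide +kernel))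
    (counts_prod countsZ7 countsZ7) _ (card_prod' cardZ7 cardZ7) (by decide +kernel)

/-- The solvable side. -/
def solvableSide : CountedSolvable 84 :=
  (((((((((((((g1.pow 2).prod
    (g5.pow 6)).prod
    (g7.pow 10)).prod
    (g10.pow 2)).prod
    (gS4.pow 2)).prod
    (g15.pow 1)).prod
    (g17.pow 4)).prod
    (g20.pow 2)).prod
    (gA8.pow 2)).prod
    (g22.pow 2)).prod
    (g23.pow 4)).prod
    (g24.pow 4)).prod
    (g25.pow 2))

/-- The companions of the simple group of order 168. -/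
def companions : CountedSolvable 84 :=
  ((((((((((((((g2.pow 2).prod
    (g3.pow 3)).prod
    (g4.pow 6)).prod
    (g6.pow 2)).prod
    (g8.pow 2)).prod
    (g9.pow 5)).prod
    (g11.pow 2)).prod
    (g12.pow 4)).prod
    (g13.pow 4)).prod
    (g14.pow 4)).prod
    (g16.pow 3)).prod
    (g18.pow 2)).prod
    (g19.pow 2)).prod
    (g21.pow 2))

def simplePower : ℕ := 2

theorem tables_agree : ∀ n ∈ Nat.divisors 84,
    solvableSide.toCounted.count n = (companions.toCounted.prod (gL.pow simplePower)).count n := by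
  decide +kernel


/-- There are finite groups G and H having the same number of elements of each order (the same order type) with G solvable and H not solvable. -/
theorem result :
    ∃ (G : Type) (_ : Group G) (_ : Finite G) (H : Type) (_ : Group H) (_ : Finite H),
      Group.IsSolvable G ∧ ¬ Group.IsSolvable H ∧ ∀ n : ℕ, Nat.card {g : G // orderOf g = n} = Nat.card {h : H // orderOf h = n} := by
  let B : Counted 84 := companions.toCounted.prod (gL.pow simplePower)
  let a : M3ˣ := Units.ofPowEqOne ⟨1, 2, 5⟩ 2 (by decide +kernel) (by decide)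
  let b : M3ˣ := Units.ofPowEqOne ⟨2, 4, 1⟩ 3 (by decide +kernel) (by decide)
  have hL : ¬ Group.IsSolvable M3ˣ := not_isSolvable_of_two_three_seven a b
    (Units.pow_ofPowEqOne _ _) (Units.pow_ofPowEqOne _ _) (by decide +kernel) (by decide +kernel)
  refine ⟨solvableSide.toCounted.carrier, solvableSide.toCounted.group, solvableSide.toCounted.finite,
    B.carrier, B.group, B.finite, solvableSide.solvable, fun h => hL ?_, fun n => ?_⟩
  · haveI := h
    exact Group.isSolvable_of_surjective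
      (f := ((Pi.evalMonoidHom (fun _ : Fin simplePower => M3ˣ) ⟨0, by decide⟩).comp
        (MonoidHom.snd companions.toCounted.carrier (Fin simplePower → M3ˣ)) : B.carrier →* M3ˣ))
      (fun g => ⟨(1, fun _ => g), rfl⟩)
  · exact (Cfsg.Agent.S4377.result).2 (Counted.cnt_eq _ B (by decide) tables_agree) n

end Cfsg.Agent.S4376
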