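import Cfsg.Statements.S3222
import Cfsg.Agent.CentralizerD8.HalfFused
import Cfsg.Agent.CentralizerD8.Simple
import Cfsg.Agent.AltAut.PreserveThree
import Cfsg.Agent.S4376
import Cfsg.Agent.S0497
import Mathlib

set_option autoImplicit false
open Cfsg

namespace Cfsg.Agent.S3222

open Equiv

/-- The model of the centralizer. -/
abbrev W := Multiplicative (ZMod 2) × Equiv.Perm (Fin 4)

def tW : W := (Multiplicative.ofAdd 1, 1)
def sW : W := (1, swap 0 1 * swap 1 2 * swap 2 3)
def vW : W := (1, swap 0 1 * swap 2 3)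
def yW : W := (1, swap 1 2 * swap 2 3)
def zW : W := sW * sW
def rW : W := vW * sW

theorem w_central : ∀ x : W, (∀ y : W, x * y = y * x) → x = 1 ∨ x = tW := by decide +kernel

theorem w_comm : ∀ x : W, x * zW = zW * x → ∀ y : W, y * zW = zW * y →
    x * y * x⁻¹ * y⁻¹ = 1 ∨ x * y * x⁻¹ * y⁻¹ = zW := by decide +kernel

set_option synthInstance.maxSize 2000 in
set_option synthInstance.maxHeartbeats 200000 in
theorem w_inv : ∀ x : W, x * zW = zW * x → x.1 = 1 → x * x = 1 → x ≠ 1 →
    x = zW ∨ x = vW ∨ x = vW * zW ∨ x = rW ∨ x = rW * zW := by decide +kernel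

set_option synthInstance.maxSize 2000 in
set_option synthInstance.maxHeartbeats 200000 in
theorem w_facts : vW * vW = 1 ∧ vW * sW * vW⁻¹ = sW⁻¹ ∧ yW * vW * yW⁻¹ = zW ∧
    yW * yW * yW = 1 ∧ sW * vW * sW⁻¹ = vW * zW ∧ sW * rW * sW⁻¹ = rW * zW ∧
    vW * sW * vW⁻¹ * sW⁻¹ = zW ∧ zW ≠ 1 ∧ yW ≠ 1 ∧ tW * tW = 1 ∧ rW * rW = 1 ∧
    zW * zW = 1 ∧ tW ≠ 1 := by decide +kernel

theorem w_mem : vW * zW = zW * vW ∧ sW * zW = zW * sW ∧ rW * zW = zW * rW ∧
    tW * zW = zW * tW ∧ tW * rW = rW * tW ∧ vW.1 = 1 ∧ sW.1 = 1 ∧ zW.1 = 1 ∧ tW.1 ≠ 1 := by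
  decide +kernel

theorem w_not_conj : ∀ g : W, g * zW * g⁻¹ ≠ rW ∧ g * zW * g⁻¹ ≠ vW * (tW * sW) := by
  decide +kernel

theorem w_seven : (Finset.univ.filter fun x : W => x = tW ∨ ∃ g : W, g * (tW * rW) * g⁻¹ = x).card = 7 ∧
    (Finset.univ.filter fun x : W => x = tW ∨ ∃ g : W, g * rW * g⁻¹ = x).card = 7 := by
  decide +kernel

theorem w_card_cent : Nat.card {x : W // x * zW = zW * x} = 16 ∧
    Nat.card {x : W // x * zW = zW * x ∧ x.1 = 1} = 8 ∧ Nat.card W = 48 := by
  simp only [Nat.card_eq_fintype_card]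
  decide +kernel

theorem perm_five_center : ∀ π : Equiv.Perm (Fin 5),
    (∀ ρ : Equiv.Perm (Fin 5), ρ * π = π * ρ) → π = 1 := by decide +kernel

theorem perm_five_no_small {M : Subgroup (Equiv.Perm (Fin 5))} [M.Normal]
    (hM : Nat.card M ∣ 24) : M = ⊥ := by
  haveI : IsSimpleGroup (alternatingGroup (Fin 5)) := alternatingGroup.isSimpleGroup (by simp)
  have hbot : M.subgroupOf (alternatingGroup (Fin 5)) = ⊥ := by
    rcases (inferInstance : (M.subgroupOf (alternatingGroup (Fin 5))).Normal).eq_bot_or_eq_top with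
      h | h
    · exact h
    · exfalso
      have hle : alternatingGroup (Fin 5) ≤ M := Subgroup.subgroupOf_eq_top.mp h
      have h60 := (Subgroup.card_dvd_of_le hle).trans hM
      rw [Nat.card_eq_fintype_card, card_alternatingGroup, Fintype.card_fin] at h60
      norm_num [Nat.factorial] at h60
  refine (Subgroup.eq_bot_iff_forall M).mpr fun π hπ => ?_
  refine Cfsg.Agent.S2119.injective_conjNormal (by simp)
    ((MulEquiv.ext fun a => Subtype.ext ?_).trans (map_one MulAut.conjNormal).symm)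
  have hm : π * (a : Equiv.Perm (Fin 5)) * π⁻¹ * (a : Equiv.Perm (Fin 5))⁻¹ ∈ M ⊓ alternatingGroup (Fin 5) := by
    refine ⟨?_, (alternatingGroup (Fin 5)).mul_mem
      (Subgroup.Normal.conj_mem inferInstance _ a.2 π) (Subgroup.inv_mem _ a.2)⟩
    rw [mul_assoc, mul_assoc, ← mul_assoc (a : Equiv.Perm (Fin 5))]
    exact M.mul_mem hπ (Subgroup.Normal.conj_mem inferInstance _ (M.inv_mem hπ) _)
  have he : (⟨_, hm.2⟩ : alternatingGroup (Fin 5)) ∈ M.subgroupOf (alternatingGroup (Fin 5)) := hm.1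
  rw [hbot, Subgroup.mem_bot] at he
  rw [MulAut.conjNormal_apply, MulAut.one_apply]
  exact mul_inv_eq_one.mp (congrArg Subtype.val he)

theorem double_three_facts : let x0 : Equiv.Perm (Fin 6) := (swap 0 1 * swap 1 2) * (swap 3 4 * swap 4 5)
    let w : Equiv.Perm (Fin 6) := swap 0 3 * swap 1 4 * swap 2 5
    w * x0 = x0 * w ∧ Equiv.Perm.sign w = -1 ∧ x0.cycleType = Multiset.replicate 2 3 := by
  decide +kernel

theorem alt_six_cases {x : alternatingGroup (Fin 6)} (hx : orderOf x = 3) :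
    (x : Equiv.Perm (Fin 6)).IsThreeCycle ∨
      (x : Equiv.Perm (Fin 6)).cycleType = Multiset.replicate 2 3 := by
  have hord : orderOf (x : Equiv.Perm (Fin 6)) = 3 := by rw [Subgroup.orderOf_coe, hx]
  obtain ⟨m, hm⟩ := Equiv.Perm.cycleType_prime_order (σ := (x : Equiv.Perm (Fin 6)))
    (by rw [hord]; norm_num)
  rw [hord] at hm
  have h := Equiv.Perm.sum_cycleType_le (x : Equiv.Perm (Fin 6))
  rw [hm, Multiset.sum_replicate, smul_eq_mul, Fintype.card_fin] at h
  rcases (show m = 0 ∨ m = 1 by omega) with rfl | rfl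
  · exact .inl (by simpa [Equiv.Perm.IsThreeCycle] using hm)
  · exact .inr hm

theorem alt_six_isConj {x y : alternatingGroup (Fin 6)}
    (hx : (x : Equiv.Perm (Fin 6)).cycleType = Multiset.replicate 2 3)
    (hy : (y : Equiv.Perm (Fin 6)).cycleType = Multiset.replicate 2 3) : IsConj x y := by
  obtain ⟨hc, hs, h0⟩ := double_three_facts
  obtain ⟨h, hh⟩ := isConj_iff.mp (Equiv.Perm.isConj_iff_cycleType_eq.mpr (h0.trans hx.symm))
  obtain ⟨g, hg⟩ := isConj_iff.mp (Equiv.Perm.isConj_iff_cycleType_eq.mpr (hx.trans hy.symm))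
  rcases Int.units_eq_one_or (Equiv.Perm.sign g) with hsg | hsg
  · exact isConj_iff.mpr ⟨⟨g, hsg⟩, Subtype.ext hg⟩
  · refine isConj_iff.mpr ⟨⟨g * (h * (swap 0 3 * swap 1 4 * swap 2 5) * h⁻¹), ?_⟩, Subtype.ext ?_⟩
    · rw [Equiv.Perm.mem_alternatingGroup, map_mul, map_mul, map_mul, map_inv, hsg, hs]
      rcases Int.units_eq_one_or (Equiv.Perm.sign h) with h' | h' <;> rw [h'] <;> rfl
    · change g * (h * _ * h⁻¹) * (x : Equiv.Perm (Fin 6)) * (g * (h * _ * h⁻¹))⁻¹ = _
      rw [← hg, ← hh]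
      generalize (swap (0 : Fin 6) 1 * swap 1 2) * (swap 3 4 * swap 4 5) = x0 at hc ⊢
      generalize swap (0 : Fin 6) 3 * swap 1 4 * swap 2 5 = w at hc ⊢
      calc g * (h * w * h⁻¹) * (h * x0 * h⁻¹) * (g * (h * w * h⁻¹))⁻¹
          = g * (h * (w * x0) * w⁻¹ * h⁻¹) * g⁻¹ := by group
        _ = g * (h * x0 * h⁻¹) * g⁻¹ := by rw [hc]; group

/-- An automorphism of the alternating group of degree six fixing an element of order three
preserves three-cycles. -/
theorem alt_six_preserve (φ : MulAut (alternatingGroup (Fin 6))) (x : alternatingGroup (Fin 6))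
    (hx : orderOf x = 3) (hfix : φ x = x) (c : alternatingGroup (Fin 6))
    (hc : (c : Equiv.Perm (Fin 6)).IsThreeCycle) : (φ c : Equiv.Perm (Fin 6)).IsThreeCycle := by
  have hct : ∀ u w : alternatingGroup (Fin 6), IsConj u w →
      (u : Equiv.Perm (Fin 6)).cycleType = (w : Equiv.Perm (Fin 6)).cycleType := fun u w h =>
    Equiv.Perm.isConj_iff_cycleType_eq.mp ((alternatingGroup (Fin 6)).subtype.map_isConj h)
  have hord : orderOf (φ c) = 3 := by
    rw [MulEquiv.orderOf_eq, ← Subgroup.orderOf_coe, hc.orderOf]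
  rcases alt_six_cases hx with h | h
  · have h1 := φ.toMonoidHom.map_isConj (alternatingGroup.isThreeCycle_isConj (by simp) h hc)
    have h2 : IsConj x (φ c) := by simpa [hfix] using h1
    exact (hct _ _ h2).symm.trans h
  · rcases alt_six_cases hord with h' | h'
    · exact h'
    · exfalso
      have h1 := φ.symm.toMonoidHom.map_isConj (alt_six_isConj h h')
      have h2 : IsConj x c := by
        have hsx : φ.symm x = x := by rw [MulEquiv.symm_apply_eq, hfix]
        simpa [hsx] using h1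
      have h3 : Multiset.replicate 2 3 = ({3} : Multiset ℕ) := h.symm.trans ((hct _ _ h2).trans hc)
      have h4 := congrArg Multiset.card h3
      simp at h4

/-- The hypotheses, in terms of an injection of the model onto the centralizer of `t`. -/
structure Setup {G : Type*} [Group G] [Finite G] (t : G) (ι : W →* G) : Prop where
  inj : Function.Injective ι
  map_t : ι tW = t
  mem : ∀ g : G, g * t = t * g → ∃ x, ι x = g
  sylow : ∃ S : Sylow 2 G, (S : Subgroup G) = Subgroup.centralizer ({ι zW} : Set G)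
  inC : ∀ g : G, g * ι zW = ι zW * g → g * t = t * g

variable {G : Type*} [Group G] [Finite G] {t : G} {ι : W →* G}

theorem Setup.comm_t (h : Setup t ι) (x : W) : ι x * t = t * ι x := by
  rw [← h.map_t, ← map_mul, ← map_mul]
  exact congrArg ι (Prod.ext (mul_comm _ _) (by simp [tW]))

theorem Setup.exists_of_cz (h : Setup t ι) {g : G} (hg : g * ι zW = ι zW * g) :
    ∃ x, ι x = g ∧ x * zW = zW * x := by
  obtain ⟨x, rfl⟩ := h.mem g (h.inC g hg)
  exact ⟨x, rfl, h.inj (by rw [map_mul, map_mul, hg])⟩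

theorem Setup.cz_of (_h : Setup t ι) {x : W} (hx : x * zW = zW * x) :
    ι x ∈ Subgroup.centralizer ({ι zW} : Set G) :=
  Subgroup.mem_centralizer_singleton_iff.mpr (by rw [← map_mul, ← map_mul, hx])

theorem Setup.not_conj (h : Setup t ι) {x y : W} (hx : ∀ w, w * zW = zW * w → w * x = x * w)
    (hy : ∀ w, w * zW = zW * w → w * y = y * w) {g : G} (hg : g * ι x * g⁻¹ = ι y) : x = y := by
  haveI : Fact (Nat.Prime 2) := ⟨Nat.prime_two⟩
  obtain ⟨S, hS⟩ := h.sylow
  have hc : ∀ u : W, (∀ w, w * zW = zW * w → w * u = u * w) →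
      ι u ∈ Subgroup.centralizer ((S : Subgroup G) : Set G) := by
    intro u hu
    refine Subgroup.mem_centralizer_iff.mpr fun s hs => ?_
    rw [SetLike.mem_coe, hS] at hs
    obtain ⟨w, rfl, hw⟩ := h.exists_of_cz (Subgroup.mem_centralizer_singleton_iff.mp hs)
    rw [← map_mul, ← map_mul, hu w hw]
  obtain ⟨n, hn, hne⟩ := S.conj_eq_normalizer_conj_of_mem_centralizer (ι x) g⁻¹ (hc x hx)
    (by rw [inv_inv, hg]; exact hc y hy)
  rw [inv_inv, hg] at hne
  have hm : ∀ u, u * zW = zW * u → ∃ u', u' * zW = zW * u' ∧ ι u' = n * ι u * n⁻¹ := by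
    intro u hu
    have : ι u ∈ (S : Subgroup G) := hS ▸ h.cz_of hu
    have h' := (Subgroup.mem_normalizer_iff.mp hn (ι u)).mp this
    rw [hS] at h'
    obtain ⟨u', hu', hu''⟩ := h.exists_of_cz (Subgroup.mem_centralizer_singleton_iff.mp h')
    exact ⟨u', hu'', hu'⟩
  obtain ⟨v', hv', hv⟩ := hm vW w_mem.1
  obtain ⟨s', hs', hs⟩ := hm sW w_mem.2.1
  have hz : n * ι zW * n⁻¹ = ι (v' * s' * v'⁻¹ * s'⁻¹) := by
    rw [← w_facts.2.2.2.2.2.2.1]
    simp only [map_mul, map_inv, hv, hs]
    group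
  have hnz : n * ι zW = ι zW * n := by
    rcases w_comm v' hv' s' hs' with e | e <;> rw [e] at hz
    · rw [map_one, conj_eq_one_iff] at hz
      exact absurd (h.inj (hz.trans (map_one ι).symm)) w_facts.2.2.2.2.2.2.2.1
    · exact mul_inv_eq_iff_eq_mul.mp hz
  obtain ⟨w, hw, hwz⟩ := h.exists_of_cz hnz
  rw [← hw] at hne
  have hxw : ι x * ι w = ι w * ι x := by rw [← map_mul, ← map_mul, hx w hwz]
  rw [mul_assoc, hxw, inv_mul_cancel_left] at hne
  exact (h.inj hne).symm

theorem Setup.exists_index_two (h : Setup t ι) :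
    ∃ M : Subgroup G, M.Normal ∧ M.index = 2 ∧ t ∉ M := by
  haveI : Fact (Nat.Prime 2) := ⟨Nat.prime_two⟩
  obtain ⟨S, hS⟩ := h.sylow
  obtain ⟨fv, fvs, fy, fy3, fsv, fsr, fcomm, fz1, fy1, ft2, fr2, fz2, ft1⟩ := w_facts
  obtain ⟨mv, ms, mr, mt, mtr, v1, s1, z1, t1⟩ := w_mem
  set Q := (Subgroup.centralizer ({zW} : Set W) ⊓ (MonoidHom.fst _ _).ker).map ι with hQ
  have hQmem : ∀ g, g ∈ Q ↔ ∃ x, ι x = g ∧ x * zW = zW * x ∧ x.1 = 1 := by
    intro g
    simp only [hQ, Subgroup.mem_map, Subgroup.mem_inf, Subgroup.mem_centralizer_singleton_iff,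
      MonoidHom.mem_ker, MonoidHom.coe_fst]
    exact ⟨fun ⟨x, hx, e⟩ => ⟨x, e, hx⟩, fun ⟨x, e, hx⟩ => ⟨x, hx, e⟩⟩
  have hQS : Q ≤ (S : Subgroup G) := by
    intro g hg
    obtain ⟨x, rfl, hx, -⟩ := (hQmem g).mp hg
    exact hS ▸ h.cz_of hx
  have hcardS : Nat.card (S : Subgroup G) = 16 := by
    have hSm : (S : Subgroup G) = (Subgroup.centralizer ({zW} : Set W)).map ι := by
      rw [hS]
      ext g
      constructor
      · intro hg
        obtain ⟨x, hx, hxz⟩ := h.exists_of_cz (Subgroup.mem_centralizer_singleton_iff.mp hg)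
        exact ⟨x, Subgroup.mem_centralizer_singleton_iff.mpr hxz, hx⟩
      · rintro ⟨x, hx, rfl⟩
        exact h.cz_of (Subgroup.mem_centralizer_singleton_iff.mp hx)
    rw [hSm, Subgroup.card_map_of_injective h.inj, ← w_card_cent.1]
    exact Nat.card_congr (Equiv.subtypeEquivRight fun x => Subgroup.mem_centralizer_singleton_iff)
  have hcardQ : Nat.card Q = 8 := by
    rw [hQ, Subgroup.card_map_of_injective h.inj, ← w_card_cent.2.1]
    refine Nat.card_congr (Equiv.subtypeEquivRight fun x => ?_)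
    simp only [Subgroup.mem_inf, Subgroup.mem_centralizer_singleton_iff, MonoidHom.mem_ker,
      MonoidHom.coe_fst]
  have hrel : Q.relIndex (S : Subgroup G) = 2 := by
    have h' := (Q.subgroupOf (S : Subgroup G)).card_mul_index
    rw [Nat.card_congr (Subgroup.subgroupOfEquivOfLe hQS).toEquiv, hcardQ, hcardS] at h'
    unfold Subgroup.relIndex
    omega
  have hcl : ∀ g x : W, g * x * g⁻¹ = zW → IsConj (ι zW) (ι x) := fun g x e =>
    (isConj_iff.mpr ⟨ι g, by rw [← map_inv, ← map_mul, ← map_mul, e]⟩).symm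
  have hvz : IsConj (ι zW) (ι vW) := hcl yW vW fy
  have hvzz : IsConj (ι zW) (ι (vW * zW)) := hvz.trans (isConj_iff.mpr ⟨ι sW, by
    rw [← map_inv, ← map_mul, ← map_mul, fsv]⟩)
  have hrr : IsConj (ι rW) (ι (rW * zW)) := isConj_iff.mpr ⟨ι sW, by
    rw [← map_inv, ← map_mul, ← map_mul, fsr]⟩
  have hclass : ∀ q, q ∈ Q → q * q = 1 → q ≠ 1 → IsConj (ι zW) q ∨ IsConj (ι rW) q := by
    intro q hq h2 h1
    obtain ⟨x, rfl, hxz, hx1⟩ := (hQmem q).mp hq
    rcases w_inv x hxz hx1 (h.inj (by rw [map_mul, h2, map_one]))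
      (fun e => h1 (by rw [e, map_one])) with e | e | e | e | e <;> subst e
    exacts [.inl (IsConj.refl _), .inl hvz, .inl hvzz, .inr (IsConj.refl _), .inr hrr]
  have hcen : ∀ w : W, w * tW = tW * w := fun w => Prod.ext (mul_comm _ _) (by simp [tW])
  have htz : ∀ w : W, w * zW = zW * w → w * (tW * zW) = tW * zW * w := fun w hw => by
    rw [← mul_assoc, hcen, mul_assoc, hw, mul_assoc]
  have hzc : ∀ w : W, w * zW = zW * w → w * zW = zW * w := fun _ hw => hw
  have key : ∀ x : W, (∀ w, w * zW = zW * w → w * x = x * w) → x * zW = zW * x → x.1 ≠ 1 →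
      x * x = 1 → x ≠ zW → ¬ IsConj (ι rW) (ι x) → x = tW ∨ x = tW * zW →
      ∃ M : Subgroup G, M.Normal ∧ M.index = 2 ∧ t ∉ M := by
    intro x hxc hxz hx1 hx2 hxne hr hxe
    have hxone : x ≠ 1 := fun e => hx1 (by rw [e]; rfl)
    have ho : orderOf (ι x) = 2 := CfsgLib.StronglyEmbedded.orderOf_two_iff.mpr
      ⟨by rw [← map_mul, hx2, map_one], fun e => hxone (h.inj (e.trans (map_one ι).symm))⟩
    have hnQ : ι x ∉ Q := fun hm => by
      obtain ⟨x', e, -, he⟩ := (hQmem _).mp hm
      exact hx1 (h.inj e ▸ he)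
    rcases CfsgLib.Transfer.thompsonTransferLemma S Q hQS hrel (ι x) ho (hS ▸ h.cz_of hxz) hnQ with
      ⟨M, hM, hMi, hxM⟩ | ⟨g, hg⟩
    · refine ⟨M, hM, hMi, fun htM => hxM ?_⟩
      have hzM : ι zW ∈ M := by
        rw [zW, map_mul]; exact Subgroup.mul_self_mem_of_index_two hMi _
      rcases hxe with e | e <;> rw [e]
      · rwa [h.map_t]
      · rw [map_mul, h.map_t]; exact M.mul_mem htM hzM
    · exfalso
      have hq2 : g * ι x * g⁻¹ * (g * ι x * g⁻¹) = 1 := by
        rw [show g * ι x * g⁻¹ * (g * ι x * g⁻¹) = g * (ι x * ι x) * g⁻¹ by group, ← map_mul, hx2,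
          map_one, mul_one, mul_inv_cancel]
      have hq1 : g * ι x * g⁻¹ ≠ 1 := fun e => hxone (h.inj ((conj_eq_one_iff.mp e).trans (map_one ι).symm))
      have hxq : IsConj (ι x) (g * ι x * g⁻¹) := isConj_iff.mpr ⟨g, rfl⟩
      rcases hclass _ hg hq2 hq1 with e | e
      · obtain ⟨k, hk⟩ := isConj_iff.mp (hxq.trans e.symm)
        exact hxne (h.not_conj hxc hzc hk)
      · exact hr (e.trans hxq.symm)
  have ht_ne : tW ≠ tW * zW := fun e => fz1 (mul_eq_left.mp e.symm)
  by_cases hr : IsConj (ι rW) (ι tW)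
  · refine key (tW * zW) htz (by rw [mul_assoc, ← mul_assoc zW, ← mt, mul_assoc]) ?_ ?_
      (fun e => ft1 (mul_eq_right.mp e)) ?_ (.inr rfl)
    · rw [Prod.fst_mul, z1, mul_one]; exact t1
    · rw [mul_assoc, ← mul_assoc zW, ← mt, mul_assoc, fz2, mul_one, ft2]
    · intro hr'
      obtain ⟨k, hk⟩ := isConj_iff.mp (hr.symm.trans hr')
      exact ht_ne (h.not_conj (fun w _ => hcen w) htz hk)
  · exact key tW (fun w _ => hcen w) mt t1 ft2
      (fun e => t1 (by rw [e]; exact z1)) hr (.inl rfl)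

/-- Facts about the subgroup of index two. -/
theorem Setup.exists_data (h : Setup t ι) {G1 : Subgroup G} (hN : G1.Normal) (hi : G1.index = 2)
    (ht : t ∉ G1) :
    ι yW ∈ G1 ∧ ∃ (w : W) (hz : ι zW ∈ G1) (ha : ι w ∈ G1) (hb : ι (vW * w) ∈ G1),
      (w = sW ∨ w = tW * sW) ∧
      CfsgLib.CentralizerD8.Data (⟨ι zW, hz⟩ : G1) ⟨ι w, ha⟩ ⟨ι (vW * w), hb⟩ ∧
      IsConj (⟨ι zW, hz⟩ : G1) (⟨ι (vW * w), hb⟩ * ⟨ι w, ha⟩) := by
  obtain ⟨fv, fvs, fy, fy3, fsv, fsr, fcomm, fz1, fy1, ft2, fr2, fz2, ft1⟩ := w_facts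
  obtain ⟨mv, ms, mr, mt, mtr, v1, s1, z1, t1⟩ := w_mem
  have hyG : ι yW ∈ G1 := by
    have h2 := Subgroup.mul_self_mem_of_index_two hi (ι yW)
    have h4 := G1.mul_mem h2 h2
    rwa [← map_mul, ← map_mul, show yW * yW * (yW * yW) = yW * yW * yW * yW by group, fy3,
      one_mul] at h4
  have hz : ι zW ∈ G1 := by rw [zW, map_mul]; exact Subgroup.mul_self_mem_of_index_two hi _
  have hvG : ι vW ∈ G1 := by
    have hv : vW = yW⁻¹ * zW * yW := by rw [← fy]; group
    rw [hv, map_mul, map_mul, map_inv]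
    exact G1.mul_mem (G1.mul_mem (G1.inv_mem hyG) hz) hyG
  obtain ⟨w, hw, ha⟩ : ∃ w, (w = sW ∨ w = tW * sW) ∧ ι w ∈ G1 := by
    by_cases hsG : ι sW ∈ G1
    · exact ⟨sW, .inl rfl, hsG⟩
    · refine ⟨tW * sW, .inr rfl, ?_⟩
      rw [map_mul, h.map_t]
      exact (Subgroup.mul_mem_iff_of_index_two hi).mpr (iff_of_false ht hsG)
  obtain ⟨w1, w2, w3, w4⟩ : w * w = zW ∧ vW * w * vW⁻¹ = w⁻¹ ∧ w * zW = zW * w ∧
      w * vW * w⁻¹ = vW * zW := by
    have hall : (sW * sW = zW ∧ vW * sW * vW⁻¹ = sW⁻¹ ∧ sW * zW = zW * sW ∧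
      sW * vW * sW⁻¹ = vW * zW) ∧ ((tW * sW) * (tW * sW) = zW ∧
      vW * (tW * sW) * vW⁻¹ = (tW * sW)⁻¹ ∧ (tW * sW) * zW = zW * (tW * sW) ∧
      (tW * sW) * vW * (tW * sW)⁻¹ = vW * zW) := by decide +kernel
    rcases hw with e | e <;> rw [e]
    exacts [hall.1, hall.2]
  have hb : ι (vW * w) ∈ G1 := by rw [map_mul]; exact G1.mul_mem hvG ha
  refine ⟨hyG, w, hz, ha, hb, hw, ⟨?_, ?_, ?_, ?_, ?_, ?_, ?_, ?_⟩, ?_⟩
  · exact fun e => fz1 (h.inj ((congrArg Subtype.val e).trans (map_one ι).symm))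
  · exact Subtype.ext (by simp only [Subgroup.coe_mul, ← map_mul, fz2, Subgroup.coe_one, map_one])
  · exact Subtype.ext (by simp only [Subgroup.coe_mul, ← map_mul, w1])
  · refine Subtype.ext ?_
    rw [Subgroup.coe_mul, Subgroup.coe_one, ← map_mul, ← map_one ι]
    refine congrArg ι ?_
    calc vW * w * (vW * w) = vW * w * vW⁻¹ * (vW * vW) * w := by group
      _ = 1 := by rw [w2, fv, mul_one, inv_mul_cancel]
  · refine Subtype.ext ?_
    simp only [Subgroup.coe_mul, Subgroup.coe_inv, ← map_inv, ← map_mul]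
    refine congrArg ι ?_
    calc vW * w * w * (vW * w)⁻¹ = vW * w * vW⁻¹ := by group
      _ = w⁻¹ := w2
  · intro hm
    obtain ⟨i, hi'⟩ := Subgroup.mem_zpowers_iff.mp hm
    have hi'' : w ^ i = vW * w := h.inj (by rw [map_zpow]; exact congrArg Subtype.val hi')
    have hcom : Commute (vW * w) w := hi'' ▸ (Commute.refl w).zpow_left i
    have hvw : Commute vW w := by
      have h' := hcom.mul_left ((Commute.refl w).inv_left)
      rwa [mul_inv_cancel_right] at h'
    have e : w⁻¹ = w := by rw [← w2, hvw.eq, mul_inv_cancel_right]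
    exact fz1 (by rw [← w1]; nth_rewrite 1 [← e]; exact inv_mul_cancel w)
  · refine Subgroup.mem_centralizer_singleton_iff.mpr (Subtype.ext ?_)
    simp only [Subgroup.coe_mul, ← map_mul]
    rw [mul_assoc vW, w3, ← mul_assoc, mv, mul_assoc]
  · haveI : Fact (Nat.Prime 2) := ⟨Nat.prime_two⟩
    haveI := hN
    obtain ⟨S, hS⟩ := h.sylow
    have e : Subgroup.centralizer ({(⟨ι zW, hz⟩ : G1)} : Set G1) =
        (S : Subgroup G).subgroupOf G1 := by
      ext g
      rw [Subgroup.mem_subgroupOf, hS, Subgroup.mem_centralizer_singleton_iff,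
        Subgroup.mem_centralizer_singleton_iff, Subtype.ext_iff]
      rfl
    have htS : t ∈ (S : Subgroup G) := by
      rw [hS, ← h.map_t]; exact h.cz_of mt
    have hidx : (G1.subgroupOf (S : Subgroup G)).index = 2 := by
      rcases (Nat.dvd_prime Nat.prime_two).mp
        (hi ▸ Subgroup.relIndex_dvd_index_of_normal G1 (S : Subgroup G)) with h' | h'
      · exact absurd (Subgroup.relIndex_eq_one.mp h' htS) ht
      · exact h'
    have hcardS : Nat.card (S : Subgroup G) = 16 := by
      rw [← w_card_cent.1]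
      refine (Nat.card_congr (Equiv.ofBijective
        (fun x : {x : W // x * zW = zW * x} => (⟨ι x.1, hS ▸ h.cz_of x.2⟩ : (S : Subgroup G))) ⟨?_, ?_⟩)).symm
      · intro x y hxy
        exact Subtype.ext (h.inj (congrArg Subtype.val hxy))
      · rintro ⟨g, hg⟩
        rw [hS] at hg
        obtain ⟨x, hx, hxz⟩ := h.exists_of_cz (Subgroup.mem_centralizer_singleton_iff.mp hg)
        exact ⟨⟨x, hxz⟩, Subtype.ext hx⟩
    have hm := (G1.subgroupOf (S : Subgroup G)).card_mul_index
    rw [hidx, hcardS] at hm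
    have hsym : Nat.card ((S : Subgroup G).subgroupOf G1) =
        Nat.card (G1.subgroupOf (S : Subgroup G)) := Nat.card_congr
      { toFun := fun x => ⟨⟨x.1.1, x.2⟩, x.1.2⟩
        invFun := fun x => ⟨⟨x.1.1, x.2⟩, x.1.2⟩
        left_inv := fun _ => rfl
        right_inv := fun _ => rfl }
    rw [e, hsym]
    omega
  · have hby : vW * w * w = vW * zW := by rw [mul_assoc, w1]
    refine isConj_iff.mpr ⟨⟨ι w, ha⟩ * (⟨ι yW, hyG⟩ : G1)⁻¹, Subtype.ext ?_⟩
    simp only [Subgroup.coe_mul, Subgroup.coe_inv, ← map_inv, ← map_mul]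
    refine congrArg ι ?_
    rw [hby, ← w4, ← fy]
    group

theorem Setup.central_eq_one (h : Setup t ι) (hnt : Subgroup.centralizer ({t} : Set G) ≠ ⊤)
    {k : G} (hk : ∀ g, g * k = k * g) : k = 1 := by
  obtain ⟨x, rfl⟩ := h.mem k (hk t).symm
  rcases w_central x (fun y => h.inj (by rw [map_mul, map_mul, hk])) with e | e
  · rw [e, map_one]
  · exfalso
    rw [e, h.map_t] at hk
    exact hnt (eq_top_iff.mpr fun g _ => Subgroup.mem_centralizer_singleton_iff.mpr (hk g))

theorem Setup.eq_one_of_centralizes (h : Setup t ι) {G1 : Subgroup G} (hi : G1.index = 2)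
    (hnt : Subgroup.centralizer ({t} : Set G) ≠ ⊤)
    (hcen : ∀ x : G1, (∀ y : G1, y * x = x * y) → x = 1)
    {g : G} (hg : ∀ x ∈ G1, x * g = g * x) : g = 1 := by
  by_cases hgG : g ∈ G1
  · exact congrArg Subtype.val (hcen ⟨g, hgG⟩ fun y => Subtype.ext (hg y y.2))
  · refine h.central_eq_one hnt fun u => ?_
    by_cases hu : u ∈ G1
    · exact hg u hu
    · have hug : u * g⁻¹ ∈ G1 := (Subgroup.mul_mem_iff_of_index_two hi).mpr
        (iff_of_false hu (fun e => hgG (inv_mem_iff.mp e)))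
      have h' := hg _ hug
      rw [inv_mul_cancel_right] at h'
      nth_rewrite 1 [h']
      group

theorem Setup.card_C (h : Setup t ι) : Nat.card (Subgroup.centralizer ({t} : Set G)) = 48 := by
  rw [← w_card_cent.2.2]
  refine (Nat.card_congr (Equiv.ofBijective (fun x : W => (⟨ι x,
    Subgroup.mem_centralizer_singleton_iff.mpr (h.comm_t x)⟩ :
      Subgroup.centralizer ({t} : Set G))) ⟨?_, ?_⟩)).symm
  · intro x y hxy
    exact h.inj (congrArg Subtype.val hxy)
  · rintro ⟨g, hg⟩
    obtain ⟨x, hx⟩ := h.mem g (Subgroup.mem_centralizer_singleton_iff.mp hg)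
    exact ⟨x, Subtype.ext hx⟩

theorem Setup.not_order_five (h : Setup t ι) {G1 : Subgroup G} (hN : G1.Normal) (hi : G1.index = 2)
    (ht : t ∉ G1) (f : G1 ≃* Equiv.Perm (Fin 5)) : False := by
  haveI := hN
  have hG : Nat.card G = 240 := by
    rw [← G1.card_mul_index, hi, Nat.card_congr f.toEquiv, Nat.card_perm, Nat.card_fin]; rfl
  set C := Subgroup.centralizer ({t} : Set G) with hC
  have hnt : C ≠ ⊤ := fun e => by
    have := h.card_C
    rw [← hC, e, Subgroup.card_top, hG] at this; omega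
  set N := C.normalCore with hNd
  set M := (N.subgroupOf G1).map f.toMonoidHom with hM
  haveI : M.Normal := Subgroup.Normal.map inferInstance _ f.surjective
  have hMcard : Nat.card M ∣ 24 := by
    have h1 : Nat.card M = Nat.card (N.subgroupOf G1) :=
      Subgroup.card_map_of_injective f.injective
    have h2 : Nat.card (N.subgroupOf G1) ∣ Nat.card (C.subgroupOf G1) :=
      Subgroup.card_dvd_of_le (fun x hx => Subgroup.normalCore_le C hx)
    have h3 : Nat.card (C.subgroupOf G1) = Nat.card (G1.subgroupOf C) := Nat.card_congr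
      { toFun := fun x => ⟨⟨x.1.1, x.2⟩, x.1.2⟩
        invFun := fun x => ⟨⟨x.1.1, x.2⟩, x.1.2⟩
        left_inv := fun _ => rfl
        right_inv := fun _ => rfl }
    have h4 : (G1.subgroupOf C).index = 2 := by
      rcases (Nat.dvd_prime Nat.prime_two).mp
        (hi ▸ Subgroup.relIndex_dvd_index_of_normal G1 C) with h' | h'
      · exact absurd (Subgroup.relIndex_eq_one.mp h'
          (Subgroup.mem_centralizer_singleton_iff.mpr rfl)) ht
      · exact h'
    have h5 := (G1.subgroupOf C).card_mul_index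
    rw [h4, show Nat.card C = 48 from h.card_C] at h5
    rw [h1]
    have h6 : Nat.card (C.subgroupOf G1) = 24 := by rw [h3]; omega
    exact h6 ▸ h2
  have hMbot : N.subgroupOf G1 = ⊥ :=
    (Subgroup.map_eq_bot_iff_of_injective _ f.injective).mp (perm_five_no_small hMcard)
  have hNbot : N = ⊥ := by
    refine (Subgroup.eq_bot_iff_forall N).mpr fun n hn => ?_
    refine h.eq_one_of_centralizes hi hnt (fun x hx => ?_) (fun x hx => ?_)
    · apply f.injective
      rw [map_one]
      refine perm_five_center _ fun π => ?_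
      obtain ⟨y, rfl⟩ := f.surjective π
      rw [← map_mul, ← map_mul, hx y]
    · have h1 : x * n * x⁻¹ * n⁻¹ ∈ N ⊓ G1 := by
        refine ⟨N.mul_mem (Subgroup.Normal.conj_mem inferInstance n hn x) (N.inv_mem hn), ?_⟩
        rw [mul_assoc, mul_assoc, ← mul_assoc n]
        exact G1.mul_mem hx (hN.conj_mem _ (G1.inv_mem hx) n)
      have h2 : (⟨_, h1.2⟩ : G1) ∈ N.subgroupOf G1 := h1.1
      rw [hMbot, Subgroup.mem_bot] at h2
      exact mul_inv_eq_iff_eq_mul.mp (mul_inv_eq_one.mp (congrArg Subtype.val h2))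
  have hinj : Function.Injective (MulAction.toPermHom G (G ⧸ C)) :=
    (MonoidHom.ker_eq_bot_iff _).mp ((Subgroup.normalCore_eq_ker C).symm.trans hNbot)
  have hle := Nat.card_le_card_of_injective _ hinj
  have hidx : C.index = 5 := by
    have := C.card_mul_index
    rw [hC, h.card_C, hG] at this
    rw [hC]
    omega
  rw [Nat.card_perm, ← Subgroup.index_eq_card, hidx, hG] at hle
  norm_num [Nat.factorial] at hle

theorem Setup.not_order_168 (h : Setup t ι) {G1 : Subgroup G} (hN : G1.Normal) (hi : G1.index = 2)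
    (ht : t ∉ G1) {w : W} {hz : ι zW ∈ G1} {ha : ι w ∈ G1} {hb : ι (vW * w) ∈ G1}
    (hw : w = sW ∨ w = tW * sW)
    (hD : CfsgLib.CentralizerD8.Data (⟨ι zW, hz⟩ : G1) ⟨ι w, ha⟩ ⟨ι (vW * w), hb⟩)
    (hzb : IsConj (⟨ι zW, hz⟩ : G1) ⟨ι (vW * w), hb⟩) (hS : IsSimpleGroup G1)
    (h168 : Nat.card G1 = 168) : False := by
  haveI := hN
  haveI : Fintype G := Fintype.ofFinite G
  obtain ⟨fv, fvs, fy, fy3, fsv, fsr, fcomm, fz1, fy1, ft2, fr2, fz2, ft1⟩ := w_facts
  obtain ⟨mv, ms, mr, mt, mtr, v1, s1, z1, t1⟩ := w_mem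
  obtain ⟨g, hg⟩ := isConj_iff.mp hzb
  have hg' : (g : G) * ι zW * (g : G)⁻¹ = ι (vW * w) := congrArg Subtype.val hg
  -- the image of `t` commutes with the centralizer of `b`
  have hcomm : ∀ x : W, x * (vW * w) = vW * w * x → ι x * t = t * ι x →
      ι x * ((g : G) * t * (g : G)⁻¹) = (g : G) * t * (g : G)⁻¹ * ι x := by
    intro x hx _
    have h1 : ι x * ι (vW * w) = ι (vW * w) * ι x := by rw [← map_mul, ← map_mul, hx]
    have hzx : (g : G)⁻¹ * ι x * g * ι zW = ι zW * ((g : G)⁻¹ * ι x * g) := by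
      rw [← hg'] at h1
      calc (g : G)⁻¹ * ι x * g * ι zW
          = (g : G)⁻¹ * (ι x * ((g : G) * ι zW * (g : G)⁻¹)) * g := by group
        _ = (g : G)⁻¹ * ((g : G) * ι zW * (g : G)⁻¹ * ι x) * g := by rw [h1]
        _ = _ := by group
    have hxt := h.inC _ hzx
    calc ι x * ((g : G) * t * (g : G)⁻¹)
        = (g : G) * ((g : G)⁻¹ * ι x * g * t) * (g : G)⁻¹ := by group
      _ = (g : G) * (t * ((g : G)⁻¹ * ι x * g)) * (g : G)⁻¹ := by rw [hxt]
      _ = _ := by group
  have hbt : tW * (vW * w) = vW * w * tW := by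
    exact Prod.ext (mul_comm _ _) (by simp [tW])
  have hbz : zW * (vW * w) = vW * w * zW := by
    have hall : zW * (vW * sW) = vW * sW * zW ∧
        zW * (vW * (tW * sW)) = vW * (tW * sW) * zW := by decide +kernel
    rcases hw with e | e <;> rw [e]
    exacts [hall.1, hall.2]
  have hct := hcomm tW hbt (h.comm_t _)
  have hcz := hcomm zW hbz (h.comm_t _)
  have hcb := hcomm (vW * w) rfl (h.comm_t _)
  rw [h.map_t] at hct
  obtain ⟨u, hu, huz⟩ := h.exists_of_cz hcz.symm
  -- `u * t` lies in `G1` and centralizes `z` and `b`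
  have hnG : (g : G) * t * (g : G)⁻¹ ∉ G1 := fun e => ht (by
    have := hN.conj_mem _ e (g : G)⁻¹
    rwa [show (g : G)⁻¹ * ((g : G) * t * (g : G)⁻¹) * (g : G)⁻¹⁻¹ = t by group] at this)
  have hutG : ι (u * tW) ∈ G1 := by
    rw [map_mul, h.map_t, hu]
    exact (Subgroup.mul_mem_iff_of_index_two hi).mpr (iff_of_false hnG ht)
  have hub : u * tW * (vW * w) = vW * w * (u * tW) := by
    have hub' : u * (vW * w) = vW * w * u := h.inj (by rw [map_mul ι u, map_mul ι (vW * w), hu, hcb])
    rw [mul_assoc, hbt, ← mul_assoc, hub', mul_assoc]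
  have hlist := hD.list ⟨ι (u * tW), hutG⟩ (Subtype.ext (by
    simp only [Subgroup.coe_mul, ← map_mul]
    rw [mul_assoc, mt, ← mul_assoc, huz, mul_assoc]))
  have hv : ∀ x : W, ι (u * tW) = ι x → u = x * tW := fun x e => by
    rw [← h.inj e, mul_assoc, ft2, mul_one]
  have key : ∃ x : W, ι x = (g : G) * t * (g : G)⁻¹ ∧
      (x = tW * (vW * w) ∨ x = tW * (vW * w * zW)) := by
    refine ⟨u, hu, ?_⟩
    have hcomm' : u = tW ∨ u = zW * tW ∨ u = vW * w * tW ∨ u = vW * w * zW * tW := by
      rcases hlist with (e | e | e | e) | (e | e | e | e) <;>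
        (replace e := congrArg Subtype.val e;
         simp only [Subgroup.coe_mul, Subgroup.coe_inv, Subgroup.coe_one, ← map_mul, ← map_inv] at e)
      · exact .inl (by rw [hv 1 (e.trans (map_one ι).symm), one_mul])
      · exfalso
        rw [h.inj e] at hub
        exact hD.a_inv_ne (Subtype.ext (by
          have := congrArg Subtype.val hD.b_inv
          simp only [Subgroup.coe_mul, Subgroup.coe_inv, ← map_inv, ← map_mul] at this ⊢
          rw [← this, ← hub, mul_inv_cancel_right]))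
      · exact .inr (.inl (hv _ e))
      · exfalso
        rw [h.inj e] at hub
        exact hD.a_inv_ne (Subtype.ext (by
          have := congrArg Subtype.val hD.b_inv
          simp only [Subgroup.coe_mul, Subgroup.coe_inv, ← map_inv, ← map_mul] at this ⊢
          have h' : Commute w (vW * w) := by
            have := (show Commute w⁻¹ (vW * w) from hub).inv_left
            rwa [inv_inv] at this
          rw [← this, h'.symm.eq, mul_inv_cancel_right]))
      · exact .inr (.inr (.inl (hv _ e)))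
      · exfalso
        rw [h.inj e] at hub
        exact hD.a_inv_ne (Subtype.ext (by
          have := congrArg Subtype.val hD.b_inv
          simp only [Subgroup.coe_mul, Subgroup.coe_inv, ← map_inv, ← map_mul] at this ⊢
          have h' : Commute w (vW * w) := mul_left_cancel (a := vW * w) (by
            simpa only [mul_assoc] using hub)
          rw [← this, h'.symm.eq, mul_inv_cancel_right]))
      · exact .inr (.inr (.inr (hv _ e)))
      · exfalso
        rw [h.inj e] at hub
        exact hD.a_inv_ne (Subtype.ext (by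
          have := congrArg Subtype.val hD.b_inv
          simp only [Subgroup.coe_mul, Subgroup.coe_inv, ← map_inv, ← map_mul] at this ⊢
          have h0 : Commute w⁻¹ (vW * w) := mul_left_cancel (a := vW * w) (by
            simpa only [mul_assoc] using hub)
          have h' : Commute w (vW * w) := by
            have := h0.inv_left
            rwa [inv_inv] at this
          rw [← this, h'.symm.eq, mul_inv_cancel_right]))
    rcases hcomm' with e | e | e | e
    · exfalso
      have hgt : (g : G) * t = t * g := by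
        rw [← mul_inv_eq_iff_eq_mul, ← hu, e, h.map_t]
      obtain ⟨x, hx⟩ := h.mem _ hgt
      have hxz : x * zW * x⁻¹ = vW * w := h.inj (by rw [map_mul, map_mul, map_inv, hx, hg'])
      rcases hw with e' | e' <;> rw [e'] at hxz
      · exact (w_not_conj x).1 hxz
      · exact (w_not_conj x).2 hxz
    · exfalso
      have hzt : ∀ y : W, y * zW = zW * y → y * (zW * tW) = zW * tW * y := fun y hy => by
        rw [← mul_assoc, hy, mul_assoc, show y * tW = tW * y from
          Prod.ext (mul_comm _ _) (by simp [tW]), ← mul_assoc]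
      have := h.not_conj (x := tW) (y := zW * tW)
        (fun y _ => Prod.ext (mul_comm _ _) (by simp [tW])) hzt (g := (g : G))
        (by rw [h.map_t, ← hu, e])
      exact fz1 (mul_eq_right.mp this.symm)
    · exact .inl (e.trans hbt.symm)
    · refine .inr (e.trans ?_)
      exact Prod.ext (mul_comm _ _) (by simp [tW])
  have hfus : IsConj t (ι (tW * (vW * w))) := by
    obtain ⟨x, hx, e | e⟩ := key
    · exact isConj_iff.mpr ⟨g, by rw [← hx, e]⟩
    · have hab : w * (vW * w) * w⁻¹ = vW * w * zW :=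
        h.inj (by simpa [Subgroup.coe_mul, ← map_mul, ← map_inv] using congrArg Subtype.val hD.conj_b)
      refine (isConj_iff.mpr ⟨(g : G), hx.symm⟩ : IsConj t (ι x)).trans
        (IsConj.symm (isConj_iff.mpr ⟨(ι w : G), ?_⟩))
      rw [← map_inv, ← map_mul, ← map_mul, e]
      refine congrArg ι ?_
      rw [← hab]
      calc w * (tW * (vW * w)) * w⁻¹ = w * tW * (vW * w) * w⁻¹ := by group
        _ = tW * w * (vW * w) * w⁻¹ := by
          rw [show w * tW = tW * w from Prod.ext (mul_comm _ _) (by simp [tW])]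
        _ = _ := by group
  -- all conjugates of `t` centralize `t`
  have hset : ∀ v : G, IsConj t v → v * t = t * v := by
    obtain ⟨ε, hε, heq⟩ : ∃ ε : W, (ε = tW * rW ∨ ε = rW) ∧ tW * (vW * w) = ε := by
      rcases hw with e | e <;> rw [e]
      · exact ⟨_, .inl rfl, rfl⟩
      · refine ⟨_, .inr rfl, ?_⟩
        rw [show vW * (tW * sW) = tW * rW from by decide +kernel, ← mul_assoc, ft2, one_mul]
    rw [heq] at hfus
    have hcard : (Finset.univ.filter fun x : W => x = tW ∨ ∃ k : W, k * ε * k⁻¹ = x).card = 7 := by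
      rcases hε with e | e <;> subst e
      exacts [w_seven.1, w_seven.2]
    have hG : Nat.card G = 336 := by rw [← G1.card_mul_index, hi, h168]
    have hnum : Nat.card (conjugatesOf t) = 7 := by
      have h1 : Nat.card (conjugatesOf t) = (Subgroup.centralizer ({t} : Set G)).index := by
        have h2 : (MulAction.stabilizer (ConjAct G) t).index =
            (Subgroup.centralizer ({t} : Set G)).index := by
          rw [ConjAct.stabilizer_eq_centralizer]
          rfl
        rw [← h2, MulAction.index_stabilizer, ← Nat.card_coe_set_eq]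
        refine Nat.card_congr (Equiv.setCongr (Set.ext fun v => ?_))
        rw [ConjAct.mem_orbit_conjAct, isConj_comm]
        rfl
      have h2 := (Subgroup.centralizer ({t} : Set G)).card_mul_index
      rw [h.card_C, hG] at h2
      omega
    intro v hv
    classical
    have hsub : (Finset.univ.filter fun x : W => x = tW ∨ ∃ k : W, k * ε * k⁻¹ = x).image ι ⊆
        (conjugatesOf t).toFinset := by
      intro y hy
      obtain ⟨x, hx, rfl⟩ := Finset.mem_image.mp hy
      rw [Set.mem_toFinset]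
      change IsConj t (ι x)
      rcases (Finset.mem_filter.mp hx).2 with e | ⟨k, e⟩
      · rw [e, h.map_t]
      · exact hfus.trans (isConj_iff.mpr ⟨ι k, by rw [← map_inv, ← map_mul, ← map_mul, e]⟩)
    have heqset := Finset.eq_of_subset_of_card_le hsub (by
      rw [Finset.card_image_of_injective _ h.inj, hcard, Set.toFinset_card, ← Nat.card_eq_fintype_card,
        hnum])
    have hmem : v ∈ (conjugatesOf t).toFinset := Set.mem_toFinset.mpr hv
    rw [← heqset] at hmem
    obtain ⟨x, -, rfl⟩ := Finset.mem_image.mp hmem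
    exact h.comm_t x
  set A := Subgroup.normalClosure ({t} : Set G) with hA
  haveI : IsMulCommutative A := by
    refine Subgroup.isMulCommutative_closure ?_
    intro x hx y hy
    rw [Group.mem_conjugatesOfSet_iff] at hx hy
    obtain ⟨x', hx', hx⟩ := hx
    obtain ⟨y', hy', hy⟩ := hy
    rw [Set.mem_singleton_iff.mp hx'] at hx
    rw [Set.mem_singleton_iff.mp hy'] at hy
    obtain ⟨k, hk⟩ := isConj_iff.mp hx
    have hy' : IsConj t (k⁻¹ * y * k) := hy.trans (isConj_iff.mpr ⟨k⁻¹, by group⟩)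
    have := hset _ hy'
    rw [← hk]
    calc k * t * k⁻¹ * y = k * (t * (k⁻¹ * y * k)) * k⁻¹ := by group
      _ = k * ((k⁻¹ * y * k) * t) * k⁻¹ := by rw [this]
      _ = _ := by group
  haveI := hS
  rcases (inferInstance : (A.subgroupOf G1).Normal).eq_bot_or_eq_top with e | e
  · have hnt : ∀ k : G, k * t * k⁻¹ = t := by
      intro k
      have hm : k * t * k⁻¹ * t⁻¹ ∈ A :=
        A.mul_mem (Subgroup.normalClosure_normal.conj_mem t
          (Subgroup.subset_normalClosure (Set.mem_singleton t)) k) (A.inv_mem (Subgroup.subset_normalClosure (Set.mem_singleton t)))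
      have hmG : k * t * k⁻¹ * t⁻¹ ∈ G1 := (Subgroup.mul_mem_iff_of_index_two hi).mpr
        (iff_of_false (fun h' => ht (by
          have := hN.conj_mem _ h' k⁻¹
          rwa [show k⁻¹ * (k * t * k⁻¹) * k⁻¹⁻¹ = t by group] at this))
          (fun h' => ht (inv_mem_iff.mp h')))
      have h' : (⟨_, hmG⟩ : G1) ∈ A.subgroupOf G1 := hm
      rw [e, Subgroup.mem_bot] at h'
      exact mul_inv_eq_one.mp (congrArg Subtype.val h')
    have htop : Subgroup.centralizer ({t} : Set G) = ⊤ :=
      eq_top_iff.mpr fun k _ => Subgroup.mem_centralizer_singleton_iff.mpr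
        (mul_inv_eq_iff_eq_mul.mp (hnt k))
    have := h.card_C
    rw [htop, Subgroup.card_top, ← G1.card_mul_index, hi, h168] at this
    omega
  · have hle : G1 ≤ A := Subgroup.subgroupOf_eq_top.mp e
    refine hD.a_inv_ne ?_
    rw [← hD.b_inv, mul_inv_eq_iff_eq_mul]
    exact Subtype.ext (show ι (vW * w) * ι w = ι w * ι (vW * w) from
      congrArg (fun q : A => (q : G)) (mul_comm' (⟨_, hle hb⟩ : A) ⟨_, hle ha⟩))

theorem Setup.mulEquiv_perm_six (h : Setup t ι) {G1 : Subgroup G} (hN : G1.Normal)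
    (hi : G1.index = 2) (ht : t ∉ G1) (hyG : ι yW ∈ G1) (hS : IsSimpleGroup G1)
    (h360 : Nat.card G1 = 360) : Nonempty (G ≃* Equiv.Perm (Fin 6)) := by
  haveI := hN
  haveI := hS
  obtain ⟨f⟩ := Cfsg.Agent.S0497.result (G := G1) h360
  obtain ⟨fv, fvs, fy, fy3, fsv, fsr, fcomm, fz1, fy1, ft2, fr2, fz2, ft1⟩ := w_facts
  haveI : Fact (Nat.Prime 3) := ⟨Nat.prime_three⟩
  have hord : orderOf (f ⟨ι yW, hyG⟩) = 3 := by
    rw [MulEquiv.orderOf_eq, ← Subgroup.orderOf_coe]
    refine orderOf_eq_prime ?_ (fun e => fy1 (h.inj (e.trans (map_one ι).symm)))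
    rw [pow_succ, pow_two, ← map_mul, ← map_mul, fy3, map_one]
  let θ : G →* MulAut (alternatingGroup (Fin 6)) :=
    (MulAut.congr f).toMonoidHom.comp MulAut.conjNormal
  have hθ : ∀ (g : G) (x : G1), θ g (f x) = f (MulAut.conjNormal g x) := fun g x => by
    simp [θ, MulAut.congr]
  set R := (MulAut.conjNormal : Equiv.Perm (Fin 6) →* MulAut (alternatingGroup (Fin 6))).range with hR
  have hG1R : ∀ g ∈ G1, θ g ∈ R := fun g hg => by
    refine ⟨(f ⟨g, hg⟩ : Equiv.Perm (Fin 6)), MulEquiv.ext fun a => ?_⟩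
    obtain ⟨x, rfl⟩ := f.surjective a
    rw [hθ]
    refine Subtype.ext ?_
    have hx : MulAut.conjNormal g x = ⟨g, hg⟩ * x * (⟨g, hg⟩ : G1)⁻¹ :=
      Subtype.ext (by rw [MulAut.conjNormal_apply]; rfl)
    rw [MulAut.conjNormal_apply, hx, map_mul, map_mul, map_inv]
    rfl
  have htR : θ t ∈ R := by
    refine CfsgLib.AltAut.exists_conjNormal_of_preserve (by simp) (θ t)
      (alt_six_preserve (θ t) _ hord ?_)
    rw [hθ]
    refine congrArg f (Subtype.ext ?_)
    rw [MulAut.conjNormal_apply]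
    exact mul_inv_eq_iff_eq_mul.mpr (h.comm_t yW).symm
  have hall : ∀ g, θ g ∈ R := by
    intro g
    by_cases hg : g ∈ G1
    · exact hG1R g hg
    · have hgt : g * t ∈ G1 := (Subgroup.mul_mem_iff_of_index_two hi).mpr (iff_of_false hg ht)
      have h1 := hG1R _ hgt
      rw [map_mul] at h1
      exact (R.mul_mem_cancel_right htR).mp h1
  have hG : Nat.card G = 720 := by rw [← G1.card_mul_index, hi, h360]
  have hnt : Subgroup.centralizer ({t} : Set G) ≠ ⊤ := fun e => by
    have := h.card_C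
    rw [e, Subgroup.card_top, hG] at this; omega
  have hθinj : Function.Injective θ := by
    refine (injective_iff_map_eq_one θ).mpr fun g hg => ?_
    refine h.eq_one_of_centralizes hi hnt (fun x hx => ?_) (fun x hx => ?_)
    · have hz : x ∈ Subgroup.center G1 := Subgroup.mem_center_iff.mpr hx
      rcases (inferInstance : (Subgroup.center G1).Normal).eq_bot_or_eq_top with e | e
      · rwa [e, Subgroup.mem_bot] at hz
      · exfalso
        exact CfsgLib.SimpleOrders.ThreeSixty.not_comm h360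
          ⟨⟨fun a b => (Subgroup.mem_center_iff.mp (e ▸ Subgroup.mem_top b : b ∈ Subgroup.center G1) a)⟩⟩
    · have h1 := hθ g ⟨x, hx⟩
      rw [hg, MulAut.one_apply] at h1
      have h2 := congrArg Subtype.val (f.injective h1)
      rw [MulAut.conjNormal_apply] at h2
      exact eq_mul_inv_iff_mul_eq.mp h2
  have hinj : Function.Injective
      (MulAut.conjNormal : Equiv.Perm (Fin 6) →* MulAut (alternatingGroup (Fin 6))) :=
    Cfsg.Agent.S2119.injective_conjNormal (by simp)
  let ψ : G →* Equiv.Perm (Fin 6) :=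
    (MonoidHom.ofInjective hinj).symm.toMonoidHom.comp (θ.codRestrict R hall)
  have hψ : Function.Injective ψ := (MonoidHom.ofInjective hinj).symm.injective.comp
    fun a b e => hθinj (congrArg Subtype.val e)
  exact ⟨MulEquiv.ofBijective ψ ((Nat.bijective_iff_injective_and_card ψ).mpr
    ⟨hψ, by rw [hG, Nat.card_perm, Nat.card_fin]; rfl⟩)⟩

/-- Let G be a finite group of even order such that (1) some involution t lying in the centre of a Sylow 2-subgroup of G has C_G(t) ≅ Z₂ × S₄, and (2) every Sylow 2-subgroup S of G satisfies C_G(S′) = S, where S′ is the derived subgroup of S. Then G = C_G(t) if G is solvable, and G ≅ S₆ otherwise. -/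
theorem result {G : Type*} [Group G] [Finite G] (hev : Even (Nat.card G))
    (t : G) (ht : orderOf t = 2) (T : Sylow 2 G) (htT : t ∈ (T : Subgroup G)) (htc : ∀ s ∈ (T : Subgroup G), s * t = t * s)
    (e : ↥(Subgroup.centralizer ({t} : Set G)) ≃* (Multiplicative (ZMod 2) × Equiv.Perm (Fin 4)))
    (h2 : ∀ S : Sylow 2 G, Subgroup.centralizer ((⁅(S : Subgroup G), (S : Subgroup G)⁆ : Subgroup G) : Set G) = (S : Subgroup G)) :
    (Group.IsSolvable G → Subgroup.centralizer ({t} : Set G) = ⊤) ∧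
      (¬ Group.IsSolvable G → Nonempty (G ≃* Equiv.Perm (Fin 6))) := by
  classical
  haveI : Fact (Nat.Prime 2) := ⟨Nat.prime_two⟩
  obtain ⟨htt, htne⟩ := CfsgLib.StronglyEmbedded.orderOf_two_iff.mp ht
  obtain ⟨ι, hιd⟩ : ∃ ι : W →* G, ι =
      (Subgroup.centralizer ({t} : Set G)).subtype.comp e.symm.toMonoidHom := ⟨_, rfl⟩
  have hιC : ∀ x : W, ι x ∈ Subgroup.centralizer ({t} : Set G) := fun x => hιd ▸ (e.symm x).2
  have hinj : Function.Injective ι := hιd ▸ Subtype.val_injective.comp e.symm.injective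
  have hmem : ∀ g : G, g * t = t * g → ∃ x, ι x = g := fun g hg =>
    ⟨e ⟨g, Subgroup.mem_centralizer_singleton_iff.mpr hg⟩, by simp [hιd]⟩
  have hmap : ι tW = t := by
    obtain ⟨x, hx⟩ := hmem t rfl
    rcases w_central x (fun y => hinj (by
      rw [map_mul, map_mul, hx]
      exact (Subgroup.mem_centralizer_singleton_iff.mp (hιC y)).symm)) with e' | e'
    · exact absurd (by rw [← hx, e', map_one]) htne
    · rw [← hx, e']
  set E := (Subgroup.centralizer ({zW} : Set W)).map ι with hE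
  have hEcard : Nat.card E = 16 := by
    rw [hE, Subgroup.card_map_of_injective hinj, ← w_card_cent.1]
    exact Nat.card_congr (Equiv.subtypeEquivRight fun x => Subgroup.mem_centralizer_singleton_iff)
  obtain ⟨S, hS⟩ := (IsPGroup.of_card (n := 4) (by rw [hEcard]; rfl) : IsPGroup 2 E).exists_le_sylow
  have hTC : (T : Subgroup G) ≤ Subgroup.centralizer ({t} : Set G) := fun s hs =>
    Subgroup.mem_centralizer_singleton_iff.mpr (htc s hs)
  have h48 : Nat.card (Subgroup.centralizer ({t} : Set G)) = 48 := by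
    rw [Nat.card_congr e.toEquiv]
    exact w_card_cent.2.2
  have hTle : Nat.card (T : Subgroup G) ≤ 16 := by
    obtain ⟨k, hk⟩ := IsPGroup.iff_card.mp T.2
    have hdvd := Subgroup.card_dvd_of_le hTC
    rw [h48, hk, show 48 = 3 * 2 ^ 4 by norm_num] at hdvd
    have : 2 ^ k ∣ 2 ^ 4 :=
      (Nat.Coprime.pow_left k (by norm_num : Nat.Coprime 2 3)).dvd_of_dvd_mul_left hdvd
    rw [hk]
    exact Nat.le_of_dvd (by norm_num) this
  have hSE : (S : Subgroup G) = E := by
    refine (Subgroup.eq_of_le_of_card_ge hS ?_).symm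
    rw [hEcard]
    calc Nat.card (S : Subgroup G) = Nat.card (T : Subgroup G) :=
          Sylow.card_eq_multiplicity S |>.trans (Sylow.card_eq_multiplicity T).symm
      _ ≤ 16 := hTle
  obtain ⟨fv, fvs, fy, fy3, fsv, fsr, fcomm, fz1, fy1, ft2, fr2, fz2, ft1⟩ := w_facts
  obtain ⟨mv, ms, mr, mt, mtr, v1, s1, z1, t1⟩ := w_mem
  have hSmem : ∀ g, g ∈ (S : Subgroup G) ↔ ∃ x, x * zW = zW * x ∧ ι x = g := by
    intro g
    rw [hSE, hE, Subgroup.mem_map]
    simp only [Subgroup.mem_centralizer_singleton_iff]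
  have hCS : (S : Subgroup G) = Subgroup.centralizer ({ι zW} : Set G) := by
    conv_lhs => rw [← h2 S]
    refine le_antisymm (Subgroup.centralizer_le ?_) (fun g hg => Subgroup.mem_centralizer_iff.mpr ?_)
    · rw [Set.singleton_subset_iff, SetLike.mem_coe, ← fcomm, map_mul, map_mul, map_mul, map_inv,
        map_inv]
      exact Subgroup.commutator_mem_commutator ((hSmem _).mpr ⟨_, mv, rfl⟩)
        ((hSmem _).mpr ⟨_, ms, rfl⟩)
    · have hle : ⁅(S : Subgroup G), (S : Subgroup G)⁆ ≤ Subgroup.zpowers (ι zW) := by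
        rw [Subgroup.commutator_le]
        intro a ha b hb
        obtain ⟨x, hx, rfl⟩ := (hSmem a).mp ha
        obtain ⟨y, hy, rfl⟩ := (hSmem b).mp hb
        rw [commutatorElement_def, ← map_inv, ← map_inv, ← map_mul, ← map_mul, ← map_mul]
        rcases w_comm x hx y hy with e' | e' <;> rw [e']
        · rw [map_one]; exact Subgroup.one_mem _
        · exact Subgroup.mem_zpowers _
      intro d hd
      obtain ⟨i, rfl⟩ := Subgroup.mem_zpowers_iff.mp (hle hd)
      exact (Commute.zpow_left (Subgroup.mem_centralizer_singleton_iff.mp hg).symm i).eq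
  have hset : Setup t ι := by
    refine ⟨hinj, hmap, hmem, ⟨S, hCS⟩, fun g hg => ?_⟩
    obtain ⟨x, -, rfl⟩ := (hSmem g).mp (hCS ▸ Subgroup.mem_centralizer_singleton_iff.mpr hg)
    exact Subgroup.mem_centralizer_singleton_iff.mp (hιC x)
  obtain ⟨G1, hN, hi, ht1⟩ := hset.exists_index_two
  obtain ⟨hyG, w, hz, ha, hb, hw, hD, hzba⟩ := hset.exists_data hN hi ht1
  by_cases hzb : IsConj (⟨ι zW, hz⟩ : G1) ⟨ι (vW * w), hb⟩
  · have hconj := hD.isConj_of_fused hzb hzba
    have hno := hD.index_ne_two hconj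
    have hsim := hD.isSimpleGroup_of_no_index_two hno
    rcases hD.card_eq_of_no_index_two hno with h168 | h360
    · exact (hset.not_order_168 hN hi ht1 hw hD hzb hsim h168).elim
    · obtain ⟨f⟩ := hset.mulEquiv_perm_six hN hi ht1 hyG hsim h360
      refine ⟨fun hsol => absurd ?_ (Equiv.Perm.not_solvable (Fin 6) (by rw [Cardinal.mk_fin]; exact_mod_cast (by norm_num : 5 ≤ 6))), fun _ => ⟨f⟩⟩
      haveI := hsol
      exact Group.isSolvable_of_surjective (f := f.toMonoidHom) f.surjective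
  · rcases hD.half_fused hzb hzba with ⟨⟨f⟩⟩ | ⟨⟨f⟩⟩
    · have hG : Nat.card G = 48 := by
        rw [← G1.card_mul_index, hi, Nat.card_congr f.toEquiv, Nat.card_perm, Nat.card_fin]; rfl
      have htop : Subgroup.centralizer ({t} : Set G) = ⊤ :=
        Subgroup.eq_top_of_card_eq _ (by rw [h48, hG])
      refine ⟨fun _ => htop, fun hns => absurd ?_ hns⟩
      haveI : Group.IsSolvable (Equiv.Perm (Fin 4)) := Cfsg.Agent.S4376.perm4_isSolvable
      haveI : Group.IsSolvable W := inferInstance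
      exact Group.isSolvable_of_surjective (f := ι) fun g => hmem g
        (Subgroup.mem_centralizer_singleton_iff.mp (htop ▸ Subgroup.mem_top g))
    · exact (hset.not_order_five hN hi ht1 f).elim

end Cfsg.Agent.S3222
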