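import Cfsg.Statements.S3225
import Mathlib.GroupTheory.Transfer
-- import your own Cfsg.Agent.* helpers here

set_option autoImplicit false
open Cfsg

namespace Cfsg.Agent.S3225

open scoped Classical in
/-- The sign homomorphism of a subgroup of index two. -/
noncomputable def signOfIndexTwo {K : Type*} [Group K] (N : Subgroup K) (h : N.index = 2) :
    K →* ℤˣ where
  toFun k := if k ∈ N then 1 else -1
  map_one' := by simp [N.one_mem]
  map_mul' a b := by
    have := Subgroup.mul_mem_iff_of_index_two h (a := a) (b := b)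
    by_cases ha : a ∈ N <;> by_cases hb : b ∈ N <;> simp [ha, hb, this]

theorem signOfIndexTwo_mem {K : Type*} [Group K] (N : Subgroup K) (h : N.index = 2) {k : K}
    (hk : k ∈ N) : signOfIndexTwo N h k = 1 := by
  simp [signOfIndexTwo, hk]

theorem signOfIndexTwo_not_mem {K : Type*} [Group K] (N : Subgroup K) (h : N.index = 2) {k : K}
    (hk : k ∉ N) : signOfIndexTwo N h k = -1 := by
  simp [signOfIndexTwo, hk]

/-- Let G be a finite group of even order with no subgroup of index 2, S a Sylow 2-subgroup of G and M a subgroup of index 2 in S such that, for some n ≥ 1, every element of S outside M has order greater than 2^(n−1). Then every element of S of order 2ⁿ is conjugate in G to an element of M. -/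
theorem result {G : Type*} [Group G] [Finite G] (hev : Even (Nat.card G))
    (hG : ∀ H : Subgroup G, H.index ≠ 2) (S : Sylow 2 G) (M : Subgroup G) (hMS : M ≤ (S : Subgroup G)) (hM : M.relIndex (S : Subgroup G) = 2)
    (n : ℕ) (hn : 1 ≤ n) (hord : ∀ y ∈ (S : Subgroup G), y ∉ M → 2 ^ (n - 1) < orderOf y)
    (x : G) (hx : x ∈ (S : Subgroup G)) (hxn : orderOf x = 2 ^ n) :
    ∃ g : G, g * x * g⁻¹ ∈ M := by
  haveI : Fact (Nat.Prime 2) := ⟨Nat.prime_two⟩
  by_contra hne
  push_neg at hne
  have hidx : (M.subgroupOf (S : Subgroup G)).index = 2 := hM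
  let φ := signOfIndexTwo _ hidx
  let : Fintype (G ⧸ (S : Subgroup G)) := (S : Subgroup G).fintypeQuotientOfFiniteIndex
  classical
  let := Fintype.ofFinite (Quotient (MulAction.orbitRel (Subgroup.zpowers x) (G ⧸ (S : Subgroup G))))
  have key : MonoidHom.transfer φ x = (-1 : ℤˣ) ^ (S : Subgroup G).index := by
    rw [MonoidHom.transfer_eq_prod_quotient_orbitRel_zpowers_quot,
      Subgroup.index_eq_sum_minimalPeriod (S : Subgroup G) x, ← Finset.prod_pow_eq_pow_sum]
    refine Finset.prod_congr rfl fun q _ => ?_
    have hmem := QuotientGroup.out_conj_pow_minimalPeriod_mem (S : Subgroup G) x q.out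
    set m := Function.minimalPeriod (x • ·) q.out with hm
    have hdvd : m ∣ 2 ^ n := by
      rw [← hxn]
      refine Function.IsPeriodicPt.minimalPeriod_dvd ?_
      show (x • ·)^[orderOf x] q.out = q.out
      rw [smul_iterate_apply, pow_orderOf_eq_one, one_smul]
    obtain ⟨k, hk, hmk⟩ := (Nat.dvd_prime_pow Nat.prime_two).1 hdvd
    set g := q.out.out with hg
    change φ ⟨g⁻¹ * x ^ m * g, hmem⟩ = (-1 : ℤˣ) ^ m
    rcases Nat.eq_zero_or_pos k with rfl | hkpos
    · have hm1 : m = 1 := by simpa using hmk
      have hneg : (-1 : ℤˣ) ^ m = -1 := by rw [hm1, pow_one]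
      rw [hneg]
      apply signOfIndexTwo_not_mem
      intro hM'
      have hM'' : g⁻¹ * x ^ m * g ∈ M := hM'
      rw [hm1, pow_one] at hM''
      exact hne g⁻¹ (by simpa using hM'')
    · have heven : Even m := by
        rw [hmk]; exact (Nat.even_pow' hkpos.ne').2 even_two
      rw [heven.neg_one_pow]
      apply signOfIndexTwo_mem
      show g⁻¹ * x ^ m * g ∈ M
      by_contra hnot
      have hlt := hord _ hmem hnot
      have hconj : g⁻¹ * x ^ m * g = MulAut.conj g⁻¹ (x ^ m) := by simp [MulAut.conj_apply]
      rw [hconj, MulEquiv.orderOf_eq, hmk, orderOf_pow_of_dvd (by positivity)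
        (by rw [hxn]; exact pow_dvd_pow 2 hk), hxn, Nat.pow_div hk (by norm_num)] at hlt
      exact absurd hlt (not_lt.2 (Nat.pow_le_pow_right (by norm_num) (by omega)))
  have hodd : Odd (S : Subgroup G).index := by
    rw [Nat.odd_iff]
    have := S.not_dvd_index
    omega
  rw [hodd.neg_one_pow] at key
  apply hG (MonoidHom.transfer φ).ker
  rw [Subgroup.index_ker]
  have htop : (MonoidHom.transfer φ).range = ⊤ := by
    rw [eq_top_iff]
    intro u _
    rcases Int.units_eq_one_or u with rfl | rfl
    · exact one_mem _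
    · exact ⟨x, key⟩
  rw [htop, Subgroup.card_top, Nat.card_eq_fintype_card]
  rfl

end Cfsg.Agent.S3225
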