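import Cfsg.Statements.S3252
import Cfsg.Agent.CycZGroup75.Reduction

set_option autoImplicit false
open Cfsg

namespace Cfsg.Agent.S3252

/-- Let G be a finite non-solvable group that is the product G = AB of a cyclic subgroup A and a subgroup B all of whose Sylow subgroups are cyclic. Then the quotient of G by its largest solvable normal subgroup is isomorphic to PGL₂(p) for some prime p > 3. -/
theorem result {G : Type*} [Group G] [Finite G] (hG : ¬ Group.IsSolvable G)
    (A B : Subgroup G) (hA : IsCyclic ↥A) (hB : ∀ (q : ℕ) [Fact q.Prime] (Q : Sylow q ↥B), IsCyclic ↥(Q : Subgroup ↥B))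
    (hAB : ∀ g : G, ∃ a ∈ A, ∃ b ∈ B, g = a * b)
    (R : Subgroup G) [hR : R.Normal] (hRs : Group.IsSolvable ↥R) (hRmax : ∀ N : Subgroup G, N.Normal → Group.IsSolvable ↥N → N ≤ R) :
    ∃ (F : Type) (_ : Field F) (_ : Fintype F) (p : ℕ), p.Prime ∧ 3 < p ∧ Fintype.card F = p ∧
      Nonempty ((G ⧸ R) ≃* (GL (Fin 2) F ⧸ Subgroup.center (GL (Fin 2) F))) := by
  haveI : IsZGroup ↥B := CfsgLib.CycZ75.isZGroup_iff_sylow.2 hB
  haveI := hRs
  haveI := hA
  set π := QuotientGroup.mk' R with hπ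
  have hfac : CfsgLib.CycZ75.Fac (A.map π) (B.map π) := by
    refine ⟨isCyclic_of_surjective (π.subgroupMap A) (π.subgroupMap_surjective A),
      IsZGroup.of_surjective (π.subgroupMap_surjective B), fun q => ?_, fun hs => hG ?_,
      CfsgLib.CycZ75.radical_quotient hRs hRmax⟩
    · obtain ⟨g, rfl⟩ := QuotientGroup.mk_surjective q
      obtain ⟨a, ha, b, hb, rfl⟩ := hAB g
      exact ⟨π a, Subgroup.mem_map_of_mem π ha, π b, Subgroup.mem_map_of_mem π hb, map_mul π a b⟩
    · exact (Group.isSolvable_iff_subgroup_quotient R).2 ⟨hRs, hs⟩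
  obtain ⟨p, hS⟩ := CfsgLib.CycZ75.main _ _ hfac
  obtain ⟨K, iF, iT, hK, ⟨e⟩⟩ := hS.iso
  exact ⟨K, iF, iT, p, hS.prime, by have := hS.five; omega, hK, ⟨e⟩⟩

end Cfsg.Agent.S3252
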