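import Cfsg.Statements.S3255
import Cfsg.Agent.TripleOrbits15.Final
import Cfsg.Agent.Perm57.Wagner
import Cfsg.Agent.ThreePrime.Main

set_option autoImplicit false
open Cfsg

namespace Cfsg.Agent.S3255

/-- Let G be a finite triply transitive permutation group on a set Ω of more than 3 points whose size is divisible by 3. Then every nontrivial normal subgroup H of G has at most two orbits on the set of ordered triples of distinct points of Ω; and if moreover |Ω| ≢ 2 (mod 4), then H is triply transitive or H contains a normal subgroup isomorphic to PSL₂(q) with q = |Ω| − 1. -/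
theorem result {G : Type*} [Group G] [Finite G]
    {Ω : Type*} [Fintype Ω] [MulAction G Ω] [FaithfulSMul G Ω] (h3 : MulAction.IsMultiplyPretransitive G Ω 3)
    (hΩ : 3 ∣ Fintype.card Ω) (hΩ3 : 3 < Fintype.card Ω) (H : Subgroup G) [hHn : H.Normal] (hH : H ≠ ⊥) :
    Nat.card (MulAction.orbitRel.Quotient ↥H (Fin 3 ↪ Ω)) ≤ 2 ∧
      (Fintype.card Ω % 4 ≠ 2 → MulAction.IsMultiplyPretransitive ↥H Ω 3 ∨
        ∃ (N : Subgroup ↥H) (F : Type) (_ : Field F) (_ : Fintype F), N.Normal ∧ Fintype.card F + 1 = Fintype.card Ω ∧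
          Nonempty (↥N ≃* Matrix.ProjectiveSpecialLinearGroup (Fin 2) F)) := by
  have hSz : CfsgLib.TripleOrbits.ThreePrimeSimple := fun L _ _ hL hna h3L =>
    haveI := hL
    CfsgLib.ThreePrime.isoSuzuki hna h3L
  obtain ⟨a, b, hab⟩ := Fintype.exists_pair_of_one_lt_card (show 1 < Fintype.card Ω by omega)
  have T := CfsgLib.TripleOrbits.exists_triple h3 hΩ hΩ3 H hH
  have hn : Nat.card Ω = Fintype.card Ω := Nat.card_eq_fintype_card
  obtain ⟨c, d, hC⟩ := CfsgLib.TripleOrbits.exists_covers (CfsgLib.TripleOrbits.baseCase hSz) T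
    (hn ▸ hΩ) (hn ▸ hΩ3) hab
  refine ⟨T.card_quot_le hab hC, fun hmod => ?_⟩
  rcases Nat.even_or_odd (Fintype.card Ω) with heven | hodd
  swap
  · exact Or.inl (CfsgLib.Perm57.wagner_odd_degree hodd (by omega) T.pretransitive H hH)
  rcases CfsgLib.TripleOrbits.three_or_psl hSz T (hn ▸ hΩ)
    (by rw [Nat.even_iff] at heven; omega) (hn ▸ hΩ3) hab with h | ⟨F, iF, iT, N, hNH, hNn, hF, ⟨e⟩⟩
  · exact Or.inl h
  · exact Or.inr ⟨N.subgroupOf H, F, iF, iT, inferInstance, hn ▸ hF,
      ⟨(Subgroup.subgroupOfEquivOfLe hNH).trans e⟩⟩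

end Cfsg.Agent.S3255
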