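import Cfsg.Statements.S3280
import Cfsg.Agent.CentFour.Main
import Cfsg.Agent.CentFour.Reduce

set_option autoImplicit false
open Cfsg

namespace Cfsg.Agent.S3280

/-- A non-cyclic finite simple group containing an element whose centralizer has order at most 4 is isomorphic to the alternating group of degree 5, 6 or 7, or to PSL(2, 7). -/
theorem result {G : Type*} [Group G] [Finite G] [IsSimpleGroup G] (hG : ¬ IsCyclic G)
    (w : G) (hw : Nat.card ↥(Subgroup.centralizer ({w} : Set G)) ≤ 4) :
    Nonempty (G ≃* ↥(alternatingGroup (Fin 5))) ∨ Nonempty (G ≃* ↥(alternatingGroup (Fin 6))) ∨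
      Nonempty (G ≃* ↥(alternatingGroup (Fin 7))) ∨
      (∃ (F : Type) (_ : Field F) (_ : Fintype F), Fintype.card F = 7 ∧ Nonempty (G ≃* Matrix.ProjectiveSpecialLinearGroup (Fin 2) F)) := by
  rcases (show Nat.card ↥(Subgroup.centralizer ({w} : Set G)) = 3 ∨
      Nat.card ↥(Subgroup.centralizer ({w} : Set G)) = 4 by
    have := CfsgLib.CentFour.three_le_cent hG w
    omega) with hc | hc
  · rcases CfsgLib.CentFour.of_card_three hG hc with e | e
    · exact Or.inl e
    · haveI : Fact (Nat.Prime 7) := ⟨by norm_num⟩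
      exact Or.inr (Or.inr (Or.inr ⟨ZMod 7, inferInstance, inferInstance, ZMod.card 7, e⟩))
  have hdvd := CfsgLib.CentFour.orderOf_dvd_cent w
  rw [hc] at hdvd
  obtain ⟨k, hk, hko⟩ := (Nat.dvd_prime_pow Nat.prime_two).1 (hdvd.trans (dvd_of_eq (by norm_num : (4 : ℕ) = 2 ^ 2)))
  interval_cases k
  · exfalso
    rw [orderOf_eq_one_iff.1 (show orderOf w = 1 by simpa using hko)] at hc
    have htop : Subgroup.centralizer ({1} : Set G) = ⊤ := by
      ext g; simp [Subgroup.mem_centralizer_singleton_iff]
    rw [htop, Subgroup.card_top] at hc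
    haveI : Fact (Nat.Prime 2) := ⟨Nat.prime_two⟩
    exact CfsgLib.CentFour.commutative_false hG fun a b =>
      (IsPGroup.commutative_of_card_eq_prime_sq (p := 2) (G := G) (by rw [hc]; norm_num) a b)
  · exact Or.inl (CfsgLib.CentFour.of_involution hG (by simpa using hko) hc)
  · obtain ⟨τ, h⟩ := CfsgLib.CentFour.of_order_four hG (by simpa using hko) hc
    rcases CfsgLib.CentFour.of_hyp hG h with e | e | e
    · exact Or.inr (Or.inr (Or.inl (Cfsg.Agent.S0984.result e)))
    · haveI : Fact (Nat.Prime 7) := ⟨by norm_num⟩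
      exact Or.inr (Or.inr (Or.inr ⟨ZMod 7, inferInstance, inferInstance, ZMod.card 7,
        Cfsg.Agent.S0495.result e (ZMod.card 7)⟩))
    · exact Or.inr (Or.inl (Cfsg.Agent.S0497.result e))

end Cfsg.Agent.S3280
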