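import Cfsg.Statements.S3289
import Cfsg.Agent.Eq.Def_TwoFusion
import Cfsg.Agent.StrongClosure34.RankOne
import Cfsg.Agent.StrongClosure34.Big

set_option autoImplicit false
open Cfsg

namespace Cfsg.Agent.S3289

/-- Let T be a Sylow 2-subgroup of a finite group G and S a nontrivial subgroup of T strongly closed in T with respect to G. Suppose a proper subgroup H of G contains the centralizer of every non-identity element of S and the normalizer of the subgroup generated by the involutions of S. Then, writing X for the normal closure of S, the subgroup H ∩ X is strongly embedded in X, and S equals T ∩ X or the subgroup generated by the involutions of T ∩ X; if moreover S has 2-rank 1, then S = T ∩ X. -/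
theorem result {G : Type*} [Group G] [Finite G] (T : Sylow 2 G) (S : Subgroup G) (hS : S ≠ ⊥)
    (hsc : Cfsg.IsStronglyClosed S (T : Subgroup G)) (H : Subgroup G) (hH : H ≠ ⊤)
    (hC : ∀ s ∈ S, s ≠ 1 → Subgroup.centralizer ({s} : Set G) ≤ H)
    (hN : Subgroup.normalizer ((Cfsg.omegaOne 2 S : Subgroup G) : Set G) ≤ H) :
    Cfsg.IsStronglyEmbedded ((H ⊓ Subgroup.normalClosure (S : Set G)).subgroupOf (Subgroup.normalClosure (S : Set G))) ∧
      (S = (T : Subgroup G) ⊓ Subgroup.normalClosure (S : Set G) ∨ S = Cfsg.omegaOne 2 ((T : Subgroup G) ⊓ Subgroup.normalClosure (S : Set G))) ∧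
      (Cfsg.PRankLE 2 1 ↥S → S = (T : Subgroup G) ⊓ Subgroup.normalClosure (S : Set G)) := by
  set X := Subgroup.normalClosure (S : Set G) with hX
  have hSX : S ≤ X := Subgroup.le_normalClosure
  have hnormΩ : ∀ x : G, (∀ s ∈ S, x * s * x⁻¹ ∈ S) → x ∈ H := by
    intro x hx
    refine hN (CfsgLib.StrongClosure34.mem_normalizer_of_conj_mem ?_)
    have hle : (Cfsg.omegaOne 2 S : Subgroup G).map (MulAut.conj x).toMonoidHom ≤
        Cfsg.omegaOne 2 S := by
      rw [Cfsg.omegaOne, MonoidHom.map_closure, Subgroup.closure_le]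
      rintro _ ⟨y, ⟨hy, hy2⟩, rfl⟩
      refine Subgroup.subset_closure ⟨hx y hy, ?_⟩
      show (x * y * x⁻¹) ^ 2 = 1
      rw [conj_pow, hy2]
      group
    exact fun y hy => hle ⟨y, hy, rfl⟩
  have hyp : CfsgLib.StrongClosure34.Hyp T S H :=
    CfsgLib.StrongClosure34.Hyp.of_local hsc hS hH
      (fun s hs hs1 x hx => hC s hs hs1 (Subgroup.mem_centralizer_singleton_iff.2 hx)) hnormΩ
  have hrank : ¬ CfsgLib.StrongClosure34.RankTwoIn S →
      S = (T : Subgroup G) ⊓ X := fun h2 =>
    CfsgLib.StrongClosure34.eq_inf_of_oneInv hsc fun x hx y hy hxo hyo => by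
      -- two distinct involutions give two commuting ones
      by_contra hne
      obtain ⟨z, hz, hzo, hzT⟩ := CfsgLib.StrongClosure34.exists_central_involution hsc hS
      by_cases hxz : x = z
      · subst hxz
        exact h2 ⟨x, hx, y, hy, hxo, hyo, hne, (hzT y (hsc.1 hy)).symm⟩
      · exact h2 ⟨x, hx, z, hz, hxo, hzo, hxz, hzT x (hsc.1 hx)⟩
  have hconc : CfsgLib.StrongClosure34.Conc T S := by
    by_cases h2 : CfsgLib.StrongClosure34.RankTwoIn S
    · exact CfsgLib.StrongClosure34.conc_of_rankTwo hyp h2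
    · exact Or.inl (hrank h2)
  have hinv : ∀ x ∈ (T : Subgroup G) ⊓ X, x * x = 1 → x ∈ S := by
    rcases hconc with e | ⟨-, e⟩
    · intro x hx _
      rw [e]
      exact hx
    · exact e
  refine ⟨?_, ?_, ?_⟩
  · obtain ⟨z, hz, hzo⟩ := hyp.exists_involution
    haveI : X.Normal := Subgroup.normalClosure_normal
    have hse := CfsgLib.StrongClosure34.stronglyEmbedded_of_invol hyp hzo (L := X) (hSX hz)
      (hsc.1 hz) (hyp.not_normal_le hz (CfsgLib.StronglyEmbedded.ne_one_of_orderOf_two hzo)
        (hSX hz))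
      fun t htX htH ht => by
        obtain ⟨k, hk, hc⟩ := CfsgLib.StrongClosure34.exists_conj_mem hyp.le_H
          (CfsgLib.StronglyEmbedded.mul_self_eq_one ht) htH
        exact ⟨k, hk, hinv _ ⟨hc, Subgroup.normalClosure_normal.conj_mem t htX k⟩
          (CfsgLib.StronglyEmbedded.mul_self_eq_one
            (by rw [CfsgLib.StronglyEmbedded.orderOf_conj, ht]))⟩
    rwa [Subgroup.inf_subgroupOf_right]
  · rcases hconc with e | ⟨e1, e2⟩
    · exact Or.inl e
    · refine Or.inr (le_antisymm (fun s hs => ?_) ?_)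
      · exact Subgroup.subset_closure ⟨⟨hsc.1 hs, hSX hs⟩, by rw [pow_two]; exact e1 s hs⟩
      · rw [Cfsg.omegaOne, Subgroup.closure_le]
        rintro x ⟨hx, hx2⟩
        exact e2 x hx (by rw [← pow_two]; exact hx2)
  · intro hle
    refine hrank fun ⟨a, ha, b, hb, hao, hbo, hab, hc⟩ => ?_
    let A : Subgroup S := Subgroup.closure {⟨a, ha⟩, ⟨b, hb⟩}
    have hcomm : IsMulCommutative A := Subgroup.isMulCommutative_closure (by
      rintro x (rfl | rfl) y (rfl | rfl)
      · rfl
      · exact Subtype.ext hc.eq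
      · exact Subtype.ext hc.eq.symm
      · rfl)
    have hsq : ∀ x ∈ A, x ^ 2 = 1 := by
      intro x hx
      induction hx using Subgroup.closure_induction with
      | mem y hy =>
        rcases hy with rfl | rfl
        · exact Subtype.ext (by
            rw [Subgroup.coe_pow, pow_two]; exact CfsgLib.StronglyEmbedded.mul_self_eq_one hao)
        · exact Subtype.ext (by
            rw [Subgroup.coe_pow, pow_two]; exact CfsgLib.StronglyEmbedded.mul_self_eq_one hbo)
      | one => exact one_pow 2
      | mul y w hy hw hy2 hw2 =>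
        have hyw : Commute y w := congrArg Subtype.val (hcomm.is_comm.comm ⟨y, hy⟩ ⟨w, hw⟩)
        rw [hyw.mul_pow, hy2, hw2, one_mul]
      | inv y _ hy2 => rw [inv_pow, hy2, inv_one]
    have h4 := hle A hcomm hsq
    have h3 : 3 ≤ Nat.card A := by
      let v : Fin 3 → A := ![1, ⟨⟨a, ha⟩, Subgroup.subset_closure (Or.inl rfl)⟩,
        ⟨⟨b, hb⟩, Subgroup.subset_closure (Or.inr rfl)⟩]
      have hv : Function.Injective v := by
        intro i j hij
        have h' : ((v i : S) : G) = ((v j : S) : G) := congrArg (fun w : A => ((w : S) : G)) hij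
        have ha1 := CfsgLib.StronglyEmbedded.ne_one_of_orderOf_two hao
        have hb1 := CfsgLib.StronglyEmbedded.ne_one_of_orderOf_two hbo
        fin_cases i <;> fin_cases j <;>
          simp [v, hab, Ne.symm hab, ha1, Ne.symm ha1, hb1, Ne.symm hb1] at h' ⊢
      simpa using Nat.card_le_card_of_injective v hv
    omega

end Cfsg.Agent.S3289
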