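import Cfsg.Statements.S3304
import Cfsg.Agent.QuatCore.GLThree
import Cfsg.Agent.Constrained.Basic
import Cfsg.Agent.Fus.GroupNormal

set_option autoImplicit false
open Cfsg

namespace Cfsg.Agent.S3304

/-- Let G be a finite solvable group in which the intersection of any two distinct Sylow 2-subgroups has 2-rank at most 1 (contains no Klein four-group). Write Q = G/O(G), O(G) the largest normal subgroup of odd order. Then Q has a normal Sylow 2-subgroup; or Q is isomorphic to GL(2,3); or Q has order 48, centre of order 2 with central quotient isomorphic to the symmetric group of degree 4, and generalized quaternion Sylow 2-subgroups of order 16 (the binary octahedral group). The last two are the two representation groups of the symmetric group of degree 4. -/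
theorem result {G : Type*} [Group G] [Finite G] (hs : Group.IsSolvable G)
    (hI : ∀ S T : Sylow 2 G, S ≠ T → Cfsg.PRankLE 2 1 ↥((S : Subgroup G) ⊓ (T : Subgroup G))) :
    (∃ P : Sylow 2 (G ⧸ Cfsg.oddCore G), (P : Subgroup (G ⧸ Cfsg.oddCore G)).Normal) ∨
    Nonempty ((G ⧸ Cfsg.oddCore G) ≃* GL (Fin 2) (ZMod 3)) ∨
    (Nat.card (G ⧸ Cfsg.oddCore G) = 48 ∧ Nat.card ↥(Subgroup.center (G ⧸ Cfsg.oddCore G)) = 2 ∧
      Nonempty ((G ⧸ Cfsg.oddCore G) ⧸ Subgroup.center (G ⧸ Cfsg.oddCore G) ≃* Equiv.Perm (Fin 4)) ∧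
      ∀ P : Sylow 2 (G ⧸ Cfsg.oddCore G), Nonempty (↥(P : Subgroup (G ⧸ Cfsg.oddCore G)) ≃* QuaternionGroup 4)) := by
  haveI : Fact (Nat.Prime 2) := ⟨Nat.prime_two⟩
  haveI := hs
  set K := Cfsg.oddCore G with hK
  set π := QuotientGroup.mk' K with hπ
  haveI : Group.IsSolvable (G ⧸ K) := Group.isSolvable_of_surjective (QuotientGroup.mk'_surjective K)
  have hO : Cfsg.pPrimeCore 2 (G ⧸ K) = ⊥ := CfsgLib.Constrained.pPrimeCore_quotient_pPrimeCore
  haveI : (Cfsg.pCore 2 (G ⧸ K)).Normal := CfsgLib.SolvableCore.pCore_normal' 2 _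
  set R := Cfsg.pCore 2 (G ⧸ K) with hR
  have hRp : IsPGroup 2 R := CfsgLib.Constrained.isPGroup_pCore
  by_cases hnorm : ∃ P : Sylow 2 (G ⧸ K), (P : Subgroup (G ⧸ K)).Normal
  · exact Or.inl hnorm
  refine Or.inr ?_
  push Not at hnorm
  have hKodd : ¬ 2 ∣ Nat.card K := CfsgLib.Constrained.pPrimeCore_not_dvd
  -- `R` lies in every Sylow 2-subgroup
  have hRle : ∀ P : Sylow 2 (G ⧸ K), R ≤ (P : Subgroup (G ⧸ K)) := by
    intro P
    obtain ⟨U, hU⟩ := hRp.exists_le_sylow
    obtain ⟨g, hg⟩ := MulAction.exists_smul_eq (G ⧸ K) U P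
    intro x hx
    rw [← hg, Sylow.coe_subgroup_smul]
    exact ⟨g⁻¹ * x * g⁻¹⁻¹, hU ((inferInstance : R.Normal).conj_mem x hx g⁻¹),
      show g * (g⁻¹ * x * g⁻¹⁻¹) * g⁻¹ = x by group⟩
  obtain ⟨S₀, hS₀⟩ : ∃ P : Sylow 2 G, True := ⟨default, trivial⟩
  -- two Sylow subgroups with different images
  obtain ⟨S, T, hST⟩ : ∃ S T : Sylow 2 G, (S : Subgroup G).map π ≠ (T : Subgroup G).map π := by
    by_contra hc
    push Not at hc
    refine hnorm (S₀.mapSurjective (QuotientGroup.mk'_surjective K)) ⟨fun x hx q => ?_⟩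
    obtain ⟨g, rfl⟩ := QuotientGroup.mk'_surjective K q
    obtain ⟨s, hs', rfl⟩ := hx
    have h2 := hc (g • S₀) S₀
    show π g * π s * (π g)⁻¹ ∈ (S₀ : Subgroup G).map π
    rw [← h2, ← map_inv, ← map_mul, ← map_mul]
    exact ⟨_, by rw [Sylow.coe_subgroup_smul]; exact ⟨s, hs', rfl⟩, rfl⟩
  -- lift `R` into both
  set M := R.comap π
  haveI : M.Normal := (inferInstance : R.Normal).comap π
  have hUS : ∀ P : Sylow 2 G, ((P : Subgroup G) ⊓ M).map π = R := by
    intro P
    refine le_antisymm ((Subgroup.map_mono inf_le_right).trans (Subgroup.map_comap_le _ _)) ?_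
    intro x hx
    obtain ⟨p, hp, hpx⟩ := hRle (P.mapSurjective (QuotientGroup.mk'_surjective K)) hx
    exact ⟨p, ⟨hp, show π p ∈ R by rw [show π p = x from hpx]; exact hx⟩, hpx⟩
  -- `S ∩ M` and `T ∩ M` are conjugate in `M` by an element of `K`
  obtain ⟨k, hk, hkeq⟩ : ∃ k ∈ K, ∀ s ∈ (S : Subgroup G) ⊓ M, k * s * k⁻¹ ∈ (T : Subgroup G) := by
    have hSy : ∀ P : Sylow 2 G, ∃ Q : Sylow 2 M, (Q : Subgroup M) = ((P : Subgroup G) ⊓ M).subgroupOf M :=
      fun P => CfsgLib.Fus.exists_sylow_inter_normal P M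
    obtain ⟨QS, hQS⟩ := hSy S
    obtain ⟨QT, hQT⟩ := hSy T
    obtain ⟨m, hm⟩ := MulAction.exists_smul_eq M QS QT
    -- `m = k p` with `k ∈ K` and `p ∈ S ∩ M`
    have hmM : π (m : G) ∈ R := m.2
    rw [← hUS S] at hmM
    obtain ⟨p, hp, hpm⟩ := hmM
    refine ⟨(m : G) * p⁻¹, ?_, fun s hs' => ?_⟩
    · rw [← QuotientGroup.eq_one_iff]
      show π ((m : G) * p⁻¹) = 1
      rw [map_mul, map_inv, hpm, mul_inv_cancel]
    · have h1 : p⁻¹ * s * p ∈ (S : Subgroup G) ⊓ M := mul_mem (mul_mem (inv_mem hp) hs') hp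
      have h2 : m * (⟨p⁻¹ * s * p, h1.2⟩ : M) * m⁻¹ ∈ (QT : Subgroup M) := by
        rw [← hm, Sylow.coe_subgroup_smul]
        exact ⟨_, by rw [hQS]; exact h1, rfl⟩
      rw [hQT] at h2
      have h3 := h2.1
      rwa [show (m : G) * p⁻¹ * s * ((m : G) * p⁻¹)⁻¹ = (m : G) * (p⁻¹ * s * p) * (m : G)⁻¹ by group]
  set T' := k⁻¹ • T
  have hT' : (S : Subgroup G) ⊓ M ≤ (S : Subgroup G) ⊓ (T' : Subgroup G) := by
    refine le_inf inf_le_left fun s hs' => ?_
    rw [Sylow.coe_subgroup_smul]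
    exact ⟨k * s * k⁻¹, hkeq s hs', show k⁻¹ * (k * s * k⁻¹) * k⁻¹⁻¹ = s by group⟩
  have hne : S ≠ T' := by
    intro h
    apply hST
    rw [h, Sylow.coe_subgroup_smul]
    have hk1 : π k = 1 := (QuotientGroup.eq_one_iff k).2 hk
    ext x
    constructor
    · rintro ⟨y, ⟨t, ht, rfl⟩, rfl⟩
      exact ⟨t, ht, show π t = π (k⁻¹ * t * k⁻¹⁻¹) by
        rw [map_mul, map_mul, map_inv, map_inv, map_inv, hk1, inv_one, inv_one, one_mul, mul_one]⟩
    · rintro ⟨t, ht, rfl⟩
      exact ⟨k⁻¹ * t * k⁻¹⁻¹, ⟨t, ht, rfl⟩, show π (k⁻¹ * t * k⁻¹⁻¹) = π t by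
        rw [map_mul, map_mul, map_inv, map_inv, map_inv, hk1, inv_one, inv_one, one_mul, mul_one]⟩
  have hrk := hI S T' hne
  -- `R` has at most one involution
  have hone : CfsgLib.TwoGroup.AtMostOneInvolution ↥R := by
    intro x y hx hy
    by_contra hxy
    obtain ⟨z, hz, hzc⟩ : ∃ z : R, orderOf z = 2 ∧ ∀ w, Commute z w := by
      haveI : Nontrivial R := ⟨⟨x, y, hxy⟩⟩
      obtain ⟨m, hm, hcard⟩ := ((hRp.to_subgroup (Subgroup.center R)).nontrivial_iff_card).1
        hRp.center_nontrivial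
      obtain ⟨⟨z, hzc⟩, hz⟩ := exists_prime_orderOf_dvd_card' 2
        (hcard ▸ dvd_pow_self 2 (by omega) : 2 ∣ Nat.card (Subgroup.center R))
      rw [← Subgroup.orderOf_coe] at hz
      exact ⟨z, hz, fun w => (Subgroup.mem_center_iff.1 hzc w).symm⟩
    obtain ⟨w, hw, hwz⟩ : ∃ w : R, orderOf w = 2 ∧ w ≠ z := by
      by_cases h : x = z
      · exact ⟨y, hy, fun h' => hxy (h.trans h'.symm)⟩
      · exact ⟨x, hx, h⟩
    -- lift to the intersection
    set D := (S : Subgroup G) ⊓ M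
    have hinjD : ∀ a ∈ D, π a = 1 → a = 1 := by
      intro a ha h
      have h1 : a ∈ (S : Subgroup G) ⊓ K := ⟨ha.1, (QuotientGroup.eq_one_iff a).1 h⟩
      rw [CfsgLib.Constrained.disjoint_of_isPGroup_of_not_dvd S.isPGroup' hKodd] at h1
      exact Subgroup.mem_bot.1 h1
    obtain ⟨a, ha, haz⟩ : (z : G ⧸ K) ∈ D.map π := by rw [hUS S]; exact z.2
    obtain ⟨b, hb, hbw⟩ : (w : G ⧸ K) ∈ D.map π := by rw [hUS S]; exact w.2
    have hord : ∀ (c : G) (v : R), c ∈ D → π c = (v : G ⧸ K) → orderOf v = 2 → c * c = 1 := by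
      intro c v hc hv hv2
      refine hinjD _ (mul_mem hc hc) ?_
      have hvv : v * v = 1 := by
        have := pow_orderOf_eq_one v
        rwa [hv2, pow_two] at this
      rw [map_mul, hv, ← Subgroup.coe_mul, hvv]
      rfl
    have hab : Commute a b := by
      refine mul_inv_eq_one.1 (hinjD _ (mul_mem (mul_mem ha hb) (inv_mem (mul_mem hb ha))) ?_)
      rw [map_mul, map_inv, map_mul, map_mul, haz, hbw, ← Subgroup.coe_mul, ← Subgroup.coe_mul, hzc w,
        mul_inv_cancel]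
    set a' : ↥((S : Subgroup G) ⊓ (T' : Subgroup G)) := ⟨a, hT' ha⟩
    set b' : ↥((S : Subgroup G) ⊓ (T' : Subgroup G)) := ⟨b, hT' hb⟩
    have ha2 : a' * a' = 1 := Subtype.ext (hord a z ha haz hz)
    have hb2 : b' * b' = 1 := Subtype.ext (hord b w hb hbw hw)
    have hab' : Commute a' b' := Subtype.ext hab
    let E : Subgroup ↥((S : Subgroup G) ⊓ (T' : Subgroup G)) :=
      { carrier := {1, a', b', a' * b'}
        one_mem' := Or.inl rfl
        mul_mem' := by
          have e1 : b' * a' = a' * b' := hab'.eq.symm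
          have e2 : a' * (a' * b') = b' := by rw [← mul_assoc, ha2, one_mul]
          have e3 : a' * b' * b' = a' := by rw [mul_assoc, hb2, mul_one]
          have e4 : b' * (a' * b') = a' := by rw [← mul_assoc, e1, e3]
          have e5 : a' * b' * a' = b' := by rw [mul_assoc, e1, e2]
          have e6 : a' * b' * (a' * b') = 1 := by rw [← mul_assoc, e5, hb2]
          intro p q hp hq
          simp only [Set.mem_insert_iff, Set.mem_singleton_iff] at hp hq ⊢
          rcases hp with rfl | rfl | rfl | rfl <;> rcases hq with rfl | rfl | rfl | rfl <;>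
            simp only [one_mul, mul_one, ha2, hb2, e1, e2, e3, e4, e5, e6, true_or, or_true]
        inv_mem' := by
          intro p hp
          have e6 : a' * b' * (a' * b') = 1 := by
            rw [mul_assoc, ← mul_assoc b', ← hab'.eq, mul_assoc, hb2, mul_one, ha2]
          have : p⁻¹ = p := by
            rcases hp with rfl | rfl | rfl | rfl
            exacts [inv_one, inv_eq_of_mul_eq_one_right ha2, inv_eq_of_mul_eq_one_right hb2,
              inv_eq_of_mul_eq_one_right e6]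
          rwa [this] }
    have hE : IsMulCommutative E := by
      refine ⟨⟨fun p q => Subtype.ext ?_⟩⟩
      have hsq : ∀ r : E, (r : ↥((S : Subgroup G) ⊓ (T' : Subgroup G))) * r = 1 := by
        rintro ⟨r, rfl | rfl | rfl | rfl⟩
        · exact one_mul 1
        · exact ha2
        · exact hb2
        · show a' * b' * (a' * b') = 1
          rw [mul_assoc, ← mul_assoc b', ← hab'.eq, mul_assoc, hb2, mul_one, ha2]
      have i1 := inv_eq_of_mul_eq_one_right (hsq p)
      have i2 := inv_eq_of_mul_eq_one_right (hsq q)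
      have i3 := inv_eq_of_mul_eq_one_right (hsq (p * q))
      show (p : ↥((S : Subgroup G) ⊓ (T' : Subgroup G))) * q = q * p
      rw [Subgroup.coe_mul, mul_inv_rev, i1, i2] at i3
      exact i3.symm
    have hEexp : ∀ r ∈ E, r ^ 2 = 1 := by
      rintro r (rfl | rfl | rfl | rfl) <;> rw [pow_two]
      · exact one_mul 1
      · exact ha2
      · exact hb2
      · rw [mul_assoc, ← mul_assoc b', ← hab'.eq, mul_assoc, hb2, mul_one, ha2]
    have hle := hrk E hE hEexp
    have ha1 : a' ≠ 1 := fun h => by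
      have h1 : a = 1 := congrArg Subtype.val h
      rw [h1, map_one] at haz
      rw [show z = 1 from Subtype.ext haz.symm, orderOf_one] at hz; omega
    have hb1 : b' ≠ 1 := fun h => by
      have h1 : b = 1 := congrArg Subtype.val h
      rw [h1, map_one] at hbw
      rw [show w = 1 from Subtype.ext hbw.symm, orderOf_one] at hw; omega
    have hne' : a' ≠ b' := fun h => by
      have h1 : a = b := congrArg Subtype.val h
      rw [h1, hbw] at haz
      exact hwz (Subtype.ext haz)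
    have hsub : ({1, a', b'} : Set ↥((S : Subgroup G) ⊓ (T' : Subgroup G))) ⊆ E := by
      rintro _ (rfl | rfl | rfl)
      exacts [Or.inl rfl, Or.inr (Or.inl rfl), Or.inr (Or.inr (Or.inl rfl))]
    have := Set.ncard_le_ncard hsub (Set.toFinite _)
    rw [Set.ncard_eq_three.2 ⟨1, a', b', Ne.symm ha1, Ne.symm hb1, hne', rfl⟩, ← Nat.card_coe_set_eq] at this
    exact absurd (this.trans hle) (by norm_num)
  rcases CfsgLib.QuatCore.isPGroup_or_card_dvd hO hone with h2 | ⟨⟨e⟩, h48⟩
  · exfalso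
    refine hnorm default ?_
    have : ((default : Sylow 2 (G ⧸ K)) : Subgroup (G ⧸ K)) = ⊤ :=
      ((default : Sylow 2 (G ⧸ K)).is_maximal' (h2.to_subgroup ⊤) le_top).symm
    rw [this]; infer_instance
  obtain ⟨P⟩ : Nonempty (Sylow 2 (G ⧸ K)) := inferInstance
  have hR8 : Nat.card R = 8 := by
    rw [Nat.card_congr e.toEquiv, Nat.card_eq_fintype_card, QuaternionGroup.card]
  have hc48 : Nat.card (G ⧸ K) = 48 := by
    obtain ⟨n, hn⟩ := IsPGroup.iff_card.1 P.isPGroup'
    have hRP := Subgroup.card_dvd_of_le (hRle P)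
    rw [hR8, hn] at hRP
    have h3n : 3 ≤ n := (Nat.pow_dvd_pow_iff_le_right one_lt_two).1 (show 2 ^ 3 ∣ 2 ^ n from hRP)
    have h4n : n ≠ 3 := by
      rintro rfl
      refine hnorm P ?_
      rw [show (P : Subgroup (G ⧸ K)) = R from (Subgroup.eq_of_le_of_card_ge (hRle P) (by rw [hn, hR8]; rfl)).symm]
      infer_instance
    have h16 : 16 ∣ Nat.card (G ⧸ K) :=
      (pow_dvd_pow 2 (show 4 ≤ n by omega)).trans (hn ▸ Subgroup.card_subgroup_dvd_card _)
    obtain ⟨c, hc⟩ := h16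
    rw [hc] at h48 ⊢
    have hc3 : c ∣ 3 := Nat.dvd_of_mul_dvd_mul_left (by norm_num : 0 < 16) (show 16 * c ∣ 16 * 3 from h48)
    rcases (Nat.dvd_prime Nat.prime_three).1 hc3 with rfl | rfl
    · exfalso
      have htop : (P : Subgroup (G ⧸ K)) = ⊤ := by
        refine Subgroup.eq_top_of_le_card _ ?_
        rw [hn, hc]
        exact (Nat.pow_le_pow_right two_pos (show 4 ≤ n by omega))
      refine hnorm P ?_
      rw [htop]; infer_instance
    · rfl
  rcases CfsgLib.QuatCore.gl_or_binary e (CfsgLib.SolvableCore.centralizer_pCore_le hO) hc48 with h | ⟨h1, h2, h3⟩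
  · exact Or.inl h
  · exact Or.inr ⟨hc48, h1, h2, h3⟩

end Cfsg.Agent.S3304
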