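import Cfsg.Statements.S3333
import Cfsg.Agent.TIThree.Dihedral.Embed
import Cfsg.Agent.S3222
import Cfsg.Agent.S0497

set_option autoImplicit false
open Cfsg

namespace Cfsg.Agent.S3333

/-- Let G be a finite group with a Sylow 3-subgroup S of order 9 that is its own centralizer, with N_G(S)/S dihedral of order 8, and such that C_G(x) ≤ N_G(S) for every non-identity x in S. Then S is normal in G or G is isomorphic to the symmetric group of degree 6. -/
theorem result {G : Type*} [Group G] [Finite G]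
    (P : Sylow 3 G) (S : Subgroup G) (hSP : S = P) (hcard : Nat.card S = 9)
    (hC : Subgroup.centralizer (S : Set G) = S)
    (eN : Subgroup.normalizer (S : Set G) ⧸ S.subgroupOf (Subgroup.normalizer (S : Set G)) ≃* DihedralGroup 4)
    (hcent : ∀ x ∈ S, x ≠ 1 → Subgroup.centralizer ({x} : Set G) ≤ Subgroup.normalizer (S : Set G)) :
    S.Normal ∨ Nonempty (G ≃* Equiv.Perm (Fin 6)) := by
  classical
  subst hSP
  rcases CfsgLib.TIThree.Dihedral.normalizer_eq_top_or P hcard hC eN hcent with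
    htop | ⟨S, M, hM, h360, hsimple, h2, hmem⟩
  · exact Or.inl (Subgroup.normalizer_eq_top_iff.mp htop)
  right
  haveI := hM
  haveI := hsimple
  obtain ⟨f⟩ := Cfsg.Agent.S0497.result (G := M) h360
  have fra : (CfsgLib.TIThree.Dihedral.ra : CfsgLib.TIThree.El) ∈ CfsgLib.TIThree.El.cyc := by
    decide +kernel
  have frd : (CfsgLib.TIThree.Dihedral.rd : CfsgLib.TIThree.El) ∈ CfsgLib.TIThree.El.cyc := by
    decide +kernel
  have fiS : (CfsgLib.TIThree.Dihedral.iS : CfsgLib.TIThree.El) ∉ CfsgLib.TIThree.El.cyc := by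
    decide +kernel
  set t := S.φ CfsgLib.TIThree.Dihedral.iS with ht_def
  have ht : t ∉ M := fun h => fiS ((hmem _).mp h)
  have hyG : S.φ CfsgLib.TIThree.Dihedral.ra ∈ M := (hmem _).mpr fra
  have hrdG : S.φ CfsgLib.TIThree.Dihedral.rd ∈ M := (hmem _).mpr frd
  have hord : orderOf (f ⟨_, hyG⟩) = 3 := by
    haveI : Fact (Nat.Prime 3) := ⟨Nat.prime_three⟩
    rw [MulEquiv.orderOf_eq, ← Subgroup.orderOf_coe]
    refine orderOf_eq_prime (by rw [← map_pow, CfsgLib.TIThree.Dihedral.ra_cube, map_one]) ?_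
    exact fun e => CfsgLib.TIThree.Dihedral.ra_ne (S.inj (e.trans (map_one _).symm))
  let θ : G →* MulAut (alternatingGroup (Fin 6)) :=
    (MulAut.congr f).toMonoidHom.comp MulAut.conjNormal
  have hθ : ∀ (g : G) (x : M), θ g (f x) = f (MulAut.conjNormal g x) := fun g x => by
    simp [θ, MulAut.congr]
  set R := (MulAut.conjNormal : Equiv.Perm (Fin 6) →* MulAut (alternatingGroup (Fin 6))).range
    with hR
  have hMR : ∀ g ∈ M, θ g ∈ R := fun g hg => by
    refine ⟨(f ⟨g, hg⟩ : Equiv.Perm (Fin 6)), MulEquiv.ext fun a => ?_⟩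
    obtain ⟨x, rfl⟩ := f.surjective a
    rw [hθ]
    refine Subtype.ext ?_
    have hx : MulAut.conjNormal g x = ⟨g, hg⟩ * x * (⟨g, hg⟩ : M)⁻¹ :=
      Subtype.ext (by rw [MulAut.conjNormal_apply]; rfl)
    rw [MulAut.conjNormal_apply, hx, map_mul, map_mul, map_inv]
    rfl
  have htR : θ t ∈ R := by
    refine CfsgLib.AltAut.exists_conjNormal_of_preserve (by simp) (θ t)
      (Cfsg.Agent.S3222.alt_six_preserve (θ t) _ hord ?_)
    rw [hθ]
    refine congrArg f (Subtype.ext ?_)
    rw [MulAut.conjNormal_apply]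
    refine mul_inv_eq_iff_eq_mul.mpr ?_
    rw [ht_def, ← map_mul, ← map_mul, CfsgLib.TIThree.Dihedral.iS_comm]
  have hall : ∀ g, θ g ∈ R := by
    intro g
    by_cases hg : g ∈ M
    · exact hMR g hg
    · have hgt : g * t ∈ M := (Subgroup.mul_mem_iff_of_index_two h2).mpr (iff_of_false hg ht)
      have h1 := hMR _ hgt
      rw [map_mul] at h1
      exact (R.mul_mem_cancel_right htR).mp h1
  have hθinj : Function.Injective θ := by
    refine (injective_iff_map_eq_one θ).mpr fun g hg => ?_
    have hcM : ∀ x ∈ M, g * x = x * g := fun x hx => by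
      have h1 := hθ g ⟨x, hx⟩
      rw [hg, MulAut.one_apply] at h1
      have h3 := congrArg Subtype.val (f.injective h1)
      rw [MulAut.conjNormal_apply] at h3
      exact eq_mul_inv_iff_mul_eq.mp h3 |>.symm
    obtain ⟨k, rfl⟩ := S.cent _ CfsgLib.TIThree.Dihedral.ra_cube CfsgLib.TIThree.Dihedral.ra_ne g
      (hcM _ hyG)
    have key : ∀ k : CfsgLib.TIThree.El,
        k * CfsgLib.TIThree.Dihedral.ra = CfsgLib.TIThree.Dihedral.ra * k →
        k * CfsgLib.TIThree.Dihedral.rd = CfsgLib.TIThree.Dihedral.rd * k →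
          k ∈ CfsgLib.TIThree.El.cyc := by decide +kernel
    have hkM : S.φ k ∈ M := (hmem k).mpr (key k (S.inj (by rw [map_mul, map_mul]; exact hcM _ hyG))
      (S.inj (by rw [map_mul, map_mul]; exact hcM _ hrdG)))
    have hz : (⟨_, hkM⟩ : M) ∈ Subgroup.center M :=
      Subgroup.mem_center_iff.mpr fun x => Subtype.ext (hcM x x.2).symm
    rcases (inferInstance : (Subgroup.center M).Normal).eq_bot_or_eq_top with e | e
    · rw [e, Subgroup.mem_bot] at hz
      exact congrArg Subtype.val hz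
    · exfalso
      exact CfsgLib.SimpleOrders.ThreeSixty.not_comm h360
        ⟨⟨fun a b => (Subgroup.mem_center_iff.mp (e ▸ Subgroup.mem_top b : b ∈ Subgroup.center M) a)⟩⟩
  have hG : Nat.card G = 720 := by rw [← M.card_mul_index, h2, h360]
  have hinj : Function.Injective
      (MulAut.conjNormal : Equiv.Perm (Fin 6) →* MulAut (alternatingGroup (Fin 6))) :=
    Cfsg.Agent.S2119.injective_conjNormal (by simp)
  let ψ : G →* Equiv.Perm (Fin 6) :=
    (MonoidHom.ofInjective hinj).symm.toMonoidHom.comp (θ.codRestrict R hall)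
  have hψ : Function.Injective ψ := (MonoidHom.ofInjective hinj).symm.injective.comp
    fun a b e => hθinj (congrArg Subtype.val e)
  exact ⟨MulEquiv.ofBijective ψ ((Nat.bijective_iff_injective_and_card ψ).mpr
    ⟨hψ, by rw [hG, Nat.card_perm, Nat.card_fin]; rfl⟩)⟩

end Cfsg.Agent.S3333
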