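import Cfsg.Statements.S3805
import Cfsg.Agent.TIThree.Basis
import Cfsg.Agent.TIThree.Klein

set_option autoImplicit false
open Cfsg

namespace Cfsg.Agent.S3805

/-- Let G be a finite group whose Sylow 3-subgroup T is elementary abelian of order 9 and self-centralizing, with N_G(T)/T a Klein four-group, and suppose that the centralizer of every nonidentity element of T lies in N_G(T). Then T is normal in G. -/
theorem result {G : Type*} [Group G] [Finite G]
    (T : Sylow 3 G) (hT : Cfsg.IsElementaryAbelian 3 (T : Subgroup G)) (hcard : Nat.card T = 9)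
    (hC : Subgroup.centralizer ((T : Subgroup G) : Set G) = T)
    [hn : ((T : Subgroup G).subgroupOf (Subgroup.normalizer ((T : Subgroup G) : Set G))).Normal]
    (hK : IsKleinFour (↥(Subgroup.normalizer ((T : Subgroup G) : Set G)) ⧸
      (T : Subgroup G).subgroupOf (Subgroup.normalizer ((T : Subgroup G) : Set G))))
    (hloc : ∀ t ∈ (T : Subgroup G), t ≠ 1 →
      Subgroup.centralizer ({t} : Set G) ≤ Subgroup.normalizer ((T : Subgroup G) : Set G)) :
    Subgroup.normalizer ((T : Subgroup G) : Set G) = ⊤ := by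
  classical
  haveI : Fact (Nat.Prime 3) := ⟨Nat.prime_three⟩
  obtain ⟨hmc, hexp⟩ := hT
  have hcomm : ∀ a ∈ (T : Subgroup G), ∀ b ∈ (T : Subgroup G), a * b = b * a := fun a ha b hb =>
    congrArg Subtype.val (hmc.is_comm.comm (⟨a, ha⟩ : (T : Subgroup G)) ⟨b, hb⟩)
  set N := Subgroup.normalizer ((T : Subgroup G) : Set G) with hN
  set Tn := (T : Subgroup G).subgroupOf N with hTn
  have hconj : ∀ (m : N), ∀ t ∈ (T : Subgroup G), (m : G) * t * (m : G)⁻¹ ∈ (T : Subgroup G) :=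
    fun m t ht => (Subgroup.mem_normalizer_iff.mp m.2 t).mp ht
  have hTtriv : ∀ m : N, m ∈ Tn → ∀ t ∈ (T : Subgroup G), (m : G) * t * (m : G)⁻¹ = t := by
    intro m hm t ht
    rw [hcomm _ (Subgroup.mem_subgroupOf.mp hm) t ht, mul_inv_cancel_right]
  have htrivT : ∀ m : N, (∀ t ∈ (T : Subgroup G), (m : G) * t * (m : G)⁻¹ = t) → m ∈ Tn := by
    intro m hm
    refine Subgroup.mem_subgroupOf.mpr (hC.le (Subgroup.mem_centralizer_iff.mpr fun t ht => ?_))
    exact (mul_inv_eq_iff_eq_mul.mp (hm t ht)).symm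
  have hsame : ∀ m m' : N, (m : N ⧸ Tn) = m' → ∀ t ∈ (T : Subgroup G),
      (m : G) * t * (m : G)⁻¹ = (m' : G) * t * (m' : G)⁻¹ := by
    intro m m' h t ht
    have := hTtriv _ (QuotientGroup.eq.mp h) t ht
    simp only [Subgroup.coe_mul, Subgroup.coe_inv] at this
    calc (m : G) * t * (m : G)⁻¹
        = (m : G) * ((m : G)⁻¹ * (m' : G) * t * ((m : G)⁻¹ * (m' : G))⁻¹) * (m : G)⁻¹ := by
          rw [this]
    _ = _ := by group
  have hsq : ∀ x : N ⧸ Tn, x * x = 1 := fun x => by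
    rw [← pow_two, ← IsKleinFour.exponent_two (G := N ⧸ Tn)]
    exact Monoid.pow_exponent_eq_one x
  have hinv : ∀ (m : N), ∀ t ∈ (T : Subgroup G),
      (m : G) * ((m : G) * t * (m : G)⁻¹) * (m : G)⁻¹ = t := by
    intro m t ht
    have := hsame (m * m) 1 (by rw [QuotientGroup.mk_mul, hsq, QuotientGroup.mk_one]) t ht
    simp only [Subgroup.coe_mul, Subgroup.coe_one, one_mul, inv_one, mul_one] at this
    exact (by group : (m : G) * ((m : G) * t * (m : G)⁻¹) * (m : G)⁻¹ =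
      (m : G) * (m : G) * t * ((m : G) * (m : G))⁻¹).trans this
  have h4 : Nat.card (N ⧸ Tn) = 4 := IsKleinFour.card_four
  haveI : Fintype (N ⧸ Tn) := Fintype.ofFinite _
  rw [Nat.card_eq_fintype_card] at h4
  obtain ⟨x, hx⟩ := Fintype.exists_ne_of_one_lt_card (by omega) (1 : N ⧸ Tn)
  obtain ⟨y, hy⟩ : (Finset.univ \ {1, x} : Finset (N ⧸ Tn)).Nonempty := by
    rw [← Finset.card_pos, Finset.card_sdiff_of_subset (Finset.subset_univ _), Finset.card_univ, h4,
      Finset.card_pair (Ne.symm hx)]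
    norm_num
  simp only [Finset.mem_sdiff, Finset.mem_univ, Finset.mem_insert, Finset.mem_singleton, true_and,
    not_or] at hy
  obtain ⟨n, hn1, hnm⟩ : ∃ n : N, n ∉ Tn ∧
      ∃ t ∈ (T : Subgroup G), (n : G) * t * (n : G)⁻¹ ≠ t⁻¹ := by
    obtain ⟨mx, rfl⟩ := QuotientGroup.mk_surjective x
    obtain ⟨my, rfl⟩ := QuotientGroup.mk_surjective y
    have hxT : mx ∉ Tn := fun h => hx ((QuotientGroup.eq_one_iff mx).mpr h)
    have hyT : my ∉ Tn := fun h => hy.1 ((QuotientGroup.eq_one_iff my).mpr h)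
    by_contra hcon
    push Not at hcon
    refine hy.2 (QuotientGroup.eq.mpr (htrivT _ fun t ht => ?_))
    simp only [Subgroup.coe_mul, Subgroup.coe_inv]
    calc (my : G)⁻¹ * (mx : G) * t * ((my : G)⁻¹ * (mx : G))⁻¹
        = (my : G)⁻¹ * ((mx : G) * t * (mx : G)⁻¹) * (my : G) := by group
    _ = (my : G)⁻¹ * ((my : G) * t * (my : G)⁻¹) * (my : G) := by
        rw [hcon mx hxT t ht, hcon my hyT t ht]
    _ = t := by group
  obtain ⟨B, hfa, hfb, hfix, hneg⟩ := CfsgLib.TIThree.exists_eigenbasis (T : Subgroup G) hcard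
    hexp hcomm (hconj n) (hinv n)
    (by by_contra hc; push Not at hc; exact hn1 (htrivT n hc)) hnm
  have hcomN : ∀ (m : N), ∀ t ∈ (T : Subgroup G),
      (n : G) * ((m : G) * t * (m : G)⁻¹) * (n : G)⁻¹ =
        (m : G) * ((n : G) * t * (n : G)⁻¹) * (m : G)⁻¹ := by
    intro m t ht
    have hmul : ((n * m : N) : N ⧸ Tn) = ((m * n : N) : N ⧸ Tn) := by
      rw [QuotientGroup.mk_mul, QuotientGroup.mk_mul]
      calc (n : N ⧸ Tn) * (m : N ⧸ Tn)
          = ((n : N ⧸ Tn) * (m : N ⧸ Tn))⁻¹ := by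
            rw [eq_inv_iff_mul_eq_one]; exact hsq _
      _ = (m : N ⧸ Tn) * (n : N ⧸ Tn) := by
            rw [mul_inv_rev, inv_eq_of_mul_eq_one_right (hsq _),
              inv_eq_of_mul_eq_one_right (hsq _)]
    have := hsame (n * m) (m * n) hmul t ht
    simp only [Subgroup.coe_mul, mul_inv_rev, mul_assoc] at this ⊢
    exact this
  have himga : ∀ m : N, ∃ u, CfsgLib.TIThree.IsAxis u ∧ u.2 = 0 ∧
      (m : G) * B.a * (m : G)⁻¹ = B.pt u := fun m => hfix _ (hconj m _ B.ha)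
    (by simpa using B.ha1) (by rw [hcomN m _ B.ha, hfa])
  have himgb : ∀ m : N, ∃ u, CfsgLib.TIThree.IsAxis u ∧ u.1 = 0 ∧
      (m : G) * B.b * (m : G)⁻¹ = B.pt u := fun m => hneg _ (hconj m _ B.hb)
    (by simpa using fun e => B.hb1 (by rw [e]; exact one_mem _))
    (by rw [hcomN m _ B.hb, hfb]; group)
  obtain ⟨f, hf, htr, hlin⟩ := CfsgLib.TIThree.exists_model (T : Subgroup G) B T.not_dvd_index hC
    (fun m hm => ⟨by obtain ⟨u, h1, -, h3⟩ := himga ⟨m, hm⟩; exact ⟨u, h1, h3⟩,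
      by obtain ⟨u, h1, -, h3⟩ := himgb ⟨m, hm⟩; exact ⟨u, h1, h3⟩⟩)
  have hcardN : Nat.card N = 36 := by
    rw [← Tn.card_mul_index, Nat.card_congr (Subgroup.subgroupOfEquivOfLe
      (Subgroup.le_normalizer (H := (T : Subgroup G)))).toEquiv, hcard, Subgroup.index_eq_card,
      Nat.card_eq_fintype_card, h4]
  have hK36 : Nat.card CfsgLib.TIThree.El.klein = 36 := by
    rw [Nat.card_eq_fintype_card]; decide +kernel
  obtain ⟨S, hS⟩ := CfsgLib.TIThree.exists_setting T B hloc f hf htr CfsgLib.TIThree.El.klein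
    (fun m => by
      refine CfsgLib.TIThree.mem_klein_of_lin _ ?_
      obtain ⟨u, hu, hu2, hu3⟩ := himga m
      have := hlin m (1, 0)
      rw [B.pt_a, hu3] at this
      rw [B.pt_injective this]
      rcases hu with rfl | rfl | rfl | rfl <;> simp at hu2 ⊢)
    (by rw [hK36, hcardN])
  exact hS.symm.trans (CfsgLib.TIThree.Klein.range_eq_top S)

end Cfsg.Agent.S3805
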