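import Cfsg.Statements.S3390
import Cfsg.Agent.S3224
import Cfsg.Agent.S3225
-- import your own Cfsg.Agent.* helpers here

set_option autoImplicit false
open Cfsg

namespace Cfsg.Agent.S3390

variable {G : Type*} [Group G] {Ω : Type*} [MulAction G Ω]

theorem smul_pow_fixed {g : G} {ω : Ω} (h : g • ω = ω) : ∀ k : ℕ, (g ^ k) • ω = ω
  | 0 => by rw [pow_zero, one_smul]
  | k + 1 => by rw [pow_succ, mul_smul, h, smul_pow_fixed h k]

theorem fixed_subset_pair [Finite Ω] {g : G} (hg : Nat.card (MulAction.fixedBy Ω g) ≤ 2) {α β ω : Ω}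
    (hαβ : α ≠ β) (h1 : g • α = α) (h2 : g • β = β) (h3 : g • ω = ω) : ω = α ∨ ω = β := by
  by_contra h
  push_neg at h
  have hsub : ({α, β, ω} : Set Ω) ⊆ MulAction.fixedBy Ω g := by
    rintro x (rfl | rfl | rfl) <;> assumption
  have := Set.ncard_le_ncard hsub (Set.toFinite _)
  rw [Set.ncard_eq_three.2 ⟨α, β, ω, hαβ, h.1.symm, h.2.symm, rfl⟩] at this
  rw [Nat.card_coe_set_eq] at hg
  omega

/-- The local analysis inside a Sylow 2-subgroup. -/
theorem two_group_step {P : Type*} [Group P] [Finite P] (hP : IsPGroup 2 P) [Finite Ω]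
    [MulAction P Ω] (hfix : ∀ p : P, p ≠ 1 → Nat.card (MulAction.fixedBy Ω p) ≤ 2) (α : Ω)
    (hbot : MulAction.stabilizer P α ≠ ⊥) (htop : MulAction.stabilizer P α ≠ ⊤) :
    (((∃ n : ℕ, Nonempty (P ≃* DihedralGroup n)) ∨ Cfsg.IsQuasiDihedral P) ∧
      (Nat.card (MulAction.stabilizer P α) = 2 ∨ (MulAction.stabilizer P α).index = 2)) ∨
    ((MulAction.stabilizer P α).index = 2 ∧ ∃ β : Ω, β ≠ α ∧ (∀ p : P, p • α = α ∨ p • α = β) ∧
      ∀ p : P, p ∉ MulAction.stabilizer P α → ∀ ω : Ω, p • ω ≠ ω) := by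
  haveI : Fact (Nat.Prime 2) := ⟨Nat.prime_two⟩
  haveI : Group.IsNilpotent P := hP.isNilpotent
  set A := MulAction.stabilizer P α with hAdef
  have memA : ∀ {p : P}, p ∈ A ↔ p • α = α := fun {p} => MulAction.mem_stabilizer_iff
  obtain ⟨y, hyN, hyA⟩ := SetLike.exists_of_lt (Group.normalizerCondition_of_isNilpotent A
    (lt_top_iff_ne_top.2 htop))
  set β := y • α with hβ
  have hβα : β ≠ α := fun h => hyA (memA.2 h)
  have hAβ : ∀ p : P, p ∈ A ↔ p • β = β := by
    intro p
    rw [(Subgroup.mem_normalizer_iff'' (H := A) (g := y)).1 hyN p, memA, mul_smul, mul_smul,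
      inv_smul_eq_iff, hβ]
  have L1 : ∀ p ∈ A, p ≠ 1 → ∀ ω : Ω, p • ω = ω → ω = α ∨ ω = β := fun p hp hp1 ω hω =>
    fixed_subset_pair (hfix p hp1) hβα.symm (memA.1 hp) ((hAβ p).1 hp) hω
  obtain ⟨a₀, ha₀A, ha₀⟩ := (Subgroup.bot_or_exists_ne_one A).resolve_left hbot
  set B := Subgroup.normalizer (A : Set P) with hBdef
  have hB : ∀ p : P, p ∈ B ↔ p • α = α ∨ p • α = β := by
    intro p
    constructor
    · intro hp
      refine L1 a₀ ha₀A ha₀ _ ?_
      have h := ((Subgroup.mem_normalizer_iff'' (H := A) (g := p)).1 hp a₀).1 ha₀A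
      rw [memA, mul_smul, mul_smul, inv_smul_eq_iff] at h
      exact h
    · rintro (hp | hp)
      · exact Subgroup.le_normalizer (memA.2 hp)
      · have h : y⁻¹ * p ∈ A := memA.2 (by rw [mul_smul, hp, hβ, inv_smul_smul])
        simpa using B.mul_mem hyN (Subgroup.le_normalizer h)
  have hidxB : B = ⊤ → A.index = 2 := fun hB' => by
    rw [Subgroup.index_eq_two_iff]
    refine ⟨y, fun b => ?_⟩
    have hb := (hB b).1 (hB' ▸ Subgroup.mem_top b)
    have hβ' : y • β = α := by
      rcases (hB (y * y)).1 (hB' ▸ Subgroup.mem_top _) with h | h <;> rw [mul_smul] at h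
      · exact h
      · exact absurd (MulAction.injective y h) hβα
    rcases hb with hb | hb
    · refine Or.inr ⟨memA.2 hb, fun h => ?_⟩
      have h' := memA.1 h
      rw [mul_smul] at h'
      rcases (hB (b * y)).1 (hB' ▸ Subgroup.mem_top _) with h1 | h1 <;> rw [mul_smul] at h1
      · exact hβα (MulAction.injective b ((h1.trans hb.symm)))
      · exact hβα (h1.symm.trans h')
    · refine Or.inl ⟨memA.2 ?_, fun h => hβα (hb.symm.trans (memA.1 h))⟩
      rw [mul_smul, ← hβ]
      rcases (hB (b * b)).1 (hB' ▸ Subgroup.mem_top _) with h1 | h1 <;> rw [mul_smul, hb] at h1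
      · exact h1
      · exact absurd (MulAction.injective b (h1.trans hb.symm)) hβα
  have hcent : ∀ (c : P) (ω : Ω), (∀ p : P, p * c = c * p → p • ω = ω → p = 1 ∨ p = c) →
      c ≠ 1 → c • ω = ω → Nat.card ↥(Subgroup.centralizer ({c} : Set P)) ≤ 4 := by
    intro c ω hst hc hcω
    set C := Subgroup.centralizer ({c} : Set P) with hC
    have horb : (MulAction.orbit C ω).ncard ≤ 2 := by
      refine le_trans (Set.ncard_le_ncard ?_ (Set.toFinite _))
        ((Nat.card_coe_set_eq _).symm.trans_le (hfix c hc))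
      rintro x ⟨p, rfl⟩
      show c • ((p : P) • ω) = (p : P) • ω
      rw [← mul_smul, ← Subgroup.mem_centralizer_singleton_iff.1 p.2, mul_smul, hcω]
    have hstab : Nat.card (MulAction.stabilizer C ω) ≤ 2 := by
      have hsub : (Subtype.val '' (MulAction.stabilizer C ω : Set C)) ⊆ ({1, c} : Set P) := by
        rintro x ⟨p, hp, rfl⟩
        rcases hst p (Subgroup.mem_centralizer_singleton_iff.1 p.2) hp with h | h <;> simp [h]
      have h1 := Set.ncard_le_ncard hsub (Set.toFinite _)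
      rw [Set.ncard_image_of_injective _ Subtype.val_injective,
        Set.ncard_pair hc.symm] at h1
      rwa [← Nat.card_coe_set_eq] at h1
    rw [← Subgroup.index_mul_card (MulAction.stabilizer C ω), MulAction.index_stabilizer]
    exact Nat.mul_le_mul horb hstab
  have hfour : ∀ c w : P, c * w = w * c → c * c = 1 → c ≠ 1 → w ≠ 1 → w ≠ c →
      4 ≤ Nat.card ↥(Subgroup.centralizer ({c} : Set P)) := by
    intro c w hcw hcc hc hw hwc
    rw [show Nat.card ↥(Subgroup.centralizer ({c} : Set P)) =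
      (Subgroup.centralizer ({c} : Set P) : Set P).ncard from Nat.card_coe_set_eq _]
    have hsub : ({1, c, w, c * w} : Set P) ⊆ (Subgroup.centralizer ({c} : Set P) : Set P) := by
      rintro x (rfl | rfl | rfl | rfl) <;> rw [SetLike.mem_coe, Subgroup.mem_centralizer_singleton_iff]
      · simp
      · exact hcw.symm
      · rw [mul_assoc, hcw]
    refine le_trans (le_of_eq ?_) (Set.ncard_le_ncard hsub (Set.toFinite _))
    have h1 : c * w ≠ 1 := fun h => hwc (by
      rw [eq_inv_of_mul_eq_one_right h, inv_eq_of_mul_eq_one_right hcc])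
    have h2 : c * w ≠ c := fun h => hw (mul_eq_left.1 h)
    have h3 : c * w ≠ w := fun h => hc (mul_eq_right.1 h)
    rw [Set.ncard_insert_of_notMem (by simp [hc.symm, hw.symm, Ne.symm h1]) (Set.toFinite _),
      Set.ncard_insert_of_notMem (by simp [Ne.symm hwc, Ne.symm h2]) (Set.toFinite _),
      Set.ncard_insert_of_notMem (by simp [Ne.symm h3]) (Set.toFinite _), Set.ncard_singleton]
  -- the stabilizer has index two or order two
  by_cases hA2 : Nat.card A = 2 ∧ A.index ≠ 2
  · left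
    obtain ⟨hA2, hAi⟩ := hA2
    have hAel : ∀ p ∈ A, p = 1 ∨ p = a₀ := by
      intro p hp
      by_contra h
      push_neg at h
      have hsub : ({1, a₀, p} : Set P) ⊆ (A : Set P) := by
        rintro x (rfl | rfl | rfl)
        · exact A.one_mem
        · exact ha₀A
        · exact hp
      have := Set.ncard_le_ncard hsub (Set.toFinite _)
      rw [Set.ncard_eq_three.2 ⟨1, a₀, p, ha₀.symm, h.1.symm, h.2.symm, rfl⟩,
        ← Nat.card_coe_set_eq, show Nat.card (A : Set P) = 2 from hA2] at this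
      omega
    have haa : a₀ * a₀ = 1 := (hAel _ (A.mul_mem ha₀A ha₀A)).resolve_right
      (fun h => ha₀ (mul_eq_left.1 h))
    have hay : a₀ * y = y * a₀ := by
      rcases hAel _ (((Subgroup.mem_normalizer_iff'' (H := A) (g := y)).1 hyN a₀).1 ha₀A) with h | h
      · exact absurd (by simpa [mul_assoc] using congrArg (fun t => y * t * y⁻¹) h) ha₀
      · calc a₀ * y = y * (y⁻¹ * a₀ * y) := by group
          _ = y * a₀ := by rw [h]
    have hC : Nat.card ↥(Subgroup.centralizer ({a₀} : Set P)) = 4 :=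
      le_antisymm (hcent a₀ α (fun p _ hp => hAel p (memA.2 hp)) ha₀ (memA.1 ha₀A))
        (hfour a₀ y hay haa ha₀ (fun h => hyA (h ▸ A.one_mem)) (fun h => hyA (h ▸ ha₀A)))
    rcases Cfsg.Agent.S3224.result hP a₀ (orderOf_eq_prime (by rw [pow_two, haa]) ha₀) hC with
      h | h | h
    · exact ⟨Or.inl h, Or.inl hA2⟩
    · exact ⟨Or.inr h, Or.inl hA2⟩
    · have := A.card_mul_index
      rw [hA2, h] at this
      omega
  have hidx : A.index = 2 := by
    by_contra hne
    have hBne : B ≠ ⊤ := fun h => hne (hidxB h)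
    apply hA2
    refine ⟨?_, hne⟩
    obtain ⟨z, hzN, hzB⟩ := SetLike.exists_of_lt (Group.normalizerCondition_of_isNilpotent B
      (lt_top_iff_ne_top.2 hBne))
    have hzα : ¬ (z • α = α ∨ z • α = β) := fun h => hzB ((hB z).2 h)
    have hout : ∀ a ∈ A, a ≠ 1 → (z⁻¹ * a * z) • α = β := by
      intro a ha ha1
      have hmem := ((Subgroup.mem_normalizer_iff'' (H := B) (g := z)).1 hzN a).1
        (Subgroup.le_normalizer ha)
      refine ((hB _).1 hmem).resolve_left fun h => hzα (L1 a ha ha1 _ ?_)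
      rwa [mul_smul, mul_smul, inv_smul_eq_iff] at h
    have hall : ∀ a ∈ A, a ≠ 1 → a = a₀ := by
      intro a ha ha1
      by_contra hne'
      have hd : a⁻¹ * a₀ ≠ 1 := fun h => hne' (inv_mul_eq_one.1 h)
      have hβ0 := hout a₀ ha₀A ha₀
      have hβ1 := hout a ha ha1
      have h : (z⁻¹ * (a⁻¹ * a₀) * z) • α = α := by
        have e : z⁻¹ * (a⁻¹ * a₀) * z = (z⁻¹ * a * z)⁻¹ * (z⁻¹ * a₀ * z) := by group
        rw [e, mul_smul, hβ0, inv_smul_eq_iff, hβ1]
      refine hzα (L1 _ (A.mul_mem (A.inv_mem ha) ha₀A) hd _ ?_)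
      rwa [mul_smul, mul_smul, inv_smul_eq_iff] at h
    have hsub : (A : Set P) = {1, a₀} := by
      ext p
      constructor
      · intro hp
        by_cases h1 : p = 1
        · exact Or.inl h1
        · exact Or.inr (hall p hp h1)
      · rintro (rfl | rfl)
        · exact A.one_mem
        · exact ha₀A
    rw [show Nat.card A = (A : Set P).ncard from Nat.card_coe_set_eq _, hsub,
      Set.ncard_pair ha₀.symm]
  haveI hAn : A.Normal := Subgroup.normal_of_index_eq_two hidx
  have hall : ∀ p : P, p • α = α ∨ p • α = β := fun p => (hB p).1 (by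
    rw [hBdef, Subgroup.normalizer_eq_top_iff.2 hAn]; trivial)
  by_cases hfree : ∀ p : P, p ∉ A → ∀ ω : Ω, p • ω ≠ ω
  · exact Or.inr ⟨hidx, β, hβα, hall, hfree⟩
  push_neg at hfree
  obtain ⟨c, hcA, ω, hcω⟩ := hfree
  left
  refine ⟨?_, Or.inr hidx⟩
  have hωαβ : ω ≠ α ∧ ω ≠ β := by
    constructor
    · rintro rfl; exact hcA (memA.2 hcω)
    · rintro rfl; exact hcA ((hAβ c).2 hcω)
  have htriv : ∀ p ∈ A, p • ω = ω → p = 1 := fun p hp hpω => by
    by_contra h1
    rcases L1 p hp h1 ω hpω with h | h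
    · exact hωαβ.1 h
    · exact hωαβ.2 h
  have hcc : c * c = 1 := htriv _ (Subgroup.mul_self_mem_of_index_two hidx c)
    (by rw [mul_smul, hcω, hcω])
  have hc1 : c ≠ 1 := fun h => hcA (h ▸ A.one_mem)
  have hstω : ∀ p : P, p • ω = ω → p = 1 ∨ p = c := by
    intro p hp
    by_cases hpA : p ∈ A
    · exact Or.inl (htriv p hpA hp)
    · have hcp : c * p ∈ A := (Subgroup.mul_mem_iff_of_index_two hidx).2 (iff_of_false hcA hpA)
      have := htriv _ hcp (by rw [mul_smul, hp, hcω])
      exact Or.inr ((eq_inv_of_mul_eq_one_right this).trans (inv_eq_of_mul_eq_one_right hcc))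
  obtain ⟨w, hw, hw1, hwc⟩ : ∃ w : P, c * w = w * c ∧ w ≠ 1 ∧ w ≠ c := by
    haveI : Nontrivial P := ⟨c, 1, hc1⟩
    haveI := hP.center_nontrivial
    obtain ⟨z, hz⟩ := exists_ne (1 : Subgroup.center P)
    have hzc : ∀ g : P, g * z = z * g := fun g => Subgroup.mem_center_iff.1 z.2 g
    by_cases hzc' : (z : P) = c
    · exact ⟨a₀, by rw [← hzc', hzc a₀], ha₀, fun h => hcA (h ▸ ha₀A)⟩
    · exact ⟨z, hzc c, fun h => hz (Subtype.ext h), hzc'⟩
  have hC : Nat.card ↥(Subgroup.centralizer ({c} : Set P)) = 4 :=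
    le_antisymm (hcent c ω (fun p _ hp => hstω p hp) hc1 hcω) (hfour c w hw hcc hc1 hw1 hwc)
  rcases Cfsg.Agent.S3224.result hP c (orderOf_eq_prime (by rw [pow_two, hcc]) hc1) hC with h | h | h
  · exact Or.inl h
  · exact Or.inr h
  · refine Or.inl ⟨2, ?_⟩
    have hA2 : Nat.card A = 2 := by
      have := A.card_mul_index
      rw [hidx, h] at this
      omega
    haveI : IsKleinFour P := by
      refine ⟨h, ?_⟩
      have hsq : ∀ p : P, p ^ 2 = 1 := by
        have hcomm : ∀ a b : P, a * b = b * a := IsPGroup.commutative_of_card_eq_prime_sq (p := 2) (by rw [h]; rfl)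
        have hAsq : ∀ a ∈ A, a ^ 2 = 1 := fun a ha => by
          have := orderOf_dvd_natCard (⟨a, ha⟩ : A)
          rw [hA2, Subgroup.orderOf_mk] at this
          exact orderOf_dvd_iff_pow_eq_one.1 this
        intro p
        by_cases hp : p ∈ A
        · exact hAsq p hp
        · have hcp : c * p ∈ A := (Subgroup.mul_mem_iff_of_index_two hidx).2 (iff_of_false hcA hp)
          have h2 := hAsq _ hcp
          rwa [Commute.mul_pow (hcomm c p), pow_two c, hcc, one_mul] at h2
      haveI : Nontrivial P := ⟨c, 1, hc1⟩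
      rw [Monoid.exponent_eq_prime_iff (by norm_num)]
      exact fun p hp => orderOf_eq_prime (hsq p) hp
    exact IsKleinFour.nonempty_mulEquiv

/-- The transfer into a quotient of order two of the Sylow 2-subgroup. -/
theorem exists_transfer_sign [Finite G] (S : Sylow 2 G) (A : Subgroup (S : Subgroup G))
    (hA : A.index = 2) (α : Ω) (hAα : ∀ p ∈ A, p • α = α)
    (hfree : ∀ p : (S : Subgroup G), p ∉ A → ∀ ω : Ω, p • ω ≠ ω) :
    ∃ ψ : G →* ℤˣ, (∀ g : G, ∀ ω : Ω, g • ω = ω → ψ g = 1) ∧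
      ∀ s : (S : Subgroup G), s ∉ A → ψ s = -1 := by
  haveI : Fact (Nat.Prime 2) := ⟨Nat.prime_two⟩
  classical
  let φ := Cfsg.Agent.S3225.signOfIndexTwo _ hA
  let : Fintype (G ⧸ (S : Subgroup G)) := (S : Subgroup G).fintypeQuotientOfFiniteIndex
  have hneg : ∀ s : (S : Subgroup G), s ∉ A → MonoidHom.transfer φ (s : G) = -1 := by
    intro s hs
    let := Fintype.ofFinite (Quotient (MulAction.orbitRel (Subgroup.zpowers (s : G)) (G ⧸ (S : Subgroup G))))
    have key : MonoidHom.transfer φ (s : G) = (-1 : ℤˣ) ^ (S : Subgroup G).index := by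
      rw [MonoidHom.transfer_eq_prod_quotient_orbitRel_zpowers_quot,
        Subgroup.index_eq_sum_minimalPeriod (S : Subgroup G) (s : G), ← Finset.prod_pow_eq_pow_sum]
      refine Finset.prod_congr rfl fun q _ => ?_
      have hmem := QuotientGroup.out_conj_pow_minimalPeriod_mem (S : Subgroup G) (s : G) q.out
      set m := Function.minimalPeriod ((s : G) • ·) q.out with hm
      set g := q.out.out with hg
      change φ ⟨g⁻¹ * (s : G) ^ m * g, hmem⟩ = (-1 : ℤˣ) ^ m
      have hsm : s ^ m ∈ A ↔ Even m := by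
        rcases Nat.even_or_odd m with hev | hodd
        · refine iff_of_true ?_ hev
          obtain ⟨k, hk⟩ := hev
          rw [hk, pow_add]
          exact Subgroup.mul_self_mem_of_index_two hA _
        · refine iff_of_false ?_ (Nat.not_even_iff_odd.2 hodd)
          obtain ⟨k, hk⟩ := hodd
          rw [hk, pow_succ, two_mul, pow_add]
          exact fun h => hs ((A.mul_mem_cancel_left (Subgroup.mul_self_mem_of_index_two hA _)).1 h)
      by_cases hev : Even m
      · rw [hev.neg_one_pow]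
        apply Cfsg.Agent.S3225.signOfIndexTwo_mem
        by_contra hnot
        refine hfree _ hnot (g⁻¹ • α) ?_
        show (g⁻¹ * (s : G) ^ m * g) • (g⁻¹ • α) = g⁻¹ • α
        rw [smul_smul, mul_inv_cancel_right, mul_smul]
        exact congrArg (g⁻¹ • ·) (hAα _ (hsm.2 hev))
      · rw [(Nat.not_even_iff_odd.1 hev).neg_one_pow]
        apply Cfsg.Agent.S3225.signOfIndexTwo_not_mem
        intro hin
        refine hfree (s ^ m) (fun h => hev (hsm.1 h)) (g • α) ?_
        have h1 : (g⁻¹ * (s : G) ^ m * g) • α = α := hAα _ hin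
        show ((s : G) ^ m) • (g • α) = g • α
        rwa [mul_smul, mul_smul, inv_smul_eq_iff] at h1
    have hodd : Odd (S : Subgroup G).index := by
      rw [Nat.odd_iff]
      have := S.not_dvd_index
      omega
    rwa [hodd.neg_one_pow] at key
  have hpos : ∀ s : (S : Subgroup G), s ∈ A → MonoidHom.transfer φ (s : G) = 1 := by
    intro s hs
    let := Fintype.ofFinite (Quotient (MulAction.orbitRel (Subgroup.zpowers (s : G)) (G ⧸ (S : Subgroup G))))
    rw [MonoidHom.transfer_eq_prod_quotient_orbitRel_zpowers_quot]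
    refine Finset.prod_eq_one fun q _ => ?_
    apply Cfsg.Agent.S3225.signOfIndexTwo_mem
    by_contra hnot
    set m := Function.minimalPeriod ((s : G) • ·) q.out with hm
    set g := q.out.out with hg
    refine hfree _ hnot (g⁻¹ • α) ?_
    show (g⁻¹ * (s : G) ^ m * g) • (g⁻¹ • α) = g⁻¹ • α
    rw [smul_smul, mul_inv_cancel_right, mul_smul]
    exact congrArg (g⁻¹ • ·) (hAα _ (A.pow_mem hs m))
  refine ⟨MonoidHom.transfer φ, fun g ω hg => ?_, hneg⟩
  set ψ := MonoidHom.transfer φ with hψ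
  -- pass to the 2-part
  set k := ordCompl[2] (orderOf g) with hk
  have hkodd : Odd k := by
    rw [Nat.odd_iff]
    have := Nat.not_dvd_ordCompl Nat.prime_two (orderOf_pos g).ne'
    omega
  have hψk : ψ (g ^ k) = ψ g := by
    rw [map_pow]
    rcases Int.units_eq_one_or (ψ g) with h | h <;> simp [h, hkodd.neg_one_pow]
  rw [← hψk]
  have hg2 : IsPGroup 2 ↥(Subgroup.zpowers (g ^ k)) := by
    refine IsPGroup.of_card (n := (orderOf g).factorization 2) ?_
    rw [Nat.card_zpowers, orderOf_pow_of_dvd (Nat.ne_of_gt (Nat.ordCompl_pos 2 (orderOf_pos g).ne'))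
      (Nat.ordCompl_dvd _ _), Nat.div_eq_of_eq_mul_left (Nat.ordCompl_pos 2 (orderOf_pos g).ne')
      (Nat.ordProj_mul_ordCompl_eq_self _ 2).symm]
  obtain ⟨T, hT⟩ := hg2.exists_le_sylow
  obtain ⟨c, hc⟩ := MulAction.exists_smul_eq G T S
  have hmem : c * g ^ k * c⁻¹ ∈ (S : Subgroup G) := by
    rw [← hc, Sylow.coe_subgroup_smul, ← MulAut.conj_apply]
    exact Subgroup.smul_mem_pointwise_smul _ _ _ (hT (Subgroup.mem_zpowers _))
  have hA' : (⟨_, hmem⟩ : (S : Subgroup G)) ∈ A := by
    by_contra hnot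
    refine hfree _ hnot (c • ω) ?_
    show (c * g ^ k * c⁻¹) • (c • ω) = c • ω
    rw [smul_smul, inv_mul_cancel_right, mul_smul]
    congr 1
    exact smul_pow_fixed hg k
  have := hpos _ hA'
  rwa [map_mul, map_mul, map_inv, mul_comm (ψ c), mul_assoc, mul_inv_cancel, mul_one] at this

/-- Let G be a finite group acting faithfully and transitively on a finite set Ω with fixity 2 (every non-identity element fixes at most two points, and some fixes exactly two). Let α ∈ Ω and S a Sylow 2-subgroup of G. Then one of the following holds: the stabilizer S_α of α in S is trivial; S is dihedral or semidihedral and either |S_α| = 2 or |S : S_α| = 2; |S| ≥ 4, S has exactly one orbit of size 2 on Ω, every other S-orbit is regular, and G has a normal subgroup of index 2 or of index |S| which is a Frobenius group; or S ≤ G_α. -/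
theorem result {G : Type*} [Group G] [Finite G] {Ω : Type*} [Fintype Ω] [MulAction G Ω] [FaithfulSMul G Ω] (htr : MulAction.IsPretransitive G Ω)
    (hfix : ∀ g : G, g ≠ 1 → Nat.card (MulAction.fixedBy Ω g) ≤ 2) (hex : ∃ g : G, g ≠ 1 ∧ Nat.card (MulAction.fixedBy Ω g) = 2) (α : Ω) (S : Sylow 2 G) :
    (S : Subgroup G) ⊓ MulAction.stabilizer G α = ⊥ ∨
    (((∃ n : ℕ, Nonempty (↥(S : Subgroup G) ≃* DihedralGroup n)) ∨ Cfsg.IsQuasiDihedral ↥(S : Subgroup G)) ∧
       (Nat.card ↥((S : Subgroup G) ⊓ MulAction.stabilizer G α) = 2 ∨ ((S : Subgroup G) ⊓ MulAction.stabilizer G α).relIndex (S : Subgroup G) = 2)) ∨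
    (4 ≤ Nat.card (S : Subgroup G) ∧
       (∃ ω : Ω, Nat.card (MulAction.orbit ↥(S : Subgroup G) ω) = 2 ∧
          ∀ ω' : Ω, ω' ∉ MulAction.orbit ↥(S : Subgroup G) ω → Nat.card (MulAction.orbit ↥(S : Subgroup G) ω') = Nat.card (S : Subgroup G)) ∧
       ∃ N : Subgroup G, N.Normal ∧ (N.index = 2 ∨ N.index = Nat.card (S : Subgroup G)) ∧ (∃ H : Subgroup ↥N, Cfsg.IsFrobeniusComplement H)) ∨
    (S : Subgroup G) ≤ MulAction.stabilizer G α := by
  haveI : Fact (Nat.Prime 2) := ⟨Nat.prime_two⟩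
  set A := MulAction.stabilizer (S : Subgroup G) α with hAdef
  have hsubA : ((S : Subgroup G) ⊓ MulAction.stabilizer G α).subgroupOf (S : Subgroup G) = A := by
    ext p
    simp [hAdef, Subgroup.mem_subgroupOf, MulAction.mem_stabilizer_iff, Subgroup.smul_def]
  have hcardA : Nat.card ↥((S : Subgroup G) ⊓ MulAction.stabilizer G α) = Nat.card A := by
    rw [← hsubA]
    exact (Nat.card_congr (Subgroup.subgroupOfEquivOfLe inf_le_left).toEquiv).symm
  by_cases hbot : A = ⊥
  · left
    rw [eq_bot_iff]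
    intro x hx
    have : (⟨x, hx.1⟩ : (S : Subgroup G)) ∈ A := hx.2
    rw [hbot, Subgroup.mem_bot] at this
    exact congrArg Subtype.val this
  by_cases htop : A = ⊤
  · refine Or.inr (Or.inr (Or.inr fun x hx => ?_))
    have : (⟨x, hx⟩ : (S : Subgroup G)) ∈ A := htop ▸ Subgroup.mem_top _
    exact this
  have hfixS : ∀ p : (S : Subgroup G), p ≠ 1 → Nat.card (MulAction.fixedBy Ω p) ≤ 2 := fun p hp =>
    hfix p fun h => hp (Subtype.ext h)
  rcases two_group_step S.isPGroup' hfixS α hbot htop with ⟨hty, hA⟩ | ⟨hidx, β, hβ, hall, hfree⟩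
  · refine Or.inr (Or.inl ⟨hty, ?_⟩)
    rcases hA with h | h
    · exact Or.inl (hcardA.trans h)
    · exact Or.inr (by rw [Subgroup.relIndex, hsubA]; exact h)
  refine Or.inr (Or.inr (Or.inl ?_))
  have hmemA : ∀ {p : (S : Subgroup G)}, p ∈ A ↔ (p : G) • α = α := fun {p} => Iff.rfl
  have hcard4 : 4 ≤ Nat.card (S : Subgroup G) := by
    rw [← A.card_mul_index, hidx]
    have := (Subgroup.one_lt_card_iff_ne_bot A).2 hbot
    omega
  obtain ⟨a, haA, ha1⟩ := (Subgroup.bot_or_exists_ne_one A).resolve_left hbot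
  obtain ⟨s, hs⟩ : ∃ s : (S : Subgroup G), s ∉ A := by
    by_contra h
    push_neg at h
    exact htop (eq_top_iff.2 fun x _ => h x)
  have hsα : s • α = β := (hall s).resolve_left hs
  have haβ : (a : G) • β = β := by
    haveI : A.Normal := Subgroup.normal_of_index_eq_two hidx
    have h := (this : A.Normal).conj_mem' a haA s
    rw [hmemA] at h
    have h' : (s : G)⁻¹ • ((a : G) • ((s : G) • α)) = α := by
      rwa [smul_smul, smul_smul]
    rw [inv_smul_eq_iff] at h'
    rw [← hsα]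
    exact h'
  refine ⟨hcard4, ⟨α, ?_, ?_⟩, ?_⟩
  · rw [Nat.card_coe_set_eq, ← MulAction.index_stabilizer]
    exact hidx
  · intro ω hω
    rw [Nat.card_coe_set_eq, ← MulAction.index_stabilizer]
    have : MulAction.stabilizer (S : Subgroup G) ω = ⊥ := by
      rw [eq_bot_iff]
      intro p hp
      rw [MulAction.mem_stabilizer_iff] at hp
      rw [Subgroup.mem_bot]
      by_contra hp1
      have hpA : p ∈ A := by
        by_contra hn
        exact hfree p hn ω hp
      have hpβ : p • β = β := by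
        haveI : A.Normal := Subgroup.normal_of_index_eq_two hidx
        have h := (this : A.Normal).conj_mem' p hpA s
        rw [hAdef, MulAction.mem_stabilizer_iff, mul_smul, mul_smul, inv_smul_eq_iff, hsα] at h
        exact h
      rcases fixed_subset_pair (hfixS p hp1) hβ.symm hpA hpβ hp with h | h
      · subst h; exact hω (MulAction.mem_orbit_self ω)
      · subst h; exact hω (hsα ▸ MulAction.mem_orbit α s)
    rw [this, Subgroup.index_bot]
  obtain ⟨ψ, hψ1, hψs⟩ := exists_transfer_sign (Ω := Ω) S A hidx α (fun p hp => hp) hfree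
  have hψneg := hψs s hs
  refine ⟨ψ.ker, inferInstance, Or.inl ?_, ?_⟩
  · rw [Subgroup.index_ker]
    have hr : ψ.range = ⊤ := eq_top_iff.2 fun u _ => by
      rcases Int.units_eq_one_or u with rfl | rfl
      · exact one_mem _
      · exact ⟨s, hψneg⟩
    rw [hr, Subgroup.card_top, Nat.card_eq_fintype_card, Fintype.card_units_int]
  -- the point stabilizer inside the kernel
  haveI := htr
  have ha : (a : G) ∈ ψ.ker := hψ1 _ α (hmemA.1 haA)
  refine ⟨(MulAction.stabilizer G α).subgroupOf ψ.ker, ?_, ?_, ?_⟩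
  · intro h
    have : (⟨(a : G), ha⟩ : ψ.ker) ∈ (MulAction.stabilizer G α).subgroupOf ψ.ker := hmemA.1 haA
    rw [h, Subgroup.mem_bot] at this
    exact ha1 (Subtype.ext (congrArg Subtype.val this : (a : G) = 1))
  · intro h
    apply ha1
    apply Subtype.ext
    apply FaithfulSMul.eq_of_smul_eq_smul (α := Ω)
    intro ω
    rw [Subgroup.coe_one, one_smul]
    obtain ⟨g, rfl⟩ := MulAction.exists_smul_eq G α ω
    have hker : ∀ g : G, ψ g = 1 → g • α = α := fun g hg => by
      have := (h ▸ Subgroup.mem_top _ : (⟨g, hg⟩ : ψ.ker) ∈ (MulAction.stabilizer G α).subgroupOf ψ.ker)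
      exact this
    rcases Int.units_eq_one_or (ψ g) with hg | hg
    · rw [hker g hg]; exact hmemA.1 haA
    · have h2 := hker ((s : G)⁻¹ * g) (by rw [map_mul, map_inv, hψneg, hg, inv_mul_cancel])
      rw [mul_smul, inv_smul_eq_iff] at h2
      rw [h2, show (s : G) • α = β from hsα, haβ]
  intro g hg
  rw [eq_bot_iff]
  intro x hx
  rw [Subgroup.mem_bot]
  by_contra hx1
  set γ := (g : G) • α with hγ
  have hxα : (x : G) • α = α := hx.1
  have hxγ : (x : G) • γ = γ := by
    have h := Subgroup.mem_pointwise_smul_iff_inv_smul_mem.1 hx.2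
    have h' : ((g : G)⁻¹ * x * g) • α = α := by
      simpa [MulAut.smul_def, Subgroup.mem_subgroupOf, mul_assoc] using h
    rwa [mul_smul, mul_smul, inv_smul_eq_iff] at h'
  have hγα : γ ≠ α := fun h => hg (show (g : G) • α = α from h)
  have hx1' : (x : G) ≠ 1 := fun h => hx1 (Subtype.ext h)
  obtain ⟨r, hr, hrd⟩ := Nat.exists_prime_and_dvd (n := orderOf (x : G))
    (fun h => hx1' (orderOf_eq_one_iff.1 h))
  set y := (x : G) ^ (orderOf (x : G) / r) with hy
  have hordy : orderOf y = r := orderOf_pow_orderOf_div (orderOf_pos _).ne' hrd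
  have hy1 : y ≠ 1 := fun h => hr.one_lt.ne' (hordy ▸ orderOf_eq_one_iff.2 h)
  have hyα : y • α = α := smul_pow_fixed hxα _
  have hyγ : y • γ = γ := smul_pow_fixed hxγ _
  have hψy : ψ y = 1 := hψ1 y α hyα
  have hside : ∀ g₁ g₂ : G, g₁ • α = g₂ • α → ψ g₁ = ψ g₂ := fun g₁ g₂ h => by
    have := hψ1 (g₂⁻¹ * g₁) α (by rw [mul_smul, h, inv_smul_smul])
    rw [map_mul, map_inv] at this
    exact (inv_mul_eq_one.1 this).symm
  have hψg : ψ (g : G) = 1 := g.2
  have honly : ∀ h : G, y • (h • α) = h • α → ψ h = 1 := by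
    intro h hh
    rcases fixed_subset_pair (hfix y hy1) hγα.symm hyα hyγ hh with he | he
    · rw [hside h 1 (by rw [he, one_smul]), map_one]
    · rw [hside h g he, hψg]
  by_cases hr2 : r = 2
  · subst hr2
    have hy2 : IsPGroup 2 ↥(Subgroup.zpowers y) :=
      IsPGroup.of_card (n := 1) (by rw [Nat.card_zpowers, hordy, pow_one])
    obtain ⟨T, hT⟩ := hy2.exists_le_sylow
    obtain ⟨c, hc⟩ := MulAction.exists_smul_eq G T S
    have hmem : c * y * c⁻¹ ∈ (S : Subgroup G) := by
      rw [← hc, Sylow.coe_subgroup_smul, ← MulAut.conj_apply]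
      exact Subgroup.smul_mem_pointwise_smul _ _ _ (hT (Subgroup.mem_zpowers _))
    have hA' : (⟨_, hmem⟩ : (S : Subgroup G)) ∈ A := by
      by_contra hnot
      refine hfree _ hnot (c • α) ?_
      show (c * y * c⁻¹) • (c • α) = c • α
      rw [smul_smul, inv_mul_cancel_right, mul_smul, hyα]
    have h1 : ∀ δ : Ω, (c * y * c⁻¹) • δ = δ → y • (c⁻¹ • δ) = c⁻¹ • δ := fun δ hδ => by
      rwa [mul_smul, mul_smul, ← eq_inv_smul_iff] at hδ
    have e1 := honly c⁻¹ (h1 α (hmemA.1 hA'))
    have hA'β : (c * y * c⁻¹) • ((s : G) • α) = (s : G) • α := by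
      haveI : A.Normal := Subgroup.normal_of_index_eq_two hidx
      have h := (this : A.Normal).conj_mem' _ hA' s
      rw [hmemA] at h
      have h' : (s : G)⁻¹ • ((c * y * c⁻¹) • ((s : G) • α)) = α := by
        rwa [smul_smul, smul_smul]
      rwa [inv_smul_eq_iff] at h'
    have e2 := honly (c⁻¹ * (s : G)) (by rw [mul_smul]; exact h1 _ hA'β)
    rw [map_mul, e1, one_mul, hψneg] at e2
    exact absurd e2 (by decide)
  -- odd primes: compare the two sides
  haveI : Fact r.Prime := ⟨hr⟩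
  have hyr : IsPGroup r ↥(Subgroup.zpowers y) :=
    IsPGroup.of_card (n := 1) (by rw [Nat.card_zpowers, hordy, pow_one])
  let D : ℤˣ → SubMulAction ↥(Subgroup.zpowers y) Ω := fun u =>
    { carrier := {ω | ∃ h : G, h • α = ω ∧ ψ h = u}
      smul_mem' := by
        rintro ⟨z, hz⟩ ω ⟨h, rfl, hu⟩
        obtain ⟨k, rfl⟩ := Subgroup.mem_zpowers_iff.1 hz
        exact ⟨y ^ k * h, mul_smul _ _ _, by rw [map_mul, map_zpow, hψy, one_zpow, one_mul, hu]⟩ }
  have hsw : Nat.card (D 1) = Nat.card (D (-1)) := by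
    refine Nat.card_congr
      { toFun := fun ω => ⟨(s : G) • (ω : Ω), ?_⟩
        invFun := fun ω => ⟨(s : G)⁻¹ • (ω : Ω), ?_⟩
        left_inv := fun ω => Subtype.ext (inv_smul_smul _ _)
        right_inv := fun ω => Subtype.ext (smul_inv_smul _ _) }
    · obtain ⟨h, hh, hu⟩ := ω.2
      exact ⟨(s : G) * h, by rw [mul_smul, hh], by rw [map_mul, hψneg, hu, mul_one]⟩
    · obtain ⟨h, hh, hu⟩ := ω.2
      exact ⟨(s : G)⁻¹ * h, by rw [mul_smul, hh], by rw [map_mul, map_inv, hψneg, hu, inv_mul_cancel]⟩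
  have hf1 : Nat.card (MulAction.fixedPoints ↥(Subgroup.zpowers y) (D 1)) = 2 := by
    rw [Nat.card_eq_two_iff]
    have hfixz : ∀ (δ : Ω), y • δ = δ → ∀ z : ↥(Subgroup.zpowers y), (z : G) • δ = δ := by
      intro δ hδ z
      exact (Subgroup.zpowers_le.2 (MulAction.mem_stabilizer_iff.2 hδ) z.2 : (z : G) ∈ MulAction.stabilizer G δ)
    refine ⟨⟨⟨α, 1, one_smul _ _, map_one ψ⟩, fun z => Subtype.ext (hfixz α hyα z)⟩,
      ⟨⟨γ, g, rfl, hψg⟩, fun z => Subtype.ext (hfixz γ hyγ z)⟩, ?_, ?_⟩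
    · intro h
      exact hγα (congrArg (fun t => ((t.1 : D 1) : Ω)) h).symm
    · refine Set.eq_univ_of_forall fun t => ?_
      have ht : y • ((t.1 : D 1) : Ω) = ((t.1 : D 1) : Ω) :=
        congrArg Subtype.val (t.2 ⟨y, Subgroup.mem_zpowers y⟩)
      rcases fixed_subset_pair (hfix y hy1) hγα.symm hyα hyγ ht with he | he
      · exact Or.inl (Subtype.ext (Subtype.ext he))
      · exact Or.inr (Subtype.ext (Subtype.ext he))
  have hf2 : Nat.card (MulAction.fixedPoints ↥(Subgroup.zpowers y) (D (-1))) = 0 := by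
    rw [Nat.card_eq_zero]
    left
    refine ⟨fun t => ?_⟩
    obtain ⟨h, hh, hu⟩ := (t.1 : D (-1)).2
    have ht : y • ((t.1 : D (-1)) : Ω) = ((t.1 : D (-1)) : Ω) :=
      congrArg Subtype.val (t.2 ⟨y, Subgroup.mem_zpowers y⟩)
    have := honly h (by rw [hh]; exact ht)
    rw [hu] at this
    exact absurd this (by decide)
  have m1 := hyr.card_modEq_card_fixedPoints (D 1)
  have m2 := hyr.card_modEq_card_fixedPoints (D (-1))
  rw [hf1, hsw] at m1
  rw [hf2] at m2
  exact hr2 ((Nat.prime_dvd_prime_iff_eq hr Nat.prime_two).1 (Nat.modEq_zero_iff_dvd.1 (m1.symm.trans m2)))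

end Cfsg.Agent.S3390
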