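import Cfsg.Statements.S3501
import Cfsg.Agent.Perm.DerangementAffine
import Cfsg.Agent.ClassSizes.ConjRange

set_option autoImplicit false
open Cfsg

namespace Cfsg.Agent.S3501


/-- Let a finite group G act faithfully and primitively on a finite set Ω with at least two points, and suppose G is not almost simple (it has no non-abelian simple normal subgroup with trivial centralizer). Then the derangements of G form a single conjugacy class if and only if G is sharply 2-transitive (2-transitive, and no non-identity element fixes two points). -/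
theorem result {G : Type*} [Group G] [Finite G] {Ω : Type*} [Fintype Ω] [MulAction G Ω] [FaithfulSMul G Ω] (hΩ : 2 ≤ Fintype.card Ω) (hprim : MulAction.IsPreprimitive G Ω) (hnas : ¬ ∃ T : Subgroup G, T.Normal ∧ IsSimpleGroup T ∧ ¬ IsMulCommutative T ∧ Subgroup.centralizer (T : Set G) = ⊥) :
    Nat.card {c : ConjClasses G // ∃ g : G, ConjClasses.mk g = c ∧ ∀ ω : Ω, g • ω ≠ ω} = 1 ↔ (MulAction.IsMultiplyPretransitive G Ω 2 ∧ ∀ g : G, g ≠ 1 → ∀ a b : Ω, a ≠ b → g • a = a → g • b ≠ b) := by
  classical
  haveI := hprim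
  haveI : Nontrivial Ω := Fintype.one_lt_card_iff_nontrivial.1 hΩ
  obtain ⟨a, b, hab⟩ := exists_pair_ne Ω
  haveI : Nontrivial G := by
    obtain ⟨g, hg⟩ := MulAction.exists_smul_eq G a b
    exact ⟨⟨g, 1, fun e => hab (by rw [← hg, e, one_smul])⟩⟩
  constructor
  · intro h1
    obtain ⟨N, hN, hNc, hNt, hNreg, -⟩ := CfsgLib.Perm.exists_abelian_regular_of_few_classes (X := Ω) hnas (by omega)
    haveI := hNt
    haveI := hN.normal
    have hone : ∀ x y : G, (∀ ω : Ω, x • ω ≠ ω) → (∀ ω : Ω, y • ω ≠ ω) → IsConj x y := by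
      intro x y hx hy
      obtain ⟨hs, -⟩ := Nat.card_eq_one_iff_unique.1 h1
      exact ConjClasses.mk_eq_mk_iff_isConj.1 (congrArg Subtype.val
        (@Subsingleton.elim _ hs ⟨ConjClasses.mk x, x, rfl, hx⟩ ⟨ConjClasses.mk y, y, rfl, hy⟩))
    have hder : ∀ v ∈ N, v ≠ 1 → ∀ ω : Ω, v • ω ≠ ω := fun v hv hv1 ω =>
      CfsgLib.Perm.derangement_of_regular hNreg hv hv1 ω
    have hD : ∀ g : G, g ∉ N → ∃ ω : Ω, g • ω = ω := by
      intro g hg
      by_contra hc
      push Not at hc
      obtain ⟨v, hv, hv1⟩ := (Subgroup.bot_or_exists_ne_one N).resolve_left hN.ne_bot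
      obtain ⟨c, hc'⟩ := isConj_iff.1 (hone v g (hder v hv hv1) hc)
      exact hg (hc' ▸ hN.normal.conj_mem v hv c)
    refine ⟨CfsgLib.Perm.DerangementAffine.two_transitive hNc
      (fun v hv hv1 w hw hw1 => hone v w (hder v hv hv1) (hder w hw hw1)), fun g hg x y hxy hx hy => ?_⟩
    by_cases hgN : g ∈ N
    · exact hder g hgN hg x hx
    · exact hxy (CfsgLib.Perm.fixed_unique N hD hgN hx hy)
  · rintro ⟨h2, hsharp⟩
    haveI := h2
    haveI : MulAction.IsPretransitive G Ω := inferInstance
    have hd := CfsgLib.Perm.DerangementAffine.card_derangements (G := G) (X := Ω) hsharp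
    obtain ⟨x, hx⟩ : ∃ x : G, ∀ ω : Ω, x • ω ≠ ω := by
      by_contra hc
      push Not at hc
      have : {g : G | ∀ ω : Ω, g • ω ≠ ω} = ∅ := Set.eq_empty_iff_forall_notMem.2 fun g hg => by
        obtain ⟨ω, hω⟩ := hc g; exact hg ω hω
      rw [this, Set.ncard_empty, Nat.card_eq_fintype_card] at hd
      omega
    have hcarrier : (ConjClasses.mk x).carrier = {g : G | ∀ ω : Ω, g • ω ≠ ω} := by
      refine Set.eq_of_subset_of_ncard_le (fun g hg => ?_) ?_
      · exact CfsgLib.Perm.DerangementAffine.derangement_of_mk_mem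
          ((ConjClasses.mem_carrier_iff_mk_eq.1 hg).symm ▸ CfsgLib.Perm.DerangementAffine.mk_mem_dClasses hx)
      · have hidx : (ConjClasses.mk x).carrier.ncard = (Subgroup.centralizer ({x} : Set G)).index := by
          rw [← CfsgLib.ClassSizes.ncard_conjRange]
          congr 1
          ext g
          rw [ConjClasses.mem_carrier_iff_mk_eq, ConjClasses.mk_eq_mk_iff_isConj, isConj_comm, isConj_iff]
          rfl
        have hinj : Nat.card (Subgroup.centralizer ({x} : Set G)) ≤ Nat.card Ω := by
          refine Nat.card_le_card_of_injective (fun c => (c : G) • a) fun c c' e => ?_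
          by_contra hne
          set d := (c' : G)⁻¹ * c with hdd
          have hd1 : d ≠ 1 := fun h => hne (Subtype.ext (inv_mul_eq_one.1 h).symm)
          have e' : (c : G) • a = (c' : G) • a := e
          have hda : d • a = a := by rw [hdd, mul_smul, e', inv_smul_smul]
          have hdx : d * x = x * d :=
            Subgroup.mem_centralizer_singleton_iff.1 (mul_mem (inv_mem c'.2) c.2)
          refine hsharp d hd1 a (x • a) (fun h => hx a h.symm) hda ?_
          rw [smul_smul, hdx, mul_smul, hda]
        have hHge : Nat.card Ω - 1 ≤ Nat.card (MulAction.stabilizer G a) := by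
          have hsur : Function.Surjective (fun h : MulAction.stabilizer G a => (⟨(h : G) • b, fun e => hab
              (MulAction.injective (h : G) (show (h : G) • a = (h : G) • b by rw [h.2, e]))⟩ : {y : Ω // y ≠ a})) := by
            rintro ⟨y, hy⟩
            obtain ⟨g, hg1, hg2⟩ := (MulAction.is_two_pretransitive_iff.1 h2) hab (Ne.symm hy)
            exact ⟨⟨g, hg1⟩, Subtype.ext hg2⟩
          have h' := Nat.card_le_card_of_surjective _ hsur
          simp only [Nat.card_eq_fintype_card, Fintype.card_subtype_compl, Fintype.card_subtype_eq] at h' ⊢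
          exact h'
        have hG := (MulAction.stabilizer G a).card_mul_index
        rw [MulAction.index_stabilizer_of_transitive] at hG
        have hC := (Subgroup.centralizer ({x} : Set G)).card_mul_index
        rw [← hidx, ← hG] at hC
        have hnpos : 0 < Nat.card Ω := Nat.card_pos
        have h6 : (Nat.card Ω - 1) * Nat.card Ω ≤ (ConjClasses.mk x).carrier.ncard * Nat.card Ω :=
          calc (Nat.card Ω - 1) * Nat.card Ω ≤ Nat.card (MulAction.stabilizer G a) * Nat.card Ω :=
                Nat.mul_le_mul_right _ hHge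
            _ = Nat.card (Subgroup.centralizer ({x} : Set G)) * (ConjClasses.mk x).carrier.ncard := hC.symm
            _ ≤ Nat.card Ω * (ConjClasses.mk x).carrier.ncard := Nat.mul_le_mul_right _ hinj
            _ = _ := mul_comm _ _
        have h7 := Nat.le_of_mul_le_mul_right h6 hnpos
        omega
    rw [Nat.card_eq_one_iff_exists]
    refine ⟨⟨ConjClasses.mk x, x, rfl, hx⟩, ?_⟩
    rintro ⟨c, g, rfl, hg⟩
    refine Subtype.ext (ConjClasses.mem_carrier_iff_mk_eq.1 ?_)
    rw [hcarrier]
    exact hg

end Cfsg.Agent.S3501
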