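import Cfsg.Statements.S3520
import Cfsg.Agent.Perm.DerangementAffine
import Cfsg.Agent.ClassSizes.ConjRange

set_option autoImplicit false
open Cfsg

namespace Cfsg.Agent.S3520


/-- Let a finite group G act faithfully and primitively on a finite set Ω with at least two points, suppose G is not almost simple (no non-abelian simple normal subgroup with trivial centralizer), and suppose the derangements of G form exactly two conjugacy classes. Then either Ω has 3 points and G has order 3; or G has a non-trivial abelian normal subgroup N acting regularly, every non-identity element of G fixes at most one point (so, when n > 3, G is a Frobenius group with kernel N), the number n of points is odd and a point stabilizer has order (n − 1)/2; or G is 2-transitive with a non-trivial abelian regular normal subgroup and some non-identity element fixes at least two points (a non-Frobenius 2-transitive affine group). -/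
theorem result {G : Type*} [Group G] [Finite G] {Ω : Type*} [Fintype Ω] [MulAction G Ω] [FaithfulSMul G Ω] (hΩ : 2 ≤ Fintype.card Ω) (hprim : MulAction.IsPreprimitive G Ω) (hnas : ¬ ∃ T : Subgroup G, T.Normal ∧ IsSimpleGroup T ∧ ¬ IsMulCommutative T ∧ Subgroup.centralizer (T : Set G) = ⊥)
    (hκ : Nat.card {c : ConjClasses G // ∃ g : G, ConjClasses.mk g = c ∧ ∀ ω : Ω, g • ω ≠ ω} = 2) (α : Ω) :
    (Fintype.card Ω = 3 ∧ Nat.card G = 3) ∨
    ((∃ N : Subgroup G, N.Normal ∧ N ≠ ⊥ ∧ IsMulCommutative N ∧ ∀ ω : Ω, MulAction.stabilizer N ω = ⊥) ∧ (∀ g : G, g ≠ 1 → Nat.card (MulAction.fixedBy Ω g) ≤ 1) ∧ ¬ 2 ∣ Fintype.card Ω ∧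
        2 * Nat.card (MulAction.stabilizer G α) = Fintype.card Ω - 1) ∨
    ((∃ N : Subgroup G, N.Normal ∧ N ≠ ⊥ ∧ IsMulCommutative N ∧ ∀ ω : Ω, MulAction.stabilizer N ω = ⊥) ∧ MulAction.IsMultiplyPretransitive G Ω 2 ∧ ∃ g : G, g ≠ 1 ∧ 2 ≤ Nat.card (MulAction.fixedBy Ω g)) := by
  classical
  haveI := hprim
  haveI : Nontrivial Ω := Fintype.one_lt_card_iff_nontrivial.1 hΩ
  obtain ⟨b, hab⟩ := exists_ne α
  haveI : Nontrivial G := by
    obtain ⟨g, hg⟩ := MulAction.exists_smul_eq G α b
    exact ⟨⟨g, 1, fun e => hab (by rw [← hg, e, one_smul])⟩⟩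
  obtain ⟨N, hN, hNc, hNt, hNreg, -⟩ := CfsgLib.Perm.exists_abelian_regular_of_few_classes (X := Ω) hnas (by omega)
  haveI := hNt
  haveI := hN.normal
  have hreg : ∃ N : Subgroup G, N.Normal ∧ N ≠ ⊥ ∧ IsMulCommutative N ∧ ∀ ω : Ω, MulAction.stabilizer N ω = ⊥ :=
    ⟨N, hN.normal, hN.ne_bot, hNc, hNreg⟩
  set D := CfsgLib.Perm.DerangementAffine.dClasses G Ω with hD
  have hDcard : D.ncard = 2 := by rw [← Nat.card_coe_set_eq]; exact hκ
  have hder : ∀ v ∈ N, v ≠ 1 → ∀ ω : Ω, v • ω ≠ ω := fun v hv hv1 ω =>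
    CfsgLib.Perm.derangement_of_regular hNreg hv hv1 ω
  have hcls : ∀ x y : G, ConjClasses.mk x = ConjClasses.mk y → x ∈ N → y ∈ N := by
    intro x y h hx
    obtain ⟨c, rfl⟩ := isConj_iff.1 (ConjClasses.mk_eq_mk_iff_isConj.1 h)
    exact hN.normal.conj_mem x hx c
  by_cases hout : ∃ d : G, d ∉ N ∧ ∀ ω : Ω, d • ω ≠ ω
  · obtain ⟨d, hdN, hd⟩ := hout
    right; right
    refine ⟨hreg, CfsgLib.Perm.DerangementAffine.two_transitive hNc (fun v hv hv1 w hw hw1 => ?_), ?_⟩
    · by_contra hne
      have h3 : ({ConjClasses.mk v, ConjClasses.mk w, ConjClasses.mk d} : Set (ConjClasses G)) ⊆ D := by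
        intro c hc
        simp only [Set.mem_insert_iff, Set.mem_singleton_iff] at hc
        rcases hc with rfl | rfl | rfl
        · exact ⟨v, rfl, hder v hv hv1⟩
        · exact ⟨w, rfl, hder w hw hw1⟩
        · exact ⟨d, rfl, hd⟩
      have h4 := Set.ncard_le_ncard h3 (Set.toFinite _)
      rw [Set.ncard_eq_three.2 ⟨_, _, _, fun e => hne (ConjClasses.mk_eq_mk_iff_isConj.1 e),
        fun e => hdN (hcls v d e hv), fun e => hdN (hcls w d e hw), rfl⟩, hDcard] at h4
      omega
    · by_contra hc
      push Not at hc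
      have hsharp : ∀ g : G, g ≠ 1 → ∀ x y : Ω, x ≠ y → g • x = x → g • y ≠ y := by
        intro g hg x y hxy hx hy
        have h1 : 2 ≤ Nat.card (MulAction.fixedBy Ω g) := by
          haveI : Nontrivial (MulAction.fixedBy Ω g) := ⟨⟨⟨x, hx⟩, ⟨y, hy⟩, fun e => hxy (congrArg Subtype.val e)⟩⟩
          exact Finite.one_lt_card
        exact absurd h1 (not_le.2 (hc g hg))
      have h1 := CfsgLib.Perm.DerangementAffine.card_derangements (G := G) (X := Ω) hsharp
      have hsub : ((N : Set G) \ {1}) ∪ {d} ⊆ {g : G | ∀ ω : Ω, g • ω ≠ ω} := by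
        rintro g (⟨hg, hg1⟩ | rfl)
        · exact hder g hg hg1
        · exact hd
      have h2 := Set.ncard_le_ncard hsub (Set.toFinite _)
      rw [Set.union_singleton, Set.ncard_insert_of_notMem (fun h => hdN h.1) (Set.toFinite _),
        Set.ncard_diff_singleton_of_mem (one_mem N), ← Nat.card_coe_set_eq] at h2
      have h3 : Nat.card N = Nat.card Ω := by
        rw [← MulAction.index_stabilizer_of_transitive N α, hNreg α, Subgroup.index_bot]
      have h4 : Nat.card ((N : Set G) : Type _) = Nat.card N := rfl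
      have h5 : 0 < Nat.card N := Nat.card_pos
      omega
  · push Not at hout
    right; left
    have hone : ∀ g : G, g ≠ 1 → ∀ x y : Ω, x ≠ y → g • x = x → g • y ≠ y := by
      intro g hg x y hxy hx hy
      by_cases hgN : g ∈ N
      · exact hder g hgN hg x hx
      · exact hxy (CfsgLib.Perm.fixed_unique N hout hgN hx hy)
    have hle : ∀ g : G, g ≠ 1 → Nat.card (MulAction.fixedBy Ω g) ≤ 1 := fun g hg =>
      Finite.card_le_one_iff_subsingleton.2 ⟨fun x y => Subtype.ext (by_contra fun hne => hone g hg _ _ hne x.2 y.2)⟩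
    have h1 := CfsgLib.Perm.DerangementAffine.card_derangements (G := G) (X := Ω) hone
    obtain ⟨c₁, c₂, hne, hDeq⟩ := Set.ncard_eq_two.1 hDcard
    have hsize : ∀ c ∈ D, c.carrier.ncard = Nat.card (MulAction.stabilizer G α) := by
      rintro c ⟨v, rfl, hv⟩
      have hvN : v ∈ N := by
        by_contra h
        obtain ⟨ω, hω⟩ := hout v h
        exact hv ω hω
      exact CfsgLib.Perm.DerangementAffine.ncard_carrier_eq hNc hone α hvN hv
    have hset : {g : G | ∀ ω : Ω, g • ω ≠ ω} = c₁.carrier ∪ c₂.carrier := by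
      ext g
      rw [Set.mem_union, ConjClasses.mem_carrier_iff_mk_eq, ConjClasses.mem_carrier_iff_mk_eq]
      constructor
      · intro hg
        have : ConjClasses.mk g ∈ D := ⟨g, rfl, hg⟩
        rw [hDeq] at this
        simpa using this
      · intro hg
        exact CfsgLib.Perm.DerangementAffine.derangement_of_mk_mem (show ConjClasses.mk g ∈ D by rw [hDeq]; simpa using hg)
    rw [hset, Set.ncard_union_eq (Set.disjoint_left.2 fun g h h' => hne
      ((ConjClasses.mem_carrier_iff_mk_eq.1 h).symm.trans (ConjClasses.mem_carrier_iff_mk_eq.1 h'))) (Set.toFinite _) (Set.toFinite _),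
      hsize c₁ (by rw [hDeq]; simp), hsize c₂ (by rw [hDeq]; simp), Nat.card_eq_fintype_card (α := Ω)] at h1
    exact ⟨hreg, hle, by omega, by omega⟩

end Cfsg.Agent.S3520
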