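import Cfsg.Statements.S3532
import Cfsg.Agent.S2475
import Cfsg.Agent.Spec53.AffineSpectrum
import Mathlib.FieldTheory.Finite.GaloisField

set_option autoImplicit false
open Cfsg

namespace Cfsg.Agent.S3532

open CfsgLib.Spec53 in
/-- A solvable group whose element orders are the divisors of `p` and of `b`, for `b ∣ p ^ n - 1`. -/
theorem exists_two_kernel (p n b : ℕ) [hp : Fact p.Prime] (hn : n ≠ 0) (hb : b ∣ p ^ n - 1) :
    ∃ (H : Type) (_ : Group H) (_ : Finite H), Group.IsSolvable H ∧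
      ∀ m, m ∈ Set.range (orderOf : H → ℕ) ↔ m ∣ p ∨ m ∣ b := by
  classical
  haveI : Fintype (GaloisField p n) := Fintype.ofFinite _
  obtain ⟨u, hu⟩ := IsCyclic.exists_ofOrder_eq_natCard (α := (GaloisField p n)ˣ)
  rw [Nat.card_units, GaloisField.card p n hn] at hu
  set y := u ^ (orderOf u / b) with hy'
  have hy : orderOf y = b := orderOf_pow_orderOf_div (orderOf_pos u).ne' (hu ▸ hb)
  let L : Subgroup (GaloisField p n)ˣ := Subgroup.zpowers y
  let V := GaloisField p n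
  haveI : Finite (Aff L V) := Finite.of_equiv _ SemidirectProduct.equivProd.symm
  refine ⟨Aff L V, inferInstance, inferInstance, ?_, fun m => ?_⟩
  · exact Group.isSolvable_of_ker_le_range (SemidirectProduct.inl : Multiplicative V →* Aff L V)
      (SemidirectProduct.rightHom : Aff L V →* L)
      (le_of_eq SemidirectProduct.range_inl_eq_ker_rightHom.symm)
  · have hchar : ∀ v : V, p • v = 0 := fun v => by
      rw [nsmul_eq_mul, CharP.cast_eq_zero, zero_mul]
    have hspec := range_orderOf_aff (L := L) (V := V) {p, b} (fun x => ?_) (fun k hk => ?_)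
    · rw [hspec]
      exact ⟨fun ⟨k, hk, hd⟩ => hk.elim (fun e => Or.inl (e ▸ hd)) (fun e => Or.inr (e ▸ hd)),
        fun h => h.elim (fun hd => ⟨p, Or.inl rfl, hd⟩) (fun hd => ⟨b, Or.inr rfl, hd⟩)⟩
    · by_cases hx : x = 1
      · refine ⟨p, Or.inl rfl, ?_⟩
        have := kills_mul_of_pow (V := V) (m := 1) (x := x) hchar (by rw [hx, one_pow])
        rwa [one_mul] at this
      · refine ⟨b, Or.inr rfl, kills_of_no_fixed ?_ fun w hw => ?_⟩
        · have h1 : orderOf x ∣ Nat.card L := orderOf_dvd_natCard x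
          rw [Nat.card_zpowers, hy] at h1
          exact orderOf_dvd_iff_pow_eq_one.1 h1
        · by_contra hw0
          have h1 : ((x : (GaloisField p n)ˣ) : GaloisField p n) * w = w := hw
          exact hx (Subtype.ext (Units.ext ((mul_eq_right₀ hw0).1 h1)))
    · rcases hk with rfl | rfl
      · refine ⟨affMk (1 : V) (1 : L), ?_⟩
        rw [orderOf_affMk_fixed hchar one_ne_zero (one_smul L _)
          (by rw [orderOf_one]; exact Nat.coprime_one_right _), orderOf_one, mul_one]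
      · refine ⟨affMk (0 : V) ⟨y, Subgroup.mem_zpowers y⟩, ?_⟩
        rw [orderOf_affMk_zero, Subgroup.orderOf_mk, hy]

/-- Let q ≥ 4 be a prime power and L = PSL(2,q). There is a finite solvable group with the same set of element orders as L × L (so L × L is not determined by its spectrum). -/
theorem result {F : Type*} [Field F] [Fintype F] (hF : 4 ≤ Fintype.card F) :
    ∃ (H : Type) (_ : Group H) (_ : Finite H), Group.IsSolvable H ∧
      Set.range (orderOf : H → ℕ) = Set.range (orderOf : Matrix.ProjectiveSpecialLinearGroup (Fin 2) F × Matrix.ProjectiveSpecialLinearGroup (Fin 2) F → ℕ) := by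
  classical
  obtain ⟨p, hchar⟩ := CharP.exists F
  haveI := hchar
  haveI : Fact p.Prime := ⟨CharP.char_is_prime F p⟩
  obtain ⟨n, -, hq⟩ := FiniteField.card F p
  have hspec := Cfsg.Agent.S2475.result (F := F) p hF
  set d := Nat.gcd 2 (Fintype.card F - 1) with hd
  have hd1 : d ∣ Fintype.card F - 1 := Nat.gcd_dvd_right _ _
  have hd2 : d ∣ Fintype.card F + 1 := by
    have h := dvd_add hd1 (Nat.gcd_dvd_left 2 (Fintype.card F - 1))
    rwa [show Fintype.card F - 1 + 2 = Fintype.card F + 1 by omega] at h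
  obtain ⟨H₁, i₁, j₁, hs₁, h₁⟩ := exists_two_kernel p n ((Fintype.card F - 1) / d) n.pos.ne'
    (hq ▸ Nat.div_dvd_of_dvd hd1)
  obtain ⟨H₂, i₂, j₂, hs₂, h₂⟩ := exists_two_kernel p (2 * n) ((Fintype.card F + 1) / d)
    (by have := n.pos; omega) (by
      refine (Nat.div_dvd_of_dvd hd2).trans ⟨Fintype.card F - 1, ?_⟩
      rw [mul_comm 2, pow_mul, ← hq, ← Nat.sq_sub_sq, one_pow])
  refine ⟨H₁ × H₂, inferInstance, inferInstance, inferInstance, Set.ext fun m => ?_⟩
  have hL : ∀ k, k ∈ Set.range (orderOf : Matrix.ProjectiveSpecialLinearGroup (Fin 2) F → ℕ) ↔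
      k ∣ p ∨ k ∣ (Fintype.card F - 1) / d ∨ k ∣ (Fintype.card F + 1) / d := fun k => by
    rw [hspec]; rfl
  constructor
  · rintro ⟨⟨a, c⟩, rfl⟩
    obtain ⟨a', ha'⟩ := (hL (orderOf a)).2 (((h₁ _).1 ⟨a, rfl⟩).imp_right Or.inl)
    obtain ⟨c', hc'⟩ := (hL (orderOf c)).2 (((h₂ _).1 ⟨c, rfl⟩).imp_right Or.inr)
    exact ⟨(a', c'), by rw [Prod.orderOf_mk, Prod.orderOf_mk, ha', hc']⟩
  · rintro ⟨⟨a, c⟩, rfl⟩
    have key : ∃ s t, (s ∣ p ∨ s ∣ (Fintype.card F - 1) / d) ∧ (t ∣ p ∨ t ∣ (Fintype.card F + 1) / d) ∧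
        orderOf a ∣ Nat.lcm s t ∧ orderOf c ∣ Nat.lcm s t ∧ s ∣ Nat.lcm (orderOf a) (orderOf c) ∧
        t ∣ Nat.lcm (orderOf a) (orderOf c) := by
      rcases (hL _).1 ⟨a, rfl⟩ with ha | ha | ha <;> rcases (hL _).1 ⟨c, rfl⟩ with hc | hc | hc
      · -- both divide `p`
        exact ⟨_, _, Or.inl ha, Or.inl hc, Nat.dvd_lcm_left _ _, Nat.dvd_lcm_right _ _,
          Nat.dvd_lcm_left _ _, Nat.dvd_lcm_right _ _⟩
      · exact ⟨_, _, Or.inr hc, Or.inl ha, Nat.dvd_lcm_right _ _, Nat.dvd_lcm_left _ _,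
          Nat.dvd_lcm_right _ _, Nat.dvd_lcm_left _ _⟩
      · exact ⟨_, _, Or.inl ha, Or.inr hc, Nat.dvd_lcm_left _ _, Nat.dvd_lcm_right _ _,
          Nat.dvd_lcm_left _ _, Nat.dvd_lcm_right _ _⟩
      · exact ⟨_, _, Or.inr ha, Or.inl hc, Nat.dvd_lcm_left _ _, Nat.dvd_lcm_right _ _,
          Nat.dvd_lcm_left _ _, Nat.dvd_lcm_right _ _⟩
      · exact ⟨Nat.lcm (orderOf a) (orderOf c), 1, Or.inr (Nat.lcm_dvd ha hc), Or.inl (one_dvd _),
          (Nat.dvd_lcm_left _ _).trans (Nat.dvd_lcm_left _ _),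
          (Nat.dvd_lcm_right _ _).trans (Nat.dvd_lcm_left _ _), dvd_rfl, one_dvd _⟩
      · exact ⟨_, _, Or.inr ha, Or.inr hc, Nat.dvd_lcm_left _ _, Nat.dvd_lcm_right _ _,
          Nat.dvd_lcm_left _ _, Nat.dvd_lcm_right _ _⟩
      · exact ⟨_, _, Or.inl hc, Or.inr ha, Nat.dvd_lcm_right _ _, Nat.dvd_lcm_left _ _,
          Nat.dvd_lcm_right _ _, Nat.dvd_lcm_left _ _⟩
      · exact ⟨_, _, Or.inr hc, Or.inr ha, Nat.dvd_lcm_right _ _, Nat.dvd_lcm_left _ _,
          Nat.dvd_lcm_right _ _, Nat.dvd_lcm_left _ _⟩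
      · exact ⟨1, Nat.lcm (orderOf a) (orderOf c), Or.inl (one_dvd _), Or.inr (Nat.lcm_dvd ha hc),
          (Nat.dvd_lcm_left _ _).trans (Nat.dvd_lcm_right _ _),
          (Nat.dvd_lcm_right _ _).trans (Nat.dvd_lcm_right _ _), one_dvd _, dvd_rfl⟩
    obtain ⟨s, t, hs, ht, k1, k2, k3, k4⟩ := key
    obtain ⟨a', rfl⟩ := (h₁ s).2 hs
    obtain ⟨c', rfl⟩ := (h₂ t).2 ht
    refine ⟨(a', c'), ?_⟩
    rw [Prod.orderOf_mk, Prod.orderOf_mk]
    exact Nat.dvd_antisymm (Nat.lcm_dvd k3 k4) (Nat.lcm_dvd k1 k2)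

end Cfsg.Agent.S3532
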