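import Cfsg.Statements.S3554


set_option autoImplicit false
open Cfsg

namespace Cfsg.Agent.S3554

open MulAction


/-- Let G act faithfully and transitively on a finite set and suppose G has a non-trivial cyclic normal subgroup. Then some element of G of prime order fixes no point. -/
theorem result {G Ω : Type*} [Group G] [Finite G] [MulAction G Ω] [FaithfulSMul G Ω] [Finite Ω]
    (htrans : MulAction.IsPretransitive G Ω) (C : Subgroup G) (hC : C.Normal) (hC1 : C ≠ ⊥) (hcyc : IsCyclic ↥C) :
    ∃ g : G, (orderOf g).Prime ∧ ∀ ω : Ω, g • ω ≠ ω := by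
  have hC1' : Nat.card C ≠ 1 := fun h => hC1 (Subgroup.eq_bot_of_card_eq C h)
  obtain ⟨p, hp, hpd⟩ := Nat.exists_prime_and_dvd hC1'
  haveI := Fact.mk hp
  haveI := hcyc
  obtain ⟨c, hc⟩ := exists_prime_orderOf_dvd_card' p hpd
  have hord : orderOf (c : G) = p := by rw [Subgroup.orderOf_coe, hc]
  refine ⟨c, hord.symm ▸ hp, fun ω hω => ?_⟩
  have hall : ∀ g : G, ∀ x : Ω, (c : G) • x = x → (c : G) • (g • x) = g • x := by
    intro g x hx
    -- a conjugate of `c` is a power of `c`
    obtain ⟨d, hdval⟩ : ∃ d : C, (d : G) = g⁻¹ * c * g := ⟨⟨_, hC.conj_mem' _ c.2 g⟩, rfl⟩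
    have hd : orderOf d = p := by
      rw [← Subgroup.orderOf_coe, hdval, ← hord]
      simpa using (orderOf_injective (MulAut.conj g⁻¹).toMonoidHom (MulAut.conj g⁻¹).injective (c : G))
    have hz : d ∈ Subgroup.zpowers c := by
      classical
      haveI := Fintype.ofFinite C
      by_contra hd'
      have hsub : insert d (Subgroup.zpowers c : Set C).toFinset ⊆
          Finset.univ.filter (fun x : C => x ^ p = 1) := by
        intro x hx
        rw [Finset.mem_insert, Set.mem_toFinset] at hx
        refine Finset.mem_filter.2 ⟨Finset.mem_univ _, ?_⟩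
        rcases hx with rfl | hx
        · rw [← hd, pow_orderOf_eq_one]
        · obtain ⟨k, rfl⟩ := hx
          show (c ^ k) ^ p = 1
          rw [← zpow_natCast, ← zpow_mul, mul_comm, zpow_mul, zpow_natCast, ← hc, pow_orderOf_eq_one, one_zpow]
      have h1 := (Finset.card_le_card hsub).trans (IsCyclic.card_pow_eq_one_le hp.pos)
      rw [Finset.card_insert_of_notMem (by rwa [Set.mem_toFinset]), Set.toFinset_card] at h1
      have h2 : Nat.card (Subgroup.zpowers c) = p := by rw [Nat.card_zpowers, hc]
      rw [Nat.card_eq_fintype_card] at h2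
      simp only [SetLike.coe_sort_coe] at h1
      omega
    obtain ⟨k, hk⟩ := Subgroup.mem_zpowers_iff.1 hz
    have hk' : (c : G) ^ k = g⁻¹ * c * g := by
      rw [← hdval, ← hk]; simp
    have hfix : (c : G) ^ k • x = x := by
      have : (c : G) ∈ stabilizer G x := hx
      exact (stabilizer G x).zpow_mem this k
    rw [hk', mul_smul, mul_smul, inv_smul_eq_iff] at hfix
    exact hfix
  have : (c : G) = 1 := by
    apply FaithfulSMul.eq_of_smul_eq_smul (α := Ω)
    intro x
    obtain ⟨g, rfl⟩ := exists_smul_eq G ω x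
    rw [one_smul, hall g ω hω]
  rw [this, orderOf_one] at hord
  exact hp.ne_one hord.symm

end Cfsg.Agent.S3554
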