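import Cfsg.Statements.S3555
-- no helper imports

set_option autoImplicit false
open Cfsg

namespace Cfsg.Agent.S3555

open scoped Pointwise

/-- Burnside's lemma, in the form used below. -/
theorem burnside_weights (G Ω : Type*) [Group G] [Fintype G] [MulAction G Ω] [Finite Ω] :
    ∑ g : G, ((Nat.card (MulAction.fixedBy Ω g) : ℤ) - 1) =
      ((Nat.card (MulAction.orbitRel.Quotient G Ω) : ℤ) - 1) * Nat.card G := by
  classical
  haveI := Fintype.ofFinite Ω
  haveI := Fintype.ofFinite (MulAction.orbitRel.Quotient G Ω)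
  have h := MulAction.sum_card_fixedBy_eq_card_orbits_mul_card_group G Ω
  simp only [Finset.sum_sub_distrib, Nat.card_eq_fintype_card, Finset.sum_const, Finset.card_univ, nsmul_eq_mul, mul_one]
  rw [sub_mul, one_mul, ← Nat.cast_mul, ← h, Nat.cast_sum]

theorem orbits_eq_one {G Ω : Type*} [Group G] [MulAction G Ω] (h : MulAction.IsPretransitive G Ω) (a : Ω) :
    Nat.card (MulAction.orbitRel.Quotient G Ω) = 1 := by
  haveI : Subsingleton (MulAction.orbitRel.Quotient G Ω) :=
    MulAction.pretransitive_iff_subsingleton_quotient G Ω |>.1 h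
  haveI : Nonempty (MulAction.orbitRel.Quotient G Ω) := ⟨Quotient.mk'' a⟩
  exact Nat.card_of_subsingleton (Quotient.mk'' a)

/-- A transitive `2`-group in which all derangements are involutions is regular of exponent `2`. -/
theorem two_group_regular {P Ω : Type*} [Group P] [Finite P] [MulAction P Ω] [FaithfulSMul P Ω]
    (h2 : IsPGroup 2 P) (ht : MulAction.IsPretransitive P Ω) (hinv : ∀ g : P, (∀ ω : Ω, g • ω ≠ ω) → orderOf g = 2) :
    ∀ x : P, (x ≠ 1 → ∀ ω : Ω, x • ω ≠ ω) ∧ x * x = 1 := by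
  haveI := Fact.mk Nat.prime_two
  haveI := h2.isNilpotent
  have key : ∀ x : P, x ≠ 1 → ∀ ω : Ω, x • ω ≠ ω := by
    intro x hx a ha
    set H := MulAction.stabilizer P a with hH
    have hnormal : H.Normal → False := by
      intro hn
      apply hx
      refine eq_of_smul_eq_smul (α := Ω) fun b => ?_
      obtain ⟨k, rfl⟩ := MulAction.exists_smul_eq P a b
      have h1 : k⁻¹ * x * (k⁻¹)⁻¹ ∈ H := hn.conj_mem x ha k⁻¹
      rw [hH, MulAction.mem_stabilizer_iff, inv_inv, mul_smul, mul_smul, inv_smul_eq_iff] at h1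
      rw [h1, one_smul]
    rcases eq_top_or_exists_le_coatom H with h | ⟨M, hM, hHM⟩
    · exact hnormal (h ▸ inferInstance)
    haveI hMn : M.Normal := Subgroup.NormalizerCondition.normal_of_coatom M Group.normalizerCondition_of_isNilpotent hM
    have hout : ∀ g ∉ M, g * g = 1 := by
      intro g hg
      have hd : ∀ ω : Ω, g • ω ≠ ω := by
        intro b hb
        obtain ⟨k, rfl⟩ := MulAction.exists_smul_eq P a b
        have h1 : k⁻¹ * g * (k⁻¹)⁻¹ ∈ H := by
          rw [hH, MulAction.mem_stabilizer_iff, inv_inv, mul_smul, mul_smul, inv_smul_eq_iff]; exact hb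
        have h3 := hMn.conj_mem _ (hHM h1) k
        simp only [mul_assoc, inv_inv, mul_inv_cancel_left, mul_inv_cancel, mul_one] at h3
        exact hg h3
      rw [← sq, ← hinv g hd, pow_orderOf_eq_one]
    have hflip : ∀ g ∉ M, ∀ m ∈ M, g * m * g⁻¹ = m⁻¹ := by
      intro g hg m hm
      have h1 := hout (g * m) fun h => hg ((M.mul_mem_cancel_right hm).1 h)
      rw [inv_eq_of_mul_eq_one_right (hout g hg), eq_inv_iff_mul_eq_one, ← h1]
      group
    obtain ⟨g, hg⟩ : ∃ g, g ∉ M := by
      by_contra h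
      push Not at h
      exact hM.1 (eq_top_iff.2 fun y _ => h y)
    have hcomm : ∀ m ∈ M, ∀ k ∈ M, m * k = k * m := by
      intro m hm k hk
      have h1 := hflip g hg (m * k) (M.mul_mem hm hk)
      rw [show g * (m * k) * g⁻¹ = (g * m * g⁻¹) * (g * k * g⁻¹) by group, hflip g hg m hm, hflip g hg k hk,
        ← mul_inv_rev, inv_inj] at h1
      exact h1.symm
    refine hnormal ⟨fun m hm y => ?_⟩
    by_cases hy : y ∈ M
    · rw [hcomm y hy m (hHM hm), mul_inv_cancel_right]; exact hm
    · rw [hflip y hy m (hHM hm)]; exact H.inv_mem hm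
  refine fun x => ⟨key x, ?_⟩
  by_cases hx : x = 1
  · rw [hx, one_mul]
  · rw [← sq, ← hinv x (key x hx), pow_orderOf_eq_one]

variable {G Ω : Type*} [Group G] [Finite G] [MulAction G Ω] [FaithfulSMul G Ω] [Finite Ω]

/-- The two facts about the centralizer of a derangement. -/
theorem derangement_centralizer (htrans : MulAction.IsPretransitive G Ω)
    (hinv : ∀ g : G, (∀ ω : Ω, g • ω ≠ ω) → orderOf g = 2) (a : Ω) {d : G} (hd : ∀ ω : Ω, d • ω ≠ ω) :
    MulAction.IsPretransitive (Subgroup.centralizer ({d} : Set G)) Ω ∧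
      ∀ x ∉ Subgroup.centralizer ({d} : Set G), 2 ≤ Nat.card (MulAction.fixedBy Ω x) → d * x * d⁻¹ = x⁻¹ := by
  classical
  haveI := Fintype.ofFinite G
  set C := Subgroup.centralizer ({d} : Set G) with hC
  let w : G → ℤ := fun g => (Nat.card (MulAction.fixedBy Ω g) : ℤ) - 1
  set out := Finset.univ.filter (fun g : G => g ∉ C) with hout
  set E := out.filter (fun g => ∀ ω : Ω, g • ω ≠ ω) with hE
  set R := E.image (fun e => d * e) with hR
  have hd2 : d * d = 1 := by rw [← sq, ← hinv d hd, pow_orderOf_eq_one]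
  have hEmem : ∀ e ∈ E, e ∉ C ∧ (∀ ω : Ω, e • ω ≠ ω) ∧ e * e = 1 := by
    intro e he
    simp only [hE, hout, Finset.mem_filter, Finset.mem_univ, true_and] at he
    exact ⟨he.1, he.2, by rw [← sq, ← hinv e he.2, pow_orderOf_eq_one]⟩
  have hflip : ∀ e ∈ E, d * (d * e) * d⁻¹ = (d * e)⁻¹ := by
    intro e he
    rw [mul_inv_rev, inv_eq_of_mul_eq_one_right hd2, inv_eq_of_mul_eq_one_right (hEmem e he).2.2, ← mul_assoc, hd2, one_mul]
  have hRout : ∀ e ∈ E, d * e ∈ out := by
    intro e he
    simp only [hout, Finset.mem_filter, Finset.mem_univ, true_and]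
    intro h
    exact (hEmem e he).1 ((C.mul_mem_cancel_left (by rw [hC, Subgroup.mem_centralizer_singleton_iff])).1 h)
  have hRtwo : ∀ e ∈ E, 2 ≤ Nat.card (MulAction.fixedBy Ω (d * e)) := by
    intro e he
    have hne : ∃ b : Ω, (d * e) • b = b := by
      by_contra hh
      push Not at hh
      apply (hEmem e he).1
      have h1 : (d * e) * (d * e) = 1 := by rw [← sq, ← hinv _ hh, pow_orderOf_eq_one]
      rw [hC, Subgroup.mem_centralizer_singleton_iff]
      have h2 : d * e = (d * e)⁻¹ := eq_inv_of_mul_eq_one_left h1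
      rw [mul_inv_rev, inv_eq_of_mul_eq_one_right hd2, inv_eq_of_mul_eq_one_right (hEmem e he).2.2] at h2
      exact h2.symm
    obtain ⟨b, hb⟩ := hne
    have hdb : (d * e) • (d • b) = d • b := by
      rw [← mul_smul]
      have h1 : d * e * d = d * (d * e)⁻¹ := by
        rw [← hflip e he, inv_eq_of_mul_eq_one_right hd2, ← mul_assoc d, ← mul_assoc d, hd2, one_mul]
      rw [h1, mul_smul]
      congr 1
      rw [inv_smul_eq_iff, hb]
    haveI : Nontrivial (MulAction.fixedBy Ω (d * e)) :=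
      ⟨⟨⟨b, hb⟩, ⟨d • b, hdb⟩, fun h => hd b (congrArg Subtype.val h).symm⟩⟩
    exact Finite.one_lt_card
  have hwE : ∀ e ∈ E, w e = -1 := by
    intro e he
    have h0 : Nat.card (MulAction.fixedBy Ω e) = 0 := by
      haveI : IsEmpty (MulAction.fixedBy Ω e) := ⟨fun b => (hEmem e he).2.1 b.1 b.2⟩
      exact Nat.card_of_isEmpty
    simp only [w, h0]; norm_num
  have hwnE : ∀ x ∈ out, x ∉ E → 0 ≤ w x := by
    intro x hx hxE
    have : ∃ b : Ω, x • b = b := by
      by_contra hh
      push Not at hh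
      exact hxE (Finset.mem_filter.2 ⟨hx, hh⟩)
    obtain ⟨b, hb⟩ := this
    haveI : Nonempty (MulAction.fixedBy Ω x) := ⟨⟨b, hb⟩⟩
    have h1 : 0 < Nat.card (MulAction.fixedBy Ω x) := Nat.card_pos
    simp only [w]; omega
  have hwR : ∀ x ∈ R, 1 ≤ w x := by
    intro x hx
    obtain ⟨e, he, rfl⟩ := Finset.mem_image.1 hx
    have := hRtwo e he
    simp only [w]; omega
  have hdisj : Disjoint E R := by
    rw [Finset.disjoint_left]
    intro x hxE hxR
    have h1 := hwE x hxE
    have h2 := hwR x hxR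
    omega
  have hsub : E ∪ R ⊆ out := by
    intro x hx
    rcases Finset.mem_union.1 hx with h | h
    · exact (Finset.mem_filter.1 h).1
    · obtain ⟨e, he, rfl⟩ := Finset.mem_image.1 h
      exact hRout e he
  have hcard : R.card = E.card := Finset.card_image_of_injective _ (mul_right_injective d)
  have hsum : ∑ x ∈ out, w x = ∑ x ∈ out \ (E ∪ R), w x + (∑ x ∈ E, w x + ∑ x ∈ R, w x) := by
    rw [← Finset.sum_union hdisj, Finset.sum_sdiff hsub]
  have hEsum : ∑ x ∈ E, w x = -(E.card : ℤ) := by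
    rw [Finset.sum_congr rfl hwE, Finset.sum_const, nsmul_eq_mul, mul_neg, mul_one]
  have hRsum : (E.card : ℤ) ≤ ∑ x ∈ R, w x := by
    rw [← hcard]
    simpa using Finset.card_nsmul_le_sum R w 1 hwR
  have hrest : ∀ x ∈ out \ (E ∪ R), 0 ≤ w x := fun x hx =>
    hwnE x (Finset.mem_sdiff.1 hx).1 fun h => (Finset.mem_sdiff.1 hx).2 (Finset.mem_union_left _ h)
  have hin : ∑ x ∈ Finset.univ.filter (fun g : G => g ∈ C), w x =
      ((Nat.card (MulAction.orbitRel.Quotient C Ω) : ℤ) - 1) * Nat.card C := by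
    rw [← burnside_weights C Ω, Finset.sum_subtype (Finset.univ.filter (fun g : G => g ∈ C)) (p := fun g => g ∈ C) (by simp)]
    exact Finset.sum_congr rfl fun x _ => rfl
  have htotal : ∑ x ∈ Finset.univ.filter (fun g : G => g ∈ C), w x + ∑ x ∈ out, w x = 0 := by
    rw [hout, Finset.sum_filter_add_sum_filter_not, burnside_weights G Ω, orbits_eq_one htrans a]
    simp
  haveI : Nonempty (MulAction.orbitRel.Quotient C Ω) := ⟨Quotient.mk'' a⟩
  have ht1 : 1 ≤ Nat.card (MulAction.orbitRel.Quotient C Ω) := Nat.card_pos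
  have hCpos : 0 < Nat.card C := Nat.card_pos
  have hr0 : 0 ≤ ∑ x ∈ out \ (E ∪ R), w x := Finset.sum_nonneg hrest
  have hle : ((Nat.card (MulAction.orbitRel.Quotient C Ω) : ℤ) - 1) * Nat.card C ≤ 0 := by
    rw [hin, hsum, hEsum] at htotal; linarith
  have ht : Nat.card (MulAction.orbitRel.Quotient C Ω) = 1 := by nlinarith
  refine ⟨(MulAction.pretransitive_iff_subsingleton_quotient C Ω).2 (Nat.card_eq_one_iff_unique.1 ht).1, fun x hxC hx2 => ?_⟩
  have hr : ∑ x ∈ out \ (E ∪ R), w x = 0 := by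
    rw [hin, hsum, hEsum, ht] at htotal
    simp only [Nat.cast_one, sub_self, zero_mul] at htotal
    linarith
  have hxout : x ∈ out := by simp [hout, hxC]
  have hxw : 1 ≤ w x := by simp only [w]; omega
  by_cases hxR : x ∈ R
  · obtain ⟨e, he, rfl⟩ := Finset.mem_image.1 hxR
    exact hflip e he
  · exfalso
    have hxE : x ∉ E := fun h => by have := hwE x h; omega
    have := (Finset.sum_eq_zero_iff_of_nonneg hrest).1 hr x (by simp [hxout, hxE, hxR])
    omega

theorem centralizer_isPGroup (hinv : ∀ g : G, (∀ ω : Ω, g • ω ≠ ω) → orderOf g = 2) {d : G} (hd : ∀ ω : Ω, d • ω ≠ ω) :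
    IsPGroup 2 (Subgroup.centralizer ({d} : Set G)) := by
  intro ⟨c, hc⟩
  obtain ⟨k, m, hm, hcm⟩ := Nat.exists_eq_pow_mul_and_not_dvd (orderOf_pos c).ne' 2 (by norm_num)
  refine ⟨k, Subtype.ext ?_⟩
  show c ^ 2 ^ k = 1
  set c' := c ^ 2 ^ k with hc'
  have hcom : Commute d c' := Commute.pow_right (show Commute d c from (Subgroup.mem_centralizer_singleton_iff.1 hc).symm) _
  have hcm' : c' ^ m = 1 := by rw [hc', ← pow_mul, ← hcm, pow_orderOf_eq_one]
  obtain ⟨j, hj⟩ : Odd m := Nat.not_even_iff_odd.1 fun h => hm h.two_dvd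
  have hd2 : d ^ 2 = 1 := by rw [← hinv d hd, pow_orderOf_eq_one]
  have hpow : (d * c') ^ m = d := by
    rw [hcom.mul_pow, hcm', mul_one, hj, pow_succ, pow_mul, hd2, one_pow, one_mul]
  have hfree : ∀ ω : Ω, (d * c') • ω ≠ ω := by
    intro b hb
    refine hd b ?_
    have h1 : d * c' ∈ MulAction.stabilizer G b := hb
    have h2 := Subgroup.pow_mem _ h1 m
    rwa [hpow] at h2
  have h2 : (d * c') ^ 2 = 1 := by rw [← hinv _ hfree, pow_orderOf_eq_one]
  rw [hcom.mul_pow, hd2, one_mul] at h2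
  rw [← orderOf_eq_one_iff]
  exact Nat.eq_one_of_dvd_coprimes ((Nat.prime_two.coprime_iff_not_dvd).2 hm) (orderOf_dvd_of_pow_eq_one h2)
    (orderOf_dvd_of_pow_eq_one hcm')

/-- The centralizer of a derangement is a regular elementary abelian `2`-group. -/
theorem derangement_regular (htrans : MulAction.IsPretransitive G Ω)
    (hinv : ∀ g : G, (∀ ω : Ω, g • ω ≠ ω) → orderOf g = 2) (a : Ω) {d : G} (hd : ∀ ω : Ω, d • ω ≠ ω) :
    (∀ x ∈ Subgroup.centralizer ({d} : Set G), x ≠ 1 → ∀ ω : Ω, x • ω ≠ ω) ∧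
      (∀ x ∈ Subgroup.centralizer ({d} : Set G), x * x = 1) := by
  haveI hCt := (derangement_centralizer htrans hinv a hd).1
  have key := two_group_regular (P := Subgroup.centralizer ({d} : Set G)) (Ω := Ω) (centralizer_isPGroup hinv hd) hCt
    fun g hg => by rw [← Subgroup.orderOf_coe]; exact hinv (g : G) hg
  exact ⟨fun x hx h1 ω => (key ⟨x, hx⟩).1 (fun h => h1 (congrArg Subtype.val h)) ω,
    fun x hx => congrArg Subtype.val (key ⟨x, hx⟩).2⟩

/-- Let G act faithfully and transitively on a finite set and suppose every element of G fixing no point is an involution. Then either G is an elementary abelian 2-group, or G is a Frobenius group whose Frobenius kernel is an elementary abelian 2-group: G has a Frobenius complement H, and the elements lying in no conjugate of H, together with the identity, pairwise commute and square to the identity. -/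
theorem result {G Ω : Type*} [Group G] [Finite G] [MulAction G Ω] [FaithfulSMul G Ω] [Finite Ω]
    (htrans : MulAction.IsPretransitive G Ω) (hinv : ∀ g : G, (∀ ω : Ω, g • ω ≠ ω) → orderOf g = 2) :
    (IsMulCommutative G ∧ ∀ g : G, g ^ 2 = 1) ∨
    (∃ H : Subgroup G, Cfsg.IsFrobeniusComplement H ∧
      (∀ x ∈ Cfsg.frobeniusKernel H, x ^ 2 = 1) ∧
      ∀ x ∈ Cfsg.frobeniusKernel H, ∀ y ∈ Cfsg.frobeniusKernel H, x * y = y * x) := by
  classical
  have hleft : (∀ g : G, g = 1) → IsMulCommutative G ∧ ∀ g : G, g ^ 2 = 1 := fun h =>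
    ⟨⟨⟨fun x y => by rw [h x, h y]⟩⟩, fun g => by rw [h g, one_pow]⟩
  rcases isEmpty_or_nonempty Ω with hemp | ⟨⟨a⟩⟩
  · exact Or.inl (hleft fun g => eq_of_smul_eq_smul (α := Ω) fun b => isEmptyElim b)
  by_cases htriv : ∀ g : G, g • a = a
  · refine Or.inl (hleft fun g => eq_of_smul_eq_smul (α := Ω) fun b => ?_)
    obtain ⟨k, rfl⟩ := MulAction.exists_smul_eq G a b
    rw [one_smul, htriv k, htriv g]
  obtain ⟨d, hd⟩ : ∃ d : G, ∀ ω : Ω, d • ω ≠ ω := by
    by_contra hh
    push Not at hh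
    haveI := Fintype.ofFinite G
    have h1 := burnside_weights G Ω
    rw [orbits_eq_one htrans a] at h1
    simp only [Nat.cast_one, sub_self, zero_mul] at h1
    have hnn : ∀ g ∈ (Finset.univ : Finset G), 0 ≤ (Nat.card (MulAction.fixedBy Ω g) : ℤ) - 1 := by
      intro g _
      obtain ⟨b, hb⟩ := hh g
      haveI : Nonempty (MulAction.fixedBy Ω g) := ⟨⟨b, hb⟩⟩
      have : 0 < Nat.card (MulAction.fixedBy Ω g) := Nat.card_pos
      omega
    have h2 := (Finset.sum_eq_zero_iff_of_nonneg hnn).1 h1 1 (Finset.mem_univ _)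
    push Not at htriv
    obtain ⟨g, hg⟩ := htriv
    haveI : Nontrivial (MulAction.fixedBy Ω (1 : G)) :=
      ⟨⟨⟨g • a, one_smul _ _⟩, ⟨a, one_smul _ _⟩, fun h => hg (congrArg Subtype.val h)⟩⟩
    have := Finite.one_lt_card (α := MulAction.fixedBy Ω (1 : G))
    omega
  set C := Subgroup.centralizer ({d} : Set G) with hC
  obtain ⟨hCfree, hC2⟩ := derangement_regular htrans hinv a hd
  haveI hCt := (derangement_centralizer htrans hinv a hd).1
  have hCcomm : ∀ x ∈ C, ∀ y ∈ C, x * y = y * x := by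
    intro x hx y hy
    calc x * y = (x * y)⁻¹ := (inv_eq_of_mul_eq_one_right (hC2 _ (C.mul_mem hx hy))).symm
      _ = y * x := by rw [mul_inv_rev, inv_eq_of_mul_eq_one_right (hC2 x hx), inv_eq_of_mul_eq_one_right (hC2 y hy)]
  have hsame : ∀ p ∈ C, p ≠ 1 → ∀ x, x * p = p * x → x ∈ C := by
    intro p hp hp1 x hx
    have hpd := hCfree p hp hp1
    obtain ⟨hfree, -⟩ := derangement_regular htrans hinv a hpd
    obtain ⟨⟨c, hc⟩, hca⟩ := MulAction.exists_smul_eq C a (x • a)
    have hcp : c ∈ Subgroup.centralizer ({p} : Set G) := Subgroup.mem_centralizer_singleton_iff.2 (hCcomm c hc p hp)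
    have hxp : x ∈ Subgroup.centralizer ({p} : Set G) := Subgroup.mem_centralizer_singleton_iff.2 hx
    have hfix : (c⁻¹ * x) • a = a := by
      rw [mul_smul, inv_smul_eq_iff]; exact hca.symm
    by_contra hxC
    exact hfree _ (Subgroup.mul_mem _ (Subgroup.inv_mem _ hcp) hxp)
      (fun h => hxC ((inv_mul_eq_one.1 h) ▸ hc)) a hfix
  have hD : ∀ e : G, (∀ ω : Ω, e • ω ≠ ω) → e ∈ C := by
    intro e he
    by_contra heC
    have he2 : e * e = 1 := by rw [← sq, ← hinv e he, pow_orderOf_eq_one]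
    have hd2 : d * d = 1 := by rw [← sq, ← hinv d hd, pow_orderOf_eq_one]
    have hdC : d ∈ C := Subgroup.mem_centralizer_singleton_iff.2 rfl
    set x := d * e with hx
    have hxC : x ∉ C := fun h => heC ((C.mul_mem_cancel_left hdC).1 h)
    have hxinv : d * x * d⁻¹ = x⁻¹ := by
      rw [hx, mul_inv_rev, inv_eq_of_mul_eq_one_right hd2, inv_eq_of_mul_eq_one_right he2, ← mul_assoc, hd2, one_mul]
    obtain ⟨b, hb⟩ : ∃ b : Ω, x • b = b := by
      by_contra hh
      push Not at hh
      have h1 : x * x = 1 := by rw [← sq, ← hinv x hh, pow_orderOf_eq_one]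
      refine hxC (Subgroup.mem_centralizer_singleton_iff.2 ?_)
      have h2 := hxinv
      rw [inv_eq_of_mul_eq_one_right h1, mul_inv_eq_iff_eq_mul] at h2
      exact h2.symm
    have hxdb : x • (d • b) = d • b := by
      have h1 : x * d = d * x⁻¹ := by rw [← hxinv, inv_eq_of_mul_eq_one_right hd2, ← mul_assoc d, ← mul_assoc d, hd2, one_mul]
      rw [← mul_smul, h1, mul_smul]
      congr 1
      rw [inv_smul_eq_iff, hb]
    have hx2 : 2 ≤ Nat.card (MulAction.fixedBy Ω x) := by
      haveI : Nontrivial (MulAction.fixedBy Ω x) :=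
        ⟨⟨⟨b, hb⟩, ⟨d • b, hxdb⟩, fun h => hd b (congrArg Subtype.val h).symm⟩⟩
      exact Finite.one_lt_card
    by_cases hex : ∃ p ∈ C, p ≠ 1 ∧ p ≠ d
    · obtain ⟨p, hp, hp1, hpd⟩ := hex
      have hpfree := hCfree p hp hp1
      have hxp : x ∉ Subgroup.centralizer ({p} : Set G) := fun h =>
        hxC (hsame p hp hp1 x (Subgroup.mem_centralizer_singleton_iff.1 h))
      have h1 := (derangement_centralizer htrans hinv a hpfree).2 x hxp hx2
      refine hxC (hsame (p⁻¹ * d) (C.mul_mem (C.inv_mem hp) hdC) (fun h => hpd (inv_mul_eq_one.1 h)) x ?_)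
      calc x * (p⁻¹ * d) = p⁻¹ * (p * x * p⁻¹) * d := by group
        _ = p⁻¹ * (d * x * d⁻¹) * d := by rw [h1, hxinv]
        _ = p⁻¹ * d * x := by group
    · push Not at hex
      refine hxC ?_
      have h1 : x = 1 := by
        refine eq_of_smul_eq_smul (α := Ω) fun w => ?_
        rw [one_smul]
        obtain ⟨⟨c, hc⟩, rfl⟩ := MulAction.exists_smul_eq C b w
        by_cases hc1 : c = 1
        · subst hc1
          show x • ((1 : G) • b) = (1 : G) • b
          rw [one_smul, hb]
        · obtain rfl := hex c hc hc1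
          exact hxdb
      rw [h1]; exact C.one_mem
  haveI hCn : C.Normal := by
    refine ⟨fun p hp g => ?_⟩
    by_cases hp1 : p = 1
    · rw [hp1, mul_one, mul_inv_cancel]; exact C.one_mem
    · refine hD _ fun ω h => hCfree p hp hp1 (g⁻¹ • ω) ?_
      rw [mul_smul, mul_smul] at h
      exact smul_left_cancel g (by rw [h, smul_inv_smul])
  have hreg : ∀ p ∈ C, ∀ q ∈ C, ∀ w : Ω, p • w = q • w → p = q := by
    intro p hp q hq w h
    by_contra hne
    refine hCfree (q⁻¹ * p) (C.mul_mem (C.inv_mem hq) hp) (fun h1 => hne (inv_mul_eq_one.1 h1).symm) w ?_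
    rw [mul_smul, inv_smul_eq_iff, h]
  by_cases hH : MulAction.stabilizer G a = ⊥
  · left
    have hall : ∀ g : G, g ∈ C := by
      intro g
      obtain ⟨⟨c, hc⟩, hca⟩ := MulAction.exists_smul_eq C a (g • a)
      have h1 : c⁻¹ * g ∈ MulAction.stabilizer G a := by
        rw [MulAction.mem_stabilizer_iff, mul_smul, inv_smul_eq_iff]; exact hca.symm
      rw [hH, Subgroup.mem_bot, inv_mul_eq_one] at h1
      exact h1 ▸ hc
    exact ⟨⟨⟨fun x y => hCcomm x (hall x) y (hall y)⟩⟩, fun g => by rw [sq]; exact hC2 g (hall g)⟩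
  right
  have hker : ∀ x ∈ Cfsg.frobeniusKernel (MulAction.stabilizer G a), x ∈ C := by
    rintro x (rfl | hx)
    · exact C.one_mem
    · refine hD x fun w hw => ?_
      obtain ⟨g, rfl⟩ := MulAction.exists_smul_eq G a w
      refine hx g ?_
      rw [Subgroup.mem_pointwise_smul_iff_inv_smul_mem, ← map_inv, MulAut.smul_def, MulAut.conj_apply, inv_inv,
        MulAction.mem_stabilizer_iff, mul_smul, mul_smul, hw, inv_smul_smul]
  refine ⟨MulAction.stabilizer G a, ⟨hH, ?_, ?_⟩, fun x hx => by rw [sq]; exact hC2 x (hker x hx),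
    fun x hx y hy => hCcomm x (hker x hx) y (hker y hy)⟩
  · intro htop
    exact hd a (show d ∈ MulAction.stabilizer G a from htop ▸ Subgroup.mem_top d)
  · intro g hg
    rw [Subgroup.eq_bot_iff_forall]
    intro x hx
    obtain ⟨hxa, hxg⟩ := Subgroup.mem_inf.1 hx
    rw [Subgroup.mem_pointwise_smul_iff_inv_smul_mem, ← map_inv, MulAut.smul_def, MulAut.conj_apply, inv_inv,
      MulAction.mem_stabilizer_iff, mul_smul, mul_smul, inv_smul_eq_iff] at hxg
    rw [MulAction.mem_stabilizer_iff] at hxa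
    obtain ⟨⟨p, hp⟩, hpa⟩ := MulAction.exists_smul_eq C a (g • a)
    have hpa : p • a = g • a := hpa
    have hp1 : p ≠ 1 := by
      rintro rfl
      rw [one_smul] at hpa
      exact hg (MulAction.mem_stabilizer_iff.2 hpa.symm)
    have hq : x * p * x⁻¹ = p := by
      refine hreg _ (hCn.conj_mem p hp x) p hp a ?_
      rw [mul_smul, mul_smul, show x⁻¹ • a = a from inv_smul_eq_iff.2 hxa.symm, hpa, hxg]
    have hxC : x ∈ C := hsame p hp hp1 x (mul_inv_eq_iff_eq_mul.1 hq)
    by_contra hx1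
    exact hCfree x hxC hx1 a hxa

end Cfsg.Agent.S3555
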