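import Cfsg.Statements.S3557
import Cfsg.Agent.PGroup.Normal

set_option autoImplicit false
open Cfsg

namespace Cfsg.Agent.S3557

open MulAction

theorem orbit_card_dvd {G Ω : Type*} [Group G] [Finite G] [MulAction G Ω] [IsPretransitive G Ω]
    [Finite Ω] {p : ℕ} [hp : Fact p.Prime] (P : Sylow p G) (v : ℕ) (hv : p ^ v ∣ Nat.card Ω) (a : Ω) :
    p ^ v ∣ (orbit (P : Subgroup G) a).ncard := by
  have hs : Nat.card (stabilizer (P : Subgroup G) a) ∣ Nat.card (stabilizer G a) :=
    Subgroup.card_dvd_of_injective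
      ({ toFun := fun g => ⟨(g.1 : G), g.2⟩, map_one' := rfl, map_mul' := fun _ _ => rfl } :
        stabilizer (P : Subgroup G) a →* stabilizer G a)
      (fun g h e => Subtype.ext (Subtype.ext (congrArg (fun x : stabilizer G a => (x : G)) e)))
  have hG : Nat.card (stabilizer G a) * Nat.card Ω = Nat.card G := by
    rw [← index_stabilizer_of_transitive G a, Subgroup.card_mul_index]
  have h1 : Nat.card (stabilizer (P : Subgroup G) a) * p ^ v ∣ Nat.card G := hG ▸ mul_dvd_mul hs hv
  have h2 : Nat.card (stabilizer (P : Subgroup G) a) * p ^ v ∣ Nat.card (P : Subgroup G) := by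
    obtain ⟨i, hi⟩ := IsPGroup.iff_card.1 (P.2.to_subgroup (stabilizer (P : Subgroup G) a))
    rw [hi, ← pow_add] at h1 ⊢
    exact P.pow_dvd_card_of_pow_dvd_card h1
  rw [← Subgroup.card_mul_index (stabilizer (P : Subgroup G) a), index_stabilizer] at h2
  exact Nat.dvd_of_mul_dvd_mul_left Nat.card_pos h2

/-- A permutation-theoretic normal subgroup has all point orbits of one size: an element of a
central set fixing one point of an orbit fixes the whole orbit. -/
theorem fix_orbit_of_commute {G Ω : Type*} [Group G] [MulAction G Ω] {P : Subgroup G} {z : G}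
    (hz : ∀ g ∈ P, g * z = z * g) {a b : Ω} (ha : z • a = a) (hb : b ∈ orbit P a) : z • b = b := by
  obtain ⟨g, rfl⟩ := hb
  show z • ((g : G) • a) = (g : G) • a
  rw [← mul_smul, ← hz g g.2, mul_smul, ha]

theorem of_two_orbits {G Ω : Type*} [Group G] [Finite G] [MulAction G Ω] [FaithfulSMul G Ω] [Finite Ω]
    {p : ℕ} (hp : p.Prime)
    (hcl : ∀ σ : Equiv.Perm Ω, (∀ a b : Ω, ∃ g : G, σ a = g • a ∧ σ b = g • b) →
      ∃ g : G, ∀ a : Ω, σ a = g • a)
    (P : Subgroup G) (hP : IsPGroup p P) (a b : Ω) (ha : (orbit P a).ncard = p ^ 2)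
    (hb : (orbit P b).ncard = p ^ 2) (hcover : ∀ x, x ∈ orbit P a ∨ x ∈ orbit P b)
    (z : G) (hzP : z ∈ P) (hz : ∀ g ∈ P, g * z = z * g) (hzp : z ^ p = 1)
    (hza : z • a ≠ a) (hzb : z • b = b) :
    ∃ g : G, g ^ p = 1 ∧ ∀ x : Ω, g • x ≠ x := by
  classical
  haveI := Fact.mk hp
  set O1 := orbit P a with hO1
  set O2 := orbit P b with hO2
  have hdisj : ∀ x, x ∈ O1 → x ∉ O2 := by
    intro x hx hx'
    have h1 := orbit_eq_iff.2 hx
    have h2 := orbit_eq_iff.2 hx'
    refine hza (fix_orbit_of_commute hz hzb ?_)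
    rw [← h2, h1]
    exact mem_orbit_self a
  have hinv : ∀ (g : P) (x c : Ω), x ∈ orbit P c → (g : G) • x ∈ orbit P c := fun g x c hx => by
    obtain ⟨k, rfl⟩ := hx
    exact ⟨g * k, mul_smul _ _ _⟩
  -- the kernel on the second orbit
  let K : Subgroup P :=
    { carrier := {g | ∀ x ∈ O2, (g : G) • x = x}
      one_mem' := fun x _ => by simp
      mul_mem' := fun {g k} hg hk x hx => by rw [Subgroup.coe_mul, mul_smul, hk x hx, hg x hx]
      inv_mem' := fun {g} hg x hx => by rw [Subgroup.coe_inv, inv_smul_eq_iff, hg x hx] }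
  haveI hKn : K.Normal := ⟨fun g hg k x hx => by
    rw [Subgroup.coe_mul, Subgroup.coe_mul, mul_smul, mul_smul,
      hg _ (hinv k⁻¹ x b hx), Subgroup.coe_inv, smul_inv_smul]⟩
  let M : Subgroup P :=
    { carrier := {g | ∀ x ∈ O1, (g : G) • x ∈ orbit K x}
      one_mem' := fun x _ => by simp
      mul_mem' := fun {g k} hg hk x hx => by
        have h1 := hg _ (hinv k x a hx)
        rw [orbit_eq_iff.2 (hk x hx)] at h1
        rwa [Subgroup.coe_mul, mul_smul]
      inv_mem' := fun {g} hg x hx => by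
        have h1 := hg _ (hinv g⁻¹ x a hx)
        rw [← orbit_eq_iff, Subgroup.coe_inv, smul_inv_smul] at h1
        rw [← orbit_eq_iff, Subgroup.coe_inv]
        exact h1.symm }
  have horb : ∀ (g : P) (x y : Ω), y ∈ orbit K x → (g : G) • y ∈ orbit K ((g : G) • x) := by
    rintro g x _ ⟨k, rfl⟩
    refine ⟨⟨g * k * g⁻¹, hKn.conj_mem k k.2 g⟩, ?_⟩
    show ((g * k * g⁻¹ : P) : G) • (g : G) • x = (g : G) • ((k : P) : G) • x
    simp [mul_smul]
  haveI hMn : M.Normal := ⟨fun g hg k x hx => by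
    have h1 := horb k _ _ (hg _ (hinv k⁻¹ x a hx))
    rw [Subgroup.coe_inv, smul_inv_smul] at h1
    rw [Subgroup.coe_mul, Subgroup.coe_mul, mul_smul, mul_smul, Subgroup.coe_inv]
    exact h1⟩
  have hKM : K ≤ M := fun g hg x _ => ⟨⟨g, hg⟩, rfl⟩
  have hzK : (⟨z, hzP⟩ : P) ∈ K := fun x hx => fix_orbit_of_commute hz hzb hx
  -- the quotient by `M` embeds into the permutations of at most `p` blocks
  have hMK : M ≠ K := by
    intro hMK
    -- the blocks
    let blk : Ω → Set Ω := fun x => orbit K x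
    let f : P → Equiv.Perm (blk '' O1) := fun g =>
      { toFun := fun B => ⟨(fun y => (g : G) • y) '' B.1, by
          obtain ⟨x, hx, e⟩ := B.2
          refine ⟨(g : G) • x, hinv g x a hx, ?_⟩
          rw [← e]
          ext y
          constructor
          · intro hy
            have := horb g⁻¹ _ _ hy
            rw [Subgroup.coe_inv, inv_smul_smul] at this
            exact ⟨_, this, smul_inv_smul _ _⟩
          · rintro ⟨u, hu, rfl⟩
            exact horb g x u hu⟩
        invFun := fun B => ⟨(fun y => (g : G)⁻¹ • y) '' B.1, by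
          obtain ⟨x, hx, e⟩ := B.2
          refine ⟨(g : G)⁻¹ • x, hinv g⁻¹ x a hx, ?_⟩
          rw [← e]
          ext y
          constructor
          · intro hy
            have := horb g _ _ hy
            rw [smul_inv_smul] at this
            exact ⟨_, this, inv_smul_smul _ _⟩
          · rintro ⟨u, hu, rfl⟩
            exact horb g⁻¹ x u hu⟩
        left_inv := fun B => Subtype.ext (by
          show (fun y => (g : G)⁻¹ • y) '' ((fun y => (g : G) • y) '' B.1) = B.1
          rw [Set.image_image]; simp)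
        right_inv := fun B => Subtype.ext (by
          show (fun y => (g : G) • y) '' ((fun y => (g : G)⁻¹ • y) '' B.1) = B.1
          rw [Set.image_image]; simp) }
    let φ : P →* Equiv.Perm (blk '' O1) := MonoidHom.mk' f fun g k => Equiv.ext fun B => Subtype.ext (by
      show (fun y => ((g * k : P) : G) • y) '' B.1 = (fun y => (g : G) • y) '' ((fun y => (k : G) • y) '' B.1)
      rw [Set.image_image]
      simp [mul_smul])
    have hker : φ.ker ≤ K := by
      intro g hg
      rw [← hMK]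
      intro x hx
      have h1 : (fun y => (g : G) • y) '' blk x = blk x :=
        congrArg Subtype.val (congrArg (fun e => e ⟨blk x, Set.mem_image_of_mem blk hx⟩) (MonoidHom.mem_ker.1 hg))
      have h2 := Set.mem_image_of_mem (fun y => (g : G) • y) (mem_orbit_self x : x ∈ blk x)
      rw [h1] at h2
      exact h2
    -- at most `p` blocks
    have hsize : ∀ B ∈ blk '' O1, 2 ≤ B.ncard := by
      rintro B ⟨x, hx, rfl⟩
      refine (Set.one_lt_ncard_iff (Set.toFinite _)).2 ⟨x, z • x, mem_orbit_self x, ⟨⟨_, hzK⟩, rfl⟩, fun e => ?_⟩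
      refine hza (fix_orbit_of_commute hz e.symm ?_)
      rw [← orbit_eq_iff, orbit_eq_iff.2 hx]
    have hne : (blk '' O1).ncard ≤ p := by
      have hpw : ∀ B ∈ blk '' O1, p ≤ B.ncard := by
        rintro B ⟨x, hx, rfl⟩
        obtain ⟨i, hi⟩ := (hP.to_subgroup K).card_orbit x
        rw [Nat.card_coe_set_eq] at hi
        have := hsize _ ⟨x, hx, rfl⟩
        rcases Nat.eq_zero_or_pos i with rfl | hi0
        · simp only [blk] at this ⊢
          rw [hi, pow_zero] at this
          omega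
        · simp only [blk]; rw [hi]; exact Nat.le_self_pow hi0.ne' p
      have hun : (⋃ B ∈ blk '' O1, B) ⊆ O1 := by
        intro y hy
        simp only [Set.mem_iUnion] at hy
        obtain ⟨B, ⟨x, hx, rfl⟩, k, rfl⟩ := hy
        exact hinv (k : P) x a hx
      have hdis : (blk '' O1).PairwiseDisjoint id := by
        rintro _ ⟨x, -, rfl⟩ _ ⟨y, -, rfl⟩ hne
        rw [Function.onFun, id, id, Set.disjoint_left]
        intro u hu hu'
        exact hne ((orbit_eq_iff.2 hu).symm.trans (orbit_eq_iff.2 hu'))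
      haveI : Fintype (blk '' O1) := Fintype.ofFinite _
      have hc : ∑ B ∈ (blk '' O1).toFinset, B.ncard ≤ p ^ 2 := by
        rw [← ha, ← finsum_mem_eq_toFinset_sum, ← Set.Finite.ncard_biUnion (Set.toFinite _)
          (fun B _ => Set.toFinite B) hdis]
        exact Set.ncard_le_ncard hun (Set.toFinite _)
      have hge := Finset.card_nsmul_le_sum (blk '' O1).toFinset (fun B => B.ncard) p
        (fun B hB => hpw B (Set.mem_toFinset.1 hB))
      rw [smul_eq_mul, ← Set.ncard_eq_toFinset_card'] at hge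
      exact Nat.le_of_mul_le_mul_right (hge.trans (hc.trans_eq (sq p))) hp.pos
    have hdvd : Nat.card φ.range ∣ p.factorial := by
      refine (Subgroup.card_subgroup_dvd_card _).trans ?_
      rw [Nat.card_perm, Nat.card_coe_set_eq]
      exact Nat.factorial_dvd_factorial hne
    obtain ⟨i, hi⟩ := IsPGroup.iff_card.1 (hP.of_surjective φ.rangeRestrict φ.rangeRestrict_surjective)
    rw [hi] at hdvd
    have hile : i ≤ 1 := by
      by_contra h
      have h2 : p * p ∣ p * (p - 1).factorial := by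
        rw [← Nat.mul_factorial_pred hp.ne_zero] at hdvd
        exact sq p ▸ (pow_dvd_pow p (by omega : 2 ≤ i)).trans hdvd
      have := (hp.dvd_factorial).1 (Nat.dvd_of_mul_dvd_mul_left hp.pos h2)
      have := hp.pos
      omega
    have hidx : K.index ∣ p ^ i := by
      rw [← hi, ← Subgroup.index_ker]
      exact Subgroup.index_dvd_of_le hker
    have hO2card : p ^ 2 ∣ K.index := by
      rw [← hb, ← index_stabilizer]
      exact Subgroup.index_dvd_of_le fun g hg => hg b (mem_orbit_self b)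
    have h3 := Nat.le_of_dvd (pow_pos hp.pos i) (hO2card.trans hidx)
    rw [Nat.pow_le_pow_iff_right hp.one_lt] at h3
    omega
  -- a central element of order `p` of `P / K` inside `M / K`
  have hq : IsPGroup p (P ⧸ K) := hP.to_quotient K
  have hne : M.map (QuotientGroup.mk' K) ≠ ⊥ := by
    rw [Ne, Subgroup.map_eq_bot_iff, QuotientGroup.ker_mk']
    exact fun h => hMK (le_antisymm h hKM)
  haveI : (M.map (QuotientGroup.mk' K)).Normal := hMn.map _ (QuotientGroup.mk'_surjective K)
  have hne' := CfsgLib.PGroup.inf_center_ne_bot hq _ hne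
  obtain ⟨c, hc⟩ := exists_prime_orderOf_dvd_card' p (show p ∣ Nat.card
    (M.map (QuotientGroup.mk' K) ⊓ Subgroup.center (P ⧸ K) : Subgroup (P ⧸ K)) by
    obtain ⟨i, hi⟩ := IsPGroup.iff_card.1
      (hq.to_subgroup (M.map (QuotientGroup.mk' K) ⊓ Subgroup.center (P ⧸ K)))
    rw [hi]
    refine dvd_pow_self p fun e => hne' ?_
    rw [e, pow_zero] at hi
    exact Subgroup.eq_bot_of_card_eq _ hi)
  obtain ⟨⟨w, hw, hwc⟩, hcZ⟩ := c.2
  have hcord : orderOf ((w : P) : P ⧸ K) = p := by
    rw [show ((w : P) : P ⧸ K) = (c : P ⧸ K) from hwc, Subgroup.orderOf_coe, hc]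
  have hwK : w ∉ K := fun h => hp.ne_one (by
    rw [← hcord, (QuotientGroup.eq_one_iff w).2 h, orderOf_one])
  have hwp : w ^ p ∈ K := by
    rw [← QuotientGroup.eq_one_iff, QuotientGroup.mk_pow, ← hcord, pow_orderOf_eq_one]
  have hwcomm : ∀ g : P, (g * w)⁻¹ * (w * g) ∈ K := fun g => by
    rw [← QuotientGroup.eq, QuotientGroup.mk_mul, QuotientGroup.mk_mul]
    have hcc : (c : P ⧸ K) ∈ Subgroup.center (P ⧸ K) := hcZ
    rw [← show ((w : P) : P ⧸ K) = (c : P ⧸ K) from hwc] at hcc
    exact Subgroup.mem_center_iff.1 hcc _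
  have hwfix : ∀ x ∈ O2, (w : G) • x ≠ x := by
    intro x hx e
    apply hwK
    intro y hy
    obtain ⟨g, hg⟩ : ∃ g : P, (g : G) • x = y := by
      rw [hO2, ← orbit_eq_iff.2 hx] at hy; exact hy
    have h1 := hwcomm g x hx
    rw [Subgroup.coe_mul, Subgroup.coe_inv, Subgroup.coe_mul, Subgroup.coe_mul, mul_smul, mul_smul,
      hg, inv_smul_eq_iff, mul_smul, e, hg] at h1
    exact h1
  -- the permutation
  let σ₀ : Ω → Ω := fun x => if x ∈ O1 then z • x else (w : G) • x
  have hσ₁ : ∀ x ∈ O1, σ₀ x = z • x := fun x hx => if_pos hx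
  have hσ₂ : ∀ x ∈ O2, σ₀ x = (w : G) • x := fun x hx => if_neg fun h => hdisj x h hx
  have hzO1 : ∀ x ∈ O1, z • x ∈ O1 := fun x hx => hinv ⟨z, hzP⟩ x a hx
  have hwO2 : ∀ x ∈ O2, (w : G) • x ∈ O2 := fun x hx => hinv w x b hx
  have hinj : Function.Injective σ₀ := by
    intro x y e
    rcases hcover x with hx | hx <;> rcases hcover y with hy | hy
    · rw [hσ₁ x hx, hσ₁ y hy] at e; exact smul_left_cancel _ e
    · rw [hσ₁ x hx, hσ₂ y hy] at e; exact absurd (e ▸ hzO1 x hx) fun h => hdisj _ h (hwO2 y hy)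
    · rw [hσ₂ x hx, hσ₁ y hy] at e; exact absurd (e.symm ▸ hzO1 y hy) fun h => hdisj _ h (hwO2 x hx)
    · rw [hσ₂ x hx, hσ₂ y hy] at e; exact smul_left_cancel _ e
  have hmix : ∀ x ∈ O1, ∀ y ∈ O2, ∃ g : G, σ₀ x = g • x ∧ σ₀ y = g • y := by
    intro x hx y hy
    have h1 : z • x ∈ orbit K ((w : G) • x) := by
      rw [orbit_eq_iff.2 (hw x hx)]
      exact ⟨⟨_, hzK⟩, rfl⟩
    obtain ⟨k, hk⟩ := h1
    refine ⟨((k : P) : G) * w, ?_, ?_⟩
    · rw [hσ₁ x hx, mul_smul]; exact hk.symm
    · rw [hσ₂ y hy, mul_smul, k.2 _ (hwO2 y hy)]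
  obtain ⟨g, hg⟩ := hcl (Equiv.ofBijective σ₀ ⟨hinj, Finite.surjective_of_injective hinj⟩) fun x y => by
    rcases hcover x with hx | hx <;> rcases hcover y with hy | hy
    · exact ⟨z, hσ₁ x hx, hσ₁ y hy⟩
    · exact hmix x hx y hy
    · obtain ⟨g, h1, h2⟩ := hmix y hy x hx; exact ⟨g, h2, h1⟩
    · exact ⟨w, hσ₂ x hx, hσ₂ y hy⟩
  have hg₁ : ∀ x ∈ O1, g • x = z • x := fun x hx => (hg x).symm.trans (hσ₁ x hx)
  have hg₂ : ∀ x ∈ O2, g • x = (w : G) • x := fun x hx => (hg x).symm.trans (hσ₂ x hx)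
  have hpow : ∀ (O : Set Ω) (h : G), (∀ x ∈ O, g • x = h • x) → (∀ x ∈ O, h • x ∈ O) →
      ∀ n : ℕ, ∀ x ∈ O, g ^ n • x = h ^ n • x := by
    intro O h h1 h2 n
    induction n with
    | zero => intro x _; simp
    | succ n ih => intro x hx; rw [pow_succ, pow_succ, mul_smul, mul_smul, h1 x hx, ih _ (h2 x hx)]
  refine ⟨g, ?_, fun x hx => ?_⟩
  · apply FaithfulSMul.eq_of_smul_eq_smul (α := Ω)
    intro x
    rw [one_smul]
    rcases hcover x with h | h
    · rw [hpow O1 z hg₁ hzO1 p x h, hzp, one_smul]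
    · rw [hpow O2 w hg₂ hwO2 p x h, ← SubmonoidClass.coe_pow, hwp x h]
  · rcases hcover x with h | h
    · rw [hg₁ x h] at hx
      refine hza (fix_orbit_of_commute hz hx ?_)
      rw [← orbit_eq_iff, orbit_eq_iff.2 h]
    · rw [hg₂ x h] at hx
      exact hwfix x h hx


/-- Let G act faithfully and transitively on a finite set with 2p² points, p a prime, and suppose G is 2-closed: every permutation of the set which, on each ordered pair of points, agrees with some element of G, is itself induced by an element of G. Then some element of G of prime order fixes no point. -/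
theorem result {G Ω : Type*} [Group G] [Finite G] [MulAction G Ω] [FaithfulSMul G Ω] [Finite Ω]
    (htrans : MulAction.IsPretransitive G Ω) (p : ℕ) (hp : p.Prime) (hcard : Nat.card Ω = 2 * p ^ 2)
    (hcl : ∀ σ : Equiv.Perm Ω, (∀ a b : Ω, ∃ g : G, σ a = g • a ∧ σ b = g • b) → ∃ g : G, ∀ a : Ω, σ a = g • a) :
    ∃ g : G, (orderOf g).Prime ∧ ∀ ω : Ω, g • ω ≠ ω := by
  haveI := Fact.mk hp
  have hn : 0 < Nat.card Ω := by rw [hcard]; have := hp.pos; positivity
  haveI : Nonempty Ω := (Nat.card_pos_iff.1 hn).1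
  have hfinish : ∀ g : G, g ^ p = 1 → (∀ x : Ω, g • x ≠ x) →
      ∃ g : G, (orderOf g).Prime ∧ ∀ ω : Ω, g • ω ≠ ω := fun g hg hne => by
    obtain ⟨x⟩ := ‹Nonempty Ω›
    exact ⟨g, by rw [orderOf_eq_prime hg fun e => hne x (by rw [e, one_smul])]; exact hp, hne⟩
  obtain ⟨P⟩ := (inferInstance : Nonempty (Sylow p G))
  obtain ⟨a⟩ := ‹Nonempty Ω›
  have hdvd2 : p ^ 2 ∣ Nat.card Ω := ⟨2, by rw [hcard, mul_comm]⟩
  have hsize : ∀ x : Ω, p ^ 2 ∣ (orbit (P : Subgroup G) x).ncard :=
    fun x => orbit_card_dvd P 2 hdvd2 x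
  haveI : Nontrivial (P : Subgroup G) := by
    rw [Subgroup.nontrivial_iff_ne_bot]
    intro e
    have h1 := hsize a
    have h2 : (orbit (P : Subgroup G) a).ncard = 1 := by
      rw [Set.ncard_eq_one]
      refine ⟨a, Set.eq_singleton_iff_unique_mem.2 ⟨mem_orbit_self a, ?_⟩⟩
      rintro _ ⟨g, rfl⟩
      show (g : G) • a = a
      rw [Subgroup.mem_bot.1 (e ▸ g.2 : (g : G) ∈ (⊥ : Subgroup G)), one_smul]
    rw [h2] at h1
    exact absurd (Nat.dvd_one.1 h1) (Nat.one_lt_pow two_ne_zero hp.one_lt).ne'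
  haveI := P.2.center_nontrivial
  obtain ⟨c, hc⟩ := exists_prime_orderOf_dvd_card' p (show p ∣ Nat.card (Subgroup.center (P : Subgroup G)) by
    obtain ⟨i, hi⟩ := IsPGroup.iff_card.1 (P.2.to_subgroup (Subgroup.center (P : Subgroup G)))
    rw [hi]
    refine dvd_pow_self p fun e => ?_
    rw [e, pow_zero] at hi
    exact (Finite.one_lt_card (α := Subgroup.center (P : Subgroup G))).ne' hi)
  have hz : ∀ g ∈ (P : Subgroup G), g * ((c : (P : Subgroup G)) : G) = ((c : (P : Subgroup G)) : G) * g :=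
    fun g hg => congrArg Subtype.val (Subgroup.mem_center_iff.1 c.2 ⟨g, hg⟩)
  have hzp : ((c : (P : Subgroup G)) : G) ^ p = 1 := by
    have := pow_orderOf_eq_one ((c : (P : Subgroup G)) : G)
    rwa [Subgroup.orderOf_coe, Subgroup.orderOf_coe, hc] at this
  by_cases hall : ∀ x : Ω, ((c : (P : Subgroup G)) : G) • x ≠ x
  · exact hfinish _ hzp hall
  push Not at hall
  obtain ⟨b, hb⟩ := hall
  obtain ⟨a', ha'⟩ : ∃ a', ((c : (P : Subgroup G)) : G) • a' ≠ a' := by
    by_contra h
    push Not at h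
    have : ((c : (P : Subgroup G)) : G) = 1 :=
      FaithfulSMul.eq_of_smul_eq_smul (α := Ω) fun x => by rw [h x, one_smul]
    rw [← Subgroup.orderOf_coe, ← Subgroup.orderOf_coe, this, orderOf_one] at hc
    exact hp.ne_one hc.symm
  have hd : Disjoint (orbit (P : Subgroup G) a') (orbit (P : Subgroup G) b) := by
    rw [Set.disjoint_left]
    intro x hx hx'
    refine ha' (fix_orbit_of_commute hz hb ?_)
    rw [← orbit_eq_iff, ← orbit_eq_iff.2 hx, orbit_eq_iff.2 hx']
  have hunion := Set.ncard_union_eq hd (Set.toFinite _) (Set.toFinite _)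
  have hle : (orbit (P : Subgroup G) a' ∪ orbit (P : Subgroup G) b).ncard ≤ 2 * p ^ 2 := by
    rw [← hcard, ← Set.ncard_univ]; exact Set.ncard_le_ncard (Set.subset_univ _) (Set.toFinite _)
  have hpos : ∀ x : Ω, p ^ 2 ≤ (orbit (P : Subgroup G) x).ncard := fun x =>
    Nat.le_of_dvd ((Set.ncard_pos (Set.toFinite _)).2 ⟨x, mem_orbit_self x⟩) (hsize x)
  have h1 := hpos a'
  have h2 := hpos b
  have hcover : orbit (P : Subgroup G) a' ∪ orbit (P : Subgroup G) b = Set.univ :=
    Set.eq_of_subset_of_ncard_le (Set.subset_univ _) (by rw [Set.ncard_univ, hcard]; omega) (Set.toFinite _)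
  obtain ⟨g, hg, hgne⟩ := of_two_orbits hp hcl (P : Subgroup G) P.2 a' b (by omega) (by omega)
    (fun x => (Set.mem_union _ _ _).1 (hcover.symm ▸ Set.mem_univ x))
    _ (c : (P : Subgroup G)).2 hz hzp ha' hb
  exact hfinish g hg hgne

end Cfsg.Agent.S3557
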