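import Cfsg.Statements.S3593
import Cfsg.Agent.M12Count.Glue
import Cfsg.Agent.M12Count.M12Side
import Cfsg.Agent.M12Count.Six
import Cfsg.Agent.M12Count.CentQ
import Cfsg.Agent.M12Count.CentExtra

set_option autoImplicit false
open Cfsg

namespace Cfsg.Agent.S3593

/-- Let M be the Mathieu group M₁₂ (order 95040). If a finite group G has the same order as M and the same set of values of the function 'number of elements of order n' (taken over the element orders n that occur), then G is isomorphic to M. -/
theorem result {G : Type*} [Group G] [Finite G]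
    (hcard : Nat.card G = Nat.card ↥Cfsg.Spor.M12)
    (hnse : {c : ℕ | 0 < c ∧ ∃ n : ℕ, c = Nat.card {g : G // orderOf g = n}} =
      {c : ℕ | 0 < c ∧ ∃ n : ℕ, c = Nat.card {g : ↥Cfsg.Spor.M12 // orderOf g = n}}) :
    Nonempty (G ≃* ↥Cfsg.Spor.M12) := by
  have hG := CfsgLib.M12Count.countHyp_of_same CfsgLib.M12Count.countHyp_M12 hcard hnse
  have hS := hG.setup
  obtain ⟨t, c, hl⟩ := hS.exists_local CfsgLib.M12Count.six_cases
  obtain ⟨h1, h2, h3⟩ := hl.core_facts hS
  exact hl.isoM12_of_core hS h1 h2 h3

end Cfsg.Agent.S3593
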