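import Cfsg.Statements.S3600
import Cfsg.Agent.SpecCrit.Main
-- import your own Cfsg.Agent.* helpers here

set_option autoImplicit false
open Cfsg

namespace Cfsg.Agent.S3600

/-- A finite group is critical with respect to a set Ω of natural numbers when its set of element orders is Ω while no proper section has Ω as its set of element orders. A finite group critical with respect to {1, 2, 3, 4, 5} (the set of element orders of the alternating group of degree 6) is isomorphic either to the alternating group of degree 6 or to the affine group F² ⋊ SL(2,F) over the field F with four elements (realised as the matrices of SL(3,F) with last row (0, 0, 1)). -/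
theorem result {G : Type*} [Group G] [Finite G]
    (hcrit : Set.range (orderOf : G → ℕ) = ({1, 2, 3, 4, 5} : Set ℕ) ∧
      ∀ (H : Subgroup G) (N : Subgroup ↥H) [N.Normal], (H ≠ ⊤ ∨ N ≠ ⊥) → Set.range (orderOf : (↥H ⧸ N) → ℕ) ≠ ({1, 2, 3, 4, 5} : Set ℕ)) :
    Nonempty (G ≃* alternatingGroup (Fin 6)) ∨
      ∃ (F : Type) (_ : Field F) (_ : Fintype F), Fintype.card F = 4 ∧
        Nonempty (G ≃* ↥(Subgroup.closure {M : Matrix.SpecialLinearGroup (Fin 3) F |
          (M : Matrix (Fin 3) (Fin 3) F) 2 0 = 0 ∧ (M : Matrix (Fin 3) (Fin 3) F) 2 1 = 0 ∧ (M : Matrix (Fin 3) (Fin 3) F) 2 2 = 1})) := by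
  classical
  obtain ⟨hrange, hsec⟩ := hcrit
  have hmin : ∀ (M : Subgroup G) [M.Normal], M ≠ ⊥ →
      Set.range (orderOf : G ⧸ M → ℕ) ≠ ({1, 2, 3, 4, 5} : Set ℕ) := by
    intro M _ hM hr
    haveI : (M.subgroupOf (⊤ : Subgroup G)).Normal := inferInstance
    refine hsec ⊤ (M.subgroupOf ⊤) (Or.inr fun h => hM ?_) ?_
    · exact disjoint_top.mp (Subgroup.subgroupOf_eq_bot.mp h)
    · let e : (↥(⊤ : Subgroup G) ⧸ M.subgroupOf ⊤) ≃* G ⧸ M :=
        QuotientGroup.congr _ M Subgroup.topEquiv (by
          ext x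
          simp [Subgroup.mem_subgroupOf])
      rw [← hr]
      ext k
      exact ⟨fun ⟨w, hw⟩ => ⟨e w, by rw [MulEquiv.orderOf_eq]; exact hw⟩,
        fun ⟨w, hw⟩ => ⟨e.symm w, by rw [MulEquiv.orderOf_eq]; exact hw⟩⟩
  rcases CfsgLib.SpecCrit.critical_classification hrange hmin with h | ⟨⟨e⟩⟩
  · exact Or.inl h
  · refine Or.inr ⟨GaloisField 2 2, inferInstance, Fintype.ofFinite _, ?_, ⟨e.trans (MulEquiv.subgroupCongr
      (Subgroup.closure_eq (CfsgLib.Perm.AffineSpectrum.aff (GaloisField 2 2))).symm)⟩⟩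
    exact (@Nat.card_eq_fintype_card _ (Fintype.ofFinite _)).symm.trans (by rw [GaloisField.card 2 2 two_ne_zero]; rfl)

end Cfsg.Agent.S3600
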