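import Cfsg.Statements.S3626
import Cfsg.Agent.S1159
import Cfsg.Agent.Spec53.ReeCube

set_option autoImplicit false
open Cfsg

namespace Cfsg.Agent.S3626

open CfsgLib.Spec53

/-- the orders of a cube are unchanged when one factor is replaced by a group whose orders occur in
the factor and which has all but at most two of the maximal orders -/
theorem range_cube {R X : Type*} [Group R] [Group X] (c d : ℕ)
    (hc : ∀ n : ℕ, n ∣ c → ∃ r : R, orderOf r = n) (hd : ∀ n : ℕ, n ∣ d → ∃ r : R, orderOf r = n)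
    (hX : ∀ x : X, ∃ r : R, orderOf r = orderOf x)
    (hR : ∀ r : R, (∃ x : X, orderOf x = orderOf r) ∨ orderOf r ∣ c ∨ orderOf r ∣ d) :
    Set.range (orderOf : R × R × X → ℕ) = Set.range (orderOf : R × R × R → ℕ) := by
  ext n
  simp only [Set.mem_range, Prod.exists, Prod.orderOf]
  constructor
  · rintro ⟨a, b, x, rfl⟩
    obtain ⟨r, hr⟩ := hX x
    exact ⟨a, b, r, by rw [hr]⟩
  · rintro ⟨x, y, z, rfl⟩
    have pair : ∀ x y z : R, ((orderOf x ∣ c ∧ orderOf y ∣ c) ∨ (orderOf x ∣ d ∧ orderOf y ∣ d)) →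
        ∃ a b : R, ∃ w : X, (orderOf a).lcm ((orderOf b).lcm (orderOf w)) =
          (orderOf x).lcm ((orderOf y).lcm (orderOf z)) := by
      intro x y z h
      obtain ⟨r, hr⟩ : ∃ r : R, orderOf r = (orderOf x).lcm (orderOf y) := by
        rcases h with ⟨h1, h2⟩ | ⟨h1, h2⟩
        exacts [hc _ (Nat.lcm_dvd h1 h2), hd _ (Nat.lcm_dvd h1 h2)]
      exact ⟨r, z, 1, by rw [hr, orderOf_one, Nat.lcm_one_right, Nat.lcm_assoc]⟩
    rcases hR z with ⟨w, hw⟩ | hz
    · exact ⟨x, y, w, by rw [hw]⟩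
    rcases hR y with ⟨w, hw⟩ | hy
    · exact ⟨x, z, w, by rw [hw, Nat.lcm_comm (orderOf z)]⟩
    rcases hR x with ⟨w, hw⟩ | hx
    · exact ⟨y, z, w, by rw [hw, ← Nat.lcm_assoc, Nat.lcm_comm _ (orderOf x)]⟩
    have : ((orderOf x ∣ c ∧ orderOf y ∣ c) ∨ (orderOf x ∣ d ∧ orderOf y ∣ d)) ∨
        ((orderOf x ∣ c ∧ orderOf z ∣ c) ∨ (orderOf x ∣ d ∧ orderOf z ∣ d)) ∨
        ((orderOf y ∣ c ∧ orderOf z ∣ c) ∨ (orderOf y ∣ d ∧ orderOf z ∣ d)) := by tauto
    rcases this with h | h | h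
    · exact pair x y z h
    · obtain ⟨a, b, w, h⟩ := pair x z y h
      exact ⟨a, b, w, by rw [h, Nat.lcm_comm (orderOf z)]⟩
    · obtain ⟨a, b, w, h⟩ := pair y z x h
      exact ⟨a, b, w, by rw [h, ← Nat.lcm_assoc, Nat.lcm_comm _ (orderOf x)]⟩

/-- Let R be the small Ree group over the field with q = 3^(2m+1) ≥ 27 elements. Then there are finite groups of arbitrarily large order with exactly the same set of element orders as R × R × R. -/
theorem result {K : Type*} [Field K] [Fintype K] {m : ℕ} (hm : 1 ≤ m) (hK : Fintype.card K = 3 ^ (2 * m + 1)) (N : ℕ) :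
    ∃ (H : Type) (_ : Group H) (_ : Fintype H), N < Fintype.card H ∧
      Set.range (orderOf : H → ℕ) = Set.range (orderOf : ↥(Cfsg.Lie.twistedG2 K (3 ^ m)) × ↥(Cfsg.Lie.twistedG2 K (3 ^ m)) × ↥(Cfsg.Lie.twistedG2 K (3 ^ m)) → ℕ) := by
  classical
  haveI : CharP K 3 := CfsgLib.Ree.charP_of_card hK
  set R := ↥(Cfsg.Lie.twistedG2 K (3 ^ m)) with hR
  have hord : ∀ d : ℕ, _ := fun d => S1159.result hm hK d
  haveI : Finite R := inferInstance
  have h8 : Fintype.card K % 8 = 3 := by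
    rw [hK, pow_succ, pow_mul, Nat.mul_mod, Nat.pow_mod]
    norm_num
  set X := ReeCube.X K (N + 1)
  haveI : Finite X := Finite.of_equiv _ SemidirectProduct.equivProd.symm
  have hbig : N < Nat.card X := by
    rw [SemidirectProduct.card]
    refine lt_of_lt_of_le ?_ (Nat.le_mul_of_pos_right _ Nat.card_pos)
    rw [Nat.card_congr Multiplicative.toAdd, Nat.card_fun, Nat.card_fin]
    exact (Nat.lt_succ_self N).trans (Nat.lt_pow_self Finite.one_lt_card)
  have hspec : Set.range (orderOf : R × R × X → ℕ) = Set.range (orderOf : R × R × R → ℕ) := by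
    refine range_cube (3 ^ (2 * m + 1) - 3 ^ (m + 1) + 1) (3 ^ (2 * m + 1) + 3 ^ (m + 1) + 1)
      (fun n h => (hord n).2 (by tauto)) (fun n h => (hord n).2 (by tauto))
      (fun x => (hord _).2 ?_) (fun r => ?_)
    · rcases ReeCube.order_dvd h8 x with h | h | h | h <;> rw [hK] at * <;> tauto
    · have hex : ∀ D : ℕ, (D = 6 ∨ D = 9 ∨ D = Fintype.card K - 1 ∨
          D = (Fintype.card K + 1) / 2) → orderOf r ∣ D → ∃ x : X, orderOf x = orderOf r := by
        intro D hD hdvd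
        obtain ⟨y, hy⟩ := ReeCube.exists_order (n := N) h8 hD
        exact exists_orderOf_eq_of_dvd y (hy ▸ hdvd)
      rw [hK] at hex
      rcases (hord (orderOf r)).1 ⟨r, rfl⟩ with h | h | h | h | h | h
      · exact Or.inl (hex _ (by tauto) h)
      · exact Or.inl (hex _ (by tauto) h)
      · exact Or.inl (hex _ (by tauto) h)
      · exact Or.inl (hex _ (by tauto) h)
      · exact Or.inr (Or.inl h)
      · exact Or.inr (Or.inr h)
  have hcard : N < Nat.card (R × R × X) := by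
    rw [Nat.card_prod, Nat.card_prod]
    exact lt_of_lt_of_le hbig ((Nat.le_mul_of_pos_left _ Nat.card_pos).trans
      (Nat.le_mul_of_pos_left _ Nat.card_pos))
  obtain ⟨n, ⟨e'⟩⟩ := Finite.exists_equiv_fin (R × R × X)
  let e : R × R × X ≃ {_i : Fin n // True} := e'.trans (Equiv.subtypeUnivEquiv fun _ => trivial).symm
  letI : Group {_i : Fin n // True} := e.symm.group
  refine ⟨{_i : Fin n // True}, inferInstance, inferInstance, ?_, ?_⟩
  · rwa [← Nat.card_eq_fintype_card, ← Nat.card_congr e]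
  · rw [← hspec]
    ext d
    let f : {_i : Fin n // True} ≃* R × R × X :=
      { e.symm with map_mul' := fun a b => e.symm_apply_apply (e.symm a * e.symm b) }
    exact ⟨fun ⟨x, hx⟩ => ⟨f x, by rw [MulEquiv.orderOf_eq, hx]⟩,
      fun ⟨x, hx⟩ => ⟨f.symm x, by rw [MulEquiv.orderOf_eq, hx]⟩⟩

end Cfsg.Agent.S3626
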