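import Cfsg.Statements.S3634
import Cfsg.Agent.PrimeGraph.ThreePrimes

set_option autoImplicit false
open Cfsg

namespace Cfsg.Agent.S3634

/-- Let G be a finite group with normal subgroups K ≤ M, and let p, q, r be distinct primes with p dividing the order of K, q dividing the order of M/K and r dividing the order of G/M. Then p, q, r are not pairwise non-adjacent in the prime graph of G: G has an element of order pq, pr or qr. -/
theorem result {G : Type*} [Group G] [Finite G] (K M : Subgroup G) [K.Normal] [M.Normal] (hKM : K ≤ M)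
    (p q r : ℕ) (hp : p.Prime) (hq : q.Prime) (hr : r.Prime) (hpq : p ≠ q) (hpr : p ≠ r) (hqr : q ≠ r)
    (hpK : p ∣ Nat.card ↥K) (hqM : q ∣ Nat.card ↥M / Nat.card ↥K) (hrG : r ∣ Nat.card G / Nat.card ↥M) :
    (∃ x : G, orderOf x = p * q) ∨ (∃ x : G, orderOf x = p * r) ∨ (∃ x : G, orderOf x = q * r) := by
  have : Fact p.Prime := ⟨hp⟩
  have : Fact q.Prime := ⟨hq⟩
  set f := QuotientGroup.mk' K with hf
  have hsurj : Function.Surjective f := QuotientGroup.mk'_surjective K
  set Mb := M.map f with hMb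
  have hMn : Mb.Normal := Subgroup.Normal.map inferInstance f hsurj
  have hcomap : Mb.comap f = M := by
    rw [hMb, Subgroup.comap_map_eq, hf, QuotientGroup.ker_mk', sup_eq_left.2 hKM]
  have hcardM : Nat.card ↥Mb * Nat.card ↥K = Nat.card ↥M := by
    have h1 := Subgroup.card_eq_card_quotient_mul_card_subgroup (K.subgroupOf M)
    rw [Nat.card_congr (Subgroup.subgroupOfEquivOfLe hKM).toEquiv] at h1
    have h3 := Subgroup.index_comap_of_surjective Mb hsurj
    rw [hcomap] at h3
    have h4 := Subgroup.card_mul_index Mb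
    have h5 := Subgroup.card_mul_index M
    have h6 := Subgroup.card_eq_card_quotient_mul_card_subgroup K
    rw [← h4, ← h3] at h6
    have hMi : 0 < M.index := Nat.pos_of_ne_zero Subgroup.index_ne_zero_of_finite
    apply Nat.eq_of_mul_eq_mul_right hMi
    rw [h5, h6]; ring
  have hq' : q ∣ Nat.card ↥Mb := by
    rwa [← hcardM, Nat.mul_div_cancel _ Nat.card_pos] at hqM
  have hr' : r ∣ Mb.index := by
    rw [← Subgroup.index_comap_of_surjective Mb hsurj, hcomap]
    rwa [← Subgroup.card_mul_index M, Nat.mul_div_cancel_left _ Nat.card_pos] at hrG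
  obtain ⟨Qb, yb, -, hQb, hQbp, hyb, hybQ⟩ :=
    CfsgLib.PrimeGraph.exists_normalizing Mb hq hr hq' hr'
  obtain ⟨P⟩ : Nonempty (Sylow p ↥K) := inferInstance
  set P0 := (P : Subgroup ↥K).map K.subtype with hP0
  have hF := Sylow.normalizer_sup_eq_top P
  rw [← hP0] at hF
  set T := Subgroup.normalizer (Qb : Set (G ⧸ K)) with hT
  set N := Subgroup.normalizer (P0 : Set G) ⊓ T.comap f with hN
  let φ : ↥N →* ↥T := (f.comp N.subtype).codRestrict T fun x => x.2.2
  have hφ : Function.Surjective φ := by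
    rintro ⟨t, ht⟩
    obtain ⟨g, rfl⟩ := hsurj t
    have hg : g ∈ Subgroup.normalizer (P0 : Set G) ⊔ K := by rw [hF]; exact Subgroup.mem_top g
    obtain ⟨n, hn, k, hk, rfl⟩ := Subgroup.mem_sup_of_normal_right.1 hg
    have hfk : f k = 1 := (QuotientGroup.eq_one_iff k).2 hk
    refine ⟨⟨n, hn, ?_⟩, ?_⟩
    · show f n ∈ T
      simpa [map_mul, hfk] using ht
    · apply Subtype.ext
      show f n = f (n * k)
      simp [map_mul, hfk]
  have hQT : Qb ≤ T := Subgroup.le_normalizer
  have hQ1' : Qb.subgroupOf T ≠ ⊥ := fun h => hQb (by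
    rw [Subgroup.subgroupOf_eq_bot, disjoint_iff, inf_eq_left.2 hQT] at h; exact h)
  have hQp' : IsPGroup q ↥(Qb.subgroupOf T) :=
    hQbp.of_equiv (Subgroup.subgroupOfEquivOfLe hQT).symm
  have hyT : (⟨yb, hybQ⟩ : ↥T) ∈ Subgroup.normalizer ((Qb.subgroupOf T : Subgroup ↥T) : Set ↥T) := by
    have : (Qb.subgroupOf T).Normal := Subgroup.normal_in_normalizer
    rw [Subgroup.normalizer_eq_top]; exact Subgroup.mem_top _
  obtain ⟨Q1, y1, hQ1, hQ1p, hy1, hy1Q⟩ := CfsgLib.PrimeGraph.exists_normalizing_lift hφ hq hr hqr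
    hQ1' hQp' (y := ⟨yb, hybQ⟩) (by rw [← hyb]; exact (Subgroup.orderOf_coe _).symm) hyT
  set Q2 := Q1.map N.subtype with hQ2
  set V := Q2 ⊔ Subgroup.zpowers (y1 : G) with hV
  have hPs : Group.IsSolvable ↥P0 := by
    have := (P.isPGroup'.map K.subtype).isNilpotent
    infer_instance
  have hQs : Group.IsSolvable ↥Q2 := by
    have := (hQ1p.map N.subtype).isNilpotent
    infer_instance
  have hyn : (y1 : G) ∈ Subgroup.normalizer (Q2 : Set G) := by
    refine Subgroup.mem_normalizer_iff.2 fun g => ?_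
    constructor
    · rintro ⟨u, hu, rfl⟩
      exact ⟨y1 * u * y1⁻¹, (Subgroup.mem_normalizer_iff.1 hy1Q u).1 hu, by simp⟩
    · rintro ⟨u, hu, he⟩
      refine ⟨y1⁻¹ * u * y1, by
        simpa using (Subgroup.mem_normalizer_iff.1
          ((Subgroup.normalizer (Q1 : Set ↥N)).inv_mem hy1Q) u).1 hu, ?_⟩
      simp only [map_mul, map_inv, Subgroup.coe_subtype] at he ⊢
      rw [he]; group
  have hVs : Group.IsSolvable ↥V :=
    CfsgLib.PrimeGraph.isSolvable_sup_of_le_normalizer hQs
      (Group.isSolvable_of_comm fun a b => mul_comm' a b) (by rw [Subgroup.zpowers_le]; exact hyn)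
  have hVP : V ≤ Subgroup.normalizer (P0 : Set G) := by
    refine sup_le ((Subgroup.map_subtype_le _).trans inf_le_left) ?_
    rw [Subgroup.zpowers_le]; exact y1.2.1
  have hUs : Group.IsSolvable ↥(P0 ⊔ V) :=
    CfsgLib.PrimeGraph.isSolvable_sup_of_le_normalizer hPs hVs hVP
  have hdp : p ∣ Nat.card ↥(P0 ⊔ V) := by
    refine dvd_trans ?_ (Subgroup.card_dvd_of_le le_sup_left)
    rw [hP0, Subgroup.card_map_of_injective K.subtype_injective]
    exact P.dvd_card_of_dvd_card hpK
  have hdq : q ∣ Nat.card ↥(P0 ⊔ V) := by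
    refine dvd_trans ?_ (Subgroup.card_dvd_of_le (le_sup_left.trans le_sup_right : Q2 ≤ P0 ⊔ V))
    rw [hQ2, Subgroup.card_map_of_injective N.subtype_injective]
    obtain ⟨n, hn⟩ := IsPGroup.iff_card.1 hQ1p
    rw [hn]
    exact dvd_pow_self q (by rintro rfl; exact hQ1 (Subgroup.eq_bot_of_card_eq _ (by simpa using hn)))
  have hdr : r ∣ Nat.card ↥(P0 ⊔ V) := by
    rw [← hy1, ← Subgroup.orderOf_coe]
    exact Subgroup.orderOf_dvd_natCard _
      (Subgroup.mem_sup_right (Subgroup.mem_sup_right (Subgroup.mem_zpowers _)))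
  obtain ⟨z, hz⟩ := CfsgLib.PrimeGraph.exists_adjacent_of_isSolvable hp hq hr hpq hpr hqr hdp hdq hdr
  rcases hz with hz | hz | hz
  · exact Or.inl ⟨z, by rwa [Subgroup.orderOf_coe]⟩
  · exact Or.inr (Or.inl ⟨z, by rwa [Subgroup.orderOf_coe]⟩)
  · exact Or.inr (Or.inr ⟨z, by rwa [Subgroup.orderOf_coe]⟩)


end Cfsg.Agent.S3634
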