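import Cfsg.Statements.S3726
import Cfsg.Agent.ConstFix57.Few
import Cfsg.Agent.ZassAbelian.KernelFull
import Cfsg.Agent.ZassAbelian.OrbitPrime
import Cfsg.Agent.ZassAbelian.SimpleEven
import Cfsg.Agent.ZassAbelian.Final
import Cfsg.Agent.Dickson.PSL
import Cfsg.Agent.PermGroups.SharplyTwo
import Cfsg.Agent.S0338
import Cfsg.Agent.S0742
import Cfsg.Agent.S0885
import Cfsg.Agent.SuzukiUnique.Recognition

set_option autoImplicit false
open Cfsg

namespace Cfsg.Agent.S3726

/-- Let a finite group G act faithfully and 2-transitively on a finite set Ω, and suppose there is an involution t of G, fixing exactly i points, such that every non-identity element of the centralizer of t also fixes exactly i points. Then G is isomorphic to PSL₂(q) for some finite field of order q, or to a Suzuki group Sz(q) (q = 2^(2m+1) ≥ 8), or G has a normal subgroup acting regularly on Ω. -/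
theorem result {G Ω : Type*} [Group G] [Finite G] [Fintype Ω] [MulAction G Ω] [FaithfulSMul G Ω]
    (h2 : MulAction.IsMultiplyPretransitive G Ω 2) (i : ℕ) (t : G) (ht : orderOf t = 2)
    (hti : Nat.card {x : Ω // t • x = x} = i)
    (hC : ∀ g : G, Commute g t → g ≠ 1 → Nat.card {x : Ω // g • x = x} = i) :
    (∃ (F : Type) (_ : Field F) (_ : Fintype F), Nonempty (G ≃* Matrix.ProjectiveSpecialLinearGroup (Fin 2) F)) ∨
    Cfsg.Lie.IsoSuzuki G ∨
    (∃ R : Subgroup G, R.Normal ∧ (∀ x y : Ω, ∃ r ∈ R, r • x = y) ∧ ∀ x : Ω, ∀ r ∈ R, r • x = x → r = 1) := by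
  classical
  have hpair : ∀ x y z w : Ω, x ≠ y → z ≠ w → ∃ g : G, g • x = z ∧ g • y = w :=
    fun x y z w hxy hzw => MulAction.is_two_pretransitive_iff.1 h2 hxy hzw
  let D : CfsgLib.ConstFix57.Ctx G Ω :=
    { pair := hpair
      faith := fun g hg => FaithfulSMul.eq_of_smul_eq_smul fun x => by rw [hg x, one_smul]
      i := i
      t := t
      ord := ht
      card_t := by rw [← hti, ← Nat.card_coe_set_eq]; rfl
      const := fun g hg hg1 => by rw [← hC g hg hg1, ← Nat.card_coe_set_eq]; rfl }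
  obtain ⟨a, ha⟩ := D.exists_moved
  set b := D.t • a with hb
  have hab : a ≠ b := ha.symm
  by_cases hreg : ∃ R : Subgroup G, R.Normal ∧ (∀ x y : Ω, ∃ r ∈ R, r • x = y) ∧
      ∀ x : Ω, ∀ r ∈ R, r • x = x → r = 1
  · exact Or.inr (Or.inr hreg)
  have hthree : ∀ g : G, ∀ x y z : Ω, x ≠ y → y ≠ z → x ≠ z → g • x = x → g • y = y →
      g • z = z → g = 1 := by
    by_cases h1 : D.i ≤ 1
    · exact (D.regular_or_three h1).resolve_left hreg
    · exact fun g x y z hxy hyz hxz => D.three_of_two (D.i_eq_two (by omega)) hxy hyz hxz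
  have hsharp : ∃ g : G, g ≠ 1 ∧ ∃ x y : Ω, x ≠ y ∧ g • x = x ∧ g • y = y := by
    by_contra! hn
    obtain ⟨K, -, -, -, -, -, hKn, -, -, hKt, hKf, -, -⟩ :=
      CfsgLib.PermGroups.exists_regular_normal_of_sharply_two h2
        (fun e => (Subgroup.eq_bot_iff_forall _).2 fun g hg => by
          by_contra hg1
          have hg' : g • e = e := hg
          refine hn g hg1 (e 0) (e 1) (fun h => absurd (e.injective h) (by decide))
            (congrArg (fun q : Fin 2 ↪ Ω => q 0) hg') (congrArg (fun q : Fin 2 ↪ Ω => q 1) hg'))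
        (by rw [Nat.card_eq_fintype_card]; exact Fintype.one_lt_card_iff.2 ⟨a, b, hab⟩)
    refine hreg ⟨K, hKn, fun x y => ?_, fun x r hr hrx => ?_⟩
    · obtain ⟨r, hr⟩ := hKt.exists_smul_eq x y
      exact ⟨r, r.2, hr⟩
    · have : (⟨r, hr⟩ : K) ∈ MulAction.stabilizer K x := hrx
      rw [hKf x, Subgroup.mem_bot] at this
      exact congrArg Subtype.val this
  have hZ : Cfsg.IsZassenhausGroup G Ω := by
    refine ⟨inferInstance, h2, hthree, hsharp, fun N hN hNt => ?_⟩
    by_contra! hfree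
    refine hreg ⟨N, hN, fun x y => ?_, fun x r hr hrx => ?_⟩
    · obtain ⟨r, hr⟩ := hNt.exists_smul_eq x y
      exact ⟨r, r.2, hr⟩
    · have : (⟨r, hr⟩ : N) ∈ MulAction.stabilizer N x := hrx
      rw [hfree x, Subgroup.mem_bot] at this
      exact congrArg Subtype.val this
  by_cases h1 : D.i ≤ 1
  swap
  · have hi := D.i_eq_two (by omega)
    obtain ⟨u, hu, hu2⟩ := D.exists_involution_pairStab hi.ge hab
    obtain ⟨_, _, K, iF, iT, -, -, -, -, hne⟩ := Cfsg.Agent.S0742.result hZ hab
      (even_iff_two_dvd.2 (hu2 ▸ Subgroup.orderOf_dvd_natCard _ hu))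
      (D.two_mul_pairStab_le hi hab)
    exact Or.inl ⟨K, iF, iT, hne⟩
  have hodd := D.odd_pairStab h1 hab
  have h3Ω := CfsgLib.ZassAbelian.zassenhaus_three_le hZ
  obtain ⟨U, hUa, hUc, hUn, hregU, hfree, φ, hφ⟩ :=
    CfsgLib.ZassAbelian.exists_regular_kernel hpair hthree h3Ω hab
  have hfix : ∀ u ∈ U, u ≠ 1 → ∀ c : Ω, u • c = c → c = a := fun u hu hu1 c hc => by
    by_contra hca
    exact hu1 (hfree u hu c hca hc)
  have hUc' : Nat.card U + 1 = Fintype.card Ω := by rw [hUc, Nat.card_eq_fintype_card]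
  rw [Nat.card_eq_fintype_card] at h3Ω
  rcases Cfsg.Agent.S0885.result hZ hab (Nat.card U) _ hUc'.symm rfl hodd U hUa
      hUc' hfix with hle | ⟨hU2, ⟨u, v, huv⟩, -⟩
  · left
    obtain ⟨g, hg1, x, y, hxy, hx, hy⟩ := hsharp
    haveI : Nontrivial ↥(MulAction.stabilizer G a ⊓ MulAction.stabilizer G b) := by
      obtain ⟨k, rfl, hkb⟩ := hpair x y a b hxy hab
      refine ⟨⟨⟨k * g * k⁻¹, Subgroup.mem_inf.2 ⟨?_, ?_⟩⟩, 1, fun e =>
        hg1 (conj_eq_one_iff.1 (congrArg Subtype.val e))⟩⟩
      · rw [MulAction.mem_stabilizer_iff, mul_smul, mul_smul, inv_smul_smul, hx]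
      · rw [MulAction.mem_stabilizer_iff, ← hkb, mul_smul, mul_smul, inv_smul_smul, hy]
    obtain ⟨p, n, hp, -, hpn⟩ := (isPrimePow_nat_iff _).1
      (CfsgLib.ZassAbelian.isPrimePow_of_two_orbits φ hφ (by omega) hle)
    haveI := Fact.mk hp
    have hcomm : ∀ s t : U, s * t = t * s := CfsgLib.ZassAbelian.comm_of_two_orbits
      (IsPGroup.of_card (n := n) hpn.symm) φ hφ hle
    obtain ⟨c, hc⟩ : ∃ c : Ω, c ∉ ({a, b} : Finset Ω) := by
      by_contra! h
      have := Finset.card_le_card (show (Finset.univ : Finset Ω) ⊆ {a, b} from fun x _ => h x)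
      rw [Finset.card_univ, Finset.card_pair hab] at this
      omega
    simp only [Finset.mem_insert, Finset.mem_singleton, not_or] at hc
    let S : CfsgLib.ZassAbelian.Setting G Ω :=
      { i := a
        o := b
        io := hab
        pair := hpair
        three := hthree
        third := ⟨c, hc.1, hc.2⟩
        F := U
        Fle := fun s hs => hUa hs
        Fnorm := hUn
        Fcomm := fun s hs t ht => congrArg Subtype.val (hcomm ⟨s, hs⟩ ⟨t, ht⟩)
        reg := hregU
        free := hfree }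
    rcases CfsgLib.ZassAbelian.classify S with h | ⟨h, hinv⟩ | ⟨M, hMn, hMt, hMf⟩
    · obtain ⟨K, iF, iT, hK, ⟨e⟩⟩ := CfsgLib.ZassAbelian.pgl_of_commutative S h
        (fun s hs t ht => (D.pairStab_comm hab hs ht).eq)
      have hq : Even (Fintype.card K) := by
        rw [hK]
        have hdodd : Odd (Nat.card S.H) := hodd
        have := S.two_le_q
        obtain ⟨r, hr⟩ := hdodd
        exact ⟨r + 1, by omega⟩
      obtain ⟨r, hr⟩ := CharP.exists K
      haveI := hr
      haveI : Fact r.Prime := ⟨CharP.char_is_prime K r⟩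
      obtain ⟨m, hr', hm⟩ := FiniteField.card K r
      have hr2 : r = 2 := ((Nat.prime_dvd_prime_iff_eq Nat.prime_two hr').1
        (Nat.prime_two.dvd_of_dvd_pow (hm ▸ hq.two_dvd))).symm
      subst hr2
      obtain ⟨e'⟩ := CfsgLib.Dickson.psl_equiv_pgl (F := K)
      exact ⟨K, iF, iT, ⟨e.trans e'.symm⟩⟩
    · obtain ⟨K, iF, iT, -, -, hne⟩ := CfsgLib.ZassAbelian.psl_of_inverted S h hinv
      exact ⟨K, iF, iT, hne⟩
    · exfalso
      haveI := CfsgLib.ZassAbelian.isPretransitive_of_exists hMt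
      obtain ⟨z, hz⟩ := hZ.2.2.2.2 M hMn inferInstance
      exact hz (CfsgLib.ZassAbelian.stabilizer_of_free hMf z)
  · refine Or.inr (Or.inl ?_)
    have hoddn : Odd (Fintype.card Ω) := by
      rw [← hUc']
      haveI : Fact (Nat.Prime 2) := ⟨Nat.prime_two⟩
      obtain ⟨k, hk⟩ := IsPGroup.iff_card.1 hU2
      rcases k with _ | k
      · rw [pow_zero] at hk
        omega
      · rw [hk, pow_succ]
        exact ⟨2 ^ k, by ring⟩
    haveI := Cfsg.Agent.S0338.result hZ hoddn
    obtain ⟨s, -, hs1, hs2⟩ := D.exists_swap hab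
    exact CfsgLib.SuzukiUnique.isoSuzuki_of_setting (U := U) (v := s) (a := a) (b := b)
      { zass := hZ
        hab := hab
        le_stab := fun r hr => hUa hr
        norm := hUn
        reg := fun c d hc hd => by
          obtain ⟨r, hr, he⟩ := hregU c d hc hd
          refine ⟨⟨r, hr⟩, he, fun q hq => Subtype.ext ?_⟩
          have e1 : (r⁻¹ * (q : G)) • c = c := by rw [mul_smul, hq, ← he, inv_smul_smul]
          exact (inv_mul_eq_one.1 (hfree _ (mul_mem (inv_mem hr) q.2) c hc e1)).symm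
        two := hU2
        nonabelian := ⟨u, u.2, v, v.2, fun h => huv (Subtype.ext h)⟩
        va := hs1
        vb := hs2 }

end Cfsg.Agent.S3726
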