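import Cfsg.Agent.ZCReduction89
import Cfsg.Agent.CharP.SylowInNormal
import Cfsg.Agent.Transfer.Control

/-!
The reduction of groups satisfying `C(Ω₁Z(S)) ≤ N(S)` to local characteristic two.
-/

set_option autoImplicit false

namespace CfsgLib.ZCReduction89

open Cfsg CfsgLib CfsgLib.SignalizerMethod CfsgLib.SignalizerMethod.Dichotomy89

universe u

theorem not_hasComponent_of_solvable {C : Type*} [Group C] [Group.IsSolvable C] :
    ¬ HasComponent C := by
  rintro ⟨K, -, hperf, hs⟩
  have : Nontrivial (↥K ⧸ Subgroup.center K) := hs.toNontrivial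
  have : Nontrivial K := (QuotientGroup.mk_surjective (s := Subgroup.center K)).nontrivial
  have := hperf
  exact Group.IsPerfect.not_isSolvable (G := K) inferInstance

section

variable {G : Type u} [Group G] [Finite G]

theorem isPGroup_of_mem_pResidual_bot (h : pResidual 2 G = ⊥) : IsPGroup 2 G := by
  have : Fact (Nat.Prime 2) := ⟨Nat.prime_two⟩
  intro g
  obtain ⟨a, o, ho, he⟩ := Nat.exists_eq_two_pow_mul_odd (orderOf_pos g).ne'
  refine ⟨a, Subgroup.mem_bot.mp (h ▸ Subgroup.subset_closure ?_)⟩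
  show Nat.Coprime (orderOf (g ^ 2 ^ a)) 2
  rw [orderOf_pow_of_dvd (pow_ne_zero _ two_ne_zero) ⟨o, he⟩, he,
    Nat.mul_div_cancel_left _ (Nat.two_pow_pos a)]
  exact Nat.coprime_two_right.mpr ho

theorem pResidual_normal' : (pResidual 2 G).Normal := by
  constructor
  intro x hx g
  have hle : pResidual 2 G ≤ (pResidual 2 G).comap (MulAut.conj g).toMonoidHom := by
    refine (Subgroup.closure_le _).mpr fun y hy => Subgroup.subset_closure ?_
    show Nat.Coprime (orderOf ((MulAut.conj g) y)) 2
    rwa [MulEquiv.orderOf_eq]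
  exact hle hx

theorem no_index_two_pResidual (N : Subgroup ↥(pResidual 2 G)) : N.index ≠ 2 := by
  intro hN
  have hall : ∀ x : ↥(pResidual 2 G), x ∈ N := by
    intro x
    refine Subgroup.closure_induction (k := {g : G | Nat.Coprime (orderOf g) 2})
      (p := fun y hy => (⟨y, hy⟩ : ↥(pResidual 2 G)) ∈ N) ?_ ?_ ?_ ?_ x.2
    · intro y hy
      obtain ⟨i, hi⟩ := Nat.coprime_two_right.mp (hy : Nat.Coprime (orderOf y) 2)
      set y' : ↥(pResidual 2 G) := ⟨y, Subgroup.subset_closure hy⟩
      have h1 : y' * y' ∈ N := Subgroup.mul_self_mem_of_index_two hN y'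
      have h2 : (y' * y') ^ (i + 1) = y' := Subtype.ext (by
        show (y * y) ^ (i + 1) = y
        rw [← pow_two, ← pow_mul, show 2 * (i + 1) = orderOf y + 1 by omega, pow_succ,
          pow_orderOf_eq_one, one_mul])
      exact h2 ▸ pow_mem h1 _
    · exact one_mem N
    · intro a b _ _ ha hb
      exact mul_mem ha hb
    · intro a _ ha
      exact inv_mem ha
  have : N = ⊤ := Subgroup.eq_top_iff' N |>.mpr hall
  rw [this, Subgroup.index_top] at hN
  omega

theorem constrained_of_solvable (hC : ∀ t : G, orderOf t = 2 →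
    Group.IsSolvable ↥(Subgroup.centralizer ({t} : Set G))) (t : G) (ht : IsInv t) :
    IsPConstrained 2 ↥(Subgroup.centralizer ({t} : Set G)) := by
  have : Fact (Nat.Prime 2) := ⟨Nat.prime_two⟩
  have := hC t ht.orderOf
  exact Constrained.isPConstrained_of_isSolvable

theorem isSolvable_centralizer_sub (hC : ∀ t : G, orderOf t = 2 →
    Group.IsSolvable ↥(Subgroup.centralizer ({t} : Set G))) (K : Subgroup G) (t : ↥K)
    (ht : orderOf t = 2) : Group.IsSolvable ↥(Subgroup.centralizer ({t} : Set ↥K)) := by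
  have := hC t (by rw [Subgroup.orderOf_coe]; exact ht)
  let f : ↥(Subgroup.centralizer ({t} : Set ↥K)) →* ↥(Subgroup.centralizer ({(t : G)} : Set G)) :=
    (K.subtype.comp (Subgroup.subtype _)).codRestrict _ fun c =>
      Subgroup.mem_centralizer_singleton_iff.mpr
        (congrArg Subtype.val (Subgroup.mem_centralizer_singleton_iff.mp c.2))
  refine Group.isSolvable_of_isSolvable_injective (f := f) fun a b e => ?_
  exact Subtype.ext (Subtype.ext (congrArg (fun c : ↥(Subgroup.centralizer ({(t : G)} : Set G)) => (c : G)) e :))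

/-- Solvable centralizers with trivial cores give characteristic two type. -/
theorem charTwoType_of_cores {K : Type u} [Group K] [Finite K] (h2 : Even (Nat.card K))
    (hC : ∀ t : K, orderOf t = 2 → Group.IsSolvable ↥(Subgroup.centralizer ({t} : Set K)))
    (h : ∀ t : K, IsInv t → centralizerPPrimeCore 2 t = ⊥) : IsCharacteristicTwoType K := by
  have : Fact (Nat.Prime 2) := ⟨Nat.prime_two⟩
  refine isCharacteristicTwoType_of_centralizers h2 fun t ht => ?_
  have hcore := h t (isInv_of_orderOf ht)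
  rw [centralizerPPrimeCore, Subgroup.map_eq_bot_iff_of_injective _ (Subgroup.subtype_injective _)]
    at hcore
  exact (Constrained.isPConstrained_iff_of_pPrimeCore_eq_bot hcore).mp
    (constrained_of_solvable hC t (isInv_of_orderOf ht))

/-- Trivial cores are inherited by normal subgroups. -/
theorem cores_of_normal (K : Subgroup G) [hK : K.Normal]
    (h : ∀ t : G, IsInv t → centralizerPPrimeCore 2 t = ⊥) (t : ↥K) (ht : IsInv t) :
    centralizerPPrimeCore 2 t = ⊥ := by
  have : Fact (Nat.Prime 2) := ⟨Nat.prime_two⟩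
  set X := (centralizerPPrimeCore 2 t).map K.subtype with hX
  set C := Subgroup.centralizer ({(t : G)} : Set G) with hCdef
  have hXC : X ≤ C := by
    rintro _ ⟨x, hx, rfl⟩
    exact Subgroup.mem_centralizer_singleton_iff.mpr (congrArg Subtype.val
      (Subgroup.mem_centralizer_singleton_iff.mp (CfsgLib.Signalizer.centralizerPPrimeCore_le t hx)))
  have hodd : Odd (Nat.card X) := by
    rw [hX, Subgroup.card_map_of_injective (Subgroup.subtype_injective _)]
    exact BalanceNineteen.centralizerPPrimeCore_odd t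
  have hn : C ≤ Subgroup.normalizer (X : Set G) :=
    CfsgLib.Coprime.le_normalizer_of_conj_mem fun c hc x hx => by
      obtain ⟨y, hy, rfl⟩ := hx
      have hfix : (MulAut.conjNormal c : MulAut ↥K) t = t := Subtype.ext (by
        rw [MulAut.conjNormal_apply]
        exact mul_inv_eq_iff_eq_mul.mpr (Subgroup.mem_centralizer_singleton_iff.mp hc))
      have h1 := CfsgLib.Cores.map_centralizerPPrimeCore_le (p := 2)
        (MulAut.conjNormal c : MulAut ↥K) t ⟨y, hy, rfl⟩
      rw [hfix] at h1
      exact ⟨_, h1, by simp [MulAut.conjNormal_apply]⟩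
  have h1 : X.subgroupOf C ≤ oddCore ↥C :=
    TwoComponents.le_oddCore ((Subgroup.normal_subgroupOf_iff_le_normalizer hXC).mpr hn)
      (by rw [Nat.card_congr (Subgroup.subgroupOfEquivOfLe hXC).toEquiv]; exact hodd)
  have htG : IsInv (t : G) := ⟨fun e => ht.1 (Subtype.ext e), congrArg Subtype.val ht.2⟩
  have h2 : X ≤ ⊥ := by
    rw [← h (t : G) htG]
    calc X = (X.subgroupOf C).map C.subtype := (Subgroup.map_subgroupOf_eq_of_le hXC).symm
      _ ≤ _ := Subgroup.map_mono h1
  exact (Subgroup.map_eq_bot_iff_of_injective _ (Subgroup.subtype_injective _)).mp (le_bot_iff.mp h2)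

theorem mem_omega_iff (Q : Subgroup G) (hQ : ∀ a ∈ Q, ∀ b ∈ Q, a * b = b * a) {x : G} :
    x ∈ omegaOne 2 Q ↔ x ∈ Q ∧ x * x = 1 := by
  constructor
  · intro hx
    refine Subgroup.closure_induction (p := fun y _ => y ∈ Q ∧ y * y = 1)
      (fun y hy => ⟨hy.1, by rw [← pow_two]; exact hy.2⟩) ⟨one_mem Q, one_mul 1⟩ ?_ ?_ hx
    · intro a b _ _ ha hb
      refine ⟨mul_mem ha.1 hb.1, ?_⟩
      calc a * b * (a * b) = a * (b * a) * b := by group
        _ = a * (a * b) * b := by rw [hQ b hb.1 a ha.1]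
        _ = (a * a) * (b * b) := by group
        _ = 1 := by rw [ha.2, hb.2, one_mul]
    · intro a _ ha
      exact ⟨inv_mem ha.1, by rw [← mul_inv_rev, ha.2, inv_one]⟩
  · exact fun hx => Subgroup.subset_closure ⟨hx.1, by rw [pow_two]; exact hx.2⟩

/-- The shape of S3759. -/
theorem reduction (hFT : BalanceNineteen.OddOrderSolvable.{u})
    (hSF : BalanceNineteen.SignalizerFunctorTheorem.{u}) (hSE : StronglyEmbeddedCore.{u})
    (heven : Even (Nat.card G))
    (hC : ∀ t : G, orderOf t = 2 → Group.IsSolvable ↥(Subgroup.centralizer ({t} : Set G)))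
    (S : Sylow 2 G)
    (hZ : Subgroup.centralizer
        (omegaOne 2 ((S : Subgroup G) ⊓ Subgroup.centralizer ((S : Subgroup G) : Set G)) : Set G) ≤
      Subgroup.normalizer ((S : Subgroup G) : Set G))
    (hO' : pPrimeCore 2 G = ⊥) (hO : pCore 2 G = ⊥) :
    (∃ M : Subgroup ↥(pResidual 2 G), IsStronglyEmbedded M) ∨
      (Nat.card ↥(omegaOne 2 ((S : Subgroup G) ⊓ Subgroup.centralizer ((S : Subgroup G) : Set G)) ⊓
          pResidual 2 G) = 2 ∧
        ∀ h ∈ pResidual 2 G, ∀ z ∈ omegaOne 2 ((S : Subgroup G) ⊓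
            Subgroup.centralizer ((S : Subgroup G) : Set G)) ⊓ pResidual 2 G,
          h * z * h⁻¹ ∈ (S : Subgroup G) →
            h * z * h⁻¹ ∈ omegaOne 2 ((S : Subgroup G) ⊓
              Subgroup.centralizer ((S : Subgroup G) : Set G))) ∨
      (Nat.card ↥(omegaOne 2 ((S : Subgroup G) ⊓
          Subgroup.centralizer ((S : Subgroup G) : Set G))) = 4 ∧
        omegaOne 2 ((S : Subgroup G) ⊓ pResidual 2 G) =
          omegaOne 2 ((S : Subgroup G) ⊓ Subgroup.centralizer ((S : Subgroup G) : Set G))) ∨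
      IsCharacteristicTwoType ↥(pResidual 2 G ⊔
        omegaOne 2 ((S : Subgroup G) ⊓ Subgroup.centralizer ((S : Subgroup G) : Set G))) := by
  classical
  have : Fact (Nat.Prime 2) := ⟨Nat.prime_two⟩
  set H := pResidual 2 G with hH
  have hHn : H.Normal := pResidual_normal'
  set Z₀ := (S : Subgroup G) ⊓ Subgroup.centralizer ((S : Subgroup G) : Set G) with hZ₀
  set Z := omegaOne 2 Z₀ with hZdef
  have hcomm₀ : ∀ a ∈ Z₀, ∀ b ∈ Z₀, a * b = b * a := fun a ha b hb =>
    Subgroup.mem_centralizer_iff.mp hb.2 a ha.1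
  have memZ : ∀ x, x ∈ Z ↔ x ∈ (S : Subgroup G) ∧
      (∀ s ∈ (S : Subgroup G), s * x = x * s) ∧ x * x = 1 := fun x => by
    rw [hZdef, mem_omega_iff Z₀ hcomm₀, hZ₀, Subgroup.mem_inf, Subgroup.mem_centralizer_iff]
    exact and_assoc
  have hZS : Z ≤ (S : Subgroup G) := fun x hx => ((memZ x).mp hx).1
  have hZe : IsElementaryAbelian 2 Z := ⟨IsMulCommutative.of_comm fun a b => Subtype.ext
    (((memZ b).mp b.2).2.1 a (hZS a.2)), fun x hx => by rw [pow_two]; exact ((memZ x).mp hx).2.2⟩
  -- the residual has even order and trivial core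
  have hHO : oddCore ↥H = ⊥ := by
    have hn : ((oddCore ↥H).map H.subtype).Normal := by
      refine ⟨fun x hx g => ?_⟩
      obtain ⟨y, hy, rfl⟩ := hx
      have hch : (oddCore ↥H).map (MulAut.conjNormal g : MulAut ↥H).toMonoidHom ≤ oddCore ↥H :=
        TwoComponents.le_oddCore
          ((Constrained.instNormalPPrimeCore (G := ↥H) 2).map _ (MulEquiv.surjective _)) (by
            rw [← Nat.card_congr (Subgroup.equivMapOfInjective (oddCore ↥H) _ (MulEquiv.injective _)).toEquiv]
            exact TwoComponents.odd_card_oddCore _)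
      exact ⟨_, hch ⟨y, hy, rfl⟩, by simp [MulAut.conjNormal_apply]⟩
    refine (Subgroup.map_eq_bot_iff_of_injective _ (Subgroup.subtype_injective H)).mp
      (le_bot_iff.mp (hO' ▸ TwoComponents.le_oddCore hn ?_))
    rw [Subgroup.card_map_of_injective (Subgroup.subtype_injective _)]
    exact TwoComponents.odd_card_oddCore _
  have hHeven : 2 ∣ Nat.card H := by
    by_contra hodd
    have h1 : H = ⊥ := le_bot_iff.mp (hO' ▸ TwoComponents.le_oddCore hHn
      (Nat.not_even_iff_odd.mp fun e => hodd (even_iff_two_dvd.mp e)))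
    have h2 : (⊤ : Subgroup G) ≤ pCore 2 G :=
      le_sSup ⟨inferInstance, (isPGroup_of_mem_pResidual_bot h1).to_subgroup ⊤⟩
    rw [hO, top_le_iff] at h2
    have h3 := Subgroup.card_top (G := G)
    rw [← h2, Subgroup.card_bot] at h3
    rw [← h3] at heven
    exact Nat.not_even_one heven
  -- the Sylow subgroup of the residual
  obtain ⟨R, hR⟩ := CharP.exists_sylow_eq_inf_normal S H
  have hmemR : ∀ x : ↥H, x ∈ (R : Subgroup ↥H) ↔ (x : G) ∈ (S : Subgroup G) := fun x => by
    constructor
    · intro hx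
      exact (hR ▸ ⟨x, hx, rfl⟩ : (x : G) ∈ (S : Subgroup G) ⊓ H).1
    · intro hx
      obtain ⟨y, hy, hyx⟩ := (hR ▸ ⟨hx, x.2⟩ : (x : G) ∈ (R : Subgroup ↥H).map H.subtype)
      exact (Subtype.ext hyx : y = x) ▸ hy
  -- a central involution inside the residual
  obtain ⟨z, hzZ, hzH, hzi⟩ : ∃ z ∈ Z, z ∈ H ∧ IsInv z := by
    have hne : ((R : Subgroup ↥H).map H.subtype).subgroupOf (S : Subgroup G) ≠ ⊥ := by
      intro h0
      apply R.ne_bot_of_dvd_card hHeven
      rw [Subgroup.subgroupOf_eq_bot] at h0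
      have h1 := h0.eq_bot_of_le (hR.le.trans inf_le_left)
      exact (Subgroup.map_eq_bot_iff_of_injective _ (Subgroup.subtype_injective H)).mp h1
    have hn : (((R : Subgroup ↥H).map H.subtype).subgroupOf (S : Subgroup G)).Normal := by
      rw [hR]
      refine ⟨fun x hx g => ?_⟩
      exact ⟨(g * x * g⁻¹).2, hHn.conj_mem _ hx.2 g⟩
    have := hn
    set A := ((R : Subgroup ↥H).map H.subtype).subgroupOf (S : Subgroup G) ⊓
      Subgroup.center ↥(S : Subgroup G)
    have hA : A ≠ ⊥ := PGroup.inf_center_ne_bot S.isPGroup' _ hne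
    obtain ⟨n, hn⟩ := IsPGroup.iff_card.mp (S.isPGroup'.to_subgroup A)
    have h2A : 2 ∣ Nat.card A := by
      rw [hn]
      refine dvd_pow_self 2 fun e => hA (Subgroup.card_eq_one.mp ?_)
      rw [hn, e, pow_zero]
    obtain ⟨c, hc⟩ := exists_prime_orderOf_dvd_card' (G := A) 2 h2A
    have hcA := c.2
    have hci : IsInv ((c : ↥(S : Subgroup G)) : G) := isInv_of_orderOf (by
      rw [Subgroup.orderOf_coe, Subgroup.orderOf_coe]; exact hc)
    refine ⟨_, (memZ _).mpr ⟨(c : ↥(S : Subgroup G)).2, fun s hs => ?_, hci.2⟩,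
      (Subgroup.map_subtype_le _) hcA.1, hci⟩
    exact congrArg Subtype.val (Subgroup.mem_center_iff.mp hcA.2 ⟨s, hs⟩)
  obtain ⟨n, hn⟩ := IsPGroup.iff_card.mp (S.isPGroup'.to_le hZS)
  have hzne : Subgroup.zpowers z ≤ Z := Subgroup.zpowers_le.mpr hzZ
  have hzcard : Nat.card (Subgroup.zpowers z) = 2 := by rw [Nat.card_zpowers]; exact hzi.orderOf
  by_cases hbig : 4 ≤ Nat.card Z
  · -- at least two central involutions
    by_cases hout : Nat.card Z = 4 ∧ ∀ t ∈ (S : Subgroup G), IsInv t → t ∈ Z
    · obtain ⟨h4, hin⟩ := hout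
      by_cases hZH : Z ≤ H
      · refine Or.inr (Or.inr (Or.inl ⟨h4, le_antisymm ((Subgroup.closure_le _).mpr ?_) ?_⟩))
        · intro x hx
          by_cases hx1 : x = 1
          · rw [hx1]; exact one_mem Z
          · exact hin x hx.1.1 ⟨hx1, by rw [← pow_two]; exact hx.2⟩
        · exact fun x hx => Subgroup.subset_closure ⟨⟨hZS hx, hZH hx⟩, hZe.2 x hx⟩
      · refine Or.inr (Or.inl ⟨?_, fun h hh x hx hxS => ?_⟩)
        · have h1 : Subgroup.zpowers z ≤ Z ⊓ H := le_inf hzne (Subgroup.zpowers_le.mpr hzH)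
          have h2 := Subgroup.card_le_of_le h1
          have h3 : Nat.card ↥(Z ⊓ H) < Nat.card Z :=
            lt_of_le_of_ne (Subgroup.card_le_of_le inf_le_left) fun e => hZH
              (inf_eq_left.mp (Subgroup.eq_of_le_of_card_ge inf_le_left e.ge))
          have h4' := Subgroup.card_dvd_of_le (inf_le_left : Z ⊓ H ≤ Z)
          rw [h4] at h4' h3
          rw [hzcard] at h2
          interval_cases hk : Nat.card ↥(Z ⊓ H) <;> omega
        · by_cases hx1 : x = 1
          · rw [hx1]; simp
          · exact hin _ hxS (IsInv.conj ⟨hx1, ((memZ x).mp hx.1).2.2⟩ h)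
    -- an elementary subgroup of order eight
    have h3 : ¬ PRankLE 2 2 G := by
      intro hle
      have h4 : Nat.card Z = 4 := le_antisymm (hle Z hZe.1 hZe.2) hbig
      push Not at hout
      obtain ⟨t, htS, hti, htZ⟩ := hout h4
      have h8 := sup_eight (S := S) hZe hbig hZS htS hti
        (fun f hf => (((memZ f).mp hf).2.1 t htS).symm) htZ
      have := hle _ h8.1.1 h8.1.2
      have := h8.2.1
      omega
    refine Or.inr (Or.inr (Or.inr ?_))
    obtain ⟨Z₁, hZ₁, hZ₁c⟩ : ∃ Z₁ ≤ Z.subgroupOf (S : Subgroup G), Nat.card Z₁ = 4 :=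
      Sylow.exists_subgroup_le_card_pow_prime_of_le_card (n := 2) Nat.prime_two S.isPGroup'
        (by rw [Nat.card_congr (Subgroup.subgroupOfEquivOfLe hZS).toEquiv]; exact hbig)
    have hKlein : IsKleinFour Z₁ := ⟨hZ₁c, by
      have : Nontrivial ↥Z₁ := Finite.one_lt_card_iff_nontrivial.mp (by omega)
      refine (Monoid.exponent_eq_prime_iff (p := 2) Nat.prime_two).mpr ?_
      exact fun g hg => orderOf_eq_prime (Subtype.ext (Subtype.ext
        (by simpa using hZe.2 _ (hZ₁ g.2)))) hg⟩
    have hcon : IsFourConnected ↥(S : Subgroup G) := fun U V hU hV =>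
      (Relation.ReflTransGen.single ⟨hU, hKlein, fun a _ b hb => Subtype.ext
          (((memZ _).mp (hZ₁ hb)).2.1 a a.2)⟩).tail
        ⟨hKlein, hV, fun a ha b _ => Subtype.ext (((memZ _).mp (hZ₁ ha)).2.1 b b.2).symm⟩
    have hcores : ∀ t : G, IsInv t → centralizerPPrimeCore 2 t = ⊥ := fun t ht =>
      core_trivial_of_connected hFT hSF hSE hO' hcon h3 (constrained_of_solvable hC) ht
    set K := H ⊔ Z with hK
    have hKn : K.Normal := by
      refine ⟨fun x hx g => ?_⟩
      -- the Sylow subgroup and the residual generate, and the Sylow subgroup centralizes `Z`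
      have hle : (S : Subgroup G) ⊔ H ≤ Subgroup.normalizer (K : Set G) := by
        refine sup_le (CfsgLib.Coprime.le_normalizer_of_conj_mem fun s hs y hy => ?_)
          (le_trans le_sup_left Subgroup.le_normalizer)
        have hle : K ≤ K.comap (MulAut.conj s).toMonoidHom := sup_le
          (fun y hy => Subgroup.mem_sup_left (hHn.conj_mem y hy s))
          (fun y hy => Subgroup.mem_sup_right (by
            show s * y * s⁻¹ ∈ Z
            rwa [((memZ y).mp hy).2.1 s hs, mul_inv_cancel_right]))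
        exact hle hy
      have htop : (S : Subgroup G) ⊔ H = ⊤ := CfsgLib.Transfer.sylow_sup_pResidual S
      exact (Subgroup.mem_normalizer_iff.mp (hle (htop ▸ Subgroup.mem_top g)) x).mp hx
    refine charTwoType_of_cores ?_ (isSolvable_centralizer_sub hC K) (cores_of_normal K hcores)
    exact even_iff_two_dvd.mpr (hHeven.trans (Subgroup.card_dvd_of_le le_sup_left))
  -- a single central involution
  have hZz : Z = Subgroup.zpowers z := by
    refine (Subgroup.eq_of_le_of_card_ge hzne ?_).symm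
    rw [hzcard]
    rw [hn] at hbig ⊢
    match n with
    | 0 => omega
    | 1 => omega
    | m + 2 => exact absurd (le_trans (show 4 ≤ 2 ^ (0 + 2) by norm_num)
        (Nat.pow_le_pow_right two_pos (by omega))) hbig
  have hCz : Subgroup.centralizer ({z} : Set G) ≤ Subgroup.normalizer ((S : Subgroup G) : Set G) := by
    rwa [hZz, Subgroup.zpowers_eq_closure, Subgroup.centralizer_closure] at hZ
  have hZle : Z ≤ H := hZz ▸ Subgroup.zpowers_le.mpr hzH
  have hKH : H ⊔ Z = H := sup_eq_left.mpr hZle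
  by_cases hwc : ∀ h ∈ H, ∀ x ∈ Z ⊓ H, h * x * h⁻¹ ∈ (S : Subgroup G) → h * x * h⁻¹ ∈ Z
  · refine Or.inr (Or.inl ⟨?_, hwc⟩)
    rw [inf_eq_left.mpr hZle, hZz]
    exact hzcard
  have hsolH := isSolvable_centralizer_sub hC H
  have hHev : Even (Nat.card H) := even_iff_two_dvd.mpr hHeven
  have hfinish : IsCharacteristicTwoType ↥H → IsCharacteristicTwoType ↥(H ⊔ Z) := fun h => by
    rw [hKH]; exact h
  rcases dichotomy hFT hSF hSE (fun N _ => no_index_two_pResidual N) hHO with h2 | ⟨t, ht, hcomp⟩ | h2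
  swap
  · have := hsolH t ht
    exact absurd hcomp not_hasComponent_of_solvable
  swap
  · exact Or.inr (Or.inr (Or.inr (hfinish (h2 hHev))))
  push Not at hwc
  obtain ⟨g, hg, x, hx, hgx, hgxZ⟩ := hwc
  have hxz : x = z := by
    rcases (show x = 1 ∨ x = z by
      have h1 : x ∈ Subgroup.zpowers z := hZz ▸ hx.1
      obtain ⟨i, rfl⟩ := Subgroup.mem_zpowers_iff.mp h1
      rcases Int.even_or_odd i with ⟨j, rfl⟩ | ⟨j, rfl⟩
      · left; rw [← two_mul, zpow_mul, zpow_two, hzi.2, one_zpow]
      · right; rw [zpow_add, zpow_mul, zpow_two, hzi.2, one_zpow, one_mul, zpow_one]) with e | e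
    · exact absurd (by rw [e]; simp) hgxZ
    · exact e
  subst hxz
  have hconf : Conf R (⟨x, hzH⟩ : ↥H) :=
    { zR := (hmemR _).mpr (hZS hzZ)
      zi := ⟨fun e => hzi.1 (congrArg Subtype.val e), Subtype.ext hzi.2⟩
      central := fun r hr => Subtype.ext (((memZ x).mp hzZ).2.1 r ((hmemR r).mp hr))
      norm := by
        refine CfsgLib.Coprime.le_normalizer_of_conj_mem fun c hc r hr => (hmemR _).mpr ?_
        have h1 : (c : G) ∈ Subgroup.centralizer ({x} : Set G) :=
          Subgroup.mem_centralizer_singleton_iff.mpr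
            (congrArg Subtype.val (Subgroup.mem_centralizer_singleton_iff.mp hc))
        exact (Subgroup.mem_normalizer_iff.mp (hCz h1) _).mp ((hmemR r).mp hr)
      rank := h2
      noIndex := no_index_two_pResidual
      moved := ⟨⟨g, hg⟩, (hmemR _).mpr hgx, fun e => hgxZ (by
        rw [show g * x * g⁻¹ = x from congrArg Subtype.val e]; exact hzZ)⟩
      con := constrained_of_solvable hsolH }
  rcases hconf.conclusion hHO with h | h
  · exact Or.inl h
  · exact Or.inr (Or.inr (Or.inr (hfinish (charTwoType_of_cores hHev hsolH h))))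

end

end CfsgLib.ZCReduction89
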