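import Cfsg.Statements.S4209
import Mathlib
import Cfsg.Agent.PGroup.PolySeq
import Cfsg.Agent.Eq.Def_PLocal

set_option autoImplicit false
open Cfsg

namespace Cfsg.Agent.S4209


/-- A finite `p`-group of nilpotency class less than `p` (the term of index `p - 1` of the lower central series of the whole group, indexed from `0`, is trivial) is a regular `p`-group. -/
theorem result {G : Type*} [Group G] [Finite G] {p : ℕ} [Fact p.Prime] (hG : IsPGroup p G) (hcl : (⊤ : Subgroup G).lowerCentralSeries (p - 1) = ⊥) : Cfsg.IsRegularPGroup p G := by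
  have hp : p.Prime := Fact.out
  refine ⟨hG, fun a b n => ?_⟩
  set H := Subgroup.closure ({a, b} : Set G) with hH
  set a' : H := ⟨a, Subgroup.subset_closure (by simp)⟩ with ha'
  set b' : H := ⟨b, Subgroup.subset_closure (by simp)⟩ with hb'
  have hHc : Subgroup.lowerCentralSeries (⊤ : Subgroup H) (p - 1) = ⊥ := by
    have h := Subgroup.lowerCentralSeries.map H.subtype (p - 1)
    rw [hcl, le_bot_iff, Subgroup.map_eq_bot_iff_of_injective _ H.subtype_injective] at h
    exact h
  refine ⟨(a ^ p ^ n * b ^ p ^ n)⁻¹ * (a * b) ^ p ^ n, ?_, by rw [mul_inv_cancel_left]⟩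
  have h := CfsgLib.PGroup.PolySeq.hall_petrescu hHc a' b' (p ^ n)
    ((Cfsg.powerClosure p n ⁅H, H⁆).comap H.subtype) (by
      intro l hl2 hlp g hg
      have hg' : (g : G) ∈ ⁅H, H⁆ := by
        rw [← Subgroup.map_subtype_commutator]
        refine ⟨g, ?_, rfl⟩
        have h1 : g ∈ Subgroup.lowerCentralSeries (⊤ : Subgroup H) 1 :=
          Subgroup.lowerCentralSeries_antitone _ (by omega) hg
        rwa [Subgroup.lowerCentralSeries_succ, Subgroup.lowerCentralSeries_zero] at h1
      obtain ⟨m, hm⟩ : p ^ n ∣ (p ^ n).choose l := by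
        obtain ⟨l', rfl⟩ := Nat.exists_eq_add_of_le' (show 1 ≤ l by omega)
        obtain ⟨N', hN'⟩ := Nat.exists_eq_add_of_le' (Nat.one_le_pow n p hp.pos)
        have h2 := Nat.add_one_mul_choose_eq N' l'
        rw [← hN'] at h2
        refine ((Nat.Coprime.pow_left n ?_).dvd_of_dvd_mul_right ⟨_, h2.symm⟩)
        rw [hp.coprime_iff_not_dvd]
        intro hdvd
        have := Nat.le_of_dvd (by omega) hdvd
        omega
      rw [Subgroup.mem_comap, map_pow, hm, mul_comm, pow_mul]
      exact Subgroup.subset_closure ⟨_, pow_mem hg' m, rfl⟩)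
  exact Subgroup.mem_comap.1 h

end Cfsg.Agent.S4209
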