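import Cfsg.Statements.S3806
import Cfsg.Agent.S4209
import Cfsg.Agent.PGroup.Small
import Cfsg.Agent.PGroup.Regular
import Cfsg.Agent.LowerCentral.Bracket

set_option autoImplicit false
open Cfsg

namespace Cfsg.Agent.S3806

open scoped commutatorElement

/-- Terms of the lower central series of a group of maximal class. -/
theorem card_lcs {G : Type*} [Group G] [Finite G] {p : ℕ} [Fact p.Prime] (n : ℕ)
    (hG : Nat.card G = p ^ n) [Group.IsNilpotent G] (hcl : Group.nilpotencyClass G = n - 1) :
    ∀ k, 1 ≤ k → k ≤ n - 1 →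
      Nat.card (Subgroup.lowerCentralSeries (⊤ : Subgroup G) k) = p ^ (n - 1 - k) := by
  classical
  have hp : p.Prime := Fact.out
  have hP : IsPGroup p G := IsPGroup.of_card hG
  have hne : ∀ k, k < n - 1 → Subgroup.lowerCentralSeries (⊤ : Subgroup G) k ≠ ⊥ := by
    intro k hk h
    have : Group.nilpotencyClass G ≤ k := by
      rw [← Subgroup.lowerCentralSeries_length_eq_nilpotencyClass]
      exact Nat.find_le h
    omega
  have hlow : ∀ j k, k + j = n - 1 →
      p ^ j ≤ Nat.card (Subgroup.lowerCentralSeries (⊤ : Subgroup G) k) := by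
    intro j
    induction j with
    | zero => intro k _; rw [pow_zero]; exact Nat.card_pos
    | succ j ih =>
      intro k hk
      have h1 := ih (k + 1) (by omega)
      have hlt := CfsgLib.PGroup.lowerCentralSeries_succ_lt hP (hne k (by omega))
      obtain ⟨i, hi⟩ := IsPGroup.iff_card.1
        (hP.to_subgroup (Subgroup.lowerCentralSeries (⊤ : Subgroup G) k))
      have h2 : Nat.card (Subgroup.lowerCentralSeries (⊤ : Subgroup G) (k + 1)) <
          Nat.card (Subgroup.lowerCentralSeries (⊤ : Subgroup G) k) :=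
        lt_of_le_of_ne (Subgroup.card_le_of_le hlt.le)
          fun he => hlt.ne (Subgroup.eq_of_le_of_card_ge hlt.le he.ge)
      rw [hi] at h2 ⊢
      have h3 := lt_of_le_of_lt h1 h2
      rw [Nat.pow_lt_pow_iff_right hp.one_lt] at h3
      exact Nat.pow_le_pow_right hp.pos (by omega)
  intro k hk hk'
  refine le_antisymm ?_ (hlow _ k (by omega))
  obtain ⟨j, rfl⟩ := Nat.exists_eq_add_of_le' hk
  refine (CfsgLib.PGroup.card_lowerCentralSeries_le hG j).trans ?_
  exact Nat.pow_le_pow_right hp.pos (by omega)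

/-- `[γ_i, γ_j] ≤ γ_{i+j}`. -/
theorem commutator_lcs_le {G : Type*} [Group G] (i j : ℕ) :
    ⁅(⊤ : Subgroup G).lowerCentralSeries i, (⊤ : Subgroup G).lowerCentralSeries j⁆ ≤
      (⊤ : Subgroup G).lowerCentralSeries (i + j + 1) := by
  haveI := CfsgLib.LowerCentral.lowerCentralSeries_normal (⊤ : Subgroup G) i
  refine (CfsgLib.LowerCentral.commutator_lowerCentralSeries_le _ j).trans (le_of_eq ?_)
  induction j with
  | zero => exact (Subgroup.lowerCentralSeries_succ _ i).symm
  | succ j ih => rw [CfsgLib.LowerCentral.bracketTop_succ, ih]; rfl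

theorem map_commute {G : Type*} [Group G] (N : Subgroup G) [N.Normal] {a b : G} (h : ⁅a, b⁆ ∈ N) :
    Commute (QuotientGroup.mk' N a) (QuotientGroup.mk' N b) := by
  rw [← commutatorElement_eq_one_iff_commute, ← map_commutatorElement]
  exact (QuotientGroup.eq_one_iff _).2 h


/-- Let p be a prime and S a finite p-group of order pⁿ (n ≥ 2) of maximal nilpotency class n − 1 whose sectional p-rank is exactly k (every section has p-rank at most k, and some section has p-rank k). If p ≥ k + 2 then the order of S is at most p^(2k). -/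
theorem result {S : Type*} [Group S] [Finite S] (p : ℕ) [Fact p.Prime] (hS : IsPGroup p S) [Group.IsNilpotent S]
    (n : ℕ) (hn : 2 ≤ n) (hcard : Nat.card S = p ^ n) (hmax : Group.nilpotencyClass S = n - 1)
    (k : ℕ) (hk : 1 ≤ k) (hsr : Cfsg.SectionalPRankLE p k S ∧ ¬ Cfsg.SectionalPRankLE p (k - 1) S)
    (hpk : k + 2 ≤ p) : Nat.card S ≤ p ^ (2 * k) := by
  classical
  have hp := (Fact.out : p.Prime)
  rw [hcard]
  refine Nat.pow_le_pow_right hp.pos ?_
  by_contra hnk
  push Not at hnk
  have hcards := card_lcs n hcard hmax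
  set L : ℕ → Subgroup S := fun i => (⊤ : Subgroup S).lowerCentralSeries i with hL
  haveI hLn : ∀ i, (L i).Normal := fun i => CfsgLib.LowerCentral.lowerCentralSeries_normal _ i
  have hanti : Antitone L := fun a b h => Subgroup.lowerCentralSeries_antitone _ h
  have hsucc : ∀ i, L (i + 1) = ⁅L i, (⊤ : Subgroup S)⁆ := fun i => Subgroup.lowerCentralSeries_succ _ i
  have hcomm : ∀ i j, ∀ a ∈ L i, ∀ b ∈ L j, ⁅a, b⁆ ∈ L (i + j + 1) := fun i j a ha b hb =>
    commutator_lcs_le i j (Subgroup.commutator_mem_commutator ha hb)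
  have hidx : ∀ i, 1 ≤ i → i ≤ n - 1 → (L i).index = p ^ (i + 1) := by
    intro i h1 h2
    have h := (L i).card_mul_index
    rw [hcards i h1 h2, hcard] at h
    refine Nat.eq_of_mul_eq_mul_left (pow_pos hp.pos (n - 1 - i)) ?_
    rw [h, ← pow_add]
    congr 1; omega
  -- the step `L t = ⟨x⟩ L (t + 1)`
  have hspan : ∀ t, 1 ≤ t → t + 1 ≤ n - 1 → ∀ y ∈ L t, y ∉ L (t + 1) →
      L t ≤ Subgroup.zpowers y ⊔ L (t + 1) := by
    intro t h1 h2 y hy hy'
    have hle : Subgroup.zpowers y ⊔ L (t + 1) ≤ L t :=
      sup_le (Subgroup.zpowers_le.mpr hy) (hanti (by omega))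
    refine (Subgroup.eq_of_le_of_card_ge hle ?_).ge
    obtain ⟨i, hi⟩ := IsPGroup.iff_card.1 (hS.to_subgroup (Subgroup.zpowers y ⊔ L (t + 1)))
    have hlt : Nat.card (L (t + 1)) < Nat.card ↥(Subgroup.zpowers y ⊔ L (t + 1)) :=
      lt_of_le_of_ne (Subgroup.card_le_of_le le_sup_right) fun he =>
        hy' ((Subgroup.eq_of_le_of_card_ge le_sup_right he.ge).ge
          (Subgroup.mem_sup_left (Subgroup.mem_zpowers y)))
    rw [hcards (t + 1) (by omega) h2, hi] at hlt
    rw [hcards t h1 (by omega), hi]
    rw [Nat.pow_lt_pow_iff_right hp.one_lt] at hlt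
    exact Nat.pow_le_pow_right hp.pos (by omega)
  -- the `p`-th powers lie in the derived subgroup
  have hsq : ∀ x : S, x ^ p ∈ L 1 := by
    intro x
    by_contra hx
    have hord : orderOf (QuotientGroup.mk' (L 1) x) = p ^ 2 := by
      have hdvd : orderOf (QuotientGroup.mk' (L 1) x) ∣ p ^ 2 := by
        have := orderOf_dvd_natCard (QuotientGroup.mk' (L 1) x)
        rwa [← Subgroup.index_eq_card, hidx 1 le_rfl (by omega)] at this
      obtain ⟨i, hi2, hi⟩ := (Nat.dvd_prime_pow hp).mp hdvd
      rw [hi]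
      congr 1
      by_contra hne
      refine hx ((QuotientGroup.eq_one_iff _).mp ?_)
      rw [QuotientGroup.mk_pow, ← orderOf_dvd_iff_pow_eq_one]
      rw [show QuotientGroup.mk x = QuotientGroup.mk' (L 1) x from rfl, hi]
      exact (Nat.pow_dvd_pow p (by omega : i ≤ 1)).trans (dvd_of_eq (pow_one p))
    have htop : Subgroup.zpowers (QuotientGroup.mk' (L 1) x) = ⊤ := Subgroup.eq_top_of_card_eq _ (by
      rw [Nat.card_zpowers, hord, ← Subgroup.index_eq_card, hidx 1 le_rfl (by omega)])
    have hsup : Subgroup.zpowers x ⊔ L 1 = ⊤ := by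
      have h := congrArg (Subgroup.comap (QuotientGroup.mk' (L 1))) htop
      rwa [← MonoidHom.map_zpowers, Subgroup.comap_map_eq, Subgroup.comap_top,
        QuotientGroup.ker_mk'] at h
    have hle : L 1 ≤ frattini S := by
      rw [hsucc 0]
      exact CfsgLib.PGroup.commutator_le_frattini hS
    have hz : Subgroup.zpowers x = ⊤ :=
      frattini_nongenerating (eq_top_iff.mpr (hsup ▸ sup_le_sup_left hle _))
    have hbot : L 1 = ⊥ := by
      rw [hsucc 0, eq_bot_iff, Subgroup.commutator_le]
      intro a _ b _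
      rw [Subgroup.mem_bot, commutatorElement_eq_one_iff_commute]
      obtain ⟨i, rfl⟩ := Subgroup.mem_zpowers_iff.mp (hz ▸ Subgroup.mem_top a : a ∈ Subgroup.zpowers x)
      obtain ⟨j, rfl⟩ := Subgroup.mem_zpowers_iff.mp (hz ▸ Subgroup.mem_top b : b ∈ Subgroup.zpowers x)
      exact Commute.zpow_zpow_self x i j
    have h := hcards 1 le_rfl (by omega)
    rw [show (⊤ : Subgroup S).lowerCentralSeries 1 = L 1 from rfl, hbot, Subgroup.card_bot] at h
    exact (Nat.one_lt_pow (by omega) hp.one_lt).ne h
  -- an elementary abelian section of rank `k + 1` is impossible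
  have hsection : ∀ (H M : Subgroup S) [M.Normal], M ≤ H →
      (∀ a ∈ H, ∀ b ∈ H, ⁅a, b⁆ ∈ M) → (∀ a ∈ H, a ^ p ∈ M) →
      M.relIndex H = p ^ (k + 1) → False := by
    intro H M _ hMH hab hexp hrel
    have hQ := hsr.1 H (M.subgroupOf H)
    have h1 := hQ ⊤ (isMulCommutative_iff.2 fun a b => Subtype.ext ?_) ?_
    · rw [Subgroup.card_top, ← Subgroup.index_eq_card] at h1
      rw [show (M.subgroupOf H).index = M.relIndex H from rfl, hrel] at h1
      exact absurd ((Nat.pow_le_pow_iff_right hp.one_lt).mp h1) (by omega)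
    · obtain ⟨a', ha⟩ := QuotientGroup.mk_surjective (a : H ⧸ M.subgroupOf H)
      obtain ⟨b', hb⟩ := QuotientGroup.mk_surjective (b : H ⧸ M.subgroupOf H)
      show (a : H ⧸ M.subgroupOf H) * b = b * a
      rw [← ha, ← hb]
      exact map_commute (M.subgroupOf H) (a := a') (b := b') (hab _ a'.2 _ b'.2)
    · intro a _
      obtain ⟨a', rfl⟩ := QuotientGroup.mk_surjective a
      rw [← QuotientGroup.mk_pow, QuotientGroup.eq_one_iff]
      exact hexp _ a'.2
  rcases Nat.lt_or_ge k 2 with hk2 | hk2
  · refine hsection ⊤ (L 1) le_top (fun a ha b hb => ?_) (fun a _ => hsq a) ?_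
    · rw [hsucc 0]; exact Subgroup.commutator_mem_commutator (Subgroup.mem_top a) (Subgroup.mem_top b)
    · rw [Subgroup.relIndex_top_right, hidx 1 le_rfl (by omega), show k + 1 = 1 + 1 by omega]
  -- powers are deep
  have hpow : ∀ t, 1 ≤ t → t ≤ k + 1 → ∀ x : S, x ^ p ∈ L t := by
    intro t ht1
    induction t, ht1 using Nat.le_induction with
    | base => exact fun _ => hsq
    | succ t ht ih =>
      intro htk
      have ih' := ih (by omega)
      set π := QuotientGroup.mk' (L (t + 1)) with hπ
      have hreg : Cfsg.IsRegularPGroup p (S ⧸ L (t + 1)) := by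
        refine Cfsg.Agent.S4209.result (hS.to_quotient _) (eq_bot_iff.2 ?_)
        have hm := Subgroup.lowerCentralSeries.map π (p - 1)
        have hsurj := QuotientGroup.mk'_surjective (L (t + 1))
        refine le_trans (le_of_eq ?_) (show (L (p - 1)).map π ≤ ⊥ from ?_)
        · show _ = ((⊤ : Subgroup S).lowerCentralSeries (p - 1)).map π
          rw [Subgroup.map_lowerCentralSeries, Subgroup.map_top_of_surjective π hsurj]
        · rw [le_bot_iff, Subgroup.map_eq_bot_iff, QuotientGroup.ker_mk']
          exact hanti (by omega)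
      have hcen : ∀ x y : S, Commute (π (x ^ p)) (π y) := fun x y => by
        refine map_commute _ ?_
        rw [hsucc t]
        exact Subgroup.commutator_mem_commutator (ih' x) (Subgroup.mem_top y)
      have hkill : ∀ a b : S ⧸ L (t + 1), ⁅a, b⁆ ^ p ^ 1 = 1 := by
        intro a b
        obtain ⟨a, rfl⟩ := QuotientGroup.mk'_surjective _ a
        obtain ⟨b, rfl⟩ := QuotientGroup.mk'_surjective _ b
        have h := (CfsgLib.PGroup.pow_commute_iff 1 hreg (π a⁻¹) (π b⁻¹)).mp (by
          rw [pow_one, ← map_pow]; exact hcen a⁻¹ b⁻¹)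
        rw [commutatorElement_def]
        simpa only [map_inv, inv_inv, pow_one] using h
      let φ : S →* S ⧸ L (t + 1) :=
        { toFun := fun x => π (x ^ p)
          map_one' := by rw [one_pow, map_one]
          map_mul' := fun x y => by
            rw [map_pow, map_pow, map_pow, map_mul]
            have := CfsgLib.PGroup.mul_pow_eq_of_commutator_killed hreg
              (CfsgLib.PGroup.commutator_killed hreg (hkill (π x) (π y)))
            rwa [pow_one] at this }
      intro z
      by_contra hz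
      have hzker : z ∉ φ.ker := fun h => hz ((QuotientGroup.eq_one_iff _).mp h)
      set C := (Subgroup.centralizer ((L t).map (QuotientGroup.mk' (L (t + 2))) : Set (S ⧸ L (t + 2)))).comap
        (QuotientGroup.mk' (L (t + 2))) with hC
      have hout : ∀ x, x ∉ φ.ker → x ∈ C := by
        intro x hx
        have hx' : x ^ p ∉ L (t + 1) := fun h => hx ((QuotientGroup.eq_one_iff _).mpr h)
        rw [hC, Subgroup.mem_comap, Subgroup.mem_centralizer_iff]
        rintro _ ⟨y, hy, rfl⟩
        have hle : L t ≤ (Subgroup.centralizer {QuotientGroup.mk' (L (t + 2)) x}).comap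
            (QuotientGroup.mk' (L (t + 2))) := by
          refine (hspan t ht (by omega) _ (ih' x) hx').trans (sup_le ?_ fun w hw => ?_)
          · rw [Subgroup.zpowers_le, Subgroup.mem_comap, Subgroup.mem_centralizer_singleton_iff,
              ← map_mul, ← map_mul, (Commute.self_pow x p).eq]
          · rw [Subgroup.mem_comap, Subgroup.mem_centralizer_singleton_iff]
            exact (map_commute _ (by
              rw [hsucc (t + 1)]
              exact Subgroup.commutator_mem_commutator hw (Subgroup.mem_top x))).eq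
        exact Subgroup.mem_centralizer_singleton_iff.mp (hle hy)
      have hCtop : C = ⊤ := by
        refine eq_top_iff.2 fun g _ => ?_
        by_cases hg : g ∈ φ.ker
        · have h1 : g * z ∉ φ.ker := fun h => hzker ((Subgroup.mul_mem_cancel_left _ hg).mp h)
          simpa using C.mul_mem (hout _ h1) (C.inv_mem (hout z hzker))
        · exact hout g hg
      have hle : L (t + 1) ≤ L (t + 2) := by
        rw [hsucc t, Subgroup.commutator_le]
        intro a ha b _
        have hb : b ∈ C := hCtop ▸ Subgroup.mem_top b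
        rw [hC, Subgroup.mem_comap, Subgroup.mem_centralizer_iff] at hb
        rw [← QuotientGroup.eq_one_iff]
        show QuotientGroup.mk' (L (t + 2)) ⁅a, b⁆ = 1
        rw [map_commutatorElement, commutatorElement_eq_one_iff_commute]
        exact hb _ (Subgroup.mem_map_of_mem _ ha)
      have hle' := Subgroup.card_le_of_le hle
      rw [hcards (t + 1) (by omega) (by omega), hcards (t + 2) (by omega) (by omega),
        Nat.pow_le_pow_iff_right hp.one_lt] at hle'
      omega
  -- the section
  set π := QuotientGroup.mk' (L (2 * k)) with hπ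
  have hone : ∀ {x : S} {i : ℕ}, x ∈ L i → 2 * k ≤ i → π x = 1 := fun {x i} hx hi =>
    (QuotientGroup.eq_one_iff x).mpr (hanti hi hx)
  have hAab : ∀ a ∈ L (k - 1), ∀ b ∈ L (k - 1), ⁅a, b⁆ ∈ L (2 * k) := by
    intro a ha b hb
    by_cases h : a ∈ L k
    · exact hanti (by omega) (hcomm k (k - 1) a h b hb)
    have hs : L (k - 1) ≤ Subgroup.zpowers a ⊔ L k := by
      rcases Nat.lt_or_ge (k - 1) 1 with h' | h'
      · omega
      · have := hspan (k - 1) h' (by omega) a ha (by rwa [show k - 1 + 1 = k by omega])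
        rwa [show k - 1 + 1 = k by omega] at this
    have hle : L (k - 1) ≤ (Subgroup.centralizer {π a}).comap π := by
      refine hs.trans (sup_le ?_ fun w hw => ?_)
      · rw [Subgroup.zpowers_le, Subgroup.mem_comap, Subgroup.mem_centralizer_singleton_iff]
      · rw [Subgroup.mem_comap, Subgroup.mem_centralizer_singleton_iff]
        exact (map_commute _ (hanti (by omega) (hcomm k (k - 1) w hw a ha))).eq
    have := Subgroup.mem_centralizer_singleton_iff.mp (hle hb)
    rw [← QuotientGroup.eq_one_iff]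
    show π ⁅a, b⁆ = 1
    rw [map_commutatorElement, commutatorElement_eq_one_iff_commute]
    exact this.symm
  -- `⟨s⟩ γ_k` is regular modulo `γ_{2k+1}`
  set A := (L (k - 1)).map π with hA
  have hHle : ∀ s : S, ⁅Subgroup.zpowers (π s) ⊔ A, Subgroup.zpowers (π s) ⊔ A⁆ ≤ (L k).map π := by
    intro s
    haveI : ((L k).map π).Normal := (hLn k).map _ (QuotientGroup.mk'_surjective _)
    set ν := QuotientGroup.mk' ((L k).map π) with hν
    suffices h : ⁅Subgroup.zpowers (π s) ⊔ A, Subgroup.zpowers (π s) ⊔ A⁆.map ν = ⊥ by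
      rwa [Subgroup.map_eq_bot_iff, QuotientGroup.ker_mk'] at h
    rw [Subgroup.map_commutator, Subgroup.map_sup, MonoidHom.map_zpowers,
      Subgroup.commutator_eq_bot_iff_le_centralizer]
    have hz : ∀ a ∈ L (k - 1), ∀ y : S, Commute (ν (π a)) (ν (π y)) := fun a ha y => by
      refine map_commute _ ?_
      rw [← map_commutatorElement]
      refine Subgroup.mem_map_of_mem π ?_
      rw [show k = k - 1 + 1 by omega, hsucc (k - 1)]
      exact Subgroup.commutator_mem_commutator ha (Subgroup.mem_top y)
    refine sup_le (Subgroup.zpowers_le.mpr ?_) ?_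
    · rw [Subgroup.mem_centralizer_iff]
      intro w hw
      have : Subgroup.zpowers (ν (π s)) ⊔ A.map ν ≤ Subgroup.centralizer {ν (π s)} := by
        refine sup_le (Subgroup.zpowers_le.mpr ?_) ?_
        · exact Subgroup.mem_centralizer_singleton_iff.mpr rfl
        · rintro _ ⟨_, ⟨a, ha, rfl⟩, rfl⟩
          exact Subgroup.mem_centralizer_singleton_iff.mpr (hz a ha s).eq
      exact Subgroup.mem_centralizer_singleton_iff.mp (this hw)
    · rintro _ ⟨_, ⟨a, ha, rfl⟩, rfl⟩
      rw [Subgroup.mem_centralizer_iff]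
      intro w _
      obtain ⟨w, rfl⟩ := QuotientGroup.mk'_surjective _ w
      obtain ⟨y, rfl⟩ := QuotientGroup.mk'_surjective _ w
      exact (hz a ha y).eq.symm
  have hreg : ∀ s : S, Cfsg.IsRegularPGroup p ↥(Subgroup.zpowers (π s) ⊔ A) := by
    intro s
    refine Cfsg.Agent.S4209.result ((hS.to_quotient _).to_subgroup _) ?_
    set H := Subgroup.zpowers (π s) ⊔ A
    apply Subgroup.map_injective H.subtype_injective
    rw [Subgroup.map_bot, Subgroup.map_lowerCentralSeries, ← MonoidHom.range_eq_map,
      Subgroup.range_subtype, eq_bot_iff]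
    have hc : ∀ c, 1 ≤ c → H.lowerCentralSeries c ≤ (L (k + c - 1)).map π := by
      intro c hc
      induction c, hc using Nat.le_induction with
      | base =>
        rw [Subgroup.lowerCentralSeries_succ, Subgroup.lowerCentralSeries_zero,
          show k + 1 - 1 = k by omega]
        exact hHle s
      | succ c hc ih =>
        rw [Subgroup.lowerCentralSeries_succ, show k + (c + 1) - 1 = (k + c - 1) + 1 by omega,
          hsucc (k + c - 1), Subgroup.map_commutator]
        exact Subgroup.commutator_mono ih (by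
          rw [Subgroup.map_top_of_surjective π (QuotientGroup.mk'_surjective _)]; exact le_top)
    refine (hc (p - 1) (by omega)).trans ?_
    rw [le_bot_iff, Subgroup.map_eq_bot_iff, QuotientGroup.ker_mk']
    exact hanti (by omega)
  have hgen : ∀ (i : ℕ), (∀ a ∈ L (i + 1), ∀ b ∈ L (i + 1), ⁅a, b⁆ ∈ L (2 * k)) →
      (∀ b ∈ L i, ∀ s : S, π ⁅b, s⁆ ^ p = 1) → ∀ a ∈ L (i + 1), π a ^ p = 1 := by
    intro i hab hgenr a ha
    have ha' := ha
    rw [hsucc i, Subgroup.commutator_def] at ha'
    suffices π a ^ p = 1 ∧ a ∈ L (i + 1) from this.1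
    induction ha' using Subgroup.closure_induction with
    | mem z hz =>
      obtain ⟨b, hb, s, -, rfl⟩ := hz
      exact ⟨hgenr b hb s, hsucc i ▸ Subgroup.commutator_mem_commutator hb (Subgroup.mem_top s)⟩
    | one => exact ⟨by rw [map_one, one_pow], one_mem _⟩
    | mul u v _ _ hu hv =>
      obtain ⟨h1, h1'⟩ := hu (hsucc i ▸ (by assumption))
      obtain ⟨h2, h2'⟩ := hv (hsucc i ▸ (by assumption))
      refine ⟨?_, mul_mem h1' h2'⟩
      rw [map_mul, (map_commute _ (hab u h1' v h2')).mul_pow, h1, h2, one_mul]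
    | inv u _ hu =>
      obtain ⟨h1, h1'⟩ := hu (hsucc i ▸ (by assumption))
      exact ⟨by rw [map_inv, inv_pow, h1, inv_one], inv_mem h1'⟩
  have hk1 : ∀ a ∈ L k, π a ^ p = 1 := by
    intro a ha
    have := hgen (k - 1) (fun a ha b hb => hAab a (hanti (by omega) ha) b (hanti (by omega) hb)) ?_ a
      (by rwa [show k - 1 + 1 = k by omega])
    · exact this
    intro b hb s
    set H := Subgroup.zpowers (π s) ⊔ A
    let s' : H := ⟨π s, Subgroup.mem_sup_left (Subgroup.mem_zpowers _)⟩
    let b' : H := ⟨π b, Subgroup.mem_sup_right (Subgroup.mem_map_of_mem π hb)⟩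
    have h := (CfsgLib.PGroup.pow_commute_iff 1 (hreg s) s'⁻¹ b'⁻¹).mp ?_
    · have h2 := congrArg Subtype.val h
      simp only [inv_inv, SubmonoidClass.coe_pow, Subgroup.coe_mul, InvMemClass.coe_inv,
        OneMemClass.coe_one, pow_one, s', b'] at h2
      rw [map_commutatorElement, ← commutatorElement_inv, inv_pow, inv_eq_one, commutatorElement_def]
      exact h2
    · rw [pow_one, inv_pow]
      refine Commute.inv_left (Commute.inv_right ?_)
      refine Subtype.ext ?_
      show π s ^ p * π b = π b * π s ^ p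
      rw [← map_pow]
      exact (map_commute _ (hanti (by omega)
        (hcomm (k + 1) (k - 1) _ (hpow (k + 1) (by omega) le_rfl s) b hb))).eq
  have hk0 : ∀ a ∈ L (k - 1), π a ^ p = 1 := by
    intro a ha
    have := hgen (k - 2) (fun a ha b hb => hAab a (hanti (by omega) ha) b (hanti (by omega) hb)) ?_ a
      (by rwa [show k - 2 + 1 = k - 1 by omega])
    · exact this
    intro b hb s
    set H := Subgroup.zpowers (π s) ⊔ A
    have ha1 : ⁅b, s⁆ ∈ L (k - 1) := by
      rw [show k - 1 = k - 2 + 1 by omega, hsucc (k - 2)]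
      exact Subgroup.commutator_mem_commutator hb (Subgroup.mem_top s)
    let s' : H := ⟨π s, Subgroup.mem_sup_left (Subgroup.mem_zpowers _)⟩
    let a' : H := ⟨π ⁅b, s⁆, Subgroup.mem_sup_right (Subgroup.mem_map_of_mem π ha1)⟩
    have hD : ∀ x ∈ ⁅Subgroup.closure ({a', s'} : Set H), Subgroup.closure {a', s'}⁆, x ^ p ^ 1 = 1 := by
      intro x hx
      have hx' : (x : S ⧸ L (2 * k)) ∈ ⁅H, H⁆ := by
        rw [← Subgroup.map_subtype_commutator]
        exact Subgroup.mem_map_of_mem _ (Subgroup.commutator_mono le_top le_top hx)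
      obtain ⟨w, hw, hwx⟩ := hHle s hx'
      refine Subtype.ext ?_
      rw [pow_one, SubmonoidClass.coe_pow, ← hwx]
      exact hk1 w hw
    have h := congrArg Subtype.val (CfsgLib.PGroup.mul_pow_eq_of_commutator_killed (hreg s) hD)
    simp only [pow_one, SubmonoidClass.coe_pow, Subgroup.coe_mul, a', s'] at h
    have hconj : π ⁅b, s⁆ * π s = π b * π s * (π b)⁻¹ := by
      rw [map_commutatorElement, commutatorElement_def, inv_mul_cancel_right]
    have hbs : π b * π s ^ p * (π b)⁻¹ = π s ^ p := by
      rw [mul_inv_eq_iff_eq_mul, ← map_pow]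
      exact (map_commute _ (hanti (by omega)
        (hcomm (k + 1) (k - 2) _ (hpow (k + 1) (by omega) le_rfl s) b hb))).eq.symm
    rw [hconj, conj_pow, hbs] at h
    exact mul_eq_right.mp h.symm
  refine hsection (L (k - 1)) (L (2 * k)) (hanti (by omega)) hAab
    (fun a ha => (QuotientGroup.eq_one_iff _).mp (by
      show π (a ^ p) = 1
      rw [map_pow]; exact hk0 a ha)) ?_
  have h := Subgroup.relIndex_mul_index (hanti (show k - 1 ≤ 2 * k by omega))
  rw [hidx (k - 1) (by omega) (by omega), hidx (2 * k) (by omega) (by omega)] at h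
  refine Nat.eq_of_mul_eq_mul_right (pow_pos hp.pos (k - 1 + 1)) (h.trans ?_)
  rw [← pow_add]
  congr 1
  omega

end Cfsg.Agent.S3806
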