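import Cfsg.Statements.S3807
import Cfsg.Agent.PGroup.Small
import Cfsg.Agent.PGroup.Commutator
import Cfsg.Agent.Eq.Def_Transfer
open scoped commutatorElement

set_option autoImplicit false
open Cfsg

namespace Cfsg.Agent.S3807


/-- Let S be a non-abelian finite p-group with an abelian subgroup A of index p. Then [S : Z(S)] = p·#[S,S], and either [S,S] has order p, S/Z(S) is elementary abelian of order p², and S has exactly p + 1 abelian subgroups of index p; or [S,S] has order at least p² and A is the only abelian subgroup of index p in S. -/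
theorem result {S : Type*} [Group S] [Finite S] (p : ℕ) [Fact p.Prime] (hS : IsPGroup p S) (hna : ¬ IsMulCommutative S)
    (A : Subgroup S) (hA : IsMulCommutative ↥A) (hAi : A.index = p) :
    (Subgroup.center S).index = p * Nat.card (commutator S) ∧
      ((Nat.card (commutator S) = p ∧ Cfsg.IsElementaryAbelian p (⊤ : Subgroup (S ⧸ Subgroup.center S)) ∧
          Nat.card (S ⧸ Subgroup.center S) = p ^ 2 ∧
          Nat.card {B : Subgroup S // IsMulCommutative ↥B ∧ B.index = p} = p + 1) ∨
        (p ^ 2 ≤ Nat.card (commutator S) ∧ ∀ B : Subgroup S, IsMulCommutative ↥B → B.index = p → B = A)) := by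
  classical
  have hp : p.Prime := Fact.out
  haveI hAn : A.Normal := CfsgLib.PGroup.normal_of_coatom hS
    (CfsgLib.PGroup.isCoatom_of_index_eq hAi)
  have hcA : ∀ a ∈ A, ∀ b ∈ A, a * b = b * a := fun a ha b hb =>
    congrArg Subtype.val (hA.1.comm ⟨a, ha⟩ ⟨b, hb⟩)
  obtain ⟨s, hs⟩ : ∃ s, s ∉ A := by
    by_contra h
    push Not at h
    exact hna (IsMulCommutative.of_comm fun a b => hcA a (h a) b (h b))
  have hsup : A ⊔ Subgroup.zpowers s = ⊤ :=
    (CfsgLib.PGroup.isCoatom_of_index_eq hAi).2 _ (lt_of_le_of_ne le_sup_left fun h =>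
      hs (h ▸ Subgroup.mem_sup_right (Subgroup.mem_zpowers s)))
  have hAs : ∀ a : S, ∀ g : S, (∀ b ∈ A, b * a = a * b) → s * a = a * s → g * a = a * g := by
    intro a g h1 h2
    have : (⊤ : Subgroup S) ≤ Subgroup.centralizer {a} := by
      rw [← hsup]
      refine sup_le (fun b hb => ?_) (Subgroup.zpowers_le.2 ?_) <;>
        rw [Subgroup.mem_centralizer_singleton_iff]
      · exact h1 b hb
      · exact h2
    exact Subgroup.mem_centralizer_singleton_iff.1 (this (Subgroup.mem_top g))
  have hZA : Subgroup.center S ≤ A := by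
    intro z hz
    by_contra hzA
    have hsup' : A ⊔ Subgroup.zpowers z = ⊤ :=
      (CfsgLib.PGroup.isCoatom_of_index_eq hAi).2 _ (lt_of_le_of_ne le_sup_left fun h =>
        hzA (h ▸ Subgroup.mem_sup_right (Subgroup.mem_zpowers z)))
    refine hna (IsMulCommutative.of_comm fun g h => ?_)
    have key : ∀ a ∈ A, ∀ g : S, g * a = a * g := by
      intro a ha g
      have : (⊤ : Subgroup S) ≤ Subgroup.centralizer {a} := by
        rw [← hsup']
        refine sup_le (fun b hb => ?_) (Subgroup.zpowers_le.2 ?_) <;>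
          rw [Subgroup.mem_centralizer_singleton_iff]
        · exact hcA b hb a ha
        · exact (Subgroup.mem_center_iff.1 hz a).symm
      exact Subgroup.mem_centralizer_singleton_iff.1 (this (Subgroup.mem_top g))
    have : (⊤ : Subgroup S) ≤ Subgroup.centralizer {h} := by
      rw [← hsup']
      refine sup_le (fun b hb => ?_) (Subgroup.zpowers_le.2 ?_) <;>
        rw [Subgroup.mem_centralizer_singleton_iff]
      · exact (key b hb h).symm
      · exact (Subgroup.mem_center_iff.1 hz h).symm
    exact Subgroup.mem_centralizer_singleton_iff.1 (this (Subgroup.mem_top g))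
  have hcm : ∀ a ∈ A, ∀ g : S, ⁅a, g⁆ ∈ A := fun a ha g => by
    rw [show ⁅a, g⁆ = a * (g * a⁻¹ * g⁻¹) by rw [commutatorElement_def]; group]
    exact mul_mem ha (hAn.conj_mem _ (inv_mem ha) g)
  let φ : A →* A :=
    { toFun := fun a => ⟨⁅(a : S), s⁆, hcm a a.2 s⟩
      map_one' := Subtype.ext (commutatorElement_one_left s)
      map_mul' := fun a b => Subtype.ext (by
        calc ⁅(a : S) * b, s⁆ = a * ⁅(b : S), s⁆ * (a : S)⁻¹ * ⁅(a : S), s⁆ := by
              simp only [commutatorElement_def]; group
          _ = ⁅(b : S), s⁆ * ⁅(a : S), s⁆ := by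
              rw [hcA _ a.2 _ (hcm b b.2 s), mul_inv_cancel_right]
          _ = ⁅(a : S), s⁆ * ⁅(b : S), s⁆ := hcA _ (hcm b b.2 s) _ (hcm a a.2 s)) }
  set R := φ.range.map A.subtype with hRdef
  have hRA : R ≤ A := Subgroup.map_subtype_le _
  have hRs : ∀ r ∈ R, s * r * s⁻¹ ∈ R := by
    rintro _ ⟨_, ⟨a, rfl⟩, rfl⟩
    refine ⟨_, ⟨⟨s * a * s⁻¹, hAn.conj_mem _ a.2 s⟩, rfl⟩, ?_⟩
    change ⁅s * (a : S) * s⁻¹, s⁆ = s * ⁅(a : S), s⁆ * s⁻¹
    simp only [commutatorElement_def]; group
  haveI hRn : R.Normal := by
    refine Subgroup.normalizer_eq_top_iff.1 (eq_top_iff.2 ?_)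
    rw [← hsup]
    refine sup_le (fun a ha => ?_) (Subgroup.zpowers_le.2 ?_)
    · rw [Subgroup.mem_normalizer_iff]
      intro h
      constructor
      · intro hh
        rwa [hcA a ha h (hRA hh), mul_inv_cancel_right]
      · intro hh
        have h1 := hRA hh
        have h2 : h ∈ A := by
          have := hAn.conj_mem _ h1 a⁻¹
          rwa [show a⁻¹ * (a * h * a⁻¹) * a⁻¹⁻¹ = h by group] at this
        rwa [hcA a ha h h2, mul_inv_cancel_right] at hh
    · exact Subgroup.mem_normalizer_fintype (S := (R : Set S)) hRs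
  have hcomm : commutator S = R := by
    refine le_antisymm ?_ ?_
    · rw [commutator_def, Subgroup.commutator_le]
      intro g _ h _
      rw [← QuotientGroup.eq_one_iff]
      let π := QuotientGroup.mk' R
      change π ⁅g, h⁆ = 1
      rw [map_commutatorElement, commutatorElement_eq_one_iff_mul_comm]
      have key : ∀ a ∈ A, π s * π a = π a * π s := fun a ha => by
        refine (commutatorElement_eq_one_iff_mul_comm.1 ?_).symm
        rw [← map_commutatorElement]
        exact (QuotientGroup.eq_one_iff _).2 ⟨_, ⟨⟨a, ha⟩, rfl⟩, rfl⟩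
      have hcen : ∀ a ∈ A, ∀ x : S, π x * π a = π a * π x := by
        intro a ha x
        have : (⊤ : Subgroup S) ≤ (Subgroup.centralizer {π a}).comap π := by
          rw [← hsup]
          refine sup_le (fun b hb => ?_) (Subgroup.zpowers_le.2 ?_) <;>
            rw [Subgroup.mem_comap, Subgroup.mem_centralizer_singleton_iff]
          · rw [← map_mul, ← map_mul, hcA b hb a ha]
          · exact key a ha
        exact Subgroup.mem_centralizer_singleton_iff.1 (this (Subgroup.mem_top x))
      have : (⊤ : Subgroup S) ≤ (Subgroup.centralizer {π h}).comap π := by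
        rw [← hsup]
        refine sup_le (fun b hb => ?_) (Subgroup.zpowers_le.2 ?_) <;>
          rw [Subgroup.mem_comap, Subgroup.mem_centralizer_singleton_iff]
        · exact (hcen b hb h).symm
        · have : (⊤ : Subgroup S) ≤ (Subgroup.centralizer {π s}).comap π := by
            rw [← hsup]
            refine sup_le (fun b hb => ?_) (Subgroup.zpowers_le.2 ?_) <;>
              rw [Subgroup.mem_comap, Subgroup.mem_centralizer_singleton_iff]
            exact (key b hb).symm
          exact (Subgroup.mem_centralizer_singleton_iff.1 (this (Subgroup.mem_top h))).symm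
      exact Subgroup.mem_centralizer_singleton_iff.1 (this (Subgroup.mem_top g))
    · rintro _ ⟨_, ⟨a, rfl⟩, rfl⟩
      exact Subgroup.commutator_mem_commutator (Subgroup.mem_top _) (Subgroup.mem_top _)
  have hkerZ : Nat.card φ.ker = Nat.card (Subgroup.center S) := by
    refine Nat.card_congr ⟨fun a => ⟨a.1.1, ?_⟩, fun z => ⟨⟨z.1, hZA z.2⟩, ?_⟩,
      fun _ => rfl, fun _ => rfl⟩
    · rw [Subgroup.mem_center_iff]
      exact fun g => hAs _ g (fun b hb => hcA b hb _ a.1.2)
        (commutatorElement_eq_one_iff_mul_comm.1 (congrArg Subtype.val a.2)).symm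
    · exact Subtype.ext (commutatorElement_eq_one_iff_mul_comm.2
        (Subgroup.mem_center_iff.1 z.2 s).symm)
  have hRcard : Nat.card R = Nat.card φ.range :=
    Subgroup.card_map_of_injective A.subtype_injective
  have hidx : (Subgroup.center S).index = p * Nat.card (commutator S) := by
    have h1 := φ.ker.card_mul_index
    rw [Subgroup.index_ker, hkerZ, ← hRcard, ← hcomm] at h1
    have h2 := (Subgroup.center S).card_mul_index
    rw [← A.card_mul_index, hAi, ← h1] at h2
    refine Nat.eq_of_mul_eq_mul_left Nat.card_pos (h2.trans ?_)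
    ring
  refine ⟨hidx, ?_⟩
  set Z := Subgroup.center S with hZ
  have hZB : ∀ B : Subgroup S, IsMulCommutative B → B.index = p → Z ≤ B := by
    intro B hB hBi z hz
    by_contra hzB
    have hsup' : B ⊔ Subgroup.zpowers z = ⊤ :=
      (CfsgLib.PGroup.isCoatom_of_index_eq hBi).2 _ (lt_of_le_of_ne le_sup_left fun h =>
        hzB (h ▸ Subgroup.mem_sup_right (Subgroup.mem_zpowers z)))
    refine hna (IsMulCommutative.of_comm fun g h => ?_)
    have key : ∀ a ∈ B, ∀ g : S, g * a = a * g := by
      intro a ha g
      have : (⊤ : Subgroup S) ≤ Subgroup.centralizer {a} := by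
        rw [← hsup']
        refine sup_le (fun b hb => ?_) (Subgroup.zpowers_le.2 ?_) <;>
          rw [Subgroup.mem_centralizer_singleton_iff]
        · exact congrArg Subtype.val (hB.1.comm ⟨b, hb⟩ ⟨a, ha⟩)
        · exact (Subgroup.mem_center_iff.1 hz a).symm
      exact Subgroup.mem_centralizer_singleton_iff.1 (this (Subgroup.mem_top g))
    have : (⊤ : Subgroup S) ≤ Subgroup.centralizer {h} := by
      rw [← hsup']
      refine sup_le (fun b hb => ?_) (Subgroup.zpowers_le.2 ?_) <;>
        rw [Subgroup.mem_centralizer_singleton_iff]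
      · exact (key b hb h).symm
      · exact (Subgroup.mem_center_iff.1 hz h).symm
    exact Subgroup.mem_centralizer_singleton_iff.1 (this (Subgroup.mem_top g))
  have hne1 : Nat.card (commutator S) ≠ 1 := by
    intro h
    rw [Subgroup.card_eq_one] at h
    refine hna (IsMulCommutative.of_comm fun a b => ?_)
    rw [← commutatorElement_eq_one_iff_mul_comm, ← Subgroup.mem_bot, ← h]
    exact Subgroup.commutator_mem_commutator (Subgroup.mem_top a) (Subgroup.mem_top b)
  obtain ⟨j, hj⟩ := IsPGroup.iff_card.1 (hS.to_subgroup (commutator S))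
  rcases (show j = 1 ∨ 2 ≤ j by
    rcases j with _ | j
    · exact absurd (by rw [hj, pow_zero]) hne1
    · omega) with rfl | hj2
  · left
    rw [pow_one] at hj
    have hq : Z.index = p ^ 2 := by rw [hidx, hj, pow_two]
    have hqc : Nat.card (S ⧸ Z) = p ^ 2 := by rw [← Subgroup.index_eq_card, hq]
    have hVc : IsMulCommutative (S ⧸ Z) := IsPGroup.isMulCommutative_of_card_eq_prime_sq hqc
    have hexp : ∀ v : S ⧸ Z, v ^ p = 1 := by
      intro v
      by_contra hv
      obtain ⟨i, hi, hic⟩ := (Nat.dvd_prime_pow hp).1 (hqc ▸ orderOf_dvd_natCard v)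
      have hi2 : i = 2 := by
        by_contra hne
        refine hv (orderOf_dvd_iff_pow_eq_one.1 ?_)
        rw [hic]
        exact (pow_dvd_pow p (show i ≤ 1 by omega)).trans (by rw [pow_one])
      haveI : IsCyclic (S ⧸ Z) := isCyclic_of_orderOf_eq_card v (by rw [hic, hi2, hqc])
      exact hna (IsMulCommutative.of_comm fun a b => commutative_of_cyclic_center_quotient
        (QuotientGroup.mk' Z) (by rw [QuotientGroup.ker_mk']) a b)
    refine ⟨hj, ⟨IsMulCommutative.of_comm fun a b => Subtype.ext (hVc.1.comm a.1 b.1),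
      fun a _ => hexp a⟩, hqc, ?_⟩
    rw [← CfsgLib.PGroup.card_index_prime_over Z hq hexp]
    refine Nat.card_congr (Equiv.subtypeEquivRight fun B =>
      ⟨fun h => ⟨hZB B h.1 h.2, h.2⟩, fun h => ⟨?_, h.2⟩⟩)
    haveI : (Z.subgroupOf B).Normal := inferInstance
    have hBc : IsCyclic (B ⧸ Z.subgroupOf B) := by
      refine isCyclic_of_prime_card (p := p) ?_
      rw [← Subgroup.index_eq_card]
      have := Subgroup.relIndex_mul_index h.1
      rw [h.2, hq, pow_two] at this
      exact Nat.eq_of_mul_eq_mul_right hp.pos this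
    refine IsMulCommutative.of_comm fun a b => commutative_of_cyclic_center_quotient
      (QuotientGroup.mk' (Z.subgroupOf B)) ?_ a b
    rw [QuotientGroup.ker_mk']
    intro z hz
    exact Subgroup.mem_center_iff.2 fun g => Subtype.ext
      (Subgroup.mem_center_iff.1 (Subgroup.mem_subgroupOf.1 hz) (g : S))
  · right
    refine ⟨hj ▸ Nat.pow_le_pow_right hp.pos hj2, fun B hB hBi => ?_⟩
    by_contra hne
    have hle : A ⊓ B ≤ Z := by
      intro x hx
      have hsup' : A ⊔ B = ⊤ :=
        (CfsgLib.PGroup.isCoatom_of_index_eq hAi).2 _ (lt_of_le_of_ne le_sup_left fun h => by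
          have hBA : B ≤ A := h ▸ le_sup_right
          exact hne (((CfsgLib.PGroup.isCoatom_of_index_eq hBi).le_iff.1 hBA).resolve_left
            (CfsgLib.PGroup.isCoatom_of_index_eq hAi).1).symm)
      rw [hZ, Subgroup.mem_center_iff]
      intro g
      have : (⊤ : Subgroup S) ≤ Subgroup.centralizer {x} := by
        rw [← hsup']
        refine sup_le (fun b hb => ?_) (fun b hb => ?_) <;>
          rw [Subgroup.mem_centralizer_singleton_iff]
        · exact hcA b hb x hx.1
        · exact congrArg Subtype.val (hB.1.comm ⟨b, hb⟩ ⟨x, hx.2⟩)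
      exact Subgroup.mem_centralizer_singleton_iff.1 (this (Subgroup.mem_top g))
    have h1 : Z.index ∣ p * p := by
      refine (Subgroup.index_dvd_of_le hle).trans ?_
      rw [← Subgroup.relIndex_mul_index (inf_le_right : A ⊓ B ≤ B), hBi,
        Subgroup.inf_relIndex_right]
      exact mul_dvd_mul_right (hAi ▸ Subgroup.relIndex_dvd_index_of_normal A B) _
    have h2 := Nat.le_of_dvd (Nat.mul_pos hp.pos hp.pos) h1
    rw [hidx, hj] at h2
    have h3 := Nat.le_of_mul_le_mul_left h2 hp.pos
    have h4 : p ^ 2 ≤ p ^ 1 := le_trans (Nat.pow_le_pow_right hp.pos hj2) (by rwa [pow_one])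
    rw [Nat.pow_le_pow_iff_right hp.one_lt] at h4
    omega

end Cfsg.Agent.S3807
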