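import Cfsg.Statements.S3808
import Mathlib

set_option autoImplicit false
open Cfsg

namespace Cfsg.Agent.S3808

/-- Let S be a finite p-group with an extraspecial subgroup Q of index p. Then either Z(S) = Z(Q), or S = Q·Z(S) and Z(S) has order p². -/
theorem result {S : Type*} [Group S] [Finite S] (p : ℕ) [Fact p.Prime] (hS : IsPGroup p S) (Q : Subgroup S) (hQ : Cfsg.IsExtraspecial p ↥Q) (hQi : Q.index = p) :
    Subgroup.center S = (Subgroup.center ↥Q).map Q.subtype ∨
      (Q ⊔ Subgroup.center S = ⊤ ∧ Nat.card (Subgroup.center S) = p ^ 2) := by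
  obtain ⟨⟨hp', -, hcomm⟩, hZ⟩ := hQ
  set Z := Subgroup.center S
  set ZQ := (Subgroup.center ↥Q).map Q.subtype with hZQ
  have hp : p.Prime := Fact.out
  have hcardZQ : Nat.card ZQ = p := by
    rw [hZQ, Subgroup.card_map_of_injective Q.subtype_injective, hZ]
  have hn : Q.Normal := by
    obtain ⟨n, hn⟩ := (IsPGroup.iff_card).1 hS
    apply Subgroup.normal_of_index_eq_minFac_card
    rw [hQi, hn]
    have h1 : n ≠ 0 := by
      rintro rfl
      have h2 := Q.index_dvd_card
      rw [hQi, hn, pow_zero] at h2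
      exact hp.one_lt.ne' (Nat.dvd_one.1 h2)
    rw [Nat.pow_minFac h1, hp.minFac_eq]
  -- the centre of Q is central in S
  have hnorm : ZQ.Normal := by
    constructor
    rintro x ⟨z, hz, rfl⟩ g
    refine ⟨⟨g * (z : S) * g⁻¹, hn.conj_mem _ z.2 g⟩, ?_, rfl⟩
    rw [SetLike.mem_coe, Subgroup.mem_center_iff]
    intro y
    have hy : (⟨g⁻¹ * (y : S) * g, by simpa using hn.conj_mem _ y.2 g⁻¹⟩ : Q) * z
        = z * ⟨g⁻¹ * (y : S) * g, by simpa using hn.conj_mem _ y.2 g⁻¹⟩ := (Subgroup.mem_center_iff.1 hz) _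
    apply Subtype.ext
    have h2 := congrArg (fun t : Q => g * (t : S) * g⁻¹) hy
    simpa [mul_assoc] using h2
  have hZQle : ZQ ≤ Z := by
    haveI : Fact (Nat.card ↥ZQ).Prime := ⟨by rw [hcardZQ]; exact hp⟩
    obtain ⟨b, hb, hb1⟩ := (hS.of_equiv ConjAct.toConjAct).exists_fixed_point_of_prime_dvd_card_of_fixed_point
      ↥ZQ (a := 1) (by rw [hcardZQ]) (fun g => smul_one g)
    have hbZ : (b : S) ∈ Z := by
      rw [Subgroup.mem_center_iff]
      intro g
      have := congrArg Subtype.val (hb (ConjAct.toConjAct g))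
      rw [ConjAct.Subgroup.val_conj_smul, ConjAct.toConjAct_smul] at this
      calc g * (b : S) = g * (b : S) * g⁻¹ * g := by group
        _ = (b : S) * g := by rw [this]
    rcases Subgroup.eq_bot_or_eq_top_of_prime_card ((Z).subgroupOf ZQ) with h | h
    · exact absurd (Subgroup.mem_bot.1 (h ▸ (Subgroup.mem_subgroupOf.2 hbZ))) (Ne.symm hb1)
    · exact Subgroup.subgroupOf_eq_top.1 h
  have hinf : Z ⊓ Q = ZQ := by
    refine le_antisymm ?_ (le_inf hZQle (Subgroup.map_subtype_le _))
    rintro x ⟨hxZ, hxQ⟩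
    refine ⟨⟨x, hxQ⟩, ?_, rfl⟩
    rw [SetLike.mem_coe, Subgroup.mem_center_iff]
    intro y
    exact Subtype.ext (Subgroup.mem_center_iff.1 hxZ (y : S))
  by_cases hle : Z ≤ Q
  · left
    rw [← hinf, inf_eq_left.2 hle]
  · right
    have htop : Q ⊔ Z = ⊤ := by
      have hlt : Q < Q ⊔ Z := lt_of_le_of_ne le_sup_left (fun h => hle (h ▸ le_sup_right))
      have hd := Subgroup.index_dvd_of_le hlt.le
      rw [hQi] at hd
      rcases (Nat.dvd_prime hp).1 hd with h | h
      · exact Subgroup.index_eq_one.1 h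
      · have := Subgroup.index_strictAnti hlt
        omega
    refine ⟨htop, ?_⟩
    haveI := hn
    have h1 : Q.relIndex Z = p := by
      have := Subgroup.relIndex_sup_left (H := Z) (K := Q)
      rw [htop, Subgroup.relIndex_top_right, hQi] at this
      exact this.symm
    have h2 := Subgroup.card_mul_index ((Z ⊓ Q).subgroupOf Z)
    have h3 : ((Z ⊓ Q).subgroupOf Z).index = p := by
      rw [Subgroup.inf_subgroupOf_left]; exact h1
    have h4 : Nat.card ↥((Z ⊓ Q).subgroupOf Z) = p := by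
      rw [Nat.card_congr (Subgroup.subgroupOfEquivOfLe inf_le_left).toEquiv, hinf, hcardZQ]
    rw [h3, h4] at h2
    rw [← h2]; ring

end Cfsg.Agent.S3808
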