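import Cfsg.Statements.S3809
import Cfsg.Agent.PGroup.Extraspecial
import Cfsg.Agent.Eq.Def_Transfer
open scoped commutatorElement

set_option autoImplicit false
open Cfsg

namespace Cfsg.Agent.S3809


/-- Let S be a finite p-group with an extraspecial subgroup of index p. Then S has order p^(2+2n) for some n ≥ 1, derived length at most 3, and exponent dividing p³. -/
theorem result {S : Type*} [Group S] [Finite S] (p : ℕ) [Fact p.Prime] (hS : IsPGroup p S) (Q : Subgroup S) (hQ : Cfsg.IsExtraspecial p ↥Q) (hQi : Q.index = p) :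
    (∃ n : ℕ, 1 ≤ n ∧ Nat.card S = p ^ (2 + 2 * n)) ∧ derivedSeries S 3 = ⊥ ∧ ∀ x : S, x ^ (p ^ 3) = 1 := by
  classical
  have hp : p.Prime := Fact.out
  obtain ⟨n, hn1, hn⟩ := CfsgLib.PGroup.extraspecial_card hQ
  haveI hQn : Q.Normal := CfsgLib.PGroup.normal_of_coatom hS
    (CfsgLib.PGroup.isCoatom_of_index_eq hQi)
  have hcard : Nat.card S = p ^ (2 + 2 * n) := by
    rw [← Q.card_mul_index, hn, hQi, ← pow_succ]
    congr 1; omega
  have hquot : Nat.card (S ⧸ Q) = p := by rw [← Subgroup.index_eq_card, hQi]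
  refine ⟨⟨n, hn1, hcard⟩, ?_, fun x => ?_⟩
  · haveI : IsCyclic (S ⧸ Q) := isCyclic_of_prime_card hquot
    have h1 : derivedSeries S 1 ≤ Q := by
      rw [derivedSeries_succ, derivedSeries_zero, Subgroup.commutator_le]
      intro a _ b _
      rw [← QuotientGroup.eq_one_iff]
      change (QuotientGroup.mk' Q) ⁅a, b⁆ = 1
      rw [map_commutatorElement, commutatorElement_eq_one_iff_mul_comm]
      exact IsMulCommutative.is_comm.comm _ _
    have h2 : derivedSeries S 2 ≤ (Subgroup.center Q).map Q.subtype := by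
      rw [derivedSeries_succ]
      refine (Subgroup.commutator_mono h1 h1).trans ?_
      rw [Subgroup.commutator_le]
      intro a ha b hb
      exact ⟨⁅(⟨a, ha⟩ : Q), ⟨b, hb⟩⁆, CfsgLib.PGroup.extraspecial_comm_mem hQ _ _,
        map_commutatorElement Q.subtype _ _⟩
    rw [derivedSeries_succ, eq_bot_iff, Subgroup.commutator_le]
    intro a ha b hb
    obtain ⟨a', ha', rfl⟩ := h2 ha
    obtain ⟨b', hb', rfl⟩ := h2 hb
    rw [Subgroup.mem_bot, commutatorElement_eq_one_iff_mul_comm, ← map_mul, ← map_mul,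
      Subgroup.mem_center_iff.1 hb' a']
  · have hx : x ^ p ∈ Q := by
      rw [← QuotientGroup.eq_one_iff, QuotientGroup.mk_pow, ← hquot]
      exact pow_card_eq_one'
    have h := congrArg Subtype.val (CfsgLib.PGroup.extraspecial_mem_center_sq hQ ⟨x ^ p, hx⟩)
    rw [show p ^ 3 = p * (p * p) by ring, pow_mul]
    simpa using h

end Cfsg.Agent.S3809
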