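import Cfsg.Statements.S3810
import Cfsg.Agent.PGroup.Extraspecial
import Cfsg.Agent.PGroup.RankThree
import Cfsg.Agent.PGroup.Abelian
import Cfsg.Agent.Eq.Def_Transfer
open scoped commutatorElement

set_option autoImplicit false
open Cfsg

namespace Cfsg.Agent.S3810


/-- Let S be a finite p-group with an extraspecial subgroup of index p. Then S has an abelian subgroup of index p if and only if S has order p⁴. -/
theorem result {S : Type*} [Group S] [Finite S] (p : ℕ) [Fact p.Prime] (hS : IsPGroup p S) (Q : Subgroup S) (hQ : Cfsg.IsExtraspecial p ↥Q) (hQi : Q.index = p) :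
    (∃ A : Subgroup S, IsMulCommutative ↥A ∧ A.index = p) ↔ Nat.card S = p ^ 4 := by
  classical
  have hp : p.Prime := Fact.out
  obtain ⟨n, hn1, hn⟩ := CfsgLib.PGroup.extraspecial_card hQ
  obtain ⟨x₀, y₀, hxy⟩ := CfsgLib.PGroup.extraspecial_not_comm hQ
  have hcard : Nat.card S = p ^ (2 * n + 2) := by
    rw [← Q.card_mul_index, hn, hQi, ← pow_succ]
  constructor
  · rintro ⟨A, hA, hAi⟩
    haveI : A.Normal := CfsgLib.PGroup.normal_of_coatom hS
      (CfsgLib.PGroup.isCoatom_of_index_eq hAi)
    set K := A.subgroupOf Q with hK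
    have hKcomm : ∀ a ∈ K, ∀ b ∈ K, a * b = b * a := fun a ha b hb => Subtype.ext
      (congrArg (fun z : A => (z : S))
        (hA.1.comm ⟨a, Subgroup.mem_subgroupOf.1 ha⟩ ⟨b, Subgroup.mem_subgroupOf.1 hb⟩))
    have hidx : K.index ∣ p := hAi ▸ Subgroup.relIndex_dvd_index_of_normal A Q
    obtain ⟨g, hg⟩ : ∃ g, g ∉ K := by
      by_contra h
      push Not at h
      exact hxy (hKcomm _ (h x₀) _ (h y₀))
    haveI : K.Normal := inferInstance
    have hsup : K ⊔ Subgroup.zpowers g = ⊤ := by
      have hKi : K.index = p := ((Nat.dvd_prime hp).1 hidx).resolve_left fun h =>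
        hg (Subgroup.index_eq_one.1 h ▸ Subgroup.mem_top g)
      exact (CfsgLib.PGroup.isCoatom_of_index_eq hKi).2 _ (lt_of_le_of_ne le_sup_left fun h =>
        hg (h ▸ Subgroup.mem_sup_right (Subgroup.mem_zpowers g)))
    let φ : K →* Subgroup.center Q :=
      { toFun := fun k => ⟨⁅(k : Q), g⁆, CfsgLib.PGroup.extraspecial_comm_mem hQ _ _⟩
        map_one' := Subtype.ext (commutatorElement_one_left g)
        map_mul' := fun u v => Subtype.ext (CfsgLib.PGroup.commutatorElement_mul_left'
          (CfsgLib.PGroup.extraspecial_comm_mem hQ) _ _ _) }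
    have hker : Nat.card φ.ker ≤ p := by
      rw [← hQ.2]
      refine Nat.card_le_card_of_injective (fun k => ⟨k.1.1, ?_⟩) ?_
      · have hk : (k.1.1 : Q) * g = g * k.1.1 :=
          commutatorElement_eq_one_iff_mul_comm.1 (congrArg Subtype.val k.2)
        rw [Subgroup.mem_center_iff]
        have : (⊤ : Subgroup Q) ≤ Subgroup.centralizer {k.1.1} := by
          rw [← hsup]
          refine sup_le (fun a ha => ?_) (Subgroup.zpowers_le.2 ?_) <;>
            rw [Subgroup.mem_centralizer_singleton_iff]
          · exact hKcomm a ha _ k.1.2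
          · exact hk.symm
        exact fun h => Subgroup.mem_centralizer_singleton_iff.1 (this (Subgroup.mem_top h))
      · intro u v h
        exact Subtype.ext (Subtype.ext (congrArg (fun z : Subgroup.center Q => (z : Q)) h))
    have hran : Nat.card φ.range ≤ p := hQ.2 ▸ Subgroup.card_le_card_group _
    have h1 := φ.ker.card_mul_index
    rw [Subgroup.index_ker] at h1
    have h2 : p ^ (2 * n + 1) ≤ p ^ 3 := by
      rw [← hn, ← K.card_mul_index, ← h1, pow_succ, pow_two]
      exact Nat.mul_le_mul (Nat.mul_le_mul hker hran) (Nat.le_of_dvd hp.pos hidx)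
    rw [Nat.pow_le_pow_iff_right hp.one_lt] at h2
    rw [hcard]
    congr 1; omega
  · intro h4
    obtain ⟨A, hAn, hAc, hAC⟩ := CfsgLib.PGroup.exists_normal_abelian_self_centralizing hS
    haveI := hAn
    obtain ⟨k, hk⟩ := IsPGroup.iff_card.1 (hS.to_subgroup A)
    have hk3 : k = 3 ∨ k = 4 := by
      have h1 : k ≤ 4 := by
        rw [← Nat.pow_le_pow_iff_right hp.one_lt, ← hk, ← h4]
        exact Subgroup.card_le_card_group A
      by_contra hne
      have hmul := A.card_mul_index
      rw [hk, h4] at hmul
      rcases (show k = 2 ∨ k ≤ 1 by omega) with rfl | h2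
      · have h3 := CfsgLib.PGroup.index_centralizer_dvd_of_card_sq hS A hAc hk
        rw [hAC] at h3
        have h5 := Nat.le_of_dvd hp.pos h3
        have h6 : p ^ 2 * A.index ≤ p ^ 3 := by rw [pow_succ]; exact Nat.mul_le_mul_left _ h5
        rw [hmul, Nat.pow_le_pow_iff_right hp.one_lt] at h6
        omega
      · have hcen : A ≤ Subgroup.center S := by
          rcases (show k = 0 ∨ k = 1 by omega) with rfl | rfl
          · rw [Subgroup.eq_bot_of_card_eq A (by rw [hk, pow_zero])]; exact bot_le
          · exact CfsgLib.PGroup.le_center_of_card_eq hS A (by rw [hk, pow_one])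
        have : A = ⊤ := by
          rw [← hAC, eq_top_iff]
          intro g _
          exact Subgroup.mem_centralizer_iff.2 fun b hb =>
            (Subgroup.mem_center_iff.1 (hcen hb) g).symm
        rw [this, Subgroup.card_top, h4] at hk
        have := Nat.pow_right_injective hp.two_le hk
        omega
    rcases hk3 with rfl | rfl
    · refine ⟨A, hAc, ?_⟩
      have hmul := A.card_mul_index
      rw [hk, h4, pow_succ] at hmul
      exact Nat.eq_of_mul_eq_mul_left (pow_pos hp.pos 3) hmul
    · exfalso
      have hA : A = ⊤ := Subgroup.eq_top_of_card_eq A (by rw [hk, h4])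
      exact hxy (Subtype.ext (congrArg (fun z : A => (z : S))
        (hAc.1.comm ⟨x₀.1, hA ▸ Subgroup.mem_top _⟩ ⟨y₀.1, hA ▸ Subgroup.mem_top _⟩)))

end Cfsg.Agent.S3810
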