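import Cfsg.Statements.S3811
import Cfsg.Agent.SoftSubgroups.Main

set_option autoImplicit false
open Cfsg

namespace Cfsg.Agent.S3811

/-- Let P be a finite p-group and E an abelian subgroup of P that contains its centralizer, has index p in its normalizer, and has index at least p² in P. Then the subgroups of P containing E are totally ordered by inclusion, each proper one has index p in its normalizer (so they form the normalizer tower of E, with all steps of index p), and the i-th member of the tower above E has nilpotency class i + 1 whenever it is a proper subgroup of P. -/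
theorem result {P : Type*} [Group P] [Finite P] (p : ℕ) [Fact p.Prime] (hP : IsPGroup p P)
    (E : Subgroup P) (hEab : IsMulCommutative ↥E) (hC : Subgroup.centralizer (E : Set P) ≤ E)
    (hN : (E.subgroupOf (Subgroup.normalizer (E : Set P))).index = p) (hidx : p ^ 2 ≤ E.index) :
    (∀ K L : Subgroup P, E ≤ K → E ≤ L → K ≤ L ∨ L ≤ K) ∧
      (∀ K : Subgroup P, E ≤ K → K ≠ ⊤ → (K.subgroupOf (Subgroup.normalizer (K : Set P))).index = p) ∧
      ∀ (i : ℕ) (K : Subgroup P) [Group.IsNilpotent ↥K], E ≤ K → K ≠ ⊤ → K.index * p ^ i = E.index →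
        Group.nilpotencyClass ↥K = i + 1 := by
  have hcard : Nat.card (Subgroup.normalizer (E : Set P)) = p * Nat.card E := by
    have h := CfsgLib.Soft.card_mul_relIndex (Subgroup.le_normalizer (H := E))
    rw [show E.relIndex (Subgroup.normalizer (E : Set P)) = p from hN] at h
    rw [← h, mul_comm]
  have hE : CfsgLib.Soft.IsSoft p E :=
    ⟨fun a ha b hb => congrArg Subtype.val (hEab.is_comm.comm ⟨a, ha⟩ ⟨b, hb⟩), hC, hcard⟩
  obtain ⟨h1, h2, h3⟩ := CfsgLib.Soft.soft_theorem hP hE
  refine ⟨h1, fun K hK hne => ?_, fun i K _ hK hne hi => ?_⟩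
  · have h := CfsgLib.Soft.card_mul_relIndex (Subgroup.le_normalizer (H := K))
    rw [h2 K hK hne, mul_comm p] at h
    exact Nat.eq_of_mul_eq_mul_left Nat.card_pos h
  · obtain ⟨hupper, hlower⟩ := h3 i K hK hne hi
    refine le_antisymm ?_ ?_
    · rw [← Subgroup.lowerCentralSeries_eq_bot_iff_nilpotencyClass_le, ← Subgroup.map_subtype_inj,
        Subgroup.map_bot, Subgroup.top_subtype_lowerCentralSeries]
      exact hupper
    · by_contra hlt
      exact hlower (Subgroup.lowerCentralSeries_eq_bot_of_nilpotencyClass_le (by omega))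

end Cfsg.Agent.S3811
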