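import Cfsg.Statements.S3824
import Mathlib
import Cfsg.Agent.Chars.Apps.Burnside

set_option autoImplicit false
open Cfsg

namespace Cfsg.Agent.S3824

/-- Every finite group having an abelian subgroup whose index is a power of 2 is solvable. -/
theorem result {G : Type*} [Group G] [Finite G]
    (A : Subgroup G) (hA : IsMulCommutative A) (hidx : ∃ k : ℕ, A.index = 2 ^ k) : Group.IsSolvable G := by
  obtain ⟨k, hk⟩ := hidx
  suffices main : ∀ (n : ℕ) (G : Type u_1) [Group G] [Finite G] (A : Subgroup G), Nat.card G = n →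
      IsMulCommutative A → A.index ∣ 2 ^ k → Group.IsSolvable G from
    main _ G A rfl hA (hk ▸ dvd_rfl)
  intro n
  induction n using Nat.strong_induction_on with
  | _ n ih =>
  intro G _ _ A hn hA hdvd
  subst hn
  by_cases hbot : A = ⊥
  · subst hbot
    rw [Subgroup.index_bot] at hdvd
    obtain ⟨e, -, he⟩ := (Nat.dvd_prime_pow Nat.prime_two).1 hdvd
    have : Fact (Nat.Prime 2) := ⟨Nat.prime_two⟩
    have := (IsPGroup.of_card he).isNilpotent
    infer_instance
  obtain ⟨⟨a, haA⟩, ha1⟩ : ∃ a : A, a ≠ 1 := Subgroup.ne_bot_iff_exists_ne_one.1 hbot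
  have ha' : a ≠ 1 := fun h => ha1 (Subtype.ext h)
  have hAC : A ≤ Subgroup.centralizer ({a} : Set G) := fun x hx => by
    rw [Subgroup.mem_centralizer_singleton_iff]
    exact congrArg Subtype.val (mul_comm' (⟨x, hx⟩ : A) ⟨a, haA⟩)
  obtain ⟨e, -, he⟩ := (Nat.dvd_prime_pow Nat.prime_two).1 ((Subgroup.index_dvd_of_le hAC).trans hdvd)
  obtain ⟨N, hNn, hNt, hN⟩ :=
    CfsgLib.Chars.Apps.exists_normal_ne_top_of_centralizer_index_prime_pow Nat.prime_two a ha' he
  -- solvability of a normal subgroup and of its quotient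
  have key : ∀ M : Subgroup G, M.Normal → M ≠ ⊤ → M ≠ ⊥ → Group.IsSolvable G := by
    intro M hM hMt hMb
    have hcard : Nat.card M < Nat.card G := by
      rcases lt_or_eq_of_le (Nat.card_le_card_of_injective _ M.subtype_injective) with h | h
      · exact h
      · exact absurd (Subgroup.eq_top_of_card_eq M h) hMt
    have hq : Nat.card (G ⧸ M) < Nat.card G := by
      have h1 := Subgroup.card_mul_index M
      have h2 : 1 < Nat.card M := (Subgroup.one_lt_card_iff_ne_bot M).2 hMb
      have h3 : 0 < M.index := Nat.pos_of_ne_zero Subgroup.index_ne_zero_of_finite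
      show M.index < Nat.card G
      nlinarith
    have hAM : IsMulCommutative (A.subgroupOf M) :=
      ⟨⟨fun x y => Subtype.ext (Subtype.ext (by
        have h5 := congrArg Subtype.val (mul_comm' (⟨((x : M) : G), x.2⟩ : A) ⟨((y : M) : G), y.2⟩)
        exact h5))⟩⟩
    have h1 : Group.IsSolvable M := by
      refine ih _ hcard M (A.subgroupOf M) rfl hAM ?_
      refine dvd_trans ?_ hdvd
      have e : A.relIndex M = A.relIndex (A ⊔ M) := by
        have hcl : ∀ X Y : Subgroup G, X ≤ Y → Nat.card X * X.relIndex Y = Nat.card Y := fun X Y h => by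
          have := Subgroup.card_mul_index (X.subgroupOf Y)
          rwa [Nat.card_congr (Subgroup.subgroupOfEquivOfLe h).toEquiv] at this
        have hMA : M.relIndex (A ⊔ M) = M.relIndex A := Subgroup.relIndex_sup_right A M
        have h2 := hcl M (A ⊔ M) le_sup_right
        have h3 := hcl (A ⊓ M) A inf_le_left
        have h4 := hcl (A ⊓ M) M inf_le_right
        have h5 := hcl A (A ⊔ M) le_sup_left
        rw [Subgroup.inf_relIndex_left] at h3
        rw [Subgroup.inf_relIndex_right] at h4
        rw [hMA] at h2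
        refine Nat.eq_of_mul_eq_mul_left (Nat.card_pos (α := A)) ?_
        rw [h5, ← h2, ← h3, ← h4]; ring
      show A.relIndex M ∣ A.index
      rw [e]
      exact Dvd.intro _ (Subgroup.relIndex_mul_index le_sup_left)
    have h2 : Group.IsSolvable (G ⧸ M) := by
      refine ih _ hq (G ⧸ M) (A.map (QuotientGroup.mk' M)) rfl ⟨⟨?_⟩⟩
        ((Subgroup.index_map_dvd _ (QuotientGroup.mk'_surjective M)).trans hdvd)
      rintro ⟨x, a₁, h1', rfl⟩ ⟨y, a₂, h2', rfl⟩
      apply Subtype.ext
      show QuotientGroup.mk' M a₁ * QuotientGroup.mk' M a₂ = QuotientGroup.mk' M a₂ * QuotientGroup.mk' M a₁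
      rw [← map_mul, ← map_mul]
      exact congrArg _ (congrArg Subtype.val (mul_comm' (⟨a₁, h1'⟩ : A) ⟨a₂, h2'⟩))
    exact Group.isSolvable_of_ker_le_range M.subtype (QuotientGroup.mk' M)
      (by rw [QuotientGroup.ker_mk', Subgroup.range_subtype])
  by_cases hNb : N = ⊥
  · -- `a` is central
    have hcen : a ∈ Subgroup.center G := by
      rw [Subgroup.mem_center_iff]
      intro x
      have h1 := hN x
      rw [hNb, Subgroup.mem_bot] at h1
      calc x * a = x * a * (a⁻¹ * x⁻¹ * a * x) := by rw [h1, mul_one]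
        _ = a * x := by group
    have hle : Subgroup.zpowers a ≤ Subgroup.center G := (Subgroup.zpowers_le).2 hcen
    by_cases htop : Subgroup.zpowers a = ⊤
    · have hc : ∀ x y : G, x * y = y * x := fun x y =>
        Subgroup.mem_center_iff.1 (hle (htop ▸ Subgroup.mem_top y)) x
      exact Group.isSolvable_of_comm hc
    · refine key _ ⟨fun z hz g => ?_⟩ htop (fun h => ha' (Subgroup.zpowers_eq_bot.1 h))
      rw [Subgroup.mem_center_iff.1 (hle hz) g, mul_assoc, mul_inv_cancel, mul_one]
      exact hz
  · exact key N hNn hNt hNb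

end Cfsg.Agent.S3824
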