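import Cfsg.Statements.S3835
import Cfsg.Agent.DefChar.QdFree
import Cfsg.Agent.SymSylow.Generated
import Cfsg.Agent.Eq.Def_PLocal
import Cfsg.Agent.Eq.Def_LocalEven

set_option autoImplicit false
open Cfsg

namespace Cfsg.Agent.S3835

open Equiv CfsgLib.DefChar

variable {p : ℕ} [Fact p.Prime]

/-- The affine map of the plane given by a matrix. -/
def affFun (M : Matrix (Fin 3) (Fin 3) (ZMod p)) (v : ZMod p × ZMod p) : ZMod p × ZMod p :=
  (M 0 0 * v.1 + M 0 1 * v.2 + M 0 2, M 1 0 * v.1 + M 1 1 * v.2 + M 1 2)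

theorem affFun_mul (A B : Matrix (Fin 3) (Fin 3) (ZMod p)) (h0 : B 2 0 = 0) (h1 : B 2 1 = 0)
    (h2 : B 2 2 = 1) (v : ZMod p × ZMod p) : affFun (A * B) v = affFun A (affFun B v) := by
  simp only [affFun, Matrix.mul_apply, Fin.sum_univ_three, h0, h1, h2]
  refine Prod.ext ?_ ?_ <;> ring

theorem affFun_one (v : ZMod p × ZMod p) : affFun (1 : Matrix (Fin 3) (Fin 3) (ZMod p)) v = v := by
  simp [affFun]

/-- The action of `Qd(p)` on the plane. -/
def affHom : Cfsg.qd p →* Perm (ZMod p × ZMod p) where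
  toFun M :=
    { toFun := affFun M.1.1
      invFun := affFun (M⁻¹ : Cfsg.qd p).1.1
      left_inv := fun v => by
        obtain ⟨h0, h1, h2⟩ := qd_row_two p M.2
        rw [← affFun_mul _ _ h0 h1 h2, ← Matrix.SpecialLinearGroup.coe_mul, ← Subgroup.coe_mul,
          inv_mul_cancel, OneMemClass.coe_one, Matrix.SpecialLinearGroup.coe_one, affFun_one]
      right_inv := fun v => by
        obtain ⟨h0, h1, h2⟩ := qd_row_two p (M⁻¹ : Cfsg.qd p).2
        rw [← affFun_mul _ _ h0 h1 h2, ← Matrix.SpecialLinearGroup.coe_mul, ← Subgroup.coe_mul,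
          mul_inv_cancel, OneMemClass.coe_one, Matrix.SpecialLinearGroup.coe_one, affFun_one] }
  map_one' := Equiv.ext fun v => affFun_one v
  map_mul' A B := Equiv.ext fun v => by
    obtain ⟨h0, h1, h2⟩ := qd_row_two p B.2
    exact affFun_mul _ _ h0 h1 h2 v

theorem affHom_injective : Function.Injective (affHom (p := p)) := by
  intro A B h
  obtain ⟨a0, a1, a2⟩ := qd_row_two p A.2
  obtain ⟨b0, b1, b2⟩ := qd_row_two p B.2
  have e0 : affFun A.1.1 (0, 0) = affFun B.1.1 (0, 0) := Equiv.ext_iff.1 h _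
  have e1 : affFun A.1.1 (1, 0) = affFun B.1.1 (1, 0) := Equiv.ext_iff.1 h _
  have e2 : affFun A.1.1 (0, 1) = affFun B.1.1 (0, 1) := Equiv.ext_iff.1 h _
  simp [affFun] at e0 e1 e2
  refine Subtype.ext (Subtype.ext ?_)
  ext i j
  fin_cases i <;> fin_cases j <;> simp_all

/-- `(x, y) ↦ (x + β y + e, y)`. -/
def shX (β e : ZMod p) : Perm (ZMod p × ZMod p) where
  toFun v := (v.1 + β * v.2 + e, v.2)
  invFun v := (v.1 - β * v.2 - e, v.2)
  left_inv v := Prod.ext (by ring) rfl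
  right_inv v := Prod.ext (by ring) rfl

/-- `(x, y) ↦ (x, y + β x + e)`. -/
def shY (β e : ZMod p) : Perm (ZMod p × ZMod p) where
  toFun v := (v.1, v.2 + β * v.1 + e)
  invFun v := (v.1, v.2 - β * v.1 - e)
  left_inv v := Prod.ext rfl (by ring)
  right_inv v := Prod.ext rfl (by ring)

theorem sign_shX (hodd : Odd p) (β e : ZMod p) : Perm.sign (shX β e) = 1 := by
  refine CfsgLib.SymSylow.Mono.sign_eq_one_of_pow_odd hodd ?_
  have key : ∀ k : ℕ, ∀ v : ZMod p × ZMod p,
      (shX β e ^ k) v = (v.1 + (k : ZMod p) * (β * v.2 + e), v.2) := by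
    intro k
    induction k with
    | zero => intro v; simp
    | succ k ih =>
      intro v
      rw [pow_succ, Perm.mul_apply, ih, Nat.cast_succ]
      refine Prod.ext ?_ rfl
      simp [shX]
      ring
  refine Equiv.ext fun v => ?_
  rw [key]
  simp

theorem sign_shY (hodd : Odd p) (β e : ZMod p) : Perm.sign (shY β e) = 1 := by
  refine CfsgLib.SymSylow.Mono.sign_eq_one_of_pow_odd hodd ?_
  have key : ∀ k : ℕ, ∀ v : ZMod p × ZMod p,
      (shY β e ^ k) v = (v.1, v.2 + (k : ZMod p) * (β * v.1 + e)) := by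
    intro k
    induction k with
    | zero => intro v; simp
    | succ k ih =>
      intro v
      rw [pow_succ, Perm.mul_apply, ih, Nat.cast_succ]
      refine Prod.ext rfl ?_
      simp [shY]
      ring
  refine Equiv.ext fun v => ?_
  rw [key]
  simp

theorem det_qd (M : Cfsg.qd p) :
    M.1.1 0 0 * M.1.1 1 1 - M.1.1 0 1 * M.1.1 1 0 = 1 := by
  obtain ⟨h0, h1, h2⟩ := qd_row_two p M.2
  have h := M.1.2
  rw [Matrix.det_fin_three, h0, h1, h2] at h
  linear_combination h

theorem affHom_of_ne_zero (hodd : Odd p) (M : Cfsg.qd p) (hc : M.1.1 1 0 ≠ 0) :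
    Perm.sign (affHom M) = 1 := by
  set a := M.1.1 0 0
  set b := M.1.1 0 1
  set c := M.1.1 1 0 with hcdef
  set d := M.1.1 1 1
  set e := M.1.1 0 2
  set f := M.1.1 1 2
  have hdet : a * d - b * c = 1 := det_qd M
  have heq : affHom M = shX ((a - 1) / c) (e - (a - 1) / c * f) * shY c f * shX ((d - 1) / c) 0 := by
    refine Equiv.ext fun v => ?_
    show affFun M.1.1 v = shX _ _ (shY c f (shX _ _ v))
    simp only [affFun, shX, shY, Equiv.coe_fn_mk]
    have hcc : c / c = 1 := div_self hc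
    refine Prod.ext ?_ ?_
    · field_simp
      linear_combination (-v.2) * hdet
    · field_simp
      ring
  rw [heq, map_mul, map_mul, sign_shX hodd, sign_shX hodd, sign_shY hodd, one_mul, one_mul]

theorem sign_affHom (hodd : Odd p) (M : Cfsg.qd p) : Perm.sign (affHom M) = 1 := by
  by_cases hc : M.1.1 1 0 = 0
  · let L : Cfsg.qd p := ⟨⟨!![1, 0, 0; 1, 1, 0; 0, 0, 1], by simp [Matrix.det_fin_three]⟩,
      qd_mem p _ (by simp) (by simp) (by simp)⟩
    have hL : Perm.sign (affHom L) = 1 :=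
      affHom_of_ne_zero hodd L (by simp [L])
    have hLM : Perm.sign (affHom (L * M)) = 1 := by
      refine affHom_of_ne_zero hodd _ ?_
      obtain ⟨h0, h1, h2⟩ := qd_row_two p M.2
      have : (L * M).1.1 1 0 = M.1.1 0 0 := by
        show (L.1.1 * M.1.1) 1 0 = _
        simp [L, Matrix.mul_apply, Fin.sum_univ_three, hc]
      rw [this]
      intro h
      have := det_qd M
      rw [h, hc] at this
      simp at this
    rwa [map_mul, map_mul, hL, one_mul] at hLM
  · exact affHom_of_ne_zero hodd M hc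

/-- A `p`-group of permutations of fewer than `p ^ 2` points is abelian. -/
theorem commute_of_lt_sq {n : ℕ} (hn : n < p ^ 2) {H : Subgroup (Perm (Fin n))} (hH : IsPGroup p H)
    {a b : Perm (Fin n)} (ha : a ∈ H) (hb : b ∈ H) : a * b = b * a := by
  have hp : p.Prime := Fact.out
  obtain ⟨Q, hQ⟩ := hH.exists_le_sylow
  obtain ⟨e⟩ := CfsgLib.SymSylow.Mono.exists_equiv_model p (Fin n)
  obtain ⟨P⟩ := (inferInstance : Nonempty (Sylow p (Perm (Fin (Nat.card (Fin n) / p)))))
  have hP : (P : Subgroup (Perm (Fin (Nat.card (Fin n) / p)))) = ⊥ := by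
    apply Subgroup.eq_bot_of_card_eq
    rw [P.card_eq_multiplicity, Nat.card_perm, Nat.card_fin, Nat.card_fin,
      Nat.factorization_factorial_eq_zero_of_lt ?_, pow_zero]
    rw [Nat.div_lt_iff_lt_mul hp.pos, ← sq]
    exact hn
  obtain ⟨e', he'⟩ := CfsgLib.SymSylow.Mono.exists_equiv_wr
    (by rw [Fintype.card_fin]; exact Nat.mod_lt _ hp.pos) e P Q
  rw [hP] at he'
  obtain ⟨_, ⟨π, hπ, u, rfl⟩, rfl⟩ := he' ▸ hQ ha
  obtain ⟨_, ⟨π', hπ', u', rfl⟩, rfl⟩ := he' ▸ hQ hb
  rw [Subgroup.mem_bot] at hπ hπ'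
  subst hπ hπ'
  rw [← map_mul, ← map_mul, CfsgLib.SymSylow.Mono.mo_trans_mul,
    CfsgLib.SymSylow.Mono.mo_trans_mul, add_comm]

/-- Involvement of `Qd(p)` needs `p ^ 2` points. -/
theorem not_involves (hp2 : p ≠ 2) {n : ℕ} (hn : n < p ^ 2) :
    ¬ Cfsg.Involves ↥(Cfsg.qd p) ↥(alternatingGroup (Fin n)) := by
  rintro ⟨K, R, hR, ⟨φ⟩⟩
  let ψ : K →* Cfsg.qd p := φ.toMonoidHom.comp (QuotientGroup.mk' (R.subgroupOf K))
  have hψ : Function.Surjective ψ := φ.surjective.comp (QuotientGroup.mk'_surjective _)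
  obtain ⟨P⟩ := (inferInstance : Nonempty (Sylow p K))
  let Q : Sylow p (Cfsg.qd p) := P.mapSurjective hψ
  have hQ : ∀ u ∈ (Q : Subgroup (Cfsg.qd p)), ∀ v ∈ (Q : Subgroup (Cfsg.qd p)), u * v = v * u := by
    intro u hu v hv
    rw [Sylow.coe_mapSurjective] at hu hv
    obtain ⟨u, hu', rfl⟩ := hu
    obtain ⟨v, hv', rfl⟩ := hv
    rw [← map_mul, ← map_mul]
    refine congrArg ψ (Subtype.ext (Subtype.ext ?_))
    exact commute_of_lt_sq hn ((P.isPGroup'.map K.subtype).map (alternatingGroup (Fin n)).subtype)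
      ⟨_, ⟨u, hu', rfl⟩, rfl⟩ ⟨_, ⟨v, hv', rfl⟩, rfl⟩
  -- unitriangular elements form a `p`-subgroup
  let U : Subgroup (Cfsg.qd p) :=
    { carrier := {M | M.1.1 0 0 = 1 ∧ M.1.1 1 0 = 0 ∧ M.1.1 1 1 = 1}
      one_mem' := by simp
      mul_mem' := fun {A B} hA hB => by
        obtain ⟨b0, b1, b2⟩ := qd_row_two p B.2
        simp [Matrix.mul_apply, Fin.sum_univ_three, hA.1, hA.2.1, hA.2.2, hB.1, hB.2.1, hB.2.2, b0, b1]
      inv_mem' := fun {A} hA => by
        obtain ⟨a0, a1, a2⟩ := qd_row_two p A.2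
        obtain ⟨i0, i1, i2⟩ := qd_row_two p (A⁻¹ : Cfsg.qd p).2
        have h : A.1.1 * (A⁻¹ : Cfsg.qd p).1.1 = 1 := by
          rw [← Matrix.SpecialLinearGroup.coe_mul, ← Subgroup.coe_mul, mul_inv_cancel]; rfl
        have h10 := congrFun (congrFun h 1) 0
        have h00 := congrFun (congrFun h 0) 0
        have h11 := congrFun (congrFun h 1) 1
        simp only [Matrix.mul_apply, Fin.sum_univ_three, hA.1, hA.2.1, hA.2.2, i0, i1, zero_mul,
          one_mul, mul_zero, add_zero, zero_add, Matrix.one_apply_eq,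
          Matrix.one_apply_ne (show (1 : Fin 3) ≠ 0 by decide)] at h10 h00 h11
        rw [h10, mul_zero, add_zero] at h00
        exact ⟨h00, h10, h11⟩ }
  have hU : IsPGroup p U := by
    rintro ⟨M, h00, h10, h11⟩
    refine ⟨1, Subtype.ext (Subtype.ext (Subtype.ext ?_))⟩
    obtain ⟨m0, m1, m2⟩ := qd_row_two p M.2
    rw [pow_one]
    show M.1.1 ^ p = 1
    have h3 : (M.1.1 - 1) ^ 3 = 0 := by
      ext i j
      fin_cases i <;> fin_cases j <;>
        simp [pow_succ, Matrix.mul_apply, Fin.sum_univ_three, h00, h10, h11, m0, m1, m2]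
    have hp3 : 3 ≤ p := by
      have := (Fact.out : p.Prime).two_le
      omega
    have h4 : (M.1.1 - 1) ^ p = 0 := pow_eq_zero_of_le hp3 h3
    rwa [sub_pow_char_of_commute (p := p) (Commute.one_right _), one_pow, sub_eq_zero] at h4
  obtain ⟨Q', hQ'⟩ := hU.exists_le_sylow
  obtain ⟨g, hg⟩ := MulAction.exists_smul_eq (Cfsg.qd p) Q' Q
  let t : Cfsg.qd p := ⟨⟨!![1, 0, 0; 0, 1, 1; 0, 0, 1], by simp [Matrix.det_fin_three]⟩,
    qd_mem p _ (by simp) (by simp) (by simp)⟩
  let s : Cfsg.qd p := ⟨⟨!![1, 1, 0; 0, 1, 0; 0, 0, 1], by simp [Matrix.det_fin_three]⟩,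
    qd_mem p _ (by simp) (by simp) (by simp)⟩
  have ht : g * t * g⁻¹ ∈ (Q : Subgroup (Cfsg.qd p)) := by
    rw [← hg]
    exact ⟨t, hQ' (show t ∈ U from ⟨by simp [t], by simp [t], by simp [t]⟩), rfl⟩
  have hs : g * s * g⁻¹ ∈ (Q : Subgroup (Cfsg.qd p)) := by
    rw [← hg]
    exact ⟨s, hQ' (show s ∈ U from ⟨by simp [s], by simp [s], by simp [s]⟩), rfl⟩
  have h' : s * t = t * s := (MulAut.conj g).injective (by
    rw [map_mul, map_mul]
    exact hQ _ hs _ ht)
  have : (s.1.1 * t.1.1) 0 2 = (t.1.1 * s.1.1) 0 2 := congrArg (fun M : Cfsg.qd p => M.1.1 0 2) h'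
  simp [s, t, Matrix.mul_apply, Fin.sum_univ_three] at this

/-- Let p be an odd prime and n a natural number. The alternating group of degree n has a subgroup isomorphic to Qd(p) (the natural semidirect product of an elementary abelian group of order p² by SL₂(p)) if and only if n ≥ p²; and if n < p² then Qd(p) is not even involved in it. -/
theorem result {p : ℕ} [Fact p.Prime] (hp : p ≠ 2) (n : ℕ) : ((∃ H : Subgroup (alternatingGroup (Fin n)), Nonempty (↥H ≃* ↥(Cfsg.qd p))) ↔ p ^ 2 ≤ n) ∧ (n < p ^ 2 → ¬ Cfsg.Involves ↥(Cfsg.qd p) ↥(alternatingGroup (Fin n))) := by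
  refine ⟨⟨fun ⟨H, ⟨φ⟩⟩ => ?_, fun hn => ?_⟩, fun hn => not_involves hp hn⟩
  · by_contra h
    refine not_involves hp (not_le.1 h) ⟨H, ⊥, inferInstance, ⟨?_⟩⟩
    have hbot : (⊥ : Subgroup ↥(alternatingGroup (Fin n))).subgroupOf H = ⊥ :=
      Subgroup.bot_subgroupOf H
    exact (QuotientGroup.quotientMulEquivOfEq hbot).trans (QuotientGroup.quotientBot.trans φ)
  · have hodd : Odd p := (Fact.out : p.Prime).odd_of_ne_two hp
    obtain ⟨ι⟩ : Nonempty (ZMod p × ZMod p ↪ Fin n) := by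
      refine Function.Embedding.nonempty_of_card_le ?_
      rw [Fintype.card_prod, ZMod.card, Fintype.card_fin, ← sq]
      exact hn
    let F : Cfsg.qd p →* Perm (Fin n) :=
      (Perm.viaEmbeddingHom ι).comp affHom
    have hF : ∀ M, F M ∈ alternatingGroup (Fin n) := fun M => by
      rw [Perm.mem_alternatingGroup]
      show Perm.sign ((affHom M).viaEmbedding ι) = 1
      unfold Perm.viaEmbedding
      rw [Perm.sign_extendDomain, sign_affHom hodd]
    have hFi : Function.Injective (F.codRestrict _ hF) := fun a b h =>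
      affHom_injective (Perm.viaEmbeddingHom_injective ι (congrArg Subtype.val h))
    exact ⟨_, ⟨(MonoidHom.ofInjective hFi).symm⟩⟩

end Cfsg.Agent.S3835
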