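import Cfsg.Statements.S3857
import Mathlib
import Cfsg.Agent.Frobenius.Basic
import Cfsg.Agent.Frobenius.FPF
import Cfsg.Agent.TwoFrobenius.Basic
import Cfsg.Agent.Constrained.Fitting
import Cfsg.Agent.Constrained.Basic
import Cfsg.Agent.Fitting.Join
import Cfsg.Agent.Solvable.SchurZassenhaus

set_option autoImplicit false
open Cfsg

namespace Cfsg.Agent.S3857

open scoped commutatorElement

universe u

/-- No element has order the product of a prime in `A` and a prime outside `A`. -/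
def Sep (A : Set ℕ) (G : Type*) [Group G] : Prop :=
  ∀ a b : ℕ, a.Prime → b.Prime → a ∈ A → b ∉ A → ∀ g : G, orderOf g ≠ a * b

section Basic

variable {G : Type*} [Group G] [Finite G] {A : Set ℕ}

theorem exists_order {g : G} {n : ℕ} (h : n ∣ orderOf g) : ∃ x : G, orderOf x = n := by
  exact ⟨g ^ (orderOf g / n), by
    rw [orderOf_pow_orderOf_div (orderOf_pos g).ne' h]⟩

theorem Sep.quotient (hs : Sep A G) (N : Subgroup G) [N.Normal] : Sep A (G ⧸ N) := by
  intro a b ha hb haA hbA g hg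
  obtain ⟨g, rfl⟩ := QuotientGroup.mk'_surjective N g
  obtain ⟨x, hx⟩ := exists_order (hg ▸ orderOf_map_dvd (QuotientGroup.mk' N) g)
  exact hs a b ha hb haA hbA x hx

theorem Sep.subgroup (hs : Sep A G) (K : Subgroup G) : Sep A K := fun a b ha hb haA hbA g hg =>
  hs a b ha hb haA hbA g (by rw [Subgroup.orderOf_coe]; exact hg)

theorem Sep.not_commute (hs : Sep A G) {x y : G} (h : Commute x y) {a b : ℕ} (ha : a.Prime)
    (hb : b.Prime) (haA : a ∈ A) (hbA : b ∉ A) (hx : orderOf x = a) (hy : orderOf y = b) : False :=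
  hs a b ha hb haA hbA (x * y) (by
    have hab : a ≠ b := fun e => hbA (e ▸ haA)
    rw [h.orderOf_mul_eq_mul_orderOf_of_coprime (by
      rw [hx, hy]; exact (Nat.coprime_primes ha hb).2 hab), hx, hy])

theorem Sep.eq_one_of_commute (hs : Sep A G) {N H : Subgroup G}
    (hN : ∀ p : ℕ, p.Prime → p ∣ Nat.card N → p ∈ A)
    (hH : ∀ p : ℕ, p.Prime → p ∣ Nat.card H → p ∉ A) {x y : G} (hx : x ∈ N) (hy : y ∈ H)
    (h : Commute x y) : x = 1 ∨ y = 1 := by
  by_contra hcon
  push Not at hcon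
  obtain ⟨a, ha, hax⟩ := Nat.exists_prime_and_dvd (mt orderOf_eq_one_iff.1 hcon.1)
  obtain ⟨b, hb, hby⟩ := Nat.exists_prime_and_dvd (mt orderOf_eq_one_iff.1 hcon.2)
  have haA := hN a ha (hax.trans (Subgroup.orderOf_dvd_natCard N hx))
  have hbA := hH b hb (hby.trans (Subgroup.orderOf_dvd_natCard H hy))
  refine hs.not_commute (h.pow_pow (orderOf x / a) (orderOf y / b)) ha hb haA hbA ?_ ?_
  · exact orderOf_pow_orderOf_div (orderOf_pos x).ne' hax
  · exact orderOf_pow_orderOf_div (orderOf_pos y).ne' hby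

/-- A normal Hall subgroup with primes separated from those of its index is a Frobenius kernel. -/
theorem exists_frobenius (hs : Sep A G) (N : Subgroup G) [N.Normal] (hN1 : N ≠ ⊥) (hN2 : N ≠ ⊤)
    (h : ((∀ p : ℕ, p.Prime → p ∣ Nat.card N → p ∈ A) ∧ ∀ p : ℕ, p.Prime → p ∣ N.index → p ∉ A) ∨
      ((∀ p : ℕ, p.Prime → p ∣ Nat.card N → p ∉ A) ∧ ∀ p : ℕ, p.Prime → p ∣ N.index → p ∈ A)) :
    ∃ H : Subgroup G, Cfsg.IsFrobeniusComplement H ∧ Cfsg.frobeniusKernel H = (N : Set G) ∧
      N.IsComplement' H := by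
  have hcop : (Nat.card N).Coprime N.index := by
    refine Nat.coprime_of_dvd fun p hp h1 h2 => ?_
    rcases h with h | h
    · exact h.2 p hp h2 (h.1 p hp h1)
    · exact h.1 p hp h1 (h.2 p hp h2)
  obtain ⟨H, hH⟩ := Subgroup.exists_right_complement'_of_coprime hcop
  have hfree : ∀ n ∈ N, ∀ x ∈ H, Commute n x → n = 1 ∨ x = 1 := by
    intro n hn x hx hc
    rcases h with h | h
    · exact hs.eq_one_of_commute h.1 (fun p hp hd => h.2 p hp (hH.symm.index_eq_card.symm ▸ hd)) hn hx hc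
    · exact (hs.eq_one_of_commute (fun p hp hd => h.2 p hp (hH.symm.index_eq_card.symm ▸ hd)) h.1 hx hn
        hc.symm).symm
  have hHc : Cfsg.IsFrobeniusComplement H := by
    rw [CfsgLib.Frobenius.isFrobeniusComplement_iff]
    refine ⟨fun he => hN2 ?_, fun he => hN1 ?_, fun g x hx hx1 hgx => ?_⟩
    · have := hH.sup_eq_top
      rwa [he, sup_bot_eq] at this
    · have := hH.disjoint.eq_bot
      rwa [he, inf_top_eq] at this
    obtain ⟨n, hn, y, hy, rfl⟩ : ∃ n ∈ N, ∃ y ∈ H, n * y = g := by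
      obtain ⟨⟨n, y⟩, h⟩ := hH.2 g
      exact ⟨n, n.2, y, y.2, h⟩
    set x' := y * x * y⁻¹ with hx'
    have hx'H : x' ∈ H := mul_mem (mul_mem hy hx) (inv_mem hy)
    have hmem : n * x' * n⁻¹ * x'⁻¹ ∈ N ⊓ H := by
      refine Subgroup.mem_inf.2 ⟨?_, mul_mem ?_ (inv_mem hx'H)⟩
      · rw [show n * x' * n⁻¹ * x'⁻¹ = n * (x' * n⁻¹ * x'⁻¹) by group]
        exact mul_mem hn (Subgroup.Normal.conj_mem inferInstance _ (inv_mem hn) x')
      · rw [hx', show n * (y * x * y⁻¹) * n⁻¹ = n * y * x * (n * y)⁻¹ by group]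
        exact hgx
    rw [hH.disjoint.eq_bot, Subgroup.mem_bot, mul_inv_eq_one, mul_inv_eq_iff_eq_mul] at hmem
    rcases hfree n hn x' hx'H hmem with h1 | h1
    · rw [h1, one_mul]; exact hy
    · exfalso
      rw [hx', mul_inv_eq_one, mul_eq_left] at h1
      exact hx1 h1
  refine ⟨H, hHc, (CfsgLib.Frobenius.coe_eq_frobeniusKernel hHc inferInstance ?_
    hH.disjoint.eq_bot).symm, hH⟩
  exact hH.index_eq_card.symm

theorem exists_max_normal (A : Set ℕ) : ∃ N : Subgroup G, N.Normal ∧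
    (∀ p : ℕ, p.Prime → p ∣ Nat.card N → p ∈ A) ∧
    ∀ M : Subgroup G, M.Normal → N ≤ M → (∀ p : ℕ, p.Prime → p ∣ Nat.card M → p ∈ A) → M ≤ N := by
  let S : Set (Subgroup G) := {M | M.Normal ∧ ∀ p : ℕ, p.Prime → p ∣ Nat.card M → p ∈ A}
  obtain ⟨N, hN⟩ := (Set.toFinite S).exists_maximal ⟨⊥, inferInstance, fun p hp hd =>
    absurd (Nat.dvd_one.1 (Subgroup.card_bot (G := G) ▸ hd)) hp.ne_one⟩
  exact ⟨N, hN.1.1, hN.1.2, fun M hM hle hMA => hN.2 ⟨hM, hMA⟩ hle⟩

/-- The primes of the Fitting subgroup all lie on one side. -/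
theorem fitting_one_side (hs : Sep A G) {a b : ℕ} (ha : a.Prime) (hb : b.Prime) (haA : a ∈ A)
    (hbA : b ∉ A) (h1 : a ∣ Nat.card (Cfsg.fittingSubgroup G)) :
    ¬ b ∣ Nat.card (Cfsg.fittingSubgroup G) := by
  intro h2
  haveI := CfsgLib.Constrained.isNilpotent_fitting (G := G)
  haveI := Fact.mk ha
  haveI := Fact.mk hb
  obtain ⟨x, hx⟩ := exists_prime_orderOf_dvd_card' a h1
  obtain ⟨y, hy⟩ := exists_prime_orderOf_dvd_card' b h2
  have hc : Commute x y := by
    obtain ⟨P, hP⟩ := (IsPGroup.of_card (p := a) (n := 1)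
      (by rw [Nat.card_zpowers, hx, pow_one] : Nat.card (Subgroup.zpowers x) = a ^ 1)).exists_le_sylow
    obtain ⟨Q, hQ⟩ := (IsPGroup.of_card (p := b) (n := 1)
      (by rw [Nat.card_zpowers, hy, pow_one] : Nat.card (Subgroup.zpowers y) = b ^ 1)).exists_le_sylow
    have hab : a ≠ b := fun e => hbA (e ▸ haA)
    exact Subgroup.commute_of_normal_of_disjoint _ _ inferInstance inferInstance
      (IsPGroup.disjoint_of_ne _ _ hab _ _ P.isPGroup' Q.isPGroup') x y
      (hP (Subgroup.mem_zpowers x)) (hQ (Subgroup.mem_zpowers y))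
  exact (hs.subgroup _).not_commute hc ha hb haA hbA hx hy

end Basic

theorem main {G : Type u} [Group G] [Finite G] [Group.IsSolvable G] (A : Set ℕ) (hs : Sep A G)
    {a₀ b₀ : ℕ} (hb₀ : b₀.Prime) (hb₀A : b₀ ∉ A) (hb₀G : b₀ ∣ Nat.card G)
    (ha₀ : a₀.Prime) (ha₀A : a₀ ∈ A) (ha₀F : a₀ ∣ Nat.card (Cfsg.fittingSubgroup G)) :
    (∃ C : Subgroup G, Cfsg.IsFrobeniusComplement C) ∨
    (∃ (H K : Subgroup G) (_ : H.Normal), K.Normal ∧ H < K ∧
      (∃ C : Subgroup ↥K, Cfsg.IsFrobeniusComplement C ∧ Cfsg.frobeniusKernel C = (H.subgroupOf K : Set ↥K)) ∧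
      (∃ C : Subgroup (G ⧸ H), Cfsg.IsFrobeniusComplement C ∧ Cfsg.frobeniusKernel C = (K.map (QuotientGroup.mk' H) : Set (G ⧸ H)))) := by
  classical
  obtain ⟨N, hNn, hNA, hNmax⟩ := exists_max_normal (G := G) A
  haveI := hNn
  haveI hFn : (Cfsg.fittingSubgroup G).Normal := CfsgLib.Fitting.fittingSubgroup_normal G
  have hN1 : N ≠ ⊥ := by
    intro hN
    have := hNmax (Cfsg.fittingSubgroup G) hFn (hN ▸ bot_le) (fun p hp hd => by
      by_contra hpA
      exact fitting_one_side hs ha₀ hp ha₀A hpA ha₀F hd)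
    rw [hN, le_bot_iff] at this
    rw [this, Subgroup.card_bot] at ha₀F
    exact ha₀.ne_one (Nat.dvd_one.1 ha₀F)
  have hN2 : N ≠ ⊤ := fun h => hb₀A (hNA b₀ hb₀ (by rw [h, Subgroup.card_top]; exact hb₀G))
  by_cases hcase : ∀ p : ℕ, p.Prime → p ∣ N.index → p ∉ A
  · obtain ⟨H, hH, -, -⟩ := exists_frobenius hs N hN1 hN2 (Or.inl ⟨hNA, hcase⟩)
    exact Or.inl ⟨H, hH⟩
  right
  push Not at hcase
  obtain ⟨a, ha, haN, haA⟩ := hcase
  haveI : Nontrivial (G ⧸ N) := QuotientGroup.nontrivial_iff.2 hN2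
  set C := Cfsg.fittingSubgroup (G ⧸ N) with hCdef
  haveI hCn : C.Normal := CfsgLib.Fitting.fittingSubgroup_normal (G ⧸ N)
  haveI hCnil := CfsgLib.Constrained.isNilpotent_fitting (G := G ⧸ N)
  have hCne : C ≠ ⊥ := CfsgLib.Constrained.fitting_ne_bot
  have hsQ := hs.quotient N
  -- `C` has order prime to `A`
  have hCA : ∀ p : ℕ, p.Prime → p ∣ Nat.card C → p ∉ A := by
    intro p hp hd hpA
    haveI := Fact.mk hp
    let P : Sylow p C := default
    haveI hPn : (P : Subgroup C).Normal := inferInstance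
    haveI : (P : Subgroup C).Characteristic := Sylow.characteristic_of_normal P hPn
    haveI hMn : ((P : Subgroup C).map C.subtype).Normal :=
      ConjAct.normal_of_characteristic_of_normal
    set M := ((P : Subgroup C).map C.subtype).comap (QuotientGroup.mk' N) with hM
    have hle : M ≤ N := hNmax M inferInstance (fun x hx => by
      rw [hM, Subgroup.mem_comap, QuotientGroup.mk'_apply, (QuotientGroup.eq_one_iff x).2 hx]
      exact one_mem _) fun q hq hqd => by
      have h1 : Nat.card M = Nat.card ((P : Subgroup C).map C.subtype) * Nat.card N := by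
        have h3 := CfsgLib.Solvable.card_map_mk'_mul N (X := M) (fun x hx => by
          rw [hM, Subgroup.mem_comap, QuotientGroup.mk'_apply, (QuotientGroup.eq_one_iff x).2 hx]
          exact one_mem _)
        rw [hM, Subgroup.map_comap_eq_self_of_surjective (QuotientGroup.mk'_surjective N)] at h3
        rw [hM, ← h3]
      rw [h1, Subgroup.card_subtype] at hqd
      rcases hq.dvd_mul.1 hqd with h2 | h2
      · obtain ⟨n, hn⟩ := IsPGroup.iff_card.1 P.isPGroup'
        rw [hn] at h2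
        rwa [(Nat.prime_dvd_prime_iff_eq hq hp).1 (hq.dvd_of_dvd_pow h2)]
      · exact hNA q hq h2
    have hbot : (P : Subgroup C).map C.subtype = ⊥ := by
      rw [eq_bot_iff]
      intro x hx
      obtain ⟨g, rfl⟩ := QuotientGroup.mk'_surjective N x
      rw [Subgroup.mem_bot, QuotientGroup.mk'_apply, QuotientGroup.eq_one_iff]
      exact hle hx
    refine P.ne_bot_of_dvd_card hd ?_
    rwa [Subgroup.map_eq_bot_iff_of_injective _ C.subtype_injective] at hbot
  have haC : ¬ a ∣ Nat.card C := fun h => hCA a ha h haA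
  -- the Frobenius group `K`
  set K := C.comap (QuotientGroup.mk' N) with hK
  have hmap : K.map (QuotientGroup.mk' N) = C :=
    Subgroup.map_comap_eq_self_of_surjective (QuotientGroup.mk'_surjective N) C
  have hNK : N < K := by
    refine lt_of_le_of_ne (fun x hx => ?_) fun he => hCne ?_
    · rw [hK, Subgroup.mem_comap, QuotientGroup.mk'_apply, (QuotientGroup.eq_one_iff x).2 hx]
      exact one_mem _
    · rw [← hmap, ← he, QuotientGroup.map_mk'_self]
  have hidx : (N.subgroupOf K).index = Nat.card C := by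
    rw [← Subgroup.relIndex, CfsgLib.Constrained.relIndex_eq_card_map, hmap]
  obtain ⟨H, hH, hHker, hHc⟩ := exists_frobenius (hs.subgroup K) (N.subgroupOf K)
    (by rw [Ne, Subgroup.subgroupOf_eq_bot]
        exact fun hd => hN1 (disjoint_self.1 (hd.mono_right hNK.le)))
    (fun h => hNK.not_ge (Subgroup.subgroupOf_eq_top.1 h))
    (Or.inl ⟨fun p hp hd => hNA p hp (by
      rwa [Nat.card_congr (Subgroup.subgroupOfEquivOfLe hNK.le).toEquiv] at hd),
      fun p hp hd => hCA p hp (hidx ▸ hd)⟩)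
  -- `H` is `C`
  let f : H →* G ⧸ N := ((QuotientGroup.mk' N).comp K.subtype).comp H.subtype
  have hfinj : Function.Injective f := by
    rw [injective_iff_map_eq_one]
    intro x hx
    have h1 : (x : K) ∈ N.subgroupOf K ⊓ H :=
      ⟨Subgroup.mem_subgroupOf.2 ((QuotientGroup.eq_one_iff _).1 hx), x.2⟩
    rw [hHc.disjoint.eq_bot, Subgroup.mem_bot] at h1
    exact Subtype.ext h1
  have hfC : f.range = C := by
    refine Subgroup.eq_of_le_of_card_ge ?_ ?_
    · rintro _ ⟨x, rfl⟩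
      exact (x : K).2
    · rw [← hidx, hHc.symm.index_eq_card, ← Nat.card_congr (MonoidHom.ofInjective hfinj).toEquiv]
  let e : H ≃* C := (MonoidHom.ofInjective hfinj).trans (MulEquiv.subgroupCongr hfC)
  haveI hHnil : Group.IsNilpotent H := Group.nilpotent_of_mulEquiv e.symm
  haveI : (N.subgroupOf K).Normal := inferInstance
  haveI : Nontrivial (N.subgroupOf K) := (Subgroup.nontrivial_iff_ne_bot _).2
    (CfsgLib.Frobenius.kernel_ne_bot hH hHker.symm)
  have hfpf := CfsgLib.Frobenius.FPF.conj_fpf hH hHker.symm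
  have hodd : ¬ 2 ∣ Nat.card H := by
    intro h2
    haveI := Fact.mk Nat.prime_two
    obtain ⟨z, hz⟩ := exists_prime_orderOf_dvd_card' 2 h2
    have hzz : z * z = 1 := by rw [← pow_two, ← hz]; exact pow_orderOf_eq_one z
    have hz1 : z ≠ 1 := fun h => by rw [h, orderOf_one] at hz; norm_num at hz
    haveI := Fact.mk ha
    obtain ⟨r, hr⟩ := exists_prime_orderOf_dvd_card' a (show a ∣ Nat.card (G ⧸ N) from
      N.index_eq_card ▸ haN)
    let z' : C := e z
    let w : C := ⟨r * z' * r⁻¹, hCn.conj_mem _ z'.2 r⟩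
    have hww : w * w = 1 := Subtype.ext (by
      show r * (z' : G ⧸ N) * r⁻¹ * (r * z' * r⁻¹) = 1
      rw [show r * (z' : G ⧸ N) * r⁻¹ * (r * z' * r⁻¹) = r * (((z' * z' : C)) : G ⧸ N) * r⁻¹ by
        push_cast; group, ← map_mul, hzz, map_one]
      simp)
    have hw1 : w ≠ 1 := fun h => hz1 (e.injective (Subtype.ext (by
      have h' : r * (z' : G ⧸ N) * r⁻¹ = 1 := congrArg Subtype.val h
      rw [mul_inv_eq_one, mul_eq_left] at h'
      rw [map_one]; exact h')))
    have huniq := CfsgLib.Frobenius.FPF.involution_unique hfpf (a := z) (b := e.symm w) hz1 hzz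
      (fun h => hw1 (by rw [← e.apply_symm_apply w, h, map_one]))
      (by rw [← map_mul, hww, map_one])
    have hcomm : Commute r (z' : G ⧸ N) := by
      have h' : r * (z' : G ⧸ N) * r⁻¹ = z' := by
        have := congrArg e huniq
        rw [e.apply_symm_apply] at this
        exact (congrArg Subtype.val this).symm
      exact mul_inv_eq_iff_eq_mul.1 h'
    have hz'o : orderOf (z' : G ⧸ N) = 2 := by
      rw [Subgroup.orderOf_coe, MulEquiv.orderOf_eq, hz]
    refine hsQ.not_commute hcomm ha Nat.prime_two haA ?_ hr hz'o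
    refine hCA 2 Nat.prime_two ?_
    rwa [← Nat.card_congr e.toEquiv]
  haveI hCcyc : IsCyclic C := by
    haveI := CfsgLib.TwoFrobenius.isCyclic_of_nilpotent_odd hH hodd
    exact isCyclic_of_surjective e e.surjective
  -- the quotient by `C` is abelian
  have hcomm : ∀ x y : G ⧸ N, ⁅x, y⁆ ∈ C := by
    suffices h : ∀ x y : G ⧸ N, (y * x)⁻¹ * (x * y) ∈ C by
      intro x y
      convert h x⁻¹ y⁻¹ using 1
      rw [commutatorElement_def]; group
    intro x y
    refine CfsgLib.Constrained.centralizer_fitting_le ?_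
    obtain ⟨c, hc⟩ := IsCyclic.exists_generator (α := C)
    rw [Subgroup.mem_centralizer_iff]
    intro d hd
    obtain ⟨k, hk⟩ := hc ⟨d, hd⟩
    obtain ⟨m, hm⟩ := hc ⟨x * c * x⁻¹, hCn.conj_mem _ c.2 x⟩
    obtain ⟨n, hn⟩ := hc ⟨y * c * y⁻¹, hCn.conj_mem _ c.2 y⟩
    have hm' : MulAut.conj x (c : G ⧸ N) = (c : G ⧸ N) ^ m := by
      rw [MulAut.conj_apply, ← Subgroup.coe_zpow]
      exact (congrArg Subtype.val hm).symm
    have hn' : MulAut.conj y (c : G ⧸ N) = (c : G ⧸ N) ^ n := by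
      rw [MulAut.conj_apply, ← Subgroup.coe_zpow]
      exact (congrArg Subtype.val hn).symm
    have h1 : MulAut.conj (x * y) (c : G ⧸ N) = MulAut.conj (y * x) (c : G ⧸ N) := by
      rw [map_mul, map_mul, MulAut.mul_apply, MulAut.mul_apply, hn', hm', map_zpow, map_zpow, hm',
        hn', ← zpow_mul, ← zpow_mul, mul_comm]
    simp only [MulAut.conj_apply] at h1
    have h2 : Commute (c : G ⧸ N) ((y * x)⁻¹ * (x * y)) := by
      show (c : G ⧸ N) * ((y * x)⁻¹ * (x * y)) = (y * x)⁻¹ * (x * y) * c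
      calc (c : G ⧸ N) * ((y * x)⁻¹ * (x * y))
          = (y * x)⁻¹ * (y * x * c * (y * x)⁻¹) * (x * y) := by group
        _ = (y * x)⁻¹ * (x * y * c * (x * y)⁻¹) * (x * y) := by rw [h1]
        _ = _ := by group
    have hd' : d = (c : G ⧸ N) ^ k := by
      rw [← Subgroup.coe_zpow]
      exact (congrArg Subtype.val hk).symm
    rw [hd']
    exact (h2.zpow_left k).eq
  have hB : ∀ p : ℕ, p.Prime → p ∣ C.index → p ∈ A := by
    intro p hp hd
    by_contra hpA
    haveI := Fact.mk hp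
    haveI := Fact.mk ha
    have had : a ∣ Nat.card ((G ⧸ N) ⧸ C) := by
      have h1 : a ∣ Nat.card C * C.index := by
        rw [Subgroup.card_mul_index, ← Subgroup.index_eq_card]; exact haN
      rw [← Subgroup.index_eq_card]
      exact (ha.dvd_mul.1 h1).resolve_left haC
    obtain ⟨x, hx⟩ := exists_prime_orderOf_dvd_card' a had
    obtain ⟨y, hy⟩ := exists_prime_orderOf_dvd_card' p (show p ∣ Nat.card ((G ⧸ N) ⧸ C) from
      C.index_eq_card ▸ hd)
    have hc : Commute x y := by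
      obtain ⟨x, rfl⟩ := QuotientGroup.mk'_surjective C x
      obtain ⟨y, rfl⟩ := QuotientGroup.mk'_surjective C y
      rw [← commutatorElement_eq_one_iff_commute, ← map_commutatorElement]
      exact (QuotientGroup.eq_one_iff _).2 (hcomm x y)
    exact (hsQ.quotient C).not_commute hc ha hp haA hpA hx hy
  have hC2 : C ≠ ⊤ := fun h => haC (by
    rw [h, Subgroup.card_top, ← Subgroup.index_eq_card]; exact haN)
  obtain ⟨D, hD, hDker, -⟩ := exists_frobenius hsQ C hCne hC2 (Or.inr ⟨hCA, hB⟩)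
  exact ⟨N, K, hNn, hCn.comap _, hNK, ⟨H, hH, hHker⟩, D, hD, by rw [hmap]; exact hDker⟩

/-- A finite solvable group whose prime graph (prime divisors of the order, two distinct primes joined when there is an element of order their product) is disconnected is a Frobenius group or a 2-Frobenius group (it has normal subgroups H < K with K a Frobenius group with kernel H and G/H a Frobenius group with kernel K/H). -/
theorem result {G : Type*} [Group G] [Finite G] (hsol : Group.IsSolvable G)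
    (hdisc : (∃ A : Set ℕ, (∃ a ∈ A, a.Prime ∧ a ∣ Nat.card G) ∧ (∃ b ∉ A, b.Prime ∧ b ∣ Nat.card G) ∧
      ∀ a ∈ A, ∀ b ∉ A, a.Prime → b.Prime → a ∣ Nat.card G → b ∣ Nat.card G → ¬ ∃ g : G, orderOf g = a * b)) :
    (∃ C : Subgroup G, Cfsg.IsFrobeniusComplement C) ∨
    (∃ (H K : Subgroup G) (_ : H.Normal), K.Normal ∧ H < K ∧
      (∃ C : Subgroup ↥K, Cfsg.IsFrobeniusComplement C ∧ Cfsg.frobeniusKernel C = (H.subgroupOf K : Set ↥K)) ∧
      (∃ C : Subgroup (G ⧸ H), Cfsg.IsFrobeniusComplement C ∧ Cfsg.frobeniusKernel C = (K.map (QuotientGroup.mk' H) : Set (G ⧸ H)))) := by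

  obtain ⟨A, ⟨a, haA, ha, haG⟩, ⟨b, hbA, hb, hbG⟩, hsep⟩ := hdisc
  haveI := hsol
  have hs : Sep A G := fun p q hp hq hpA hqA g hg =>
    hsep p hpA q hqA hp hq ((dvd_mul_right p q).trans (hg ▸ orderOf_dvd_natCard g))
      ((dvd_mul_left q p).trans (hg ▸ orderOf_dvd_natCard g)) ⟨g, hg⟩
  haveI : Nontrivial G := Finite.one_lt_card_iff_nontrivial.1
    (lt_of_lt_of_le ha.one_lt (Nat.le_of_dvd Nat.card_pos haG))
  have hF : Cfsg.fittingSubgroup G ≠ ⊥ := CfsgLib.Constrained.fitting_ne_bot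
  obtain ⟨r, hr, hrF⟩ := Nat.exists_prime_and_dvd (mt Subgroup.card_eq_one.1 hF)
  by_cases hrA : r ∈ A
  · exact main A hs hb hbA hbG hr hrA hrF
  · refine main Aᶜ (fun p q hp hq hpA hqA g hg => ?_) ha (by simpa using haA) haG hr hrA hrF
    exact hs q p hq hp (by simpa using hqA) hpA g (by rw [hg, mul_comm])

end Cfsg.Agent.S3857
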