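import Cfsg.Statements.S3868
import Cfsg.Agent.Eq.Def_LocalStructure
import Cfsg.Agent.Eq.Def_Transfer
import Cfsg.Agent.MinNonClosed.Common
import Cfsg.Agent.MinNonClosed.Structure

set_option autoImplicit false
open Cfsg

namespace Cfsg.Agent.S3868

open CfsgLib.MinNonClosed

/-- Structure of the non-simple minimal non-p-closed groups. Call a finite group p-closed when its Sylow p-subgroups are normal, and minimal non-p-closed when it is not p-closed but every proper subgroup and every proper quotient is. If such a group G is not simple, then there is a prime q ≠ p such that G has order p · q^e, where e is the multiplicative order of q modulo p, and G has a normal subgroup A of order q^e that is elementary abelian and is a minimal normal subgroup of G (so G is the semidirect product of A by a group of order p acting irreducibly). -/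
theorem result {G : Type*} [Group G] [Finite G] {p : ℕ} [Fact p.Prime]
    (hnc : ¬ Cfsg.IsPClosed p G) (hsub : ∀ H : Subgroup G, H ≠ ⊤ → Cfsg.IsPClosed p ↥H)
    (hquo : ∀ (N : Subgroup G) [N.Normal], N ≠ ⊥ → Cfsg.IsPClosed p (G ⧸ N)) (hns : ¬ IsSimpleGroup G) :
    ∃ q : ℕ, q.Prime ∧ q ≠ p ∧ Nat.card G = p * q ^ orderOf (q : ZMod p) ∧
      ∃ A : Subgroup G, A.Normal ∧ Nat.card ↥A = q ^ orderOf (q : ZMod p) ∧ Cfsg.IsElementaryAbelian q A ∧
        ∀ B : Subgroup G, B.Normal → B ≤ A → B = ⊥ ∨ B = A := by
  classical
  have hPnn : ∀ P : Sylow p G, ¬ (P : Subgroup G).Normal := by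
    intro P hP
    apply hnc
    intro Q
    haveI := hP
    have : (Q : Subgroup G) = P :=
      le_antisymm (le_of_isPGroup_of_normal_sylow Q.2 P hP)
        (le_of_eq (Q.3 P.2 (le_of_isPGroup_of_normal_sylow Q.2 P hP)))
    rw [this]; exact hP
  haveI : Nontrivial G := by
    by_contra h
    rw [not_nontrivial_iff_subsingleton] at h
    exact hPnn default ⟨fun x hx g => by rwa [Subsingleton.elim (g * x * g⁻¹) x]⟩
  obtain ⟨N, hN, hNb, hNt, hNmin⟩ := exists_minimal_normal hns
  haveI := hN
  have hsupn : ∀ K : Subgroup G, K.Normal → K ≠ ⊥ → ∀ P : Sylow p G,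
      ((P : Subgroup G) ⊔ K).Normal := by
    intro K hK hKb P
    have h := hquo K hKb (P.mapSurjective (QuotientGroup.mk'_surjective K))
    rw [Sylow.coe_mapSurjective] at h
    have h2 := h.comap (QuotientGroup.mk' K)
    rwa [Subgroup.comap_map_eq, QuotientGroup.ker_mk'] at h2
  have hpN : ¬ p ∣ Nat.card N := by
    intro hpd
    let Q : Sylow p N := default
    haveI : (Q : Subgroup N).Normal := hsub N hNt Q
    haveI : (Q : Subgroup N).Characteristic := Sylow.characteristic_of_normal Q ‹_›
    rcases hNmin _ inferInstance (Subgroup.map_subtype_le (Q : Subgroup N)) with h | h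
    · rw [Subgroup.map_eq_bot_iff_of_injective _ N.subtype_injective] at h
      exact Q.ne_bot_of_dvd_card hpd h
    · let P : Sylow p G := default
      have hNP : IsPGroup p N := h ▸ Q.2.map N.subtype
      have hle : N ≤ (P : Subgroup G) := by
        obtain ⟨T, hT⟩ := hNP.exists_le_sylow
        obtain ⟨g, hg⟩ := MulAction.exists_smul_eq G T P
        intro x hx
        have : g⁻¹ * x * g ∈ N := by simpa using hN.conj_mem x hx g⁻¹
        rw [← hg]
        exact ⟨g⁻¹ * x * g, hT this, by simp [mul_assoc]⟩
      have := hsupn N hN hNb P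
      rw [sup_eq_left.mpr hle] at this
      exact hPnn P this
  have hQ : IsPGroup p (G ⧸ N) := by
    let P : Sylow p G := default
    haveI hX := hsupn N hN hNb P
    have htop : (P : Subgroup G) ⊔ N = ⊤ := by
      by_contra hne
      apply hPnn P
      haveI hn := hsub _ hne (P.subtype le_sup_left)
      haveI : ((P.subtype le_sup_left : Sylow p ↥((P : Subgroup G) ⊔ N)) :
          Subgroup ↥((P : Subgroup G) ⊔ N)).Characteristic := Sylow.characteristic_of_normal _ hn
      have h : ((((P.subtype le_sup_left : Sylow p ↥((P : Subgroup G) ⊔ N)) :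
          Subgroup ↥((P : Subgroup G) ⊔ N))).map ((P : Subgroup G) ⊔ N).subtype).Normal :=
        inferInstance
      rwa [Sylow.coe_subtype, Subgroup.subgroupOf_map_subtype, inf_eq_left.mpr le_sup_left] at h
    refine P.2.of_surjective ((QuotientGroup.mk' N).comp (P : Subgroup G).subtype) fun z => ?_
    obtain ⟨g, rfl⟩ := QuotientGroup.mk'_surjective N z
    have hg : g ∈ (((P : Subgroup G) ⊔ N : Subgroup G) : Set G) := by rw [htop]; trivial
    rw [Subgroup.mul_normal] at hg
    obtain ⟨a, ha, b, hb, rfl⟩ := hg
    refine ⟨⟨a, ha⟩, ?_⟩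
    simp
    exact hb
  refine structure_of_minimal hpN hQ hNmin hNb hPnn (fun H R hH hRH hR x hx y hy hyH => ?_) hsupn
  let S : Sylow p H := default
  have hS := hsub H hH S
  refine commute_of_mem_normal_of_inter (S : Subgroup H) hS (fun z hz hzS => Subtype.ext
    (eq_one_of_mem_of_pgroup hpN (S.2.map H.subtype) hz ⟨z, hzS, rfl⟩)) (hRH hx) ?_ hy hyH
  exact le_of_isPGroup_of_normal_sylow
    (hR.comap_of_injective H.subtype H.subtype_injective) S hS
    (show (⟨x, hRH hx⟩ : H) ∈ R.comap H.subtype from hx)

end Cfsg.Agent.S3868
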