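import Cfsg.Statements.S3869
import Cfsg.Agent.Eq.Def_LocalStructure
import Cfsg.Agent.Eq.Def_Transfer
import Cfsg.Agent.MinNonClosed.Common
import Cfsg.Agent.MinNonClosed.Irreducible

set_option autoImplicit false
open Cfsg

namespace Cfsg.Agent.S3869

open CfsgLib.MinNonClosed

/-- Let p and q be distinct primes and G a finite non-abelian group with a normal elementary abelian q-subgroup A that is a minimal normal subgroup of G and has index p. Then A has order q^e with e the multiplicative order of q modulo p, and G is minimal non-p-closed: its Sylow p-subgroups are not normal, while in every proper subgroup and in every proper quotient of G the Sylow p-subgroups are normal. -/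
theorem result {G : Type*} [Group G] [Finite G] {p q : ℕ} [Fact p.Prime] (hq : q.Prime) (hpq : q ≠ p)
    (hna : ¬ IsMulCommutative G) (A : Subgroup G) [A.Normal] (hA : Cfsg.IsElementaryAbelian q A) (hidx : A.index = p)
    (hmin : ∀ B : Subgroup G, B.Normal → B ≤ A → B = ⊥ ∨ B = A) :
    Nat.card ↥A = q ^ orderOf (q : ZMod p) ∧ ¬ Cfsg.IsPClosed p G ∧ (∀ H : Subgroup G, H ≠ ⊤ → Cfsg.IsPClosed p ↥H) ∧
      ∀ (N : Subgroup G) [N.Normal], N ≠ ⊥ → Cfsg.IsPClosed p (G ⧸ N) := by
  classical
  have hp : p.Prime := Fact.out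
  have hcard := card_irreducible hq hpq hna A hA hidx hmin
  have hpA : ¬ p ∣ Nat.card A := by
    rw [hcard]
    exact fun h => hpq ((Nat.prime_dvd_prime_iff_eq hp hq).mp (hp.dvd_of_dvd_pow h)).symm
  have hexp : ∀ g : G, g ^ p ∈ A := fun g => hidx ▸ A.pow_index_mem g
  have hcent : ∀ x : G, x ∉ A → ¬ ∀ a ∈ A, x * a = a * x := by
    intro x hx hc
    apply hna
    have hgen := sup_zpowers_eq_top hidx hx
    have hcA : ∀ a ∈ A, ∀ b ∈ A, a * b = b * a := fun a ha b hb =>
      congrArg Subtype.val (hA.1.1.comm ⟨a, ha⟩ ⟨b, hb⟩)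
    have hxc : x ∈ Subgroup.center G := by
      rw [Subgroup.mem_center_iff]
      intro g
      have hg : g ∈ Subgroup.centralizer ({x} : Set G) := (sup_le
        (fun a ha => Subgroup.mem_centralizer_singleton_iff.mpr (hc a ha).symm)
        (Subgroup.zpowers_le.mpr (Subgroup.mem_centralizer_singleton_iff.mpr rfl)) :
          A ⊔ Subgroup.zpowers x ≤ Subgroup.centralizer ({x} : Set G)) (hgen ▸ Subgroup.mem_top g)
      exact Subgroup.mem_centralizer_singleton_iff.mp hg
    have hAc : A ≤ Subgroup.center G := by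
      intro b hb
      rw [Subgroup.mem_center_iff]
      intro g
      have hg : g ∈ Subgroup.centralizer ({b} : Set G) := (sup_le
        (fun a ha => Subgroup.mem_centralizer_singleton_iff.mpr (hcA a ha b hb))
        (Subgroup.zpowers_le.mpr (Subgroup.mem_centralizer_singleton_iff.mpr (hc b hb))) :
          A ⊔ Subgroup.zpowers x ≤ Subgroup.centralizer ({b} : Set G)) (hgen ▸ Subgroup.mem_top g)
      exact Subgroup.mem_centralizer_singleton_iff.mp hg
    exact ⟨⟨fun g h => Subgroup.mem_center_iff.mp
      ((sup_le hAc (Subgroup.zpowers_le.mpr hxc) : A ⊔ Subgroup.zpowers x ≤ Subgroup.center G)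
        (hgen ▸ Subgroup.mem_top h)) g⟩⟩
  refine ⟨hcard, fun hc => ?_, fun H hH => ?_, fun N hN hNb => ?_⟩
  · let P : Sylow p G := default
    haveI := hc P
    obtain ⟨x, hxP, hxA⟩ : ∃ x ∈ (P : Subgroup G), x ∉ A := by
      by_contra h
      push_neg at h
      have h1 : (P : Subgroup G) = ⊥ :=
        (Subgroup.eq_bot_iff_forall _).mpr fun x hx => eq_one_of_mem_of_pgroup hpA P.2 (h x hx) hx
      exact P.ne_bot_of_dvd_card (hidx ▸ A.index_dvd_card) h1
    refine hcent x hxA fun a ha => ?_
    exact (Subgroup.commute_of_normal_of_disjoint (P : Subgroup G) A ‹_› ‹_›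
      (disjoint_iff_inf_le.mpr fun z hz => eq_one_of_mem_of_pgroup hpA P.2 hz.2 hz.1)
      x a hxP ha).eq
  · intro S
    by_cases hHA : H ≤ A
    · have : (S : Subgroup H) = ⊥ := (Subgroup.eq_bot_iff_forall _).mpr fun z hz => Subtype.ext
        (eq_one_of_mem_of_pgroup hpA (S.2.map H.subtype) (hHA z.2) ⟨z, hz, rfl⟩)
      rw [this]; infer_instance
    · obtain ⟨u, huH, huA⟩ := SetLike.not_le_iff_exists.mp hHA
      have hgen := sup_zpowers_eq_top hidx huA
      have hBn : (H ⊓ A).Normal := by
        refine normal_of_mem_normalizer hgen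
          (le_normalizer_of_le_commutative hA.1 inf_le_right) ?_
        rw [Subgroup.mem_normalizer_iff]
        intro b
        constructor
        · exact fun hb => ⟨H.mul_mem (H.mul_mem huH hb.1) (H.inv_mem huH),
            ‹A.Normal›.conj_mem b hb.2 u⟩
        · intro hb
          have e : u⁻¹ * (u * b * u⁻¹) * u = b := by group
          exact ⟨e ▸ H.mul_mem (H.mul_mem (H.inv_mem huH) hb.1) huH,
            e ▸ (by simpa using ‹A.Normal›.conj_mem _ hb.2 u⁻¹)⟩
      rcases hmin _ hBn inf_le_right with h | h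
      · have hHp : IsPGroup p H := fun z => ⟨1, Subtype.ext (by
          have : (z : G) ^ p ∈ H ⊓ A := ⟨H.pow_mem z.2 p, hexp _⟩
          rw [h, Subgroup.mem_bot] at this
          show (z : G) ^ p ^ 1 = 1
          rwa [pow_one])⟩
        have : (S : Subgroup H) = ⊤ :=
          (S.3 (hHp.to_subgroup ⊤) le_top).symm
        rw [this]; infer_instance
      · exact absurd (top_le_iff.mp (hgen ▸ sup_le (h.ge.trans inf_le_left)
          (Subgroup.zpowers_le.mpr huH))) hH
  · intro S
    have hAN : A ≤ N := by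
      rcases hmin (N ⊓ A) inferInstance inf_le_right with h | h
      · exfalso
        obtain ⟨x, hxN, hx1⟩ : ∃ x ∈ N, x ≠ 1 := by
          by_contra hc
          push_neg at hc
          exact hNb ((Subgroup.eq_bot_iff_forall _).mpr hc)
        have hxA : x ∉ A := fun hx => hx1 (by
          have : x ∈ N ⊓ A := ⟨hxN, hx⟩
          rwa [h, Subgroup.mem_bot] at this)
        exact hcent x hxA fun a ha => (Subgroup.commute_of_normal_of_disjoint N A hN ‹_›
          (disjoint_iff.mpr h) x a hxN ha).eq
      · exact h.ge.trans inf_le_left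
    have hp' : IsPGroup p (G ⧸ N) := fun z => ⟨1, by
      obtain ⟨g, rfl⟩ := QuotientGroup.mk'_surjective N z
      rw [pow_one, ← map_pow]
      exact (QuotientGroup.eq_one_iff _).mpr (hAN (hexp g))⟩
    rw [(S.3 (hp'.to_subgroup ⊤) le_top).symm]
    infer_instance

end Cfsg.Agent.S3869
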