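import Cfsg.Statements.S3870
import Cfsg.Agent.Eq.Def_LocalStructure

set_option autoImplicit false
open Cfsg

namespace Cfsg.Agent.S3870

/-- Let G be a finite simple group whose Sylow p-subgroups are not normal but such that every proper subgroup of G has a normal Sylow p-subgroup. Then any two distinct Sylow p-subgroups of G intersect trivially, and for every Sylow p-subgroup P the normalizer of every non-identity subgroup of P lies in the normalizer of P. -/
theorem result {G : Type*} [Group G] [Finite G] [IsSimpleGroup G] {p : ℕ} [Fact p.Prime]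
    (hnc : ¬ Cfsg.IsPClosed p G) (hsub : ∀ H : Subgroup G, H ≠ ⊤ → Cfsg.IsPClosed p ↥H) :
    (∀ P Q : Sylow p G, P ≠ Q → (P : Subgroup G) ⊓ (Q : Subgroup G) = ⊥) ∧
      ∀ (P : Sylow p G) (R : Subgroup G), R ≤ P → R ≠ ⊥ →
        Subgroup.normalizer (R : Set G) ≤ Subgroup.normalizer ((P : Subgroup G) : Set G) := by
  have hnp : ¬ IsPGroup p G := fun hG => hnc fun P => by
    rw [show (P : Subgroup G) = ⊤ from (P.3 ((IsPGroup.of_injective hG (⊤ : Subgroup G).subtype
      Subtype.val_injective)) le_top).symm]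
    infer_instance
  have hnorm : ∀ R : Subgroup G, R ≠ ⊥ → IsPGroup p R → Subgroup.normalizer (R : Set G) ≠ ⊤ := by
    intro R hR hRp htop
    have := Subgroup.normalizer_eq_top_iff.mp htop
    rcases this.eq_bot_or_eq_top with h | h
    · exact hR h
    · exact hnp (h ▸ hRp |>.of_surjective (⊤ : Subgroup G).subtype
        (fun g => ⟨⟨g, Subgroup.mem_top g⟩, rfl⟩))
  have hTI : ∀ P Q : Sylow p G, P ≠ Q → (P : Subgroup G) ⊓ (Q : Subgroup G) = ⊥ := by
    by_contra hc
    push_neg at hc
    obtain ⟨P₀, Q₀, hne₀, hPQ₀⟩ := hc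
    obtain ⟨⟨P, Q⟩, ⟨hne, hbot⟩, hmax⟩ := Set.exists_max_image
      {x : Sylow p G × Sylow p G | x.1 ≠ x.2 ∧ (x.1 : Subgroup G) ⊓ x.2 ≠ ⊥}
      (fun x => Nat.card ↥((x.1 : Subgroup G) ⊓ x.2)) (Set.toFinite _) ⟨(P₀, Q₀), hne₀, hPQ₀⟩
    set D := (P : Subgroup G) ⊓ (Q : Subgroup G) with hD
    set L := Subgroup.normalizer (D : Set G) with hL
    have hLtop : L ≠ ⊤ := hnorm D hbot (P.2.to_le inf_le_left)
    let R : Sylow p L := default
    haveI := hsub L hLtop R
    haveI := Sylow.unique_of_normal R inferInstance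
    obtain ⟨S, hS⟩ := (R.2.map L.subtype).exists_le_sylow
    have hgrow : ∀ T : Sylow p G, D ≤ T → D ≠ T → L ⊓ T ≤ S ∧ D < L ⊓ T := by
      intro T hT hTne
      refine ⟨?_, ?_⟩
      · intro y hy
        obtain ⟨R', hR'⟩ := (T.2.comap_of_injective L.subtype Subtype.val_injective).exists_le_sylow
        rw [Subsingleton.elim R' R] at hR'
        exact hS ⟨⟨y, hy.1⟩, hR' hy.2, rfl⟩
      · refine lt_of_le_of_ne (le_inf Subgroup.le_normalizer hT) fun he => ?_
        have hlt : D.subgroupOf T < ⊤ := lt_top_iff_ne_top.mpr fun e =>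
          hTne (le_antisymm hT (Subgroup.subgroupOf_eq_top.mp e))
        have hgt := Group.normalizerCondition_of_isNilpotent (h := T.2.isNilpotent) _ hlt
        obtain ⟨y, hy, hyD⟩ := SetLike.exists_of_lt hgt
        apply hyD
        rw [Subgroup.mem_subgroupOf, he]
        refine ⟨?_, y.2⟩
        show (y : G) ∈ Subgroup.normalizer (D : Set G)
        rw [Subgroup.mem_normalizer_iff] at hy ⊢
        intro z
        constructor
        · intro hz
          exact (hy ⟨z, hT hz⟩).mp hz
        · intro hz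
          have hzT : z ∈ (T : Subgroup G) := by
            simpa [mul_assoc] using mul_mem (mul_mem (inv_mem y.2) (hT hz)) y.2
          exact (hy ⟨z, hzT⟩).mpr hz
    have hfin : ∀ T : Sylow p G, D ≤ T → D ≠ T → T = S := by
      intro T hT hTne
      by_contra hTS
      obtain ⟨h1, h2⟩ := hgrow T hT hTne
      have hle : L ⊓ T ≤ (T : Subgroup G) ⊓ S := le_inf inf_le_right h1
      have hlt := Set.ncard_lt_ncard (SetLike.coe_ssubset_coe.mpr (h2.trans_le hle))
        (Set.toFinite _)
      rw [← Nat.card_coe_set_eq, ← Nat.card_coe_set_eq] at hlt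
      refine absurd (hmax (T, S) ⟨hTS, ?_⟩) (not_le.mpr hlt)
      intro e
      exact not_lt_bot (e ▸ h2.trans_le hle)
    have hcardD : ∀ T : Sylow p G, D ≤ T → D = T → False := by
      intro T _ he
      have hPQ : (P : Subgroup G) = Q := by
        have e1 : (P : Subgroup G) = D := (Subgroup.eq_of_le_of_card_ge inf_le_left (le_of_eq (by
          rw [← hD, he, P.card_eq_multiplicity, T.card_eq_multiplicity]))).symm
        have e2 : (Q : Subgroup G) = D := (Subgroup.eq_of_le_of_card_ge inf_le_right (le_of_eq (by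
          rw [← hD, he, Q.card_eq_multiplicity, T.card_eq_multiplicity]))).symm
        rw [e1, e2]
      exact hne (Sylow.ext hPQ)
    exact hne ((hfin P inf_le_left (fun e => hcardD P inf_le_left e)).trans
      (hfin Q inf_le_right (fun e => hcardD Q inf_le_right e)).symm)
  refine ⟨hTI, fun P R hR hRne g hg => ?_⟩
  refine Sylow.smul_eq_iff_mem_normalizer.mp ?_
  by_contra hne
  have h := hTI (g • P) P hne
  apply hRne
  rw [eq_bot_iff, ← h]
  intro y hy
  refine ⟨⟨g⁻¹ * y * g, hR ?_, ?_⟩, hR hy⟩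
  · refine (Subgroup.mem_normalizer_iff.mp hg _).mpr ?_
    simpa [mul_assoc] using hy
  · show g * (g⁻¹ * y * g) * g⁻¹ = y
    group

end Cfsg.Agent.S3870
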