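import Cfsg.Statements.S3872
import Cfsg.Agent.S4209
import Cfsg.Agent.PGroup.Regular
import Cfsg.Agent.PGroup.Small
import Cfsg.Agent.Eq.Def_PLocal

set_option autoImplicit false
open Cfsg

namespace Cfsg.Agent.S3872


/-- Say that a finite group is p-exponent closed when its elements of order dividing p form a subgroup. Let G be a finite p-group that is not p-exponent closed, but all of whose proper subgroups and proper quotients are. Then G is generated by two elements, has nilpotency class at least p, has exponent p², has cyclic center, and has order at least p^(p+1). -/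
theorem result {G : Type*} [Group G] [Finite G] {p : ℕ} [Fact p.Prime] (hG : IsPGroup p G)
    (hnc : ¬ (∃ H : Subgroup G, (H : Set G) = {g : G | g ^ p = 1})) (hsub : ∀ K : Subgroup G, K ≠ ⊤ → (∃ H : Subgroup ↥K, (H : Set ↥K) = {g : ↥K | g ^ p = 1}))
    (hquo : ∀ (N : Subgroup G) [N.Normal], N ≠ ⊥ → (∃ H : Subgroup (G ⧸ N), (H : Set (G ⧸ N)) = {g : (G ⧸ N) | g ^ p = 1})) :
    (∃ x y : G, Subgroup.closure ({x, y} : Set G) = ⊤) ∧ (⊤ : Subgroup G).lowerCentralSeries (p - 1) ≠ ⊥ ∧
      Monoid.exponent G = p ^ 2 ∧ IsCyclic ↥(Subgroup.center G) ∧ p ^ (p + 1) ≤ Nat.card G := by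
  classical
  have hp : p.Prime := Fact.out
  obtain ⟨a, b, ha, hb, hab⟩ : ∃ a b : G, a ^ p = 1 ∧ b ^ p = 1 ∧ (a * b) ^ p ≠ 1 := by
    by_contra hcon
    push Not at hcon
    exact hnc ⟨{ carrier := {g | g ^ p = 1}
                 one_mem' := one_pow p
                 mul_mem' := fun {u v} hu hv => hcon u v hu hv
                 inv_mem' := fun {u} (hu : u ^ p = 1) => by
                   change (u⁻¹) ^ p = 1
                   rw [inv_pow, hu, inv_one] }, rfl⟩
  have hgen : Subgroup.closure ({a, b} : Set G) = ⊤ := by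
    by_contra hne
    obtain ⟨H, hH⟩ := hsub _ hne
    have hm : ∀ u : Subgroup.closure ({a, b} : Set G), (u : G) ^ p = 1 → u ∈ H := fun u hu => by
      rw [← SetLike.mem_coe, hH]
      exact Subtype.ext hu
    have h := mul_mem (hm ⟨a, Subgroup.subset_closure (by simp)⟩ ha)
      (hm ⟨b, Subgroup.subset_closure (by simp)⟩ hb)
    rw [← SetLike.mem_coe, hH] at h
    exact hab (congrArg Subtype.val h)
  have hclass : (⊤ : Subgroup G).lowerCentralSeries (p - 1) ≠ ⊥ := by
    intro hcl
    obtain ⟨H, -, hH⟩ := CfsgLib.PGroup.exists_characteristic_torsion 1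
      (Cfsg.Agent.S4209.result hG hcl)
    refine hnc ⟨H, ?_⟩
    rw [hH]
    simp
  haveI : Nontrivial G := ⟨(a * b) ^ p, 1, hab⟩
  -- `p`-th powers lie in every nontrivial normal subgroup
  have hquo' : ∀ (N : Subgroup G) [N.Normal], N ≠ ⊥ → ∀ g : G, g ^ p ∈ N := by
    intro N _ hN g
    obtain ⟨H, hH⟩ := hquo N hN
    have hm : ∀ u : G, u ^ p = 1 → (u : G ⧸ N) ∈ H := fun u hu => by
      rw [← SetLike.mem_coe, hH, Set.mem_setOf_eq, ← QuotientGroup.mk_pow, hu,
        QuotientGroup.mk_one]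
    have h2 : (Subgroup.closure ({a, b} : Set G)) ≤ H.comap (QuotientGroup.mk' N) := by
      rw [Subgroup.closure_le]
      rintro z (rfl | rfl)
      · exact hm _ ha
      · exact hm _ hb
    have h3 : (g : G ⧸ N) ∈ H := h2 (hgen ▸ Subgroup.mem_top g)
    rw [← SetLike.mem_coe, hH, Set.mem_setOf_eq, ← QuotientGroup.mk_pow,
      QuotientGroup.eq_one_iff] at h3
    exact h3
  have hzn : ∀ z ∈ Subgroup.center G, (Subgroup.zpowers z).Normal := fun z hz =>
    ⟨fun c hc g => by
      have hcz : c ∈ Subgroup.center G := (Subgroup.zpowers_le.2 hz) hc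
      rwa [Subgroup.mem_center_iff.1 hcz g, mul_inv_cancel_right]⟩
  haveI := hG.center_nontrivial
  obtain ⟨k, hk⟩ := IsPGroup.iff_card.1 (hG.to_subgroup (Subgroup.center G))
  have hk0 : k ≠ 0 := by
    rintro rfl
    rw [pow_zero, Subgroup.card_eq_one] at hk
    exact (Subgroup.nontrivial_iff_ne_bot _).1 this hk
  obtain ⟨z₀, hz₀⟩ := exists_prime_orderOf_dvd_card' p (hk ▸ dvd_pow_self p hk0)
  have hz₀' : orderOf (z₀ : G) = p := by rw [Subgroup.orderOf_coe, hz₀]
  have hne : Subgroup.zpowers (z₀ : G) ≠ ⊥ := fun h => by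
    rw [Subgroup.zpowers_eq_bot] at h
    rw [h, orderOf_one] at hz₀'
    exact hp.one_lt.ne hz₀'
  have hpow : ∀ g : G, g ^ p ∈ Subgroup.zpowers (z₀ : G) :=
    @hquo' _ (hzn _ z₀.2) hne
  have hp2 : ∀ g : G, g ^ p ^ 2 = 1 := by
    intro g
    rw [pow_two, pow_mul]
    refine orderOf_dvd_iff_pow_eq_one.1 ?_
    exact (orderOf_dvd_of_mem_zpowers (hpow g)).trans hz₀'.dvd
  have hexp : Monoid.exponent G = p ^ 2 := by
    obtain ⟨j, hj, hje⟩ := (Nat.dvd_prime_pow hp).1 (Monoid.exponent_dvd_of_forall_pow_eq_one hp2)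
    rw [hje]
    congr 1
    by_contra h
    refine hab ?_
    rw [← orderOf_dvd_iff_pow_eq_one]
    refine (Monoid.order_dvd_exponent _).trans ?_
    rw [hje]
    exact (pow_dvd_pow p (show j ≤ 1 by omega)).trans (by rw [pow_one])
  have huniq : ∀ z ∈ Subgroup.center G, z ^ p = 1 → z ∈ Subgroup.zpowers (z₀ : G) := by
    intro z hz hzp
    by_contra hz'
    have hz1 : z ≠ 1 := fun h => hz' (h ▸ one_mem _)
    have hzo : orderOf z = p := orderOf_eq_prime hzp hz1
    have h1 : (a * b) ^ p ∈ Subgroup.zpowers z :=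
      @hquo' _ (hzn _ hz) (by rw [Ne, Subgroup.zpowers_eq_bot]; exact hz1) (a * b)
    have h2 := hpow (a * b)
    have h3 : Subgroup.zpowers z ⊓ Subgroup.zpowers (z₀ : G) = ⊥ := by
      refine Subgroup.eq_bot_of_card_eq _ ?_
      rcases (Nat.dvd_prime hp).1 (hzo ▸ Nat.card_zpowers z ▸
        Subgroup.card_dvd_of_le (inf_le_left (b := Subgroup.zpowers (z₀ : G)))) with h | h
      · exact h
      · exfalso
        have h4 : Subgroup.zpowers z ⊓ Subgroup.zpowers (z₀ : G) = Subgroup.zpowers z :=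
          Subgroup.eq_of_le_of_card_ge inf_le_left (by rw [h, Nat.card_zpowers, hzo])
        exact hz' ((h4.ge (Subgroup.mem_zpowers z)).2)
    have h4 : (a * b) ^ p ∈ Subgroup.zpowers z ⊓ Subgroup.zpowers (z₀ : G) := ⟨h1, h2⟩
    rw [h3, Subgroup.mem_bot] at h4
    exact hab h4
  have hcyc : IsCyclic (Subgroup.center G) := by
    by_contra hnc'
    have hall : ∀ z ∈ Subgroup.center G, z ^ p = 1 := by
      intro z hz
      by_contra hz'
      have hzo : orderOf z = p ^ 2 := by
        obtain ⟨j, hj, hje⟩ := (Nat.dvd_prime_pow hp).1 (orderOf_dvd_of_pow_eq_one (hp2 z))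
        rw [hje]
        congr 1
        by_contra h
        refine hz' (orderOf_dvd_iff_pow_eq_one.1 ?_)
        rw [hje]
        exact (pow_dvd_pow p (show j ≤ 1 by omega)).trans (by rw [pow_one])
      refine hnc' ((Subgroup.isCyclic_iff_exists_zpowers_eq_top _).2 ⟨z, ?_⟩)
      refine le_antisymm (Subgroup.zpowers_le.2 hz) fun y hy => ?_
      -- `y^p` is a power of `z^p`
      have hzp : (z₀ : G) ∈ Subgroup.zpowers (z ^ p) := by
        have : Subgroup.zpowers (z ^ p) = Subgroup.zpowers (z₀ : G) :=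
          Subgroup.eq_of_le_of_card_ge (Subgroup.zpowers_le.2 (hpow z)) (by
            rw [Nat.card_zpowers, Nat.card_zpowers, hz₀', orderOf_pow' _ hp.ne_zero, hzo,
              Nat.gcd_eq_right (dvd_pow_self p two_ne_zero), pow_two, Nat.mul_div_cancel _ hp.pos])
        exact this.ge (Subgroup.mem_zpowers _)
      obtain ⟨i, hi⟩ := Subgroup.mem_zpowers_iff.1 ((Subgroup.zpowers_le.2 hzp) (hpow y))
      have hw : y * (z ^ i)⁻¹ ∈ Subgroup.zpowers (z₀ : G) := by
        refine huniq _ (mul_mem hy (inv_mem (zpow_mem hz i))) ?_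
        have hc : Commute y (z ^ i)⁻¹ := Subgroup.mem_center_iff.1 (inv_mem (zpow_mem hz i)) y
        rw [hc.mul_pow, inv_pow, ← hi, ← zpow_natCast (z ^ i) p, ← zpow_natCast z p, ← zpow_mul,
          ← zpow_mul, mul_comm, mul_inv_cancel]
      have hw' : y * (z ^ i)⁻¹ ∈ Subgroup.zpowers z :=
        (Subgroup.zpowers_le.2 (Subgroup.zpowers_le.2
          (Subgroup.npow_mem_zpowers z p) hzp)) hw
      have := mul_mem hw' (zpow_mem (Subgroup.mem_zpowers z) i)
      rwa [inv_mul_cancel_right] at this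
    refine hnc' ((Subgroup.isCyclic_iff_exists_zpowers_eq_top _).2 ⟨(z₀ : G), ?_⟩)
    exact le_antisymm (Subgroup.zpowers_le.2 z₀.2) fun y hy => huniq y hy (hall y hy)
  refine ⟨⟨a, b, hgen⟩, hclass, hexp, hcyc, ?_⟩
  obtain ⟨n, hn⟩ := IsPGroup.iff_card.1 hG
  rw [hn]
  refine Nat.pow_le_pow_right hp.pos ?_
  by_contra hlt
  refine hclass (Subgroup.eq_bot_of_card_le _ ?_)
  have h2 := hp.two_le
  have := CfsgLib.PGroup.card_lowerCentralSeries_le hn (p - 2)
  rw [show p - 2 + 1 = p - 1 by omega, show n - (p - 2 + 2) = 0 by omega, pow_zero] at this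
  exact this

end Cfsg.Agent.S3872
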