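import Cfsg.Statements.S3873
import Cfsg.Agent.Eq.Def_Transfer
import Cfsg.Agent.MinNonClosed.Common
import Cfsg.Agent.MinNonClosed.Structure

set_option autoImplicit false
open Cfsg

namespace Cfsg.Agent.S3873

open CfsgLib.MinNonClosed

/-- Say that a finite group is p-exponent closed when its elements of order dividing p form a subgroup. Let G be a finite group that is not p-exponent closed, but all of whose proper subgroups and proper quotients are, and suppose G is neither simple nor a p-group. Then there is a prime q ≠ p such that G has order p · q^e, where e is the multiplicative order of q modulo p, and G has a normal elementary abelian subgroup of order q^e that is a minimal normal subgroup of G. -/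
theorem result {G : Type*} [Group G] [Finite G] {p : ℕ} [Fact p.Prime]
    (hnc : ¬ (∃ H : Subgroup G, (H : Set G) = {g : G | g ^ p = 1})) (hsub : ∀ K : Subgroup G, K ≠ ⊤ → (∃ H : Subgroup ↥K, (H : Set ↥K) = {g : ↥K | g ^ p = 1}))
    (hquo : ∀ (N : Subgroup G) [N.Normal], N ≠ ⊥ → (∃ H : Subgroup (G ⧸ N), (H : Set (G ⧸ N)) = {g : (G ⧸ N) | g ^ p = 1}))
    (hns : ¬ IsSimpleGroup G) (hnp : ¬ IsPGroup p G) :
    ∃ q : ℕ, q.Prime ∧ q ≠ p ∧ Nat.card G = p * q ^ orderOf (q : ZMod p) ∧
      ∃ A : Subgroup G, A.Normal ∧ Nat.card ↥A = q ^ orderOf (q : ZMod p) ∧ Cfsg.IsElementaryAbelian q A ∧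
        ∀ B : Subgroup G, B.Normal → B ≤ A → B = ⊥ ∨ B = A := by
  classical
  haveI : Nontrivial G := by
    by_contra h
    rw [not_nontrivial_iff_subsingleton] at h
    exact hnp fun g => ⟨0, Subsingleton.elim _ _⟩
  obtain ⟨N, hN, hNb, hNt, hNmin⟩ := exists_minimal_normal hns
  haveI := hN
  have hexp : ∀ g : G, g ^ p ∈ N := by
    obtain ⟨L, hL⟩ := hquo N hNb
    have hK : L.comap (QuotientGroup.mk' N) = ⊤ := by
      by_contra hne
      obtain ⟨W, hW⟩ := hsub _ hne
      apply hnc
      refine ⟨W.map (L.comap (QuotientGroup.mk' N)).subtype, Set.ext fun g => ⟨?_, fun hg => ?_⟩⟩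
      · rintro ⟨w, hw, rfl⟩
        rw [hW] at hw
        exact congrArg Subtype.val hw
      · have hgK : g ∈ L.comap (QuotientGroup.mk' N) := by
          show (QuotientGroup.mk' N g) ∈ (L : Set (G ⧸ N))
          rw [hL]
          show (QuotientGroup.mk' N g) ^ p = 1
          rw [← map_pow, show g ^ p = 1 from hg, map_one]
        exact ⟨⟨g, hgK⟩, by rw [hW]; exact Subtype.ext hg, rfl⟩
    intro g
    have : (QuotientGroup.mk' N g) ∈ (L : Set (G ⧸ N)) :=
      show g ∈ L.comap (QuotientGroup.mk' N) from hK.ge (Subgroup.mem_top g)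
    rw [hL] at this
    rw [← QuotientGroup.eq_one_iff]
    exact this
  have hpN : ¬ p ∣ Nat.card N := by
    intro hpd
    obtain ⟨W, hW⟩ := hsub N hNt
    have hWn : (W.map N.subtype).Normal := by
      refine ⟨?_⟩
      rintro _ ⟨w, hw, rfl⟩ c
      rw [hW] at hw
      refine ⟨⟨c * w * c⁻¹, hN.conj_mem _ w.2 c⟩, ?_, rfl⟩
      rw [hW]
      apply Subtype.ext
      show (c * w * c⁻¹) ^ p = 1
      rw [conj_pow, show (w : G) ^ p = 1 from congrArg Subtype.val hw, mul_one, mul_inv_cancel]
    rcases hNmin _ hWn (Subgroup.map_subtype_le W) with h | h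
    · obtain ⟨a, ha⟩ := exists_prime_orderOf_dvd_card' p hpd
      have : a ∈ (W : Set N) := by
        rw [hW]; show a ^ p = 1; rw [← ha]; exact pow_orderOf_eq_one a
      have h2 : (a : G) ∈ W.map N.subtype := ⟨a, this, rfl⟩
      rw [h, Subgroup.mem_bot] at h2
      rw [show a = 1 from Subtype.ext h2, orderOf_one] at ha
      exact (Fact.out : p.Prime).one_lt.ne ha
    · apply hnp
      intro g
      obtain ⟨w, hw, hwe⟩ := (h.ge (hexp g) : g ^ p ∈ W.map N.subtype)
      rw [hW] at hw
      exact ⟨2, by rw [pow_two, pow_mul, ← hwe]; exact congrArg Subtype.val hw⟩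
  have hQ : IsPGroup p (G ⧸ N) := fun z => ⟨1, by
    obtain ⟨g, rfl⟩ := QuotientGroup.mk'_surjective N z
    rw [pow_one, ← map_pow]
    exact (QuotientGroup.eq_one_iff _).mpr (hexp g)⟩
  have hRexp : ∀ R : Subgroup G, IsPGroup p R → ∀ x ∈ R, x ^ p = 1 := fun R hR x hx =>
    eq_one_of_mem_of_pgroup hpN hR (hexp x) (R.pow_mem hx p)
  have hPnn : ∀ P : Sylow p G, ¬ (P : Subgroup G).Normal := by
    intro P hP
    apply hnc
    refine ⟨P, Set.ext fun g => ⟨hRexp _ P.2 g, fun hg => ?_⟩⟩
    refine le_of_isPGroup_of_normal_sylow (R := Subgroup.zpowers g) ?_ P hP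
      (Subgroup.mem_zpowers g)
    intro z
    obtain ⟨i, hi⟩ := z.2
    refine ⟨1, Subtype.ext ?_⟩
    show (z : G) ^ p ^ 1 = 1
    rw [pow_one, ← hi, ← zpow_natCast, ← zpow_mul, mul_comm, zpow_mul, zpow_natCast,
      show g ^ p = 1 from hg, one_zpow]
  refine structure_of_minimal hpN hQ hNmin hNb hPnn (fun H R hH hRH hR x hx y hy hyH => ?_) ?_
  · obtain ⟨L, hL⟩ := hsub H hH
    have hLn : L.Normal := ⟨fun z hz c => by
      have hz' : z ^ p = 1 := by have := (SetLike.mem_coe.mpr hz); rwa [hL] at this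
      rw [← SetLike.mem_coe, hL]
      show (c * z * c⁻¹) ^ p = 1
      rw [conj_pow, hz', mul_one, mul_inv_cancel]⟩
    refine commute_of_mem_normal_of_inter L hLn (fun z hzN hzL => ?_) (hRH hx) ?_ hy hyH
    · have hz' : z ^ p = 1 := by have := (SetLike.mem_coe.mpr hzL); rwa [hL] at this
      apply Subtype.ext
      refine orderOf_eq_one_iff.mp ?_
      rcases (Fact.out : p.Prime).eq_one_or_self_of_dvd _
        (orderOf_dvd_of_pow_eq_one (show (z : G) ^ p = 1 from congrArg Subtype.val hz')) with h | h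
      · exact h
      · refine absurd ?_ hpN
        rw [← h, show orderOf (z : G) = orderOf (⟨(z : G), hzN⟩ : N) from
          (Subgroup.orderOf_coe (⟨(z : G), hzN⟩ : N))]
        exact orderOf_dvd_natCard _
    · rw [← SetLike.mem_coe, hL]
      exact Subtype.ext (hRexp R hR x hx)
  · intro K hK hKb P
    obtain ⟨L, hL⟩ := hquo K hKb
    have hLn : L.Normal := ⟨fun z hz c => by
      have hz' : z ^ p = 1 := by have := (SetLike.mem_coe.mpr hz); rwa [hL] at this
      rw [← SetLike.mem_coe, hL]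
      show (c * z * c⁻¹) ^ p = 1
      rw [conj_pow, hz', mul_one, mul_inv_cancel]⟩
    have hLp : IsPGroup p L := fun z => ⟨1, Subtype.ext (by
      have := (SetLike.mem_coe.mpr z.2); rw [hL] at this
      show (z : G ⧸ K) ^ p ^ 1 = 1
      rwa [pow_one])⟩
    let P' := P.mapSurjective (QuotientGroup.mk'_surjective K)
    have hP' : (P' : Subgroup (G ⧸ K)) = L := by
      refine (P'.3 hLp fun z hz => ?_).symm
      change z ∈ ((P' : Subgroup (G ⧸ K))) at hz
      rw [Sylow.coe_mapSurjective] at hz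
      obtain ⟨g, hg, rfl⟩ := hz
      rw [← SetLike.mem_coe, hL]
      show (QuotientGroup.mk' K g) ^ p = 1
      rw [← map_pow, hRexp _ P.2 g hg, map_one]
    have h2 := (hP'.symm ▸ hLn : (P' : Subgroup (G ⧸ K)).Normal).comap (QuotientGroup.mk' K)
    rwa [Sylow.coe_mapSurjective, Subgroup.comap_map_eq, QuotientGroup.ker_mk'] at h2

end Cfsg.Agent.S3873
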