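import Cfsg.Statements.S3875
import Cfsg.Agent.LeastNonClosed.Simple
import Cfsg.Agent.Coprime44.InvariantSylow
import Cfsg.Agent.SylowToolkit.Faithful
import Cfsg.Agent.SL2.Basic
import Cfsg.Agent.Classical.Linear.Simple
import Mathlib

set_option autoImplicit false
open Cfsg

namespace Cfsg.Agent.S3875

open Subgroup CfsgLib.SylowToolkit

variable {p : ℕ} [hp : Fact p.Prime]

/-- The number of Sylow subgroups of a group which is not `p`-closed. -/
theorem succ_le_card_sylow {H : Type} [Group H] [Finite H] (h : ¬ IsPClosed p H) :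
    p + 1 ≤ Nat.card (Sylow p H) := by
  have h1 : Nat.card (Sylow p H) ≠ 1 := fun e => h fun P => sylow_normal_of_card_eq_one e P
  have h2 : Nat.card (Sylow p H) % p = 1 := card_sylow_mod
  have h3 := Nat.div_add_mod (Nat.card (Sylow p H)) p
  rw [h2] at h3
  have h4 : Nat.card (Sylow p H) / p ≠ 0 := fun e => by rw [e] at h3; omega
  have : p * 1 ≤ p * (Nat.card (Sylow p H) / p) := Nat.mul_le_mul_left p (Nat.pos_of_ne_zero h4)
  omega

/-- A Sylow subgroup that centralizes is trivial on a normal `p'`-subgroup. -/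
theorem exists_primePow_le {H : Type} [Group H] [Finite H] (P : Sylow p H)
    (hP : ¬ (P : Subgroup H).Normal) (N : Subgroup H) [N.Normal] (hpN : ¬ p ∣ Nat.card N)
    (htop : (P : Subgroup H) ⊔ N = ⊤) :
    ∃ k : ℕ, IsPrimePow k ∧ k % p = 1 ∧ k ≤ Nat.card N := by
  classical
  set C := centralizer ((P : Subgroup H) : Set H) with hCdef
  have hnot : ¬ N ≤ C := by
    intro h
    refine hP (normalizer_eq_top_iff.mp (top_le_iff.mp ?_))
    rw [← htop]
    exact sup_le le_normalizer (h.trans (centralizer_le_normalizer _))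
  have hPN : (P : Subgroup H) ≤ normalizer (N : Set H) := by rw [normalizer_eq_top]; exact le_top
  obtain ⟨r, hr, hnd⟩ : ∃ r, r.Prime ∧ ¬ r ^ (Nat.card N).factorization r ∣ Nat.card (C.subgroupOf N) := by
    by_contra hcon
    push Not at hcon
    refine hnot (subgroupOf_eq_top.mp ((card_eq_iff_eq_top _).mp (Nat.dvd_antisymm
      (card_subgroup_dvd_card _) ?_)))
    refine (Nat.factorization_prime_le_iff_dvd Nat.card_pos.ne' Nat.card_pos.ne').mp fun r hr => ?_
    exact (hr.pow_dvd_iff_le_factorization Nat.card_pos.ne').mp (hcon r hr)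
  haveI := Fact.mk hr
  obtain ⟨S, hS⟩ := CfsgLib.Coprime44.exists_invariant_sylow P.isPGroup' hpN hPN r
  set R : Subgroup H := (S : Subgroup N).map N.subtype with hRdef
  have hcardR : Nat.card R = r ^ (Nat.card N).factorization r := by
    rw [hRdef, card_subtype, S.card_eq_multiplicity]
  have hRN : R ≤ N := map_subtype_le _
  let φ : (P : Subgroup H) →* MulAut R := R.normalizerMonoidHom.comp (inclusion hS)
  letI : MulAction (P : Subgroup H) R := MulAction.compHom R φ
  have hfix : Nat.card (MulAction.fixedPoints (P : Subgroup H) R) = Nat.card (R ⊓ C : Subgroup H) := by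
    refine Nat.card_congr
      { toFun := fun x => ⟨((x : R) : H), (x : R).2, fun y hy => ?_⟩
        invFun := fun x => ⟨⟨(x : H), x.2.1⟩, fun y => Subtype.ext ?_⟩
        left_inv := fun x => rfl
        right_inv := fun x => rfl }
    · have h1 : y * ((x : R) : H) * y⁻¹ = (x : R) := congrArg Subtype.val (x.2 ⟨y, hy⟩)
      exact mul_inv_eq_iff_eq_mul.mp h1
    · exact mul_inv_eq_iff_eq_mul.mpr (x.2.2 (y : H) y.2)
  have hmod := P.isPGroup'.card_modEq_card_fixedPoints R
  rw [hfix] at hmod
  obtain ⟨b, hb, hbR⟩ := (Nat.dvd_prime_pow hr).mp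
    (hcardR ▸ card_dvd_of_le (inf_le_left : R ⊓ C ≤ R))
  set a := (Nat.card N).factorization r
  have hlt : b < a := by
    refine lt_of_le_of_ne hb fun e => hnd ?_
    have hle : R ≤ C := by
      have := eq_of_le_of_card_ge (inf_le_left : R ⊓ C ≤ R) (by rw [hbR, hcardR, e])
      exact this ▸ inf_le_right
    rw [← hcardR, ← Nat.card_congr (subgroupOfEquivOfLe hRN).toEquiv]
    exact card_dvd_of_le (fun x hx => hle hx)
  have hrp : ¬ p ∣ r := fun h => hpN (h.trans (by
    rw [← pow_one r]
    exact (pow_dvd_pow r (show 1 ≤ a by omega)).trans (Nat.ordProj_dvd _ _)))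
  refine ⟨r ^ (a - b), (isPrimePow_nat_iff _).mpr ⟨r, a - b, hr, by omega, rfl⟩ , ?_, ?_⟩
  · have h1 : r ^ b * r ^ (a - b) ≡ r ^ b * 1 [MOD p] := by
      rw [mul_one, ← pow_add, show b + (a - b) = a by omega, ← hcardR, ← hbR]
      exact hmod
    have h2 := Nat.ModEq.cancel_left_of_coprime
      ((hp.out.coprime_iff_not_dvd.mpr fun h => hrp (hp.out.dvd_of_dvd_pow h)).gcd_eq_one) h1
    rw [Nat.ModEq, Nat.mod_eq_of_lt hp.out.one_lt] at h2
    exact h2
  · exact (Nat.pow_le_pow_right hr.pos (Nat.sub_le a b)).trans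
      (Nat.le_of_dvd Nat.card_pos (Nat.ordProj_dvd _ _))

/-- The lower bound. -/
theorem card_ge (hp2 : p ≠ 2) {m : ℕ} (hleast : ∀ k : ℕ, IsPrimePow k → k % p = 1 → m ≤ k) :
    ∀ (H : Type) [Group H] [Finite H], ¬ IsPClosed p H →
      min (p * m) (p * (p ^ 2 - 1) / 2) ≤ Nat.card H := by
  suffices h : ∀ N, ∀ (H : Type) [Group H] [Finite H], Nat.card H = N → ¬ IsPClosed p H →
      min (p * m) (p * (p ^ 2 - 1) / 2) ≤ Nat.card H from fun H _ _ => h _ H rfl
  intro N
  induction N using Nat.strong_induction_on with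
  | _ N IH =>
    intro H _ _ hN hcl
    subst hN
    have hn := succ_le_card_sylow hcl
    obtain ⟨P, hP⟩ : ∃ P : Sylow p H, ¬ (P : Subgroup H).Normal := by
      simpa [IsPClosed] using hcl
    have hmul := card_normalizer_mul P
    by_cases hp2' : p ^ 2 ∣ Nat.card (P : Subgroup H)
    · refine (min_le_right _ _).trans ((Nat.div_le_self _ _).trans ?_)
      rw [← hmul]
      have h1 : p ^ 2 * (p + 1) ≤ Nat.card (normalizer ((P : Subgroup H) : Set H)) * Nat.card (Sylow p H) :=
        Nat.mul_le_mul ((Nat.le_of_dvd Nat.card_pos hp2').trans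
          (Nat.le_of_dvd Nat.card_pos (card_dvd_of_le le_normalizer))) hn
      refine le_trans ?_ h1
      calc p * (p ^ 2 - 1) ≤ p * p ^ 2 := Nat.mul_le_mul_left p (Nat.sub_le _ _)
        _ ≤ p ^ 2 * (p + 1) := by
          rw [show p ^ 2 * (p + 1) = p * p ^ 2 + p ^ 2 by ring]; omega
    have hPcard : Nat.card (P : Subgroup H) = p := by
      obtain ⟨j, hj⟩ := P.isPGroup'.exists_card_eq
      rcases j with _ | _ | j
      · exact absurd (show (P : Subgroup H).Normal by
          rw [(card_eq_one.mp (by simpa using hj) : (P : Subgroup H) = ⊥)]; infer_instance) hP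
      · simpa using hj
      · exact absurd (hj ▸ pow_dvd_pow p (by omega : 2 ≤ j + 1 + 1)) hp2'
    have hpH : p ∣ Nat.card H := by
      have := card_subgroup_dvd_card (P : Subgroup H)
      rwa [hPcard] at this
    by_cases hM : ∃ M : Subgroup H, M.Normal ∧ M ≠ ⊤ ∧ p ∣ Nat.card M
    · obtain ⟨M, hMn, hMt, hpM⟩ := hM
      haveI := hMn
      have hidx : ¬ p ∣ M.index := by
        intro h
        have h1 : p ^ 2 ∣ Nat.card H := by
          rw [← M.card_mul_index, pow_two]; exact mul_dvd_mul hpM h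
        exact hp2' ((pow_dvd_pow p ((hp.out.pow_dvd_iff_le_factorization Nat.card_pos.ne').mp h1)).trans
          (P.card_eq_multiplicity ▸ dvd_rfl))
      have hMcl : ¬ IsPClosed p M := by
        intro h
        obtain ⟨Q⟩ := (inferInstance : Nonempty (Sylow p M))
        haveI := h Q
        haveI : Subsingleton (Sylow p M) := (Sylow.unique_of_normal Q (h Q)).instSubsingleton
        have h1 : Nat.card (Sylow p M) = 1 := Nat.card_eq_one_iff_unique.mpr ⟨inferInstance, inferInstance⟩
        have h2 := CfsgLib.SylowToolkit.card_sylow_normal M hidx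
        have := hp.out.two_le; omega
      have hlt : Nat.card M < Nat.card H := by
        refine lt_of_le_of_ne (card_le_card_group M) fun e => hMt (eq_top_of_card_eq M e)
      exact (IH _ hlt M rfl hMcl).trans hlt.le
    push Not at hM
    haveI : Nontrivial H := Finite.one_lt_card_iff_nontrivial.mp
      (lt_of_lt_of_le hp.out.one_lt (Nat.le_of_dvd Nat.card_pos hpH))
    by_cases hs : IsSimpleGroup H
    · have hc : ¬ IsMulCommutative H := fun h => hP (normal_of_isMulCommutative _)
      haveI := Fintype.ofFinite H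
      have := CfsgLib.LeastNonClosed.two_mul_card_ge hp2 hc P hPcard
      refine (min_le_right _ _).trans ?_
      omega
    obtain ⟨N, hNn, hNb, hNt⟩ : ∃ N : Subgroup H, N.Normal ∧ N ≠ ⊥ ∧ N ≠ ⊤ := by
      by_contra h
      exact hs ⟨fun N hN => or_iff_not_imp_left.mpr fun hb => by_contra fun ht => h ⟨N, hN, hb, ht⟩⟩
    haveI := hNn
    have hpN : ¬ p ∣ Nat.card N := hM N hNn hNt
    by_cases hq : IsPClosed p (H ⧸ N)
    · set π := QuotientGroup.mk' N
      have hπ := QuotientGroup.mk'_surjective N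
      have := hq (P.mapSurjective hπ)
      have hcm : ((P.mapSurjective hπ : Sylow p (H ⧸ N)) : Subgroup (H ⧸ N)).comap π = (P : Subgroup H) ⊔ N := by
        rw [Sylow.coe_mapSurjective, comap_map_eq, QuotientGroup.ker_mk']
      have hsup : ((P : Subgroup H) ⊔ N).Normal := hcm ▸ this.comap π
      have htop : (P : Subgroup H) ⊔ N = ⊤ := by
        by_contra h
        refine hM _ hsup h ?_
        have h1 := card_dvd_of_le (le_sup_left : (P : Subgroup H) ≤ (P : Subgroup H) ⊔ N)
        rwa [hPcard] at h1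
      obtain ⟨k, hk, hk1, hkN⟩ := exists_primePow_le P hP N hpN htop
      refine (min_le_left _ _).trans ?_
      have hidx : p ∣ N.index := by
        rcases hp.out.dvd_mul.mp (N.card_mul_index.symm ▸ hpH) with h | h
        · exact absurd h hpN
        · exact h
      calc p * m ≤ N.index * Nat.card N :=
          Nat.mul_le_mul (Nat.le_of_dvd (Nat.pos_of_ne_zero index_ne_zero_of_finite) hidx)
            ((hleast k hk hk1).trans hkN)
        _ = Nat.card H := by rw [mul_comm]; exact N.card_mul_index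
    · have hlt : Nat.card (H ⧸ N) < Nat.card H := by
        rw [← N.card_mul_index, index_eq_card]
        exact lt_mul_of_one_lt_left Nat.card_pos ((one_lt_card_iff_ne_bot _).mpr hNb)
      exact (IH _ hlt (H ⧸ N) rfl hq).trans hlt.le

/-- The affine example. -/
theorem exists_affine {m : ℕ} (hm : IsPrimePow m) (hm1 : m % p = 1) :
    ∃ (H : Type) (_ : Group H) (_ : Finite H), Nat.card H = p * m ∧ ¬ IsPClosed p H := by
  obtain ⟨q, k, hq, hk, rfl⟩ := (isPrimePow_nat_iff _).mp hm
  haveI := Fact.mk hq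
  let F := GaloisField q k
  haveI : Fintype F := Fintype.ofFinite F
  have hF : Nat.card F = q ^ k := GaloisField.card q k (by omega)
  haveI : Fintype Fˣ := Fintype.ofFinite _
  have hdvd : p ∣ Nat.card Fˣ := by
    rw [Nat.card_units, hF]
    exact ⟨q ^ k / p, by have := Nat.div_add_mod (q ^ k) p; omega⟩
  obtain ⟨u, hu⟩ := exists_prime_orderOf_dvd_card' p hdvd
  let A : Subgroup Fˣ := Subgroup.zpowers u
  let φ : A →* MulAut (Multiplicative F) :=
    { toFun := fun a => AddEquiv.toMultiplicative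
        { toFun := fun x => (a : Fˣ) * x
          invFun := fun x => ((a : Fˣ)⁻¹ : Fˣ) * x
          left_inv := fun x => by simp
          right_inv := fun x => by simp
          map_add' := fun x y => mul_add _ _ _ }
      map_one' := MulEquiv.ext fun x => by simp
      map_mul' := fun a b => MulEquiv.ext fun x => by simp [mul_assoc] }
  let H := Multiplicative F ⋊[φ] A
  haveI : Finite H := Finite.of_equiv _ SemidirectProduct.equivProd.symm
  have hcard : Nat.card H = p * q ^ k := by
    rw [SemidirectProduct.card, Nat.card_congr Multiplicative.toAdd, hF, Nat.card_zpowers, hu, mul_comm]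
  refine ⟨H, inferInstance, inferInstance, hcard, fun hcl => ?_⟩
  have hAp : IsPGroup p (SemidirectProduct.inr (φ := φ)).range :=
    IsPGroup.of_card (n := 1) (by
      rw [Nat.card_congr (MonoidHom.ofInjective SemidirectProduct.inr_injective).toEquiv.symm,
        Nat.card_zpowers, hu, pow_one])
  obtain ⟨P, hP⟩ := hAp.exists_le_sylow
  set a : A := ⟨u, Subgroup.mem_zpowers u⟩
  set x : Multiplicative F := Multiplicative.ofAdd 1
  have hy : φ a x * x⁻¹ ≠ 1 := by
    intro h
    have h1 : ((u : F) * 1) + -1 = 0 := congrArg Multiplicative.toAdd h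
    rw [mul_one, ← sub_eq_add_neg, sub_eq_zero, Units.val_eq_one] at h1
    rw [h1, orderOf_one] at hu
    exact hp.out.one_lt.ne hu
  set y : H := SemidirectProduct.inl (φ a x * x⁻¹) with hydef
  have hyP : y ∈ (P : Subgroup H) := by
    have h1 : SemidirectProduct.inr a ∈ (P : Subgroup H) := hP ⟨a, rfl⟩
    have h2 := mul_mem h1 ((hcl P).conj_mem _ (inv_mem h1) (SemidirectProduct.inl x))
    convert h2 using 1
    rw [hydef, map_mul, SemidirectProduct.inl_aut, map_inv, map_inv]
    group
  obtain ⟨j, hj⟩ := P.isPGroup' ⟨y, hyP⟩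
  have hjy : y ^ p ^ j = 1 := congrArg Subtype.val hj
  rw [← orderOf_dvd_iff_pow_eq_one, hydef,
    orderOf_injective _ SemidirectProduct.inl_injective] at hjy
  have h2 : orderOf (φ a x * x⁻¹) ∣ q ^ k := by
    rw [← hF, ← Nat.card_congr Multiplicative.toAdd]
    exact orderOf_dvd_natCard _
  have hqp : q ≠ p := by
    rintro rfl
    rw [Nat.mod_eq_zero_of_dvd (dvd_pow_self q (by omega))] at hm1
    omega
  exact hy (orderOf_eq_one_iff.mp (Nat.eq_one_of_dvd_coprimes
    (Nat.Coprime.pow _ _ ((Nat.coprime_primes hp.out hq).mpr hqp.symm)) hjy h2))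

/-- The projective example. -/
theorem exists_psl (hp5 : 5 ≤ p) :
    ∃ (H : Type) (_ : Group H) (_ : Finite H), Nat.card H = p * (p ^ 2 - 1) / 2 ∧ ¬ IsPClosed p H := by
  let H := Matrix.ProjectiveSpecialLinearGroup (Fin 2) (ZMod p)
  obtain ⟨w, hw⟩ := hp.out.odd_of_ne_two (by omega)
  have hc := CfsgLib.SL2.card_PSL_odd (F := ZMod p) (by rw [ZMod.card]; exact ⟨w, hw⟩)
  rw [ZMod.card] at hc
  have hH : Nat.card H = p * (p ^ 2 - 1) / 2 := by
    rw [← hc, Nat.mul_div_cancel_left _ (by norm_num)]
  haveI : IsSimpleGroup H :=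
    CfsgLib.Classical.Linear.isSimpleGroup_psl_fin le_rfl fun _ => by rw [Nat.card_zmod]; omega
  refine ⟨H, inferInstance, inferInstance, hH, fun hcl => ?_⟩
  obtain ⟨P⟩ := (inferInstance : Nonempty (Sylow p H))
  have hsq : 25 ≤ p ^ 2 := by nlinarith
  rcases (hcl P).eq_bot_or_eq_top with h | h
  · refine P.ne_bot_of_dvd_card ?_ h
    rw [hH]
    exact ⟨(p ^ 2 - 1) / 2, Nat.mul_div_assoc p (by
      rw [hw]; exact ⟨2 * w * w + 2 * w, by ring_nf; omega⟩)⟩
  · obtain ⟨j, hj⟩ := P.isPGroup'.exists_card_eq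
    rw [h, card_top] at hj
    have h4 : 2 ∣ p ^ 2 - 1 := by rw [hw]; exact ⟨2 * w * w + 2 * w, by ring_nf; omega⟩
    obtain ⟨z, hz⟩ := h4
    rw [hj, hz, show p * (2 * z) = 2 * (p * z) by ring, Nat.mul_div_cancel_left _ (by norm_num)] at hH
    rcases j with _ | j
    · have : p * 1 ≤ p * z := Nat.mul_le_mul_left p (by omega)
      simp at hH; omega
    · rw [pow_succ', Nat.mul_right_inj hp.out.ne_zero] at hH
      have hdz : z ∣ p ^ 2 - 1 := ⟨2, by omega⟩
      have hcop : Nat.Coprime (p ^ j) (p ^ 2 - 1) := by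
        refine Nat.Coprime.pow_left _ (hp.out.coprime_iff_not_dvd.mpr fun h => ?_)
        have h2 : p ∣ p ^ 2 := dvd_pow_self p two_ne_zero
        have := Nat.dvd_sub h2 h
        rw [show p ^ 2 - (p ^ 2 - 1) = 1 by omega] at this
        exact hp.out.not_dvd_one this
      rw [← hH] at hdz
      have := Nat.eq_one_of_dvd_coprimes hcop dvd_rfl hdz
      omega

/-- Let p be an odd prime and let m be the least prime power congruent to 1 modulo p. Then the least order of a finite group whose Sylow p-subgroups are not normal is the smaller of p · m and p(p² − 1)/2: every finite group whose Sylow p-subgroups are not normal has at least that order, and some group of exactly that order has non-normal Sylow p-subgroups. -/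
theorem result (p : ℕ) [Fact p.Prime] (hp : p ≠ 2) (m : ℕ) (hm : IsPrimePow m) (hm1 : m % p = 1)
    (hleast : ∀ k : ℕ, IsPrimePow k → k % p = 1 → m ≤ k) :
    (∀ (H : Type) [Group H] [Finite H], ¬ Cfsg.IsPClosed p H → min (p * m) (p * (p ^ 2 - 1) / 2) ≤ Nat.card H) ∧
      ∃ (H : Type) (_ : Group H) (_ : Finite H), Nat.card H = min (p * m) (p * (p ^ 2 - 1) / 2) ∧ ¬ Cfsg.IsPClosed p H := by
  refine ⟨card_ge hp hleast, ?_⟩
  rcases le_total (p * m) (p * (p ^ 2 - 1) / 2) with h | h
  · obtain ⟨H, i1, i2, hc, hn⟩ := exists_affine hm hm1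
    exact ⟨H, i1, i2, by rw [hc, min_eq_left h], hn⟩
  by_cases hp5 : 5 ≤ p
  · obtain ⟨H, i1, i2, hc, hn⟩ := exists_psl hp5
    exact ⟨H, i1, i2, by rw [hc, min_eq_right h], hn⟩
  have hp3 : p = 3 := by
    have h1 := (Fact.out : p.Prime).two_le
    rcases Nat.lt_or_ge p 4 with h4 | h4
    · omega
    · have h5 : p = 4 := by omega
      have := (Fact.out : p.Prime)
      rw [h5] at this
      norm_num at this
  subst hp3
  have hm4 : m ≤ 4 := hleast 4 ((isPrimePow_nat_iff 4).mpr ⟨2, 2, Nat.prime_two, two_pos, rfl⟩) rfl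
  obtain ⟨H, i1, i2, hc, hn⟩ := exists_affine hm hm1
  refine ⟨H, i1, i2, ?_, hn⟩
  rw [hc, min_eq_left]
  norm_num
  omega

end Cfsg.Agent.S3875
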