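import Cfsg.Statements.S3890
import Cfsg.Agent.MinCover.Basic

set_option autoImplicit false
open Cfsg

namespace Cfsg.Agent.S3890

/-- A cover of a group is a finite set of proper subgroups whose union is the whole group; it is minimal when no cover has fewer members, and nilpotent when all its members are nilpotent. Let G be a finite group with trivial center admitting a nilpotent minimal cover 𝓐, and let P be an abelian Sylow p-subgroup of G that is not normal. Then either P is elementary abelian of order greater than p, or P is a Sylow p-subgroup of some member A of 𝓐, the normalizer N of P is a maximal subgroup of G, N meets each of its conjugates by elements outside N in a subgroup of order prime to p, and the centralizer of P equals A. -/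
theorem result {G : Type*} [Group G] [Finite G] (hZ : Subgroup.center G = ⊥) (𝓐 : Finset (Subgroup G))
    (h𝓐 : ((∀ A ∈ 𝓐, A ≠ ⊤) ∧ (∀ g : G, ∃ A ∈ 𝓐, g ∈ A)) ∧ (∀ 𝓑 : Finset (Subgroup G), (∀ A ∈ 𝓑, A ≠ ⊤) ∧ (∀ g : G, ∃ A ∈ 𝓑, g ∈ A) → 𝓐.card ≤ 𝓑.card) ∧ (∀ A ∈ 𝓐, Group.IsNilpotent ↥A)) {p : ℕ} [Fact p.Prime] (P : Sylow p G) (hab : IsMulCommutative ↥(P : Subgroup G))
    (hnn : ¬ (P : Subgroup G).Normal) :
    (Cfsg.IsElementaryAbelian p (P : Subgroup G) ∧ p < Nat.card ↥(P : Subgroup G)) ∨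
    (∃ A ∈ 𝓐, (P : Subgroup G) ≤ A ∧ ¬ p ∣ ((P : Subgroup G).subgroupOf A).index ∧
      IsCoatom (Subgroup.normalizer ((P : Subgroup G) : Set G)) ∧
      (∀ g : G, g ∉ Subgroup.normalizer ((P : Subgroup G) : Set G) →
        ¬ p ∣ Nat.card ↥(Subgroup.normalizer ((P : Subgroup G) : Set G) ⊓
          (Subgroup.normalizer ((P : Subgroup G) : Set G)).map (MulAut.conj g).toMonoidHom)) ∧
      Subgroup.centralizer ((P : Subgroup G) : Set G) = A) := by
  have h : CfsgLib.MinCover.IsNilMinCover 𝓐 :=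
    ⟨h𝓐.1.1, h𝓐.1.2, h𝓐.2.1, h𝓐.2.2⟩
  have hne : (P : Subgroup G) ≠ ⊥ := fun e => hnn (by rw [e]; infer_instance)
  by_cases hall : ∀ g : G, ∃ A ∈ 𝓐, ((g • P : Sylow p G) : Subgroup G) ≤ A
  · right
    obtain ⟨A, hA, hPA⟩ := hall 1
    rw [one_smul] at hPA
    refine ⟨A, hA, hPA, ?_, CfsgLib.MinCover.isCoatom_normalizer h P hab hZ hne hnn hall,
      fun g hg => CfsgLib.MinCover.not_dvd_card_inf h P hab hZ hne hA hPA hall hg,
      CfsgLib.MinCover.eq_centralizer_of_le h P hab hZ hne hA hPA⟩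
    exact fun hd => P.not_dvd_index (hd.trans (Subgroup.relIndex_mul_index hPA ▸ dvd_mul_right _ _))
  · left
    push_neg at hall
    obtain ⟨g, hg⟩ := hall
    have hab' : IsMulCommutative ↥((g • P : Sylow p G) : Subgroup G) := by
      refine ⟨⟨?_⟩⟩
      rintro ⟨_, x, hx, rfl⟩ ⟨_, y, hy, rfl⟩
      have := congrArg (fun w : ↥(P : Subgroup G) => MulAut.conj g (w : G))
        (hab.1.comm ⟨x, hx⟩ ⟨y, hy⟩)
      exact Subtype.ext (by simpa using this)
    obtain ⟨hE, hlt⟩ := CfsgLib.MinCover.elementary_of_not_le h (g • P) hab' hZ hg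
    refine ⟨⟨hab, fun a ha => (MulAut.conj g).injective ?_⟩,
      by rwa [P.card_eq_multiplicity, ← (g • P).card_eq_multiplicity]⟩
    rw [map_pow, map_one]
    exact hE.2 _ ⟨a, ha, rfl⟩

end Cfsg.Agent.S3890
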