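import Cfsg.Statements.S3891
import Cfsg.Agent.MinCover.Basic

set_option autoImplicit false
open Cfsg

namespace Cfsg.Agent.S3891

/-- A cover of a group is a finite set of proper subgroups whose union is the whole group; it is minimal when no cover has fewer members, and nilpotent when all its members are nilpotent. Let G be a finite group with trivial center admitting a nilpotent minimal cover, and let P be a non-normal Sylow p-subgroup of G that is cyclic, or abelian but not elementary abelian. Then the centralizer of P is nilpotent and the normalizer of P is the unique maximal subgroup of G containing the centralizer of P. -/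
theorem result {G : Type*} [Group G] [Finite G] (hZ : Subgroup.center G = ⊥) (𝓐 : Finset (Subgroup G))
    (h𝓐 : ((∀ A ∈ 𝓐, A ≠ ⊤) ∧ (∀ g : G, ∃ A ∈ 𝓐, g ∈ A)) ∧ (∀ 𝓑 : Finset (Subgroup G), (∀ A ∈ 𝓑, A ≠ ⊤) ∧ (∀ g : G, ∃ A ∈ 𝓑, g ∈ A) → 𝓐.card ≤ 𝓑.card) ∧ (∀ A ∈ 𝓐, Group.IsNilpotent ↥A)) {p : ℕ} [Fact p.Prime] (P : Sylow p G)
    (hP : IsCyclic ↥(P : Subgroup G) ∨ (IsMulCommutative ↥(P : Subgroup G) ∧ ¬ Cfsg.IsElementaryAbelian p (P : Subgroup G)))
    (hnn : ¬ (P : Subgroup G).Normal) :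
    Group.IsNilpotent ↥(Subgroup.centralizer ((P : Subgroup G) : Set G)) ∧
      IsCoatom (Subgroup.normalizer ((P : Subgroup G) : Set G)) ∧
      ∀ M : Subgroup G, IsCoatom M → Subgroup.centralizer ((P : Subgroup G) : Set G) ≤ M →
        M = Subgroup.normalizer ((P : Subgroup G) : Set G) := by
  have h : CfsgLib.MinCover.IsNilMinCover 𝓐 :=
    ⟨h𝓐.1.1, h𝓐.1.2, h𝓐.2.1, h𝓐.2.2⟩
  have hne : (P : Subgroup G) ≠ ⊥ := fun e => hnn (by rw [e]; infer_instance)
  have hab : IsMulCommutative ↥(P : Subgroup G) := by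
    rcases hP with hc | ⟨hc, -⟩
    · exact ⟨⟨fun a b => by
        obtain ⟨u, hu⟩ := hc.exists_generator
        obtain ⟨i, rfl⟩ := Subgroup.mem_zpowers_iff.mp (hu a)
        obtain ⟨j, rfl⟩ := Subgroup.mem_zpowers_iff.mp (hu b)
        rw [← zpow_add, ← zpow_add, add_comm]⟩⟩
    · exact hc
  have hall : ∀ g : G, ∃ A ∈ 𝓐, ((g • P : Sylow p G) : Subgroup G) ≤ A := by
    intro g
    by_contra hno
    push_neg at hno
    have hab' : IsMulCommutative ↥((g • P : Sylow p G) : Subgroup G) := by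
      refine ⟨⟨?_⟩⟩
      rintro ⟨_, x, hx, rfl⟩ ⟨_, y, hy, rfl⟩
      have := congrArg (fun w : ↥(P : Subgroup G) => MulAut.conj g (w : G))
        (hab.1.comm ⟨x, hx⟩ ⟨y, hy⟩)
      exact Subtype.ext (by simpa using this)
    obtain ⟨hE, hlt⟩ := CfsgLib.MinCover.elementary_of_not_le h (g • P) hab' hZ hno
    have hE' : Cfsg.IsElementaryAbelian p (P : Subgroup G) := by
      refine ⟨hab, fun a ha => (MulAut.conj g).injective ?_⟩
      rw [map_pow, map_one]
      exact hE.2 _ ⟨a, ha, rfl⟩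
    rcases hP with hc | ⟨-, hc⟩
    · obtain ⟨u, hu⟩ := hc.exists_ofOrder_eq_natCard
      have : orderOf u ∣ p := orderOf_dvd_of_pow_eq_one (Subtype.ext (by simpa using hE'.2 _ u.2))
      rw [hu, P.card_eq_multiplicity, ← (g • P).card_eq_multiplicity] at this
      exact absurd (Nat.le_of_dvd (Fact.out : p.Prime).pos this) (not_le.mpr hlt)
    · exact hc hE'
  obtain ⟨A, hA, hPA⟩ := hall 1
  rw [one_smul] at hPA
  refine ⟨?_, CfsgLib.MinCover.isCoatom_normalizer h P hab hZ hne hnn hall,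
    fun M hM hCM => CfsgLib.MinCover.coatom_eq_normalizer h P hab hZ hne hnn hall hM hCM⟩
  rw [CfsgLib.MinCover.eq_centralizer_of_le h P hab hZ hne hA hPA]
  exact h.nilpotent A hA

end Cfsg.Agent.S3891
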