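import Cfsg.Statements.S3892
import Mathlib.GroupTheory.SpecificGroups.Alternating
import Cfsg.Agent.Perm57.NilpotentCover

set_option autoImplicit false
open Cfsg

namespace Cfsg.Agent.S3892

/-- A cover of a group is a finite set of proper subgroups whose union is the whole group; it is minimal when no cover has fewer members, and nilpotent when all its members are nilpotent. The alternating groups of degree at least 5 and the symmetric groups of degree at least 4 have no nilpotent minimal cover. -/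
theorem result (n : ℕ) :
    (5 ≤ n → ¬ ∃ 𝓐 : Finset (Subgroup ↥(alternatingGroup (Fin n))), ((∀ A ∈ 𝓐, A ≠ ⊤) ∧ (∀ g : ↥(alternatingGroup (Fin n)), ∃ A ∈ 𝓐, g ∈ A)) ∧ (∀ 𝓑 : Finset (Subgroup ↥(alternatingGroup (Fin n))), (∀ A ∈ 𝓑, A ≠ ⊤) ∧ (∀ g : ↥(alternatingGroup (Fin n)), ∃ A ∈ 𝓑, g ∈ A) → 𝓐.card ≤ 𝓑.card) ∧ (∀ A ∈ 𝓐, Group.IsNilpotent ↥A)) ∧
    (4 ≤ n → ¬ ∃ 𝓐 : Finset (Subgroup (Equiv.Perm (Fin n))), ((∀ A ∈ 𝓐, A ≠ ⊤) ∧ (∀ g : (Equiv.Perm (Fin n)), ∃ A ∈ 𝓐, g ∈ A)) ∧ (∀ 𝓑 : Finset (Subgroup (Equiv.Perm (Fin n))), (∀ A ∈ 𝓑, A ≠ ⊤) ∧ (∀ g : (Equiv.Perm (Fin n)), ∃ A ∈ 𝓑, g ∈ A) → 𝓐.card ≤ 𝓑.card) ∧ (∀ A ∈ 𝓐, Group.IsNilpotent ↥A)) := by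
  open CfsgLib.NilpotentCover in
  refine ⟨fun hn => ?_, fun hn => ?_⟩
  · rcases eq_or_lt_of_le hn with rfl | hn6
    · haveI : Fact (Nat.Prime 3) := ⟨by norm_num⟩
      exact no_nilpotent_minimal_cover_subgroup (alternatingGroup (Fin 5)) (q := 3)
        (by rw [Nat.card_perm, Nat.card_fin]; decide)
        (Equiv.swap 0 1 * Equiv.swap 1 2) (Equiv.swap 0 1 * Equiv.swap 1 3)
        (Equiv.Perm.mem_alternatingGroup.2 (by decide)) (Equiv.Perm.mem_alternatingGroup.2 (by decide))
        (orderOf_eq_prime (by decide) (by decide)) (orderOf_eq_prime (by decide) (by decide))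
        (by decide) (MulAction.stabilizer (Equiv.Perm (Fin 5)) (4 : Fin 5))
        ⟨Equiv.swap 0 4 * Equiv.swap 1 2, Equiv.Perm.mem_alternatingGroup.2 (by decide),
          fun h => absurd (MulAction.mem_stabilizer_iff.1 h) (by decide)⟩
        (fun g hgA hg => MulAction.mem_stabilizer_iff.2 (by
          rw [Equiv.Perm.mem_alternatingGroup] at hgA
          revert g; decide +kernel))
        (fun g hgA hg => MulAction.mem_stabilizer_iff.2 (by
          rw [Equiv.Perm.mem_alternatingGroup] at hgA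
          revert g; decide +kernel))
    · obtain ⟨q, x, y, hq, hsq, hxA, hyA, hxo, hyo, hne, hM, hx, hy⟩ :=
        exists_data (show 6 ≤ n from hn6)
      haveI : Fact q.Prime := ⟨hq⟩
      exact no_nilpotent_minimal_cover_subgroup _ hsq x y hxA hyA hxo hyo hne _ hM (fun g _ => hx g) (fun g _ => hy g)
  · rcases (show n = 4 ∨ n = 5 ∨ 6 ≤ n by omega) with rfl | rfl | hn6
    · haveI : Fact (Nat.Prime 3) := ⟨by norm_num⟩
      exact no_nilpotent_minimal_cover (q := 3)
        (by rw [Nat.card_perm, Nat.card_fin]; decide)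
        (Equiv.swap (0 : Fin 4) 1 * Equiv.swap 1 2) (Equiv.swap (0 : Fin 4) 1 * Equiv.swap 1 3)
        (orderOf_eq_prime (by decide) (by decide)) (orderOf_eq_prime (by decide) (by decide))
        (by decide) (alternatingGroup (Fin 4))
        (fun h => absurd (Equiv.Perm.mem_alternatingGroup.1
          (h.symm ▸ Subgroup.mem_top (Equiv.swap (0 : Fin 4) 1))) (by decide))
        (fun g hg => Equiv.Perm.mem_alternatingGroup.2 (by revert g; decide +kernel))
        (fun g hg => Equiv.Perm.mem_alternatingGroup.2 (by revert g; decide +kernel))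
    · haveI : Fact (Nat.Prime 5) := ⟨by norm_num⟩
      exact no_nilpotent_minimal_cover (q := 5)
        (by rw [Nat.card_perm, Nat.card_fin]; decide)
        (Fin.cycleRange (4 : Fin 5))
        (Equiv.swap (0 : Fin 5) 1 * Fin.cycleRange (4 : Fin 5) * Equiv.swap (0 : Fin 5) 1)
        (orderOf_eq_prime (by decide +kernel) (by decide +kernel)) (orderOf_eq_prime (by decide +kernel) (by decide +kernel))
        (by decide +kernel) (alternatingGroup (Fin 5))
        (fun h => absurd (Equiv.Perm.mem_alternatingGroup.1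
          (h.symm ▸ Subgroup.mem_top (Equiv.swap (0 : Fin 5) 1))) (by decide))
        (fun g hg => Equiv.Perm.mem_alternatingGroup.2 (by revert g; decide +kernel))
        (fun g hg => Equiv.Perm.mem_alternatingGroup.2 (by revert g; decide +kernel))
    · obtain ⟨q, x, y, hq, hsq, -, -, hxo, hyo, hne, ⟨g, -, hg⟩, hx, hy⟩ := exists_data hn6
      haveI : Fact q.Prime := ⟨hq⟩
      exact no_nilpotent_minimal_cover hsq x y hxo hyo hne (segStab n q)
        (fun h => hg (h.symm ▸ Subgroup.mem_top g)) hx hy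

end Cfsg.Agent.S3892
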