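import Cfsg.Statements.S3893
import Cfsg.Agent.MinCover.Suzuki

set_option autoImplicit false
open Cfsg

namespace Cfsg.Agent.S3893

/-- A cover of a group is a finite set of proper subgroups whose union is the whole group; it is minimal when no cover has fewer members, and nilpotent when all its members are nilpotent. The Suzuki groups Sz(q), q = 2^(2m+1) with m ≥ 1, have no nilpotent minimal cover. -/
theorem result {F : Type*} [Field F] [Fintype F] (m : ℕ) (hm : 1 ≤ m) (hF : Fintype.card F = 2 ^ (2 * m + 1)) :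
    ¬ ∃ 𝓐 : Finset (Subgroup ↥(Cfsg.Lie.Sz F (2 ^ (m + 1)))), ((∀ A ∈ 𝓐, A ≠ ⊤) ∧ (∀ g : ↥(Cfsg.Lie.Sz F (2 ^ (m + 1))), ∃ A ∈ 𝓐, g ∈ A)) ∧ (∀ 𝓑 : Finset (Subgroup ↥(Cfsg.Lie.Sz F (2 ^ (m + 1)))), (∀ A ∈ 𝓑, A ≠ ⊤) ∧ (∀ g : ↥(Cfsg.Lie.Sz F (2 ^ (m + 1))), ∃ A ∈ 𝓑, g ∈ A) → 𝓐.card ≤ 𝓑.card) ∧ (∀ A ∈ 𝓐, Group.IsNilpotent ↥A) := by
  haveI := CfsgLib.Suzuki.charP_two (m := m) hF
  obtain ⟨M, x, y, r, k, hM, hr, hxk, hyr, hxy, hx, hy⟩ :=
    CfsgLib.MinCover.suzuki_pair (CfsgLib.Suzuki.titsEndo_theta (F := F) hm hF)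
  haveI := Fact.mk hr
  let e : ↥(CfsgLib.Suzuki.grp (CfsgLib.Suzuki.theta F m)) ≃* ↥(Cfsg.Lie.Sz F (2 ^ (m + 1))) :=
    (MulEquiv.subgroupCongr (CfsgLib.Suzuki.sz_eq (F := F) (m := m)).symm).trans
      (CfsgLib.Suzuki.lieSzEquiv hm hF)
  refine CfsgLib.MinCover.no_cover_of_two (M := M.map e.toMonoidHom) ?_ (x := e x) (y := e y)
    (r := r) (k := k) (by rw [e.orderOf_eq]; exact hxk) (by rw [e.orderOf_eq]; exact hyr)
    (fun h => hxy (e.injective (by simpa using h)))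
    (CfsgLib.MinCover.nilForced_map e hx) (CfsgLib.MinCover.nilForced_map e hy)
  intro h
  exact hM (Subgroup.map_injective e.injective
    (h.trans (Subgroup.map_top_of_surjective e.toMonoidHom e.surjective).symm))

end Cfsg.Agent.S3893
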