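import Cfsg.Statements.S3894
import Cfsg.Agent.MinCover.PGL.Rank
import Cfsg.Agent.MinCover.PGL.Two

set_option autoImplicit false
open Cfsg

namespace Cfsg.Agent.S3894

/-- A cover of a group is a finite set of proper subgroups whose union is the whole group; it is minimal when no cover has fewer members, and nilpotent when all its members are nilpotent. Let F be a finite field with q elements and n ≥ 3, or n = 2 and q ≥ 4. Then no subgroup of PGL_n(F) = GL_n(F)/Z(GL_n(F)) containing the image of SL_n(F) has a nilpotent minimal cover. -/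
theorem result {F : Type*} [Field F] [Fintype F] (n : ℕ) (hn : 3 ≤ n ∨ (n = 2 ∧ 4 ≤ Fintype.card F))
    (G : Subgroup (GL (Fin n) F ⧸ Subgroup.center (GL (Fin n) F)))
    (hG : ((Matrix.SpecialLinearGroup.toGL : Matrix.SpecialLinearGroup (Fin n) F →* GL (Fin n) F).range).map
      (QuotientGroup.mk' (Subgroup.center (GL (Fin n) F))) ≤ G) :
    ¬ ∃ 𝓐 : Finset (Subgroup ↥G), ((∀ A ∈ 𝓐, A ≠ ⊤) ∧ (∀ g : ↥G, ∃ A ∈ 𝓐, g ∈ A)) ∧ (∀ 𝓑 : Finset (Subgroup ↥G), (∀ A ∈ 𝓑, A ≠ ⊤) ∧ (∀ g : ↥G, ∃ A ∈ 𝓑, g ∈ A) → 𝓐.card ≤ 𝓑.card) ∧ (∀ A ∈ 𝓐, Group.IsNilpotent ↥A) := by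
  rcases hn with hn | ⟨rfl, hq⟩
  · obtain ⟨m, rfl⟩ : ∃ m, n = m + 1 := ⟨n - 1, by omega⟩
    exact CfsgLib.MinCover.PGL.no_cover_rank (by omega) G hG
  · by_cases h : ∃ r, r.Prime ∧ r ≠ 2 ∧ r ∣ Fintype.card F - 1
    · obtain ⟨r, hr, hr2, hd⟩ := h
      exact CfsgLib.MinCover.PGL.no_cover_two_odd (G := G) hG hr hr2 hd
    · push_neg at h
      obtain ⟨k, hk⟩ : ∃ k, Fintype.card F - 1 = 2 ^ k :=
        ⟨_, Nat.eq_prime_pow_of_unique_prime_dvd (by omega) fun hr hd => by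
          by_contra hne
          exact h _ hr hne hd⟩
      refine CfsgLib.MinCover.PGL.no_cover_two_even (G := G) hG ?_ hk
      by_contra hk2
      interval_cases k <;> omega

end Cfsg.Agent.S3894
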