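import Cfsg.Statements.S3903
import Cfsg.Agent.MaxPGroup.OddCoatom
import Cfsg.Agent.Transfer.NormalPComplement
import Mathlib

set_option autoImplicit false
open Cfsg

namespace Cfsg.Agent.S3903

section Helpers

variable {G : Type*} [Group G] [Finite G] {N : Subgroup G} [N.Normal]

omit [N.Normal] in
theorem isPGroup_centralizer (h : ∀ x : G, x ∉ N → IsPrimePow (orderOf x) ∧
    IsCoatom (Subgroup.centralizer ({x} : Set G))) {x : G} (hx : x ∉ N) {p : ℕ} (hp : p.Prime)
    (hpx : p ∣ orderOf x) : IsPGroup p (Subgroup.centralizer ({x} : Set G)) := by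
  haveI := Fact.mk hp
  obtain ⟨l, a, hl, ha, hla⟩ := (h x hx).1
  have hlp : p = l := (Nat.prime_dvd_prime_iff_eq hp hl.nat_prime).mp
    (hp.dvd_of_dvd_pow (hla ▸ hpx))
  subst hlp
  rw [IsPGroup.iff_card]
  by_contra hne
  have hcard0 : Nat.card (Subgroup.centralizer ({x} : Set G)) ≠ 0 := Nat.card_pos.ne'
  obtain ⟨q, hq, hqd, hqp⟩ : ∃ q : ℕ, q.Prime ∧
      q ∣ Nat.card (Subgroup.centralizer ({x} : Set G)) ∧ q ≠ p := by
    by_contra hcon
    push Not at hcon
    exact hne ⟨_, Nat.eq_prime_pow_of_unique_prime_dvd hcard0 fun {d} hd hdd => hcon d hd hdd⟩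
  haveI := Fact.mk hq
  obtain ⟨⟨y, hy⟩, hyo⟩ := exists_prime_orderOf_dvd_card' q hqd
  rw [← Subgroup.orderOf_coe] at hyo
  simp only at hyo
  have hcomm : Commute x y := (Subgroup.mem_centralizer_singleton_iff.mp hy).symm
  have hcop : (orderOf x).Coprime (orderOf y) := by
    rw [← hla, hyo]
    exact ((Nat.coprime_primes hp hq).mpr (Ne.symm hqp)).pow_left a
  have hxy : x * y ∈ N := by
    by_contra hxy
    obtain ⟨r, b, hr, -, hrb⟩ := (h _ hxy).1
    rw [hcomm.orderOf_mul_eq_mul_orderOf_of_coprime hcop] at hrb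
    have h1 : p = r := (Nat.prime_dvd_prime_iff_eq hp hr.nat_prime).mp
      (hp.dvd_of_dvd_pow (hrb ▸ dvd_mul_of_dvd_left hpx _))
    have h2 : q = r := (Nat.prime_dvd_prime_iff_eq hq hr.nat_prime).mp
      (hq.dvd_of_dvd_pow (hrb ▸ dvd_mul_of_dvd_right hyo.symm.dvd _))
    exact hqp (h2.trans h1.symm)
  have hxq : x ^ q ∈ N := by
    have := N.pow_mem hxy q
    rwa [hcomm.mul_pow, orderOf_dvd_iff_pow_eq_one.mp hyo.dvd, mul_one] at this
  obtain ⟨m, hm⟩ := exists_pow_eq_self_of_coprime (x := x) (n := q)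
    ((hyo ▸ hcop).symm)
  exact hx (hm ▸ N.pow_mem hxq m)

/-- If every element outside `N` is a `2`-element, each lies in only one Sylow `2`-subgroup. -/
theorem sylow_two_unique (h : ∀ x : G, x ∉ N → IsPrimePow (orderOf x) ∧
    IsCoatom (Subgroup.centralizer ({x} : Set G))) (h2 : ∀ x : G, x ∉ N → 2 ∣ orderOf x)
    (P R : Sylow 2 G) {y : G} (hyP : y ∈ P) (hyR : y ∈ R) (hyN : y ∉ N) : P = R := by
  classical
  by_contra hPR
  let bad : Subgroup G → Prop := fun D =>
    ∃ P R : Sylow 2 G, P ≠ R ∧ D = (P : Subgroup G) ⊓ R ∧ ¬ D ≤ N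
  have hfin : {D : Subgroup G | bad D}.Finite := Set.toFinite _
  obtain ⟨D, hD⟩ : ∃ D, Maximal bad D :=
    hfin.exists_maximal ⟨_, P, R, hPR, rfl, fun hle => hyN (hle ⟨hyP, hyR⟩)⟩
  obtain ⟨P, R, hPR, hDeq, hDN⟩ := hD.1
  have hD2 : IsPGroup 2 D := P.isPGroup'.to_le (hDeq ▸ inf_le_left)
  -- the normalizer of `D` is not a 2-group
  have hnot : ¬ IsPGroup 2 (Subgroup.normalizer (D : Set G)) := by
    intro hN2
    obtain ⟨S, hS⟩ := hN2.exists_le_sylow
    have key : ∀ P R : Sylow 2 G, P ≠ R → D = (P : Subgroup G) ⊓ R → P = S := by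
      intro P R hPR hDeq
      by_contra hPS
      have hlt : D < (P : Subgroup G) := by
        refine lt_of_le_of_ne (hDeq ▸ inf_le_left) fun heq => hPR ?_
        have hle : (P : Subgroup G) ≤ R := heq ▸ hDeq.trans_le inf_le_right
        exact (Sylow.ext (P.is_maximal' R.isPGroup' hle)).symm
      haveI := P.isPGroup'.isNilpotent
      have hne : D.subgroupOf (P : Subgroup G) < ⊤ := by
        rw [lt_top_iff_ne_top, Ne, Subgroup.subgroupOf_eq_top]
        exact hlt.not_ge
      obtain ⟨⟨g, hgP⟩, hgn, hgD⟩ := SetLike.exists_of_lt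
        (normalizerCondition_of_isNilpotent (D.subgroupOf (P : Subgroup G)) hne)
      have hgD' : g ∉ D := hgD
      have hgN : g ∈ Subgroup.normalizer (D : Set G) := by
        rw [Subgroup.mem_normalizer_iff] at hgn ⊢
        intro d
        constructor
        · intro hd
          have := (hgn ⟨d, hlt.le hd⟩).mp hd
          exact this
        · intro hd
          have hdP : d ∈ (P : Subgroup G) := by
            have h' : g * d * g⁻¹ ∈ (P : Subgroup G) := hlt.le hd
            have := P.1.mul_mem (P.1.mul_mem (P.1.inv_mem hgP) h') hgP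
            simpa [mul_assoc] using this
          exact (hgn ⟨d, hdP⟩).mpr hd
      have hle : D ≤ (P : Subgroup G) ⊓ S :=
        le_inf hlt.le (Subgroup.le_normalizer.trans hS)
      have hbad : bad ((P : Subgroup G) ⊓ S) :=
        ⟨P, S, hPS, rfl, fun h' => hDN (hle.trans h')⟩
      exact hgD' (hD.2 hbad hle ⟨hgP, hS hgN⟩)
    exact hPR ((key P R hPR hDeq).trans (key R P (Ne.symm hPR) (by rw [hDeq, inf_comm])).symm)
  obtain ⟨q, hq, hqd, hq2⟩ : ∃ q : ℕ, q.Prime ∧
      q ∣ Nat.card (Subgroup.normalizer (D : Set G)) ∧ q ≠ 2 := by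
    by_contra hcon
    push Not at hcon
    exact hnot (IsPGroup.of_card (Nat.eq_prime_pow_of_unique_prime_dvd Nat.card_pos.ne'
      fun {d} hd hdd => hcon d hd hdd))
  haveI := Fact.mk hq
  obtain ⟨⟨r, hr⟩, hro⟩ := exists_prime_orderOf_dvd_card' q hqd
  rw [← Subgroup.orderOf_coe] at hro
  simp only at hro
  have hrN : r ∈ N := by
    by_contra hrN
    have := h2 r hrN
    rw [hro] at this
    exact hq2 ((Nat.prime_dvd_prime_iff_eq Nat.prime_two hq).mp this).symm
  obtain ⟨d₀, hd₀, hd₀N⟩ := SetLike.not_le_iff_exists.mp hDN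
  -- `r` permutes the coset of `D ⊓ N` containing `d₀`, and so fixes one of its points
  let X := {d : G // d ∈ D ∧ d₀⁻¹ * d ∈ N}
  have hcl : ∀ {g : G}, g ∈ Subgroup.normalizer (D : Set G) → g ∈ N → ∀ d : G,
      (d ∈ D ∧ d₀⁻¹ * d ∈ N) → (g * d * g⁻¹ ∈ D ∧ d₀⁻¹ * (g * d * g⁻¹) ∈ N) := by
    intro g hg hgN d hd
    refine ⟨(Subgroup.mem_normalizer_iff.mp hg d).mp hd.1, ?_⟩
    have h1 : d₀⁻¹ * g * d₀ ∈ N := Subgroup.Normal.conj_mem' ‹N.Normal› g hgN d₀
    have : d₀⁻¹ * (g * d * g⁻¹) = (d₀⁻¹ * g * d₀) * (d₀⁻¹ * d) * g⁻¹ := by group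
    rw [this]
    exact N.mul_mem (N.mul_mem h1 hd.2) (N.inv_mem hgN)
  let σ : Equiv.Perm X :=
    { toFun := fun d => ⟨r * d.1 * r⁻¹, hcl hr hrN d.1 d.2⟩
      invFun := fun d => ⟨r⁻¹ * d.1 * r, by
        simpa using hcl (inv_mem hr) (N.inv_mem hrN) d.1 d.2⟩
      left_inv := fun d => Subtype.ext (by simp [mul_assoc])
      right_inv := fun d => Subtype.ext (by simp [mul_assoc]) }
  have hσn : ∀ (n : ℕ) (d : X), ((σ ^ n) d).1 = r ^ n * d.1 * (r ^ n)⁻¹ := by
    intro n
    induction n with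
    | zero => intro d; simp
    | succ n ih =>
      intro d
      rw [pow_succ', Equiv.Perm.mul_apply]
      show r * ((σ ^ n) d).1 * r⁻¹ = _
      rw [ih, pow_succ']
      group
  haveI : Fintype X := Fintype.ofFinite _
  have hσq : σ ^ q ^ 1 = 1 := by
    refine Equiv.ext fun d => Subtype.ext ?_
    rw [pow_one, hσn, orderOf_dvd_iff_pow_eq_one.mp hro.dvd]
    simp
  have hcardX : Nat.card X = Nat.card ↥(D ⊓ N) :=
    Nat.card_congr
      { toFun := fun d => ⟨d₀⁻¹ * d.1, D.mul_mem (D.inv_mem hd₀) d.2.1, d.2.2⟩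
        invFun := fun e => ⟨d₀ * e.1, D.mul_mem hd₀ e.2.1, by
          rw [inv_mul_cancel_left]; exact e.2.2⟩
        left_inv := fun d => Subtype.ext (by simp)
        right_inv := fun e => Subtype.ext (by simp) }
  have hnd : ¬ q ∣ Fintype.card X := by
    rw [← Nat.card_eq_fintype_card, hcardX]
    intro hdvd
    obtain ⟨k, hk⟩ := (IsPGroup.iff_card.mp (hD2.to_le (inf_le_left : D ⊓ N ≤ D)))
    rw [hk] at hdvd
    exact hq2 ((Nat.prime_dvd_prime_iff_eq hq Nat.prime_two).mp (hq.dvd_of_dvd_pow hdvd))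
  obtain ⟨⟨d, hdD, hdN⟩, hd⟩ := Equiv.Perm.exists_fixed_point_of_prime hnd hσq
  have hd' : r * d * r⁻¹ = d := congrArg Subtype.val hd
  have hdN' : d ∉ N := fun hd' => hd₀N (by
    simpa using N.mul_mem hd' (N.inv_mem hdN))
  have hrC : r ∈ Subgroup.centralizer ({d} : Set G) :=
    Subgroup.mem_centralizer_singleton_iff.mpr (by
      calc r * d = r * d * r⁻¹ * r := by group
        _ = d * r := by rw [hd'])
  obtain ⟨k, hk⟩ := isPGroup_centralizer h hdN' Nat.prime_two (h2 d hdN') ⟨r, hrC⟩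
  have h' : q ∣ 2 ^ k :=
    hro ▸ orderOf_dvd_of_pow_eq_one (by simpa using congrArg Subtype.val hk)
  exact hq2 ((Nat.prime_dvd_prime_iff_eq hq Nat.prime_two).mp (hq.dvd_of_dvd_pow h'))

theorem isSolvable_of_two_elements (hN : N ≠ ⊤) (h : ∀ x : G, x ∉ N → IsPrimePow (orderOf x) ∧
    IsCoatom (Subgroup.centralizer ({x} : Set G))) (h2 : ∀ x : G, x ∉ N → 2 ∣ orderOf x) :
    Group.IsSolvable G := by
  by_contra hns
  obtain ⟨x, hx⟩ : ∃ x : G, x ∉ N := by
    by_contra hcon
    push Not at hcon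
    exact hN (eq_top_iff.mpr fun g _ => hcon g)
  have hsyl : ∀ {y : G}, y ∉ N → ∀ P : Sylow 2 G,
      Subgroup.centralizer ({y} : Set G) ≤ P → Subgroup.centralizer ({y} : Set G) = P := by
    intro y hy P hP
    rcases eq_or_lt_of_le hP with heq | hlt
    · exact heq
    · exfalso
      have htop : (P : Subgroup G) = ⊤ := (h y hy).2.2 _ hlt
      have hG : IsPGroup 2 G := fun g => by
        obtain ⟨k, hk⟩ := P.isPGroup' ⟨g, htop ▸ Subgroup.mem_top g⟩
        exact ⟨k, by simpa using congrArg Subtype.val hk⟩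
      haveI := hG.isNilpotent
      exact hns inferInstance
  obtain ⟨P, hP⟩ := (isPGroup_centralizer h hx Nat.prime_two (h2 x hx)).exists_le_sylow
  have hPC := hsyl hx P hP
  have hxP : x ∈ P := hP (Subgroup.mem_centralizer_singleton_iff.mpr rfl)
  have hcent : ∀ y ∈ P, y ∉ N → ∀ z ∈ P, z * y = y * z := by
    intro y hyP hy z hz
    obtain ⟨R, hR⟩ := (isPGroup_centralizer h hy Nat.prime_two (h2 y hy)).exists_le_sylow
    have hRC := hsyl hy R hR
    have hyR : y ∈ R := hR (Subgroup.mem_centralizer_singleton_iff.mpr rfl)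
    have heq := sylow_two_unique h h2 P R hyP hyR hy
    have hz' : z ∈ Subgroup.centralizer ({y} : Set G) := hRC ▸ heq ▸ hz
    exact Subgroup.mem_centralizer_singleton_iff.mp hz'
  have hab : ∀ y ∈ P, ∀ z ∈ P, z * y = y * z := by
    intro y hyP z hz
    by_cases hy : y ∈ N
    · have hyx : y * x ∉ N := fun hh => hx (by simpa using N.mul_mem (N.inv_mem hy) hh)
      have h1 := hcent (y * x) (P.1.mul_mem hyP hxP) hyx z hz
      have h2' := hcent x hxP hx z hz
      calc z * y = z * (y * x) * x⁻¹ := by group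
        _ = y * x * z * x⁻¹ := by rw [h1]
        _ = y * (z * x) * x⁻¹ := by rw [mul_assoc y x z, ← h2']
        _ = y * z := by group
    · exact hcent y hyP hy z hz
  have hPmax : IsCoatom (P : Subgroup G) := hPC ▸ (h x hx).2
  rcases eq_or_lt_of_le (Subgroup.le_normalizer (H := (P : Subgroup G))) with hNP | hNP
  · have hle : Subgroup.normalizer ((P : Subgroup G) : Set G) ≤
        Subgroup.centralizer ((P : Subgroup G) : Set G) := by
      rw [← hNP]
      exact fun z hz => Subgroup.mem_centralizer_iff.mpr fun y hy => (hab y hy z hz).symm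
    have hc := MonoidHom.ker_transferSylow_isComplement' P hle
    refine hns (CfsgLib.MaxPGroup.isSolvable_of_coatom_complement P.isPGroup' hPmax
      (M := (MonoidHom.transferSylow P hle).ker) ?_ hc.sup_eq_top)
    rw [← hc.index_eq_card]
    exact P.not_dvd_index
  · haveI : (P : Subgroup G).Normal :=
      Subgroup.normalizer_eq_top_iff.mp (hPmax.2 _ hNP)
    haveI : Group.IsSolvable (P : Subgroup G) := by
      haveI := P.isPGroup'.isNilpotent
      infer_instance
    exact hns (CfsgLib.MaxPGroup.isSolvable_of_normal_coatom _ hPmax)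

end Helpers


/-- Let N be a proper normal subgroup of the finite group G such that every element x of G outside N has prime power order and has centralizer C_G(x) a maximal subgroup of G. Then N is solvable. -/
theorem result {G : Type*} [Group G] [Finite G] (N : Subgroup G) [N.Normal] (hN : N ≠ ⊤)
    (h : ∀ x : G, x ∉ N → IsPrimePow (orderOf x) ∧ IsCoatom (Subgroup.centralizer ({x} : Set G))) : Group.IsSolvable ↥N := by
  by_cases hodd : ∃ x : G, x ∉ N ∧ ∃ p : ℕ, p.Prime ∧ p ≠ 2 ∧ p ∣ orderOf x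
  · obtain ⟨x, hx, p, hp, hp2, hpx⟩ := hodd
    haveI : Fact p.Prime := ⟨hp⟩
    have hC := isPGroup_centralizer h hx hp hpx
    haveI : Group.IsSolvable G :=
      CfsgLib.MaxPGroup.isSolvable_of_odd_coatom_pGroup hp2 hC (h x hx).2
    infer_instance
  · push Not at hodd
    have h2 : ∀ x : G, x ∉ N → 2 ∣ orderOf x := by
      intro x hx
      obtain ⟨p, k, hp, hk, hpk⟩ := (h x hx).1
      have hpx : p ∣ orderOf x := hpk ▸ dvd_pow_self p hk.ne'
      by_cases hp2 : p = 2
      · rwa [hp2] at hpx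
      · exact absurd hpx (hodd x hx p hp.nat_prime hp2)
    haveI := isSolvable_of_two_elements hN h h2
    infer_instance

end Cfsg.Agent.S3903
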