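import Cfsg.Statements.S3904
import Cfsg.Agent.Eq.Def_Transfer
import Cfsg.Agent.S0042
import Cfsg.Agent.Frobenius.Basic
import Cfsg.Agent.Solvable.MinNormal
import Cfsg.Agent.MaxPGroup.OddCoatom
import Cfsg.Agent.PGroup.Commutator
import Cfsg.Agent.PGroup.Frattini

set_option autoImplicit false
open Cfsg

namespace Cfsg.Agent.S3904

open Subgroup
open scoped commutatorElement Pointwise

universe u

variable {G : Type u} [Group G] [Finite G]

/-- A subgroup containing all prime power order powers of `x` contains `x`. -/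
theorem mem_of_primePow_powers (S : Subgroup G) (x : G)
    (h : ∀ k : ℕ, ∀ p e : ℕ, p.Prime → orderOf (x ^ k) = p ^ e → x ^ k ∈ S) : x ∈ S := by
  generalize hn : orderOf x = n
  induction n using Nat.strong_induction_on generalizing x with
  | _ n ih =>
  by_cases h1 : n = 1
  · rw [orderOf_eq_one_iff.mp (hn.trans h1)]; exact one_mem _
  have hn0 : n ≠ 0 := hn ▸ (orderOf_pos x).ne'
  obtain ⟨p, hp, hpn⟩ := Nat.exists_prime_and_dvd h1
  set e := n.factorization p with he
  set A := p ^ e with hA
  set B := n / A with hB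
  have hAB : A * B = n := Nat.ordProj_mul_ordCompl_eq_self n p
  have hcop : A.Coprime B := (Nat.coprime_ordCompl hp hn0).pow_left e
  by_cases hB1 : B = 1
  · have := h 1 p e hp (by rw [pow_one, hn, ← hAB, hB1, mul_one])
    rwa [pow_one] at this
  have he0 : e ≠ 0 := fun h0 => by
    have := (hp.dvd_iff_one_le_factorization hn0).mp hpn
    omega
  have hA1 : 1 < A := Nat.one_lt_pow he0 hp.one_lt
  have hB0 : 0 < B := Nat.pos_of_ne_zero fun h0 => hn0 (by rw [← hAB, h0, mul_zero])
  have hxA : orderOf (x ^ A) = B := by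
    rw [orderOf_pow' x (by omega), hn, Nat.gcd_eq_right ⟨B, hAB.symm⟩, ← hAB,
      Nat.mul_div_cancel_left _ (by omega)]
  have hxB : orderOf (x ^ B) = A := by
    rw [orderOf_pow' x hB0.ne', hn, Nat.gcd_eq_right ⟨A, by rw [← hAB, mul_comm]⟩, ← hAB,
      Nat.mul_div_cancel _ hB0]
  have h2 : x ^ A ∈ S := by
    refine ih B ?_ (x ^ A) (fun k q f hq hk => ?_) hxA
    · rw [← hAB]; exact lt_mul_of_one_lt_left hB0 hA1
    · rw [← pow_mul] at hk ⊢; exact h _ q f hq hk
  have h3 : x ^ B ∈ S := h B p e hp hxB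
  have hg := Nat.gcd_eq_gcd_ab A B
  rw [hcop.gcd_eq_one] at hg
  have hx : x = (x ^ A) ^ (Nat.gcdA A B) * (x ^ B) ^ (Nat.gcdB A B) := by
    rw [← zpow_natCast x A, ← zpow_natCast x B, ← zpow_mul, ← zpow_mul, ← zpow_add, ← hg]
    simp
  rw [hx]; exact mul_mem (zpow_mem h2 _) (zpow_mem h3 _)

omit [Finite G] in
theorem mem_center_iff_centralizer {x : G} :
    x ∈ center G ↔ centralizer ({x} : Set G) = ⊤ := by
  rw [centralizer_eq_top_iff_subset, Set.singleton_subset_iff, SetLike.mem_coe]

variable (h : ∀ x : G, x ∉ center G → IsCoatom (centralizer ({x} : Set G)))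
include h

omit [Finite G] in
theorem centralizer_eq_of_le {x y : G} (hx : x ∉ center G) (hy : y ∉ center G)
    (hle : centralizer ({x} : Set G) ≤ centralizer ({y} : Set G)) :
    centralizer ({x} : Set G) = centralizer ({y} : Set G) := by
  rcases (h x hx).le_iff.mp hle with he | he
  · exact absurd he (h y hy).1
  · exact he.symm

/-- A centralizer is abelian or a `p`-group modulo the centre. -/
theorem abelian_or_pGroup {x : G} (hx : x ∉ center G) :
    IsMulCommutative ↥(centralizer ({x} : Set G)) ∨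
      ∃ p : ℕ, p.Prime ∧ IsPGroup p ↥((centralizer ({x} : Set G)).map (QuotientGroup.mk' (center G))) := by
  set C := centralizer ({x} : Set G) with hC
  obtain ⟨k, p, e, hp, hord, hnc⟩ : ∃ k p e : ℕ, p.Prime ∧ orderOf (x ^ k) = p ^ e ∧
      x ^ k ∉ center G := by
    by_contra hcon
    push Not at hcon
    exact hx (mem_of_primePow_powers (center G) x hcon)
  set y := x ^ k with hy
  have hCy : C = centralizer ({y} : Set G) :=
    centralizer_eq_of_le h hx hnc fun z hz => mem_centralizer_singleton_iff.mpr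
      ((show Commute z x from mem_centralizer_singleton_iff.mp hz).pow_right k).eq
  -- prime power elements of other orders centralize `C`
  have key : ∀ w ∈ C, ∀ {v : G}, centralizer ({v} : Set G) = C → v ∉ center G →
      (orderOf v).Coprime (orderOf w) → C ≤ centralizer ({w} : Set G) := by
    intro w hw v hv hvc hcop
    have hvw : Commute v w := (show Commute w v from mem_centralizer_singleton_iff.mp (hv ▸ hw)).symm
    have hvmem : v ∈ zpowers (v * w) := by
      obtain ⟨m, hm⟩ := exists_pow_eq_self_of_coprime (x := v) (n := orderOf w) hcop.symm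
      refine mem_zpowers_iff.mpr ⟨((orderOf w * m : ℕ) : ℤ), ?_⟩
      rw [zpow_natCast, pow_mul, hvw.mul_pow, pow_orderOf_eq_one, mul_one, hm]
    have hwmem : w ∈ zpowers (v * w) := by
      have := mul_mem (inv_mem hvmem) (mem_zpowers (v * w))
      rwa [inv_mul_cancel_left] at this
    have hne : v * w ∉ center G := fun hc => hvc ((zpowers_le.mpr hc) hvmem)
    have h1 : ∀ u ∈ zpowers (v * w), centralizer ({v * w} : Set G) ≤ centralizer ({u} : Set G) := by
      intro u hu z hz
      obtain ⟨i, rfl⟩ := mem_zpowers_iff.mp hu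
      exact mem_centralizer_singleton_iff.mpr
        ((show Commute z (v * w) from mem_centralizer_singleton_iff.mp hz).zpow_right i).eq
    have := centralizer_eq_of_le h hne hvc (h1 v hvmem)
    rw [← hv, ← this]
    exact h1 w hwmem
  by_cases hall : ∀ w ∈ C, (orderOf w).Coprime p → w ∈ center G
  · right
    refine ⟨p, hp, ?_⟩
    rintro ⟨_, w, hw, rfl⟩
    obtain ⟨j, hj⟩ : ∃ j : ℕ, (w ^ p ^ j) ∈ center G := by
      refine ⟨(orderOf w).factorization p, hall _ (pow_mem hw _) ?_⟩
      have hd : p ^ (orderOf w).factorization p ∣ orderOf w := Nat.ordProj_dvd _ _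
      rw [orderOf_pow' w (pow_ne_zero _ hp.ne_zero), Nat.gcd_eq_right hd]
      exact (Nat.coprime_ordCompl hp (orderOf_pos w).ne').symm
    exact ⟨j, Subtype.ext ((map_pow _ w _).symm.trans ((QuotientGroup.eq_one_iff _).mpr hj))⟩
  left
  push Not at hall
  obtain ⟨w₀, hw₀, hw₀p, hw₀c⟩ := hall
  obtain ⟨l, q, f, hq, hwq, hwlc⟩ : ∃ l q f : ℕ, q.Prime ∧ orderOf (w₀ ^ l) = q ^ f ∧
      w₀ ^ l ∉ center G := by
    by_contra hcon
    push Not at hcon
    exact hw₀c (mem_of_primePow_powers (center G) w₀ hcon)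
  set w := w₀ ^ l with hw
  have hwC : w ∈ C := pow_mem hw₀ l
  have hwp : (orderOf w).Coprime p := Nat.Coprime.coprime_dvd_left (orderOf_pow_dvd l) hw₀p
  have hCw : centralizer ({w} : Set G) = C := by
    refine (centralizer_eq_of_le h hx hwlc (key w hwC hCy.symm hnc ?_)).symm
    rw [hord]; exact (hwp.pow_right e).symm
  refine ⟨⟨fun a b => Subtype.ext ?_⟩⟩
  have hcen : (a : G) ∈ centralizer (C : Set G) := by
    refine mem_of_primePow_powers _ _ fun i r g hr hri => ?_
    have hmem : (a : G) ^ i ∈ C := pow_mem a.2 i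
    have : C ≤ centralizer ({(a : G) ^ i} : Set G) := by
      by_cases hrp : r = p
      · refine key _ hmem hCw hwlc ?_
        rw [hri, hrp]; exact hwp.pow_right g
      · refine key _ hmem hCy.symm hnc ?_
        rw [hord, hri]
        exact Nat.Coprime.pow _ _ ((Nat.coprime_primes hp hr).mpr (Ne.symm hrp))
    intro c hc
    exact (mem_centralizer_singleton_iff.mp (this hc))
  exact (hcen b b.2).symm

omit h in
/-- A normal maximal subgroup has prime index. -/
theorem index_prime_of_normal {M : Subgroup G} [M.Normal] (hM : IsCoatom M) : M.index.Prime := by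
  have h1 : M.index ≠ 1 := fun he => hM.1 (index_eq_one.mp he)
  obtain ⟨q, hq, hqd⟩ := Nat.exists_prime_and_dvd h1
  haveI := Fact.mk hq
  obtain ⟨g, hg⟩ := exists_prime_orderOf_dvd_card' q (G := G ⧸ M) (by rwa [← index_eq_card])
  have hne : (zpowers g).comap (QuotientGroup.mk' M) ≠ M := by
    intro he
    have := congrArg (Subgroup.map (QuotientGroup.mk' M)) he
    rw [map_comap_eq_self_of_surjective (QuotientGroup.mk'_surjective M), QuotientGroup.map_mk'_self,
      zpowers_eq_bot] at this
    rw [this, orderOf_one] at hg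
    exact hq.one_lt.ne hg
  have htop := hM.2 _ (lt_of_le_of_ne (QuotientGroup.le_comap_mk' M _) (Ne.symm hne))
  have hz : zpowers g = ⊤ := by
    rw [← map_comap_eq_self_of_surjective (QuotientGroup.mk'_surjective M) (zpowers g), htop,
      map_top_of_surjective _ (QuotientGroup.mk'_surjective M)]
  rw [index_eq_card, ← Subgroup.card_top, ← hz, Nat.card_zpowers, hg]
  exact hq

/-- All centralizers normal: an elementary abelian central quotient. -/
theorem all_normal (hna : ¬ IsMulCommutative G)
    (hn : ∀ x : G, x ∉ center G → (centralizer ({x} : Set G)).Normal) :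
    ∃ p : ℕ, p.Prime ∧ Cfsg.IsElementaryAbelian p (⊤ : Subgroup (G ⧸ center G)) := by
  have hpr : ∀ x : G, x ∉ center G → (centralizer ({x} : Set G)).index.Prime := fun x hx => by
    haveI := hn x hx
    exact index_prime_of_normal (h x hx)
  have hpow : ∀ x : G, x ∉ center G → ∀ g : G,
      g ^ (centralizer ({x} : Set G)).index ∈ centralizer ({x} : Set G) := fun x hx g => by
    haveI := hn x hx
    exact Subgroup.pow_index_mem _ g
  have hcen : ∀ a b : G, ⁅a, b⁆ ∈ center G := by
    intro a b
    rw [Subgroup.mem_center_iff]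
    intro x
    by_cases hx : x ∈ center G
    · exact (Subgroup.mem_center_iff.mp hx _).symm
    haveI := hn x hx
    haveI := Fact.mk (hpr x hx)
    haveI : IsCyclic (G ⧸ centralizer ({x} : Set G)) :=
      isCyclic_of_prime_card (p := (centralizer ({x} : Set G)).index) (index_eq_card _).symm
    have hc : ⁅a, b⁆ ∈ centralizer ({x} : Set G) := by
      rw [← QuotientGroup.eq_one_iff, ← QuotientGroup.mk'_apply, map_commutatorElement,
        commutatorElement_eq_one_iff_commute]
      exact IsCyclic.commutative.1.comm _ _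
    exact (mem_centralizer_singleton_iff.mp hc).symm
  have hbil : ∀ (a b : G) (n : ℕ), ⁅a ^ n, b⁆ = ⁅a, b⁆ ^ n := fun a b n =>
    CfsgLib.PGroup.commutatorElement_pow_left (Subgroup.mem_center_iff.mp (hcen a b) a).symm n
  have hnc : ∀ {x y : G}, ¬ Commute x y → x ∉ center G ∧ y ∉ center G := fun {x y} hxy =>
    ⟨fun hx => hxy (Subgroup.mem_center_iff.mp hx y).symm,
      fun hy => hxy (Subgroup.mem_center_iff.mp hy x)⟩
  have hdvd : ∀ {x y : G}, ¬ Commute x y →
      orderOf ⁅y, x⁆ = (centralizer ({x} : Set G)).index := by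
    intro x y hxy
    obtain ⟨hx, -⟩ := hnc hxy
    have hne : ⁅y, x⁆ ≠ 1 := fun he => hxy (commutatorElement_eq_one_iff_commute.mp he).symm
    haveI := Fact.mk (hpr x hx)
    refine orderOf_eq_prime ?_ hne
    rw [← hbil, commutatorElement_eq_one_iff_mul_comm]
    exact mem_centralizer_singleton_iff.mp (hpow x hx y)
  have heq : ∀ {x y : G}, ¬ Commute x y →
      (centralizer ({x} : Set G)).index = (centralizer ({y} : Set G)).index := by
    intro x y hxy
    rw [← hdvd hxy, ← hdvd (fun h' => hxy h'.symm), ← commutatorElement_inv, orderOf_inv]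
  obtain ⟨x₀, hx₀⟩ : ∃ x, x ∉ center G := by
    by_contra hcon
    push Not at hcon
    exact hna ⟨⟨fun a b => (Subgroup.mem_center_iff.mp (hcon b) a)⟩⟩
  set p := (centralizer ({x₀} : Set G)).index with hp
  have hall : ∀ x : G, x ∉ center G → (centralizer ({x} : Set G)).index = p := by
    intro x hx
    by_cases hc : Commute x x₀
    · obtain ⟨z, hz1, hz2⟩ : ∃ z, ¬ Commute x z ∧ ¬ Commute x₀ z := by
        have hxt : centralizer ({x} : Set G) ≠ ⊤ := (h x hx).1
        have hxt₀ : centralizer ({x₀} : Set G) ≠ ⊤ := (h x₀ hx₀).1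
        obtain ⟨a, ha⟩ : ∃ a, a ∉ centralizer ({x} : Set G) := by
          by_contra hh; push Not at hh; exact hxt (eq_top_iff.mpr fun z _ => hh z)
        obtain ⟨b, hb⟩ : ∃ b, b ∉ centralizer ({x₀} : Set G) := by
          by_contra hh; push Not at hh; exact hxt₀ (eq_top_iff.mpr fun z _ => hh z)
        have hmem : ∀ {u z : G}, z ∈ centralizer ({u} : Set G) ↔ Commute u z := fun {u z} =>
          mem_centralizer_singleton_iff.trans ⟨fun e => e.symm, fun e => e.symm⟩
        by_cases ha0 : a ∈ centralizer ({x₀} : Set G)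
        · by_cases hb0 : b ∈ centralizer ({x} : Set G)
          · refine ⟨a * b, fun hh => ?_, fun hh => ?_⟩
            · exact ha (by simpa using mul_mem (hmem.mpr hh) (inv_mem hb0))
            · exact hb (by simpa using mul_mem (inv_mem ha0) (hmem.mpr hh))
          · exact ⟨b, fun hh => hb0 (hmem.mpr hh), fun hh => hb (hmem.mpr hh)⟩
        · exact ⟨a, fun hh => ha (hmem.mpr hh), fun hh => ha0 (hmem.mpr hh)⟩
      rw [hp, heq hz1, heq hz2]
    · exact heq hc
  refine ⟨p, hpr x₀ hx₀, ⟨⟨fun a b => Subtype.ext ?_⟩⟩, ?_⟩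
  · obtain ⟨a', ha⟩ := QuotientGroup.mk'_surjective (center G) a.1
    obtain ⟨b', hb⟩ := QuotientGroup.mk'_surjective (center G) b.1
    show a.1 * b.1 = b.1 * a.1
    rw [← ha, ← hb, ← commutatorElement_eq_one_iff_mul_comm, ← map_commutatorElement]
    exact (QuotientGroup.eq_one_iff _).mpr (hcen a' b')
  · intro a _
    obtain ⟨a', rfl⟩ := QuotientGroup.mk'_surjective (center G) a
    rw [← map_pow]
    refine (QuotientGroup.eq_one_iff _).mpr (Subgroup.mem_center_iff.mpr fun g => ?_)
    by_cases hg : g ∈ center G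
    · exact (Subgroup.mem_center_iff.mp hg _).symm
    · have := hpow g hg a'
      rw [hall g hg] at this
      exact (mem_centralizer_singleton_iff.mp this).symm

omit h in
theorem map_coatom {M : Subgroup G} (hZ : center G ≤ M) (hM : IsCoatom M) :
    IsCoatom (M.map (QuotientGroup.mk' (center G))) := by
  set π := QuotientGroup.mk' (center G)
  have hπ : Function.Surjective π := QuotientGroup.mk'_surjective _
  have hcm : (M.map π).comap π = M := by
    rw [comap_map_eq, QuotientGroup.ker_mk', sup_eq_left.mpr hZ]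
  constructor
  · intro he
    exact hM.1 (by rw [← hcm, he, comap_top])
  · intro B hB
    have : M < B.comap π := by
      rw [← hcm]; exact (comap_lt_comap_of_surjective hπ).mpr hB
    rw [← map_comap_eq_self_of_surjective hπ B, hM.2 _ this, map_top_of_surjective π hπ]

omit h in
theorem center_le_centralizer (x : G) : center G ≤ centralizer ({x} : Set G) := fun z hz =>
  mem_centralizer_singleton_iff.mpr (Subgroup.mem_center_iff.mp hz x).symm

omit h in
theorem card_map_dvd {M K : Subgroup G} (hMK : M ⊓ K ≤ center G) [K.Normal] {q : ℕ}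
    (hK : K.index = q) : Nat.card (M.map (QuotientGroup.mk' (center G))) ∣ q := by
  set π := QuotientGroup.mk' (center G)
  have h2 : Nat.card (M.map π) = (center G).relIndex M := by
    rw [← relIndex_ker, QuotientGroup.ker_mk']
  rw [h2]
  refine (relIndex_dvd_of_le_left M hMK).trans ?_
  rw [inf_relIndex_left]
  exact hK ▸ relIndex_dvd_index_of_normal K M

omit h in
theorem commutative_of_cyclic {M : Subgroup G}
    (hc : IsCyclic (M.map (QuotientGroup.mk' (center G)))) : IsMulCommutative M := by
  refine ⟨⟨fun a b => ?_⟩⟩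
  refine commutative_of_cyclic_center_quotient ((QuotientGroup.mk' (center G)).subgroupMap M) ?_ a b
  intro z hz
  rw [Subgroup.mem_center_iff]
  intro g
  have hz' : (z : G) ∈ center G := (QuotientGroup.eq_one_iff _).mp (congrArg Subtype.val hz)
  exact Subtype.ext (Subgroup.mem_center_iff.mp hz' g)

omit h in
/-- A nontrivial element of a `p`-group has no prime order other than `p`. -/
theorem prime_eq_of_mem {Q : Type u} [Group Q] {p q : ℕ} {S : Subgroup Q} (hp : p.Prime)
    (hS : IsPGroup p S) (hq : q.Prime) {w : Q} (hw : w ∈ S) (hw1 : w ≠ 1) {f : ℕ}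
    (hwf : w ^ q ^ f = 1) : q = p := by
  haveI := Fact.mk hp
  obtain ⟨e, he⟩ := hS ⟨w, hw⟩
  have he' : w ^ p ^ e = 1 := congrArg Subtype.val he
  by_contra hne
  apply hw1
  have h1 := Nat.dvd_gcd (orderOf_dvd_of_pow_eq_one he') (orderOf_dvd_of_pow_eq_one hwf)
  rw [Nat.Coprime.gcd_eq_one (Nat.Coprime.pow e f ((Nat.coprime_primes hp hq).mpr (Ne.symm hne))),
    Nat.dvd_one] at h1
  exact orderOf_eq_one_iff.mp h1

/-- Some non-normal centralizer is abelian. -/
theorem exists_abelian {x₀ : G} (hx₀ : x₀ ∉ center G) (hx₀n : ¬ (centralizer ({x₀} : Set G)).Normal) :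
    ∃ x : G, x ∉ center G ∧ ¬ (centralizer ({x} : Set G)).Normal ∧
      IsMulCommutative ↥(centralizer ({x} : Set G)) := by
  by_contra hcon
  push Not at hcon
  have hty : ∀ x : G, x ∉ center G → ¬ (centralizer ({x} : Set G)).Normal →
      ∃ p : ℕ, p.Prime ∧ IsPGroup p ↥((centralizer ({x} : Set G)).map (QuotientGroup.mk' (center G))) :=
    fun x hx hn => (abelian_or_pGroup h hx).resolve_left (hcon x hx hn)
  set π := QuotientGroup.mk' (center G) with hπdef
  have hπ : Function.Surjective π := QuotientGroup.mk'_surjective _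
  set M := centralizer ({x₀} : Set G) with hM
  have hMnab : ¬ IsMulCommutative M := hcon x₀ hx₀ hx₀n
  obtain ⟨p, hp, hMp⟩ := hty x₀ hx₀ hx₀n
  haveI := Fact.mk hp
  have hMco : IsCoatom (M.map π) := map_coatom (center_le_centralizer x₀) (h x₀ hx₀)
  have hMnn : ¬ (M.map π).Normal := fun hn => hx₀n (by
    have := hn.comap π
    rwa [comap_map_eq, QuotientGroup.ker_mk', sup_eq_left.mpr (center_le_centralizer x₀)] at this)
  have hGp : ¬ IsPGroup p (G ⧸ center G) := fun hG =>
    hMnn (CfsgLib.PGroup.normal_of_coatom hG hMco)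
  by_cases hex : ∃ y : G, y ∉ center G ∧ (centralizer ({y} : Set G)).Normal
  · obtain ⟨y, hy, hKn⟩ := hex
    set K := centralizer ({y} : Set G) with hK
    haveI := hKn
    haveI : (K.map π).Normal := hKn.map π hπ
    have hKM : K ≠ M := fun he => hx₀n (he ▸ hKn)
    have hKi := index_prime_of_normal (h y hy)
    have hKi' : (K.map π).index = K.index := by
      rw [index_map, QuotientGroup.ker_mk', sup_eq_left.mpr (center_le_centralizer y),
        MonoidHom.range_eq_top.mpr hπ, index_top, mul_one]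
    have htop : K.map π ⊔ M.map π = ⊤ := by
      refine hMco.2 _ (lt_of_le_of_ne le_sup_right fun he => ?_)
      have hle : K.map π ≤ M.map π := he ▸ le_sup_left
      rw [Subgroup.map_le_map_iff, QuotientGroup.ker_mk', sup_eq_left.mpr (center_le_centralizer x₀)] at hle
      exact hKM (((h y hy).le_iff.mp hle).resolve_left (h x₀ hx₀).1).symm
    have hKp : K.index = p := by
      have : IsPGroup p ((G ⧸ center G) ⧸ K.map π) := by
        refine (hMp.map (QuotientGroup.mk' (K.map π))).of_equiv ((MulEquiv.subgroupCongr ?_).trans Subgroup.topEquiv)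
        have e := congrArg (Subgroup.map (QuotientGroup.mk' (K.map π))) htop
        rwa [Subgroup.map_sup, QuotientGroup.map_mk'_self, bot_sup_eq,
          map_top_of_surjective _ (QuotientGroup.mk'_surjective _)] at e
      obtain ⟨k, hk⟩ := IsPGroup.iff_card.mp this
      rw [← index_eq_card, hKi'] at hk
      rcases Nat.eq_zero_or_pos k with rfl | hk0
      · rw [pow_zero] at hk; exact absurd hk hKi.ne_one
      · exact ((Nat.prime_dvd_prime_iff_eq hp hKi).mp (hk ▸ dvd_pow_self p hk0.ne')).symm
    have hMK : M ⊓ K ≤ center G := by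
      rcases abelian_or_pGroup h hy with hab | ⟨r, hr, hKr⟩
      · have hKe : ∀ w ∈ K, w ∉ center G → centralizer ({w} : Set G) = K := fun w hw hwc =>
          (centralizer_eq_of_le h hy hwc fun k hk => mem_centralizer_singleton_iff.mpr
            (congrArg Subtype.val (hab.1.comm ⟨k, hk⟩ ⟨w, hw⟩))).symm
        intro w hw
        by_contra hwc
        have hx0 : x₀ ∈ K := by
          rw [← hKe w hw.2 hwc]
          exact mem_centralizer_singleton_iff.mpr (mem_centralizer_singleton_iff.mp hw.1).symm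
        exact hKM (hKe x₀ hx0 hx₀).symm
      · intro w hw
        by_contra hwc
        have hne : π w ≠ 1 := fun he => hwc ((QuotientGroup.eq_one_iff w).mp he)
        haveI := Fact.mk hr
        obtain ⟨f, hf⟩ := hKr ⟨π w, mem_map_of_mem π hw.2⟩
        have hrp : r = p := prime_eq_of_mem hp hMp hr (mem_map_of_mem π hw.1) hne (congrArg Subtype.val hf)
        subst hrp
        obtain ⟨i, hi⟩ := IsPGroup.iff_card.mp hKr
        exact hGp (IsPGroup.of_card (n := i + 1) (by
          rw [← (K.map π).card_mul_index, hi, hKi', hKp, pow_succ]))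
    apply hMnab
    apply commutative_of_cyclic
    rcases (Nat.dvd_prime hp).mp (card_map_dvd hMK hKp) with h1 | h1
    · haveI : Subsingleton (M.map π) := (Nat.card_eq_one_iff_unique.mp h1).1
      exact isCyclic_of_subsingleton
    · exact isCyclic_of_prime_card h1
  -- no normal centralizer
  push Not at hex
  have htyp : ∀ q : ℕ, q.Prime → ∀ v : G, v ∉ center G → ∀ f, (π v) ^ q ^ f = 1 →
      IsPGroup q ↥((centralizer ({v} : Set G)).map π) ∧
      IsCoatom ((centralizer ({v} : Set G)).map π) ∧ ¬ ((centralizer ({v} : Set G)).map π).Normal := by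
    intro q hq v hv f hvf
    obtain ⟨r, hr, hvr⟩ := hty v hv (hex v hv)
    have hne : π v ≠ 1 := fun he => hv ((QuotientGroup.eq_one_iff v).mp he)
    have hqr := prime_eq_of_mem hr hvr hq
      (mem_map_of_mem π (mem_centralizer_singleton_iff.mpr rfl : v ∈ centralizer ({v} : Set G))) hne hvf
    refine ⟨hqr ▸ hvr, map_coatom (center_le_centralizer v) (h v hv), fun hn => hex v hv ?_⟩
    have := hn.comap π
    rwa [comap_map_eq, QuotientGroup.ker_mk', sup_eq_left.mpr (center_le_centralizer v)] at this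
  have hlift : ∀ q : ℕ, q.Prime → q ∣ Nat.card (G ⧸ center G) →
      ∃ v : G, v ∉ center G ∧ (π v) ^ q ^ 1 = 1 := by
    intro q hq hqd
    haveI := Fact.mk hq
    obtain ⟨u, hu⟩ := exists_prime_orderOf_dvd_card' q hqd
    obtain ⟨v, rfl⟩ := hπ u
    refine ⟨v, fun hv => ?_, by rw [pow_one, ← hu, pow_orderOf_eq_one]⟩
    rw [show π v = 1 from (QuotientGroup.eq_one_iff v).mpr hv, orderOf_one] at hu
    exact hq.one_lt.ne hu
  have hother : ∀ r : ℕ, r.Prime → ∃ s : ℕ, s.Prime ∧ s ≠ r ∧ s ∣ Nat.card (G ⧸ center G) := by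
    intro r hr
    by_contra hcon'
    push Not at hcon'
    haveI := Fact.mk hr
    have hG : IsPGroup r (G ⧸ center G) := IsPGroup.of_card
      (Nat.eq_prime_pow_of_unique_prime_dvd Nat.card_pos.ne' fun {d} hd hdd => by
        by_contra hne; exact hcon' d hd hne hdd)
    obtain ⟨q', hq'⟩ := IsPGroup.iff_card.mp hMp
    by_cases hrp : r = p
    · exact hGp (hrp ▸ hG)
    · apply hMnn
      exact CfsgLib.PGroup.normal_of_coatom hG hMco
  have hsol : Group.IsSolvable (G ⧸ center G) := by
    obtain ⟨q, hq, hq2, hqd⟩ := hother 2 Nat.prime_two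
    haveI := Fact.mk hq
    obtain ⟨v, hv, hvq⟩ := hlift q hq hqd
    obtain ⟨h1, h2, -⟩ := htyp q hq v hv 1 hvq
    exact CfsgLib.MaxPGroup.isSolvable_of_odd_coatom_pGroup hq2 h1 h2
  haveI := hsol
  have hne : (⊤ : Subgroup (G ⧸ center G)) ≠ ⊥ := fun he => by
    apply hMco.1
    rw [← top_le_iff, he]; exact bot_le
  obtain ⟨R, r, k, -, hRn, hRb, -, -, hr, hk, hRc, hRp⟩ :=
    CfsgLib.Solvable.exists_minimal_normal_elementary_le (⊤ : Subgroup (G ⧸ center G)) inferInstance hne
  haveI := Fact.mk hr
  obtain ⟨s, hs, hsr, hsd⟩ := hother r hr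
  haveI := Fact.mk hs
  obtain ⟨u, hu, hus⟩ := hlift s hs hsd
  obtain ⟨hS, hSco, -⟩ := htyp s hs u hu 1 hus
  set S := (centralizer ({u} : Set G)).map π
  obtain ⟨⟨w, hwR⟩, hw1'⟩ := Subgroup.ne_bot_iff_exists_ne_one.mp hRb
  have hw1 : w ≠ 1 := fun e => hw1' (Subtype.ext e)
  obtain ⟨v, rfl⟩ := hπ w
  have hv : v ∉ center G := fun hv => hw1 ((QuotientGroup.eq_one_iff v).mpr hv)
  obtain ⟨hT, hTco, hTn⟩ := htyp r hr v hv 1 (by rw [pow_one]; exact hRp _ hwR)
  set T := (centralizer ({v} : Set G)).map π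
  have hRS : R ⊔ S = ⊤ := by
    refine hSco.2 _ (lt_of_le_of_ne le_sup_right fun he => ?_)
    have hle : π v ∈ S := he ▸ mem_sup_left hwR
    exact hsr (prime_eq_of_mem hs hS hr hle hw1 (f := 1) (by rw [pow_one]; exact hRp _ hwR)).symm
  haveI := hRn
  have hQ : IsPGroup s ((G ⧸ center G) ⧸ R) := by
    refine (hS.map (QuotientGroup.mk' R)).of_equiv ((MulEquiv.subgroupCongr ?_).trans Subgroup.topEquiv)
    have e := congrArg (Subgroup.map (QuotientGroup.mk' R)) hRS
    rwa [Subgroup.map_sup, QuotientGroup.map_mk'_self, bot_sup_eq,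
      map_top_of_surjective _ (QuotientGroup.mk'_surjective _)] at e
  have hTR : T ≤ R := by
    intro t ht
    rw [← QuotientGroup.eq_one_iff]
    obtain ⟨i, hi⟩ := hT ⟨t, ht⟩
    by_contra hne'
    obtain ⟨j, hj⟩ := hQ (t : (G ⧸ center G) ⧸ R)
    have hi' : (t : (G ⧸ center G) ⧸ R) ^ r ^ i = 1 := by
      rw [← QuotientGroup.mk_pow, show t ^ r ^ i = 1 from congrArg Subtype.val hi, QuotientGroup.mk_one]
    exact hsr (prime_eq_of_mem hr (Q := (G ⧸ center G) ⧸ R) (S := zpowers (t : (G ⧸ center G) ⧸ R))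
      (q := s) (fun z => ⟨i, Subtype.ext (by
        obtain ⟨m, hm⟩ := mem_zpowers_iff.mp z.2
        show (z.1) ^ r ^ i = 1
        rw [← hm, ← zpow_natCast, ← zpow_mul, mul_comm, zpow_mul, zpow_natCast, hi', one_zpow])⟩)
      hs (mem_zpowers _) hne' hj)
  rcases hTco.le_iff.mp hTR with he | he
  · have hcard := congrArg (fun H : Subgroup (G ⧸ center G) => Nat.card H) he
    simp only [Subgroup.card_top, hRc] at hcard
    rw [← hcard] at hsd
    exact hsr ((Nat.prime_dvd_prime_iff_eq hs hr).mp (hs.dvd_of_dvd_pow hsd))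
  · exact hTn (he ▸ hRn)

/-- The Frobenius case. -/
theorem abelian_case {x : G} (hx : x ∉ center G) (hxn : ¬ (centralizer ({x} : Set G)).Normal)
    (hab : IsMulCommutative ↥(centralizer ({x} : Set G))) :
    ¬ IsMulCommutative (G ⧸ center G) ∧
      (∀ H : Subgroup (G ⧸ center G), H ≠ ⊤ → IsMulCommutative ↥H) ∧
      ∃ p q a : ℕ, p.Prime ∧ q.Prime ∧ p ≠ q ∧ Nat.card (G ⧸ center G) = p ^ a * q ∧
        ∀ P : Subgroup (G ⧸ center G), Nat.card ↥P = p ^ a → P.Normal := by
  set π := QuotientGroup.mk' (center G) with hπdef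
  have hπ : Function.Surjective π := QuotientGroup.mk'_surjective _
  set M := centralizer ({x} : Set G) with hM
  have hMco := h x hx
  have hZM : center G ≤ M := center_le_centralizer x
  have hcm : (M.map π).comap π = M := by
    rw [comap_map_eq, QuotientGroup.ker_mk', sup_eq_left.mpr hZM]
  have hNM : normalizer (M : Set G) = M :=
    (hMco.le_iff.mp le_normalizer).resolve_left fun he => hxn (normalizer_eq_top_iff.mp he)
  have hMn : ¬ (M.map π).Normal := fun hn => hxn (hcm ▸ hn.comap π)
  have hCM : ∀ w ∈ M, w ∉ center G → centralizer ({w} : Set G) = M := fun w hw hwc =>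
    (centralizer_eq_of_le h hx hwc fun k hk => mem_centralizer_singleton_iff.mpr
      (congrArg Subtype.val (hab.1.comm ⟨k, hk⟩ ⟨w, hw⟩))).symm
  have hMb : M.map π ≠ ⊥ := fun he => by
    have : π x ∈ M.map π := mem_map_of_mem π (mem_centralizer_singleton_iff.mpr rfl)
    rw [he, mem_bot] at this
    exact hx ((QuotientGroup.eq_one_iff x).mp this)
  have hF : Cfsg.IsFrobeniusComplement (M.map π) := by
    refine ⟨hMb, (map_coatom hZM hMco).1, fun gq hg => ?_⟩
    obtain ⟨g, rfl⟩ := hπ gq
    rw [eq_bot_iff]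
    rintro z ⟨⟨w, hw, rfl⟩, hz⟩
    change π w ∈ MulAut.conj (π g) • M.map π at hz
    rw [Subgroup.mem_pointwise_smul_iff_inv_smul_mem] at hz
    change (MulAut.conj (π g))⁻¹ (π w) ∈ M.map π at hz
    rw [MulAut.inv_apply, MulAut.conj_symm_apply, ← map_inv, ← map_mul, ← map_mul] at hz
    have hw' : g⁻¹ * w * g ∈ M := by rw [← hcm]; exact hz
    rw [mem_bot]
    refine (QuotientGroup.eq_one_iff w).mpr ?_
    by_contra hwc
    refine hg (mem_map_of_mem π ?_)
    rw [← hNM]
    have hwc' : g⁻¹ * w * g ∉ center G := fun hc => hwc (by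
      rwa [show w = g * (g⁻¹ * w * g) * g⁻¹ by group,
        Subgroup.mem_center_iff.mp hc g, mul_inv_cancel_right])
    have e1 := hCM w hw hwc
    have e2 := hCM _ hw' hwc'
    rw [Subgroup.mem_normalizer_iff]
    intro m
    constructor
    · intro hm
      rw [← e1]
      have := e2.ge hm
      rw [mem_centralizer_singleton_iff] at this ⊢
      calc g * m * g⁻¹ * w = g * (m * (g⁻¹ * w * g)) * g⁻¹ := by group
        _ = g * ((g⁻¹ * w * g) * m) * g⁻¹ := by rw [this]
        _ = w * (g * m * g⁻¹) := by group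
    · intro hm
      rw [← e2]
      have := e1.ge hm
      rw [mem_centralizer_singleton_iff] at this ⊢
      calc m * (g⁻¹ * w * g) = g⁻¹ * ((g * m * g⁻¹) * w) * g := by group
        _ = g⁻¹ * (w * (g * m * g⁻¹)) * g := by rw [this]
        _ = (g⁻¹ * w * g) * m := by group
  obtain ⟨N, hN, hNn, hNnil⟩ := Cfsg.Agent.S0042.result _ hF
  haveI := hNn
  have hNb := CfsgLib.Frobenius.kernel_ne_bot hF hN
  have hNM1 := CfsgLib.Frobenius.kernel_inf hN
  haveI : Group.IsSolvable N := inferInstance
  -- every nontrivial normal subgroup inside the kernel is the kernel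
  have hmin : ∀ E : Subgroup (G ⧸ center G), E.Normal → E ≤ N → E ≠ ⊥ → E = N := by
    intro E hEn hEN hEb
    have htop : E ⊔ M.map π = ⊤ := by
      refine (map_coatom hZM hMco).2 _ (lt_of_le_of_ne le_sup_right fun he => hEb ?_)
      rw [eq_bot_iff, ← hNM1]
      exact le_inf hEN (he ▸ le_sup_left)
    refine le_antisymm hEN fun n hn => ?_
    have : n ∈ E ⊔ M.map π := htop ▸ mem_top n
    obtain ⟨e, he, m, hm, rfl⟩ := mem_sup_of_normal_left.mp this
    have : m ∈ N ⊓ M.map π := ⟨by simpa using mul_mem (inv_mem (hEN he)) hn, hm⟩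
    rw [hNM1, mem_bot] at this
    rw [this, mul_one]; exact he
  obtain ⟨E, r, a, hEN, hEn, hEb, -, hEc, hr, ha, hEcard, hEp⟩ :=
    CfsgLib.Solvable.exists_minimal_normal_elementary_le N inferInstance hNb
  obtain rfl := hmin E hEn hEN hEb
  set K := E.comap π with hK
  have hKne : ∃ k ∈ K, k ∉ center G := by
    obtain ⟨⟨n, hn⟩, hn1'⟩ := Subgroup.ne_bot_iff_exists_ne_one.mp hEb
    have hn1 : n ≠ 1 := fun e => hn1' (Subtype.ext e)
    obtain ⟨k, rfl⟩ := hπ n
    exact ⟨k, hn, fun hk => hn1 ((QuotientGroup.eq_one_iff k).mpr hk)⟩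
  have hKtop : K ≠ ⊤ := fun he => by
    apply hMb
    rw [eq_bot_iff, ← hNM1]
    refine le_inf (fun z hz => ?_) le_rfl
    obtain ⟨w, -, rfl⟩ := hz
    have : w ∈ K := he ▸ mem_top w
    exact this
  have hCK : ∀ k ∈ K, k ∉ center G → centralizer ({k} : Set G) = K := by
    intro k hk hkc
    have hle : centralizer ({k} : Set G) ≤ K := by
      intro z hz
      refine CfsgLib.Frobenius.centralizer_le_kernel hF hN (k := π k) hk
        (fun he => hkc ((QuotientGroup.eq_one_iff k).mp he)) ?_
      rw [mem_centralizer_singleton_iff] at hz ⊢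
      rw [← map_mul, hz, map_mul]
    rcases (h k hkc).le_iff.mp hle with he | he
    · exact absurd he hKtop
    · exact he.symm
  obtain ⟨k₀, hk₀, hk₀c⟩ := hKne
  have hKco : IsCoatom K := hCK k₀ hk₀ hk₀c ▸ h k₀ hk₀c
  have hZK : center G ≤ K := fun z hz => by
    rw [hK, mem_comap, show π z = 1 from (QuotientGroup.eq_one_iff z).mpr hz]
    exact one_mem _
  have hEco : IsCoatom E := by
    have := map_coatom hZK hKco
    rwa [hK, map_comap_eq_self_of_surjective hπ] at this
  have hq : (Nat.card (M.map π)).Prime := by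
    rw [← CfsgLib.Frobenius.kernel_index hF hN]
    exact index_prime_of_normal hEco
  set q := Nat.card (M.map π) with hqdef
  have hEq : E.index = q := CfsgLib.Frobenius.kernel_index hF hN
  have hcop : (Nat.card E).Coprime q := CfsgLib.Frobenius.kernel_coprime hF hN
  have hcard : Nat.card (G ⧸ center G) = r ^ a * q := by
    rw [← hEcard, ← E.card_mul_index, hEq]
  have hrq : r ≠ q := fun he => by
    rw [hEcard, ← he] at hcop
    exact hr.ne_one ((Nat.coprime_self _).mp (Nat.Coprime.coprime_dvd_left (dvd_pow_self r ha.ne') hcop))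
  refine ⟨fun hab' => hMn ⟨fun z hz g => ?_⟩, fun H hH => ?_, r, q, a, hr, hq, hrq, hcard, fun P hP => ?_⟩
  · rw [hab'.1.comm g z, mul_inv_cancel_right]; exact hz
  · by_cases hHN : H ≤ E
    · refine ⟨⟨fun u v => Subtype.ext ?_⟩⟩
      have e := congrArg Subtype.val (hEc.1.comm ⟨u, hHN u.2⟩ ⟨v, hHN v.2⟩)
      exact e
    · have htop : E ⊔ H = ⊤ := hEco.2 _ (left_lt_sup.mpr hHN)
      have hn : (H ⊓ E).Normal := by
        rw [← normalizer_eq_top_iff, eq_top_iff, ← htop, sup_le_iff]
        constructor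
        · refine le_trans ?_ (centralizer_le_normalizer _)
          exact fun e he z hz => congrArg Subtype.val (hEc.1.comm ⟨z, hz.2⟩ ⟨e, he⟩)
        · intro g hg
          rw [Subgroup.mem_normalizer_iff]
          intro z
          constructor
          · exact fun hz => Subgroup.mem_inf.mpr ⟨mul_mem (mul_mem hg (Subgroup.mem_inf.mp hz).1)
              (inv_mem hg), hEn.conj_mem z (Subgroup.mem_inf.mp hz).2 g⟩
          · intro hz
            have e : z = g⁻¹ * (g * z * g⁻¹) * g⁻¹⁻¹ := by group
            rw [e]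
            exact Subgroup.mem_inf.mpr ⟨mul_mem (mul_mem (inv_mem hg) (Subgroup.mem_inf.mp hz).1)
              (inv_mem (inv_mem hg)), hEn.conj_mem _ (Subgroup.mem_inf.mp hz).2 _⟩
      by_cases hb : H ⊓ E = ⊥
      · have hinj : Function.Injective ((QuotientGroup.mk' E).comp H.subtype) := by
          rw [← MonoidHom.ker_eq_bot_iff, eq_bot_iff]
          intro z hz
          have : (z : G ⧸ center G) ∈ H ⊓ E := ⟨z.2, (QuotientGroup.eq_one_iff _).mp hz⟩
          rw [hb, mem_bot] at this
          exact mem_bot.mpr (Subtype.ext this)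
        haveI := Fact.mk hq
        haveI : IsCyclic ((G ⧸ center G) ⧸ E) := isCyclic_of_prime_card (p := q) (by
          rw [← index_eq_card, hEq])
        exact ⟨⟨fun u v => hinj (by rw [map_mul, map_mul]; exact IsCyclic.commutative.1.comm _ _)⟩⟩
      · exfalso
        have := hmin _ hn inf_le_right hb
        apply hH
        rw [← top_le_iff, ← htop]
        exact sup_le (this.ge.trans inf_le_left) le_rfl
  · have hPN : P = E := by
      refine eq_of_le_of_card_ge (fun z hz => ?_) (by rw [hP, hEcard])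
      rw [← QuotientGroup.eq_one_iff]
      have h1 : orderOf (z : (G ⧸ center G) ⧸ E) ∣ r ^ a :=
        (orderOf_map_dvd (QuotientGroup.mk' E) z).trans (hP ▸ Subgroup.orderOf_dvd_natCard P hz)
      have h2 : orderOf (z : (G ⧸ center G) ⧸ E) ∣ q := by
        rw [← hEq, index_eq_card]; exact orderOf_dvd_natCard _
      exact orderOf_eq_one_iff.mp (Nat.eq_one_of_dvd_coprimes (hEcard ▸ hcop) h1 h2)
    rw [hPN]; exact hEn

omit h in
/-- Let G be a non-abelian finite group in which the centralizer of every non-central element is a maximal subgroup. Then G/Z(G) is either an elementary abelian p-group for some prime p, or a minimal non-abelian group (non-abelian with all proper subgroups abelian) of order p^a · q for distinct primes p, q with a normal Sylow p-subgroup. -/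
theorem result {G : Type*} [Group G] [Finite G] (hna : ¬ IsMulCommutative G)
    (h : ∀ x : G, x ∉ Subgroup.center G → IsCoatom (Subgroup.centralizer ({x} : Set G))) :
    (∃ p : ℕ, p.Prime ∧ Cfsg.IsElementaryAbelian p (⊤ : Subgroup (G ⧸ Subgroup.center G))) ∨
    (¬ IsMulCommutative (G ⧸ Subgroup.center G) ∧ (∀ H : Subgroup (G ⧸ Subgroup.center G), H ≠ ⊤ → IsMulCommutative ↥H) ∧
      ∃ p q a : ℕ, p.Prime ∧ q.Prime ∧ p ≠ q ∧ Nat.card (G ⧸ Subgroup.center G) = p ^ a * q ∧
        ∀ P : Subgroup (G ⧸ Subgroup.center G), Nat.card ↥P = p ^ a → P.Normal) := by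
  by_cases hn : ∀ x : G, x ∉ Subgroup.center G → (Subgroup.centralizer ({x} : Set G)).Normal
  · exact Or.inl (all_normal h hna hn)
  · push Not at hn
    obtain ⟨x₀, hx₀, hx₀n⟩ := hn
    obtain ⟨x, hx, hxn, hab⟩ := exists_abelian h hx₀ hx₀n
    exact Or.inr (abelian_case h hx hxn hab)

end Cfsg.Agent.S3904
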