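import Cfsg.Statements.S3918
import Cfsg.Agent.PGroup.RankThree
import Cfsg.Agent.PGroup.UniqueOrderP

set_option autoImplicit false
open Cfsg

namespace Cfsg.Agent.S3918


/-- Say that a group has self-centralizing non-cyclic subgroups when every non-cyclic subgroup H satisfies C_G(H) ≤ H. For an odd prime p, a finite non-abelian p-group has self-centralizing non-cyclic subgroups if and only if it has order p³. -/
theorem result {G : Type*} [Group G] [Finite G] {p : ℕ} [Fact p.Prime] (hp : p ≠ 2) (hG : IsPGroup p G) (hna : ¬ IsMulCommutative G) :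
    (∀ H : Subgroup G, ¬ IsCyclic ↥H → Subgroup.centralizer (H : Set G) ≤ H) ↔ Nat.card G = p ^ 3 := by
  classical
  have hprime : p.Prime := Fact.out
  constructor
  · intro h
    have hnc : ¬ IsCyclic G := fun hc => hna (IsMulCommutative.of_comm fun a b => by
      exact (IsCyclic.commGroup (α := G)).mul_comm a b)
    obtain ⟨E, hEn, hEe, hEc⟩ := CfsgLib.PGroup.exists_normal_elementary_sq hp hG hnc
    haveI := hEn
    have hEnc : ¬ IsCyclic E := by
      intro hc
      obtain ⟨g, hg⟩ := hc.exists_generator
      have h1 : Nat.card E ∣ p := by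
        rw [← orderOf_eq_card_of_forall_mem_zpowers hg]
        exact orderOf_dvd_of_pow_eq_one (Subtype.ext (hEe.2 _ g.2))
      rw [hEc] at h1
      have := Nat.le_of_dvd hprime.pos h1
      nlinarith [hprime.two_le]
    have hCE : Subgroup.centralizer (E : Set G) = E :=
      le_antisymm (h E hEnc) fun a ha => Subgroup.mem_centralizer_iff.2 fun b hb =>
        congrArg Subtype.val (hEe.1.1.comm ⟨b, hb⟩ ⟨a, ha⟩)
    have hidx := CfsgLib.PGroup.index_centralizer_dvd_of_card_sq hG E hEe.1 hEc
    rw [hCE] at hidx
    have hmul := E.card_mul_index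
    rcases (Nat.dvd_prime hprime).1 hidx with h1 | h1
    · exfalso
      rw [Subgroup.index_eq_one] at h1
      exact hna (IsMulCommutative.of_comm fun a b => congrArg Subtype.val
        (hEe.1.1.comm ⟨a, h1 ▸ Subgroup.mem_top a⟩ ⟨b, h1 ▸ Subgroup.mem_top b⟩))
    · rw [← hmul, hEc, h1, ← pow_succ]
  · intro h3 H hH
    rcases eq_or_ne H ⊤ with rfl | hne
    · exact le_top
    obtain ⟨k, hk⟩ := IsPGroup.iff_card.1 (hG.to_subgroup H)
    have hk3 : k ≤ 3 := by
      rw [← Nat.pow_le_pow_iff_right hprime.one_lt, ← hk, ← h3]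
      exact Subgroup.card_le_card_group H
    have hk2 : k = 2 := by
      by_contra h2
      rcases (show k = 3 ∨ k ≤ 1 by omega) with rfl | h1
      · exact hne (Subgroup.eq_top_of_card_eq H (hk.trans h3.symm))
      · refine hH ?_
        rcases (show k = 0 ∨ k = 1 by omega) with rfl | rfl
        · rw [Subgroup.eq_bot_of_card_eq H (by rw [hk, pow_zero])]
          exact isCyclic_of_subsingleton
        · exact isCyclic_of_prime_card (hk.trans (pow_one p))
    subst hk2
    have hHi : H.index = p := by
      have h := H.card_mul_index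
      rw [hk, h3, pow_succ p 2] at h
      exact Nat.eq_of_mul_eq_mul_left (pow_pos hprime.pos 2) h
    have hHc : IsMulCommutative H := IsPGroup.isMulCommutative_of_card_eq_prime_sq hk
    have hHC : H ≤ Subgroup.centralizer (H : Set G) := fun a ha =>
      Subgroup.mem_centralizer_iff.2 fun b hb =>
        congrArg Subtype.val (hHc.1.comm ⟨b, hb⟩ ⟨a, ha⟩)
    rcases (CfsgLib.PGroup.isCoatom_of_index_eq hHi).le_iff.1 hHC with h | h
    · exfalso
      haveI hHn : H.Normal := CfsgLib.PGroup.normal_of_coatom hG
        (CfsgLib.PGroup.isCoatom_of_index_eq hHi)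
      haveI : IsCyclic (G ⧸ H) := isCyclic_of_prime_card
        (show Nat.card (G ⧸ H) = p by rw [← Subgroup.index_eq_card, hHi])
      refine hna (IsMulCommutative.of_comm fun a b => commutative_of_cyclic_center_quotient
        (QuotientGroup.mk' H) ?_ a b)
      rw [QuotientGroup.ker_mk']
      intro z hz
      exact Subgroup.mem_center_iff.2 fun g =>
        (Subgroup.mem_centralizer_iff.1 (h ▸ Subgroup.mem_top g : g ∈ Subgroup.centralizer (H : Set G)) z hz).symm
    · exact h.le

end Cfsg.Agent.S3918
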