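import Cfsg.Statements.S3921
import Cfsg.Agent.SelfCentralNoncyclic.Cases
import Cfsg.Agent.SelfCentralNoncyclic.Semidihedral
import Cfsg.Agent.SelfCentralNoncyclic.PSL
import Cfsg.Agent.S0508
import Cfsg.Agent.S0252
import Cfsg.Agent.S0253


set_option autoImplicit false
set_option linter.style.haveILetI false
open Cfsg

namespace Cfsg.Agent.S3921

open CfsgLib.SelfCentralNC CfsgLib.TwoGroup in
theorem forward_aux {G : Type*} [Group G] [Finite G] [IsSimpleGroup G] (hna : ¬ IsMulCommutative G) (h : SCN G) :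
    ∃ (F : Type) (_ : Field F) (_ : Fintype F),
      (Fintype.card F = 4 ∨ Fintype.card F = 9 ∨ ((Fintype.card F).Prime ∧ ∃ k : ℕ, Fintype.card F = 2 ^ k + 1 ∨ Fintype.card F = 2 ^ k - 1)) ∧
      Nonempty (G ≃* Matrix.ProjectiveSpecialLinearGroup (Fin 2) F) := by
  classical
  haveI : Fact (Nat.Prime 2) := ⟨Nat.prime_two⟩
  let T : Sylow 2 G := default
  rcases h.sylow_two_frame hna T with ⟨m, hm, ⟨eD⟩⟩ | ⟨m, hm, ⟨F⟩⟩
  swap
  · exfalso
    obtain ⟨ht2, htZ, hC⟩ := h.centralizer_of_frame T (show 1 ≤ m by omega) F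
      (SDData.sdr_half (show 2 ≤ m by omega))
    refine SDData.not_simple (m := m) (e := fun i => (F.e i : G)) (y := (F.y : G)) ⟨hm, ?_, ?_, ?_, ?_, ?_⟩ hna
    · intro i j; rw [F.map_add, Subgroup.coe_mul]
    · exact Subtype.val_injective.comp F.inj
    · exact fun i e => F.y_ne i (Subtype.ext e)
    · intro i; exact congrArg Subtype.val (F.conj_y i)
    · intro g hg
      have hgT : g ∈ (T : Subgroup G) := hC ▸ Subgroup.mem_centralizer_singleton_iff.2 hg
      obtain ⟨i, hi | hi⟩ := F.cover ⟨g, hgT⟩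
      · exact ⟨i, .inl (congrArg Subtype.val hi)⟩
      · exact ⟨i, .inr (congrArg Subtype.val hi)⟩
  let F := (dihedralFrame (2 ^ m)).map eD.symm
  obtain ⟨ht2, htZ, hC⟩ := h.centralizer_of_frame T hm F (by rw [neg_one_mul, neg_half hm])
  set t : G := (F.e (half m) : G)
  have hO : (Cfsg.oddCore ↥(Subgroup.centralizer ({t} : Set G))).map
      (Subgroup.centralizer ({t} : Set G)).subtype = ⊥ := by
    rw [Subgroup.map_eq_bot_iff, Subgroup.ker_subtype, le_bot_iff, Cfsg.oddCore, Cfsg.pPrimeCore, sSup_eq_bot]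
    rintro N ⟨-, hN⟩
    have h2 : IsPGroup 2 ↥(Subgroup.centralizer ({t} : Set G)) := by rw [hC]; exact T.2
    obtain ⟨j, hj⟩ := IsPGroup.iff_card.1 (h2.to_subgroup N)
    rw [← Subgroup.card_eq_one]
    rw [hj] at hN ⊢
    rcases Nat.eq_zero_or_pos j with h0 | h0
    · rw [h0, pow_zero]
    · exact absurd ((Nat.coprime_pow_left_iff h0 2 2).1 hN) (by decide)
  obtain ⟨K, fK, tK, hodd, ⟨e⟩⟩ := Cfsg.Agent.S0508.result T (2 ^ m)
    (Nat.le_self_pow (by omega) 2) ⟨eD⟩ t ht2 (F.e (half m)).2 htZ ⊥ hO.symm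
    (fun h0 => absurd rfl h0)
    (fun s _ hs => absurd (Subgroup.mem_centralizer_iff.2 fun y hy => by
      rw [Subgroup.mem_bot.1 hy, one_mul, mul_one]) hs)
    (fun Y hY hY0 => absurd (le_bot_iff.1 hY) hY0)
  refine ⟨K, fK, tK, ?_, ⟨e⟩⟩
  have h5 : 5 ≤ Fintype.card K :=
    card_field_ge_five hna (fun h4 => by rw [h4] at hodd; exact absurd hodd (by decide)) e
  have hodd' : Fintype.card K % 2 = 1 := Nat.odd_iff.1 hodd
  obtain ⟨p, hchar⟩ := CharP.exists K
  haveI := hchar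
  haveI : Fact p.Prime := ⟨CharP.char_is_prime K p⟩
  -- all involutions are conjugate, so their centralizers are 2-groups
  have hconj : ∀ u : G, orderOf u = 2 → ∃ c : G, c * t * c⁻¹ = u := by
    intro u hu
    obtain ⟨c, hc⟩ := CfsgLib.PSL2Two.one_class hodd' (e u) (by rw [MulEquiv.orderOf_eq]; exact hu)
    obtain ⟨d, hd⟩ := CfsgLib.PSL2Two.one_class hodd' (e t) (by rw [MulEquiv.orderOf_eq]; exact ht2)
    refine ⟨e.symm (c * d⁻¹), e.injective ?_⟩
    rw [map_mul, map_mul, map_inv, e.apply_symm_apply, ← hc, ← hd]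
    group
  have key : ∀ n, 2 ∣ n → n ∈ Set.range (orderOf : Matrix.ProjectiveSpecialLinearGroup (Fin 2) K → ℕ) →
      ∃ j, n = 2 ^ j := by
    rintro n hn ⟨x, rfl⟩
    set g := e.symm x with hg
    have hgo : orderOf g = orderOf x := MulEquiv.orderOf_eq e.symm x
    have hu : orderOf (g ^ (orderOf g / 2)) = 2 := orderOf_pow_orderOf_div (orderOf_pos g).ne' (hgo ▸ hn)
    obtain ⟨c, hc⟩ := hconj _ hu
    have hmem : c⁻¹ * g * c ∈ (T : Subgroup G) := by
      rw [← hC, Subgroup.mem_centralizer_singleton_iff]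
      have h1 : g * (c * t * c⁻¹) = c * t * c⁻¹ * g := by rw [hc, ← pow_succ', ← pow_succ]
      calc c⁻¹ * g * c * t = c⁻¹ * (g * (c * t * c⁻¹)) * c := by group
        _ = c⁻¹ * (c * t * c⁻¹ * g) * c := by rw [h1]
        _ = t * (c⁻¹ * g * c) := by group
    obtain ⟨j, hj⟩ := T.2 ⟨_, hmem⟩
    have hd : orderOf g ∣ 2 ^ j := by
      apply orderOf_dvd_of_pow_eq_one
      have h1 : (c⁻¹ * g * c) ^ (2 ^ j) = 1 := congrArg Subtype.val hj
      rw [show c⁻¹ * g * c = c⁻¹ * g * c⁻¹⁻¹ by rw [inv_inv], conj_pow, conj_eq_one_iff] at h1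
      exact h1
    obtain ⟨i, -, hi⟩ := (Nat.dvd_prime_pow Nat.prime_two).1 hd
    exact ⟨i, hgo ▸ hi⟩
  have h2d : 2 ∣ Fintype.card K - 1 := ⟨(Fintype.card K - 1) / 2, by omega⟩
  have hrange := Cfsg.Agent.S2475.result (F := K) p (by omega)
  rw [Nat.gcd_eq_left h2d] at hrange
  obtain ⟨k, hk⟩ : ∃ k, Fintype.card K = 2 ^ k + 1 ∨ Fintype.card K + 1 = 2 ^ k := by
    rcases (show 2 ∣ (Fintype.card K - 1) / 2 ∨ 2 ∣ (Fintype.card K + 1) / 2 by omega) with hn | hn
    · obtain ⟨j, hj⟩ := key _ hn (by rw [hrange]; exact Or.inr (Or.inl dvd_rfl))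
      exact ⟨j + 1, .inl (by rw [pow_succ]; omega)⟩
    · obtain ⟨j, hj⟩ := key _ hn (by rw [hrange]; exact Or.inr (Or.inr dvd_rfl))
      exact ⟨j + 1, .inr (by rw [pow_succ]; omega)⟩
  obtain ⟨f, hp, hf⟩ := FiniteField.card K p
  have hp2 : p ≠ 2 := by
    intro h2
    have : 2 ∣ Fintype.card K := by rw [hf, h2]; exact dvd_pow_self 2 f.ne_zero
    omega
  rcases eq_one_or_nine hp hp2 f.pos (hf ▸ hk) with h1 | h9
  · refine .inr (.inr ⟨?_, k, hk.imp id (fun h' => by omega)⟩)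
    rw [hf, h1, pow_one]; exact hp
  · exact .inr (.inl (hf.trans h9))

/-- Say that a group has self-centralizing non-cyclic subgroups when every non-cyclic subgroup H satisfies C_G(H) ≤ H. A non-abelian finite simple group has self-centralizing non-cyclic subgroups if and only if it is isomorphic to PSL₂(q) with q = 4, q = 9, or q a prime of the form 2^k + 1 or 2^k − 1. -/
theorem result {G : Type*} [Group G] [Finite G] [IsSimpleGroup G] (hna : ¬ IsMulCommutative G) :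
    (∀ H : Subgroup G, ¬ IsCyclic ↥H → Subgroup.centralizer (H : Set G) ≤ H) ↔ ∃ (F : Type) (_ : Field F) (_ : Fintype F),
      (Fintype.card F = 4 ∨ Fintype.card F = 9 ∨ ((Fintype.card F).Prime ∧ ∃ k : ℕ, Fintype.card F = 2 ^ k + 1 ∨ Fintype.card F = 2 ^ k - 1)) ∧
      Nonempty (G ≃* Matrix.ProjectiveSpecialLinearGroup (Fin 2) F) := by
  constructor
  · exact fun h => forward_aux hna h
  rintro ⟨F, fF, tF, hF, ⟨e⟩⟩
  -- reduce `q = 4` to `q = 5`
  have main : ∀ (F : Type) [Field F] [Fintype F], (Fintype.card F = 9 ∨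
      ((Fintype.card F).Prime ∧ ∃ k : ℕ, Fintype.card F = 2 ^ k + 1 ∨ Fintype.card F = 2 ^ k - 1)) →
      Nonempty (G ≃* Matrix.ProjectiveSpecialLinearGroup (Fin 2) F) → CfsgLib.SelfCentralNC.SCN G := by
    intro F _ _ hF ⟨e⟩
    have h5 : 5 ≤ Fintype.card F := by
      refine CfsgLib.SelfCentralNC.card_field_ge_five hna ?_ e
      intro h4
      rcases hF with h | ⟨h, -⟩ <;> rw [h4] at h
      · omega
      · exact absurd h (by norm_num)
    obtain ⟨k, hk, hk2⟩ : ∃ k, (Fintype.card F = 2 ^ k + 1 ∨ Fintype.card F + 1 = 2 ^ k) ∧ 2 ≤ k := by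
      rcases hF with h | ⟨-, k, hk⟩
      · exact ⟨3, .inl (by rw [h]; norm_num), by norm_num⟩
      · refine ⟨k, hk.imp id (fun h' => by have := Nat.two_pow_pos k; omega), ?_⟩
        by_contra hlt
        have := Nat.pow_le_pow_right (show 0 < 2 by norm_num) (show k ≤ 1 by omega)
        omega
    have hP := CfsgLib.SelfCentralNC.scn_psl (F := F) hk2 hk h5 (hF.elim .inr fun h => .inl h.1)
    exact hP.congr e.symm
  rcases hF with h4 | hF
  · obtain ⟨e1⟩ := Cfsg.Agent.S0252.result h4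
    haveI : Fact (Nat.Prime 5) := ⟨by norm_num⟩
    obtain ⟨e2⟩ := Cfsg.Agent.S0253.result (F := ZMod 5) (ZMod.card 5)
    exact main (ZMod 5) (.inr ⟨by rw [ZMod.card]; norm_num, 2, .inl (by rw [ZMod.card]; norm_num)⟩)
      ⟨(e.trans e1).trans e2.symm⟩
  · exact main F hF ⟨e⟩

end Cfsg.Agent.S3921
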