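import Cfsg.Statements.S3922
import Cfsg.Agent.ThreeSizes.AllAbelian

set_option autoImplicit false
open Cfsg

namespace Cfsg.Agent.S3922

/-- A finite group whose conjugacy classes have exactly three distinct sizes (1 and two further values) is solvable. -/
theorem result {G : Type*} [Group G] [Finite G] (n₁ n₂ : ℕ) (h12 : n₂ < n₁) (h2 : 1 < n₂)
    (h : ∀ x : G, (Subgroup.centralizer ({x} : Set G)).index = 1 ∨ (Subgroup.centralizer ({x} : Set G)).index = n₂ ∨
      (Subgroup.centralizer ({x} : Set G)).index = n₁)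
    (h₁ : ∃ x : G, (Subgroup.centralizer ({x} : Set G)).index = n₁) (h₂ : ∃ x : G, (Subgroup.centralizer ({x} : Set G)).index = n₂) :
    Group.IsSolvable G := by
  by_contra hns
  have key : ∀ (x : G) (n : ℕ), (Subgroup.centralizer ({x} : Set G)).index = n →
      Nat.card (CfsgLib.TwoSizes.cen x) = Nat.card G / n := by
    rintro x n rfl
    rw [← Subgroup.card_mul_index (Subgroup.centralizer ({x} : Set G)),
      Nat.mul_div_cancel _ (Nat.pos_of_ne_zero Subgroup.index_ne_zero_of_finite)]
  have hcen : ∀ x : G, (Subgroup.centralizer ({x} : Set G)).index = 1 ↔ x ∈ Subgroup.center G := by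
    intro x
    rw [Subgroup.index_eq_one]
    exact Subgroup.centralizer_eq_top_iff_subset.trans Set.singleton_subset_iff
  obtain ⟨x₁, hx₁⟩ := h₁
  obtain ⟨x₂, hx₂⟩ := h₂
  have H : CfsgLib.ThreeSizes.ThreeHyp G (Nat.card G / n₂) (Nat.card G / n₁) := by
    refine ⟨?_, fun x hx => ?_, ⟨x₂, fun hc => ?_, key _ _ hx₂⟩, ⟨x₁, fun hc => ?_, key _ _ hx₁⟩⟩
    · rw [← key _ _ hx₁, ← key _ _ hx₂]
      have e1 := (Subgroup.centralizer ({x₁} : Set G)).card_mul_index
      have e2 := (Subgroup.centralizer ({x₂} : Set G)).card_mul_index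
      rw [hx₁] at e1
      rw [hx₂] at e2
      by_contra hle
      push Not at hle
      have h3 := Nat.mul_le_mul_right n₂ hle
      rw [e2] at h3
      have h4 : 0 < Nat.card (CfsgLib.TwoSizes.cen x₁) := Nat.card_pos
      nlinarith
    · rcases h x with e | e | e
      · exact absurd ((hcen x).1 e) hx
      · exact Or.inl (key _ _ e)
      · exact Or.inr (key _ _ e)
    · have := (hcen x₂).2 hc
      omega
    · have := (hcen x₁).2 hc
      omega
  by_cases hN : ∃ y : G, y ∉ Subgroup.center G ∧ CfsgLib.ThreeSizes.Nest y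
  · obtain ⟨p, hp, hc, hs⟩ := H.comp_of_nest hns hN
    exact hns (CfsgLib.ThreeSizes.isSolvable_of_comp hp hc hs)
  · rcases H.comp_of_flat hns (fun y hy hn => hN ⟨y, hy, hn⟩) with ⟨p, hp, hc, hs⟩ | ⟨hc, htwo⟩
    · exact hns (CfsgLib.ThreeSizes.isSolvable_of_comp hp hc hs)
    · exact H.false_of_abelian hns hc htwo

end Cfsg.Agent.S3922
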