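import Cfsg.Statements.S3940
import Cfsg.Agent.Eq.Def_Solvable
import Cfsg.Agent.Eq.Def_Local
import Cfsg.Agent.LocalSFour60.Embedded
import Cfsg.Agent.LocalSFour60.Models
import Cfsg.Agent.S0205
import Cfsg.Agent.Solvable.CoprimeIndex

set_option autoImplicit false
open Cfsg

namespace Cfsg.Agent.S3940

open CfsgLib.SolvableSFour
open scoped commutatorElement

universe u

/-- In a nilpotent group an element of odd order inverted by conjugation is trivial. -/
theorem eq_one_of_inverted {X : Type*} [Group X] [Group.IsNilpotent X] {a c : X}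
    (hac : a * c * a⁻¹ = c⁻¹) (hc : Odd (orderOf c)) : c = 1 := by
  obtain ⟨n, hn⟩ := Subgroup.nilpotent_iff_lowerCentralSeries.1 (inferInstance : Group.IsNilpotent X)
  have key : ∀ k : ℕ, c ^ 2 ^ k ∈ (⊤ : Subgroup X).lowerCentralSeries k := by
    intro k
    induction k with
    | zero => simp [Subgroup.lowerCentralSeries_zero]
    | succ k ih =>
      rw [Subgroup.lowerCentralSeries_succ]
      have h1 : a * c ^ 2 ^ k * a⁻¹ = (c ^ 2 ^ k)⁻¹ := by rw [← conj_pow, hac, inv_pow]
      have h2 : c ^ 2 ^ (k + 1) = ⁅c ^ 2 ^ k, a⁆ := by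
        rw [commutatorElement_def,
          show c ^ 2 ^ k * a * (c ^ 2 ^ k)⁻¹ * a⁻¹ = c ^ 2 ^ k * (a * c ^ 2 ^ k * a⁻¹)⁻¹ by group,
          h1, inv_inv, ← pow_add, ← two_mul, ← pow_succ']
      rw [h2]
      exact Subgroup.commutator_mem_commutator ih (Subgroup.mem_top a)
  have h := key n
  rw [hn, Subgroup.mem_bot] at h
  exact orderOf_eq_one_iff.1 (Nat.eq_one_of_dvd_coprimes ((Nat.coprime_two_left.2 hc).pow_left n)
    (orderOf_dvd_of_pow_eq_one h) dvd_rfl)

theorem coprime_of_pow_eq_one {X : Type*} [Group X] [Finite X] {p N : ℕ} (hp : p.Prime)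
    (hN : ¬ p ∣ N) (h : ∀ x : X, x ^ N = 1) : (Nat.card X).Coprime p := by
  refine (hp.coprime_iff_not_dvd.2 fun hd => ?_).symm
  haveI := Fact.mk hp
  obtain ⟨x, hx⟩ := exists_prime_orderOf_dvd_card' (G := X) p hd
  exact hN (hx ▸ orderOf_dvd_of_pow_eq_one (h x))

variable {G : Type u} [Group G] [Finite G] {p : ℕ}

/-- Subgroups of order prime to `p` of a homomorphic image are nilpotent. -/
theorem nilpotent_image (hp : p.Prime)
    (h : ∀ H : Subgroup G, (Nat.card ↥H).Coprime p → Group.IsNilpotent ↥H)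
    {Y : Type*} [Group Y] [Finite Y] (f : G →* Y) (Z : Subgroup Y) (hZ : Z ≤ f.range)
    (hcop : (Nat.card Z).Coprime p) : Group.IsNilpotent Z := by
  classical
  haveI := Fact.mk hp
  obtain ⟨H, hHZ, hmin⟩ : ∃ H : Subgroup G, H.map f = Z ∧
      ∀ H' ≤ H, H'.map f = Z → H' = H := by
    obtain ⟨H, hH, hmin⟩ := (Set.toFinite {H : Subgroup G | H.map f = Z}).exists_minimal
      ⟨Z.comap f, by rw [Set.mem_setOf_eq, Subgroup.map_comap_eq, inf_eq_right.2 hZ]⟩
    exact ⟨H, hH, fun H' hle hH' => le_antisymm hle (hmin hH' hle)⟩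
  -- the restriction to `H`
  set g := f.comp H.subtype with hg
  have hrange : g.range = Z := by rw [hg, MonoidHom.range_comp, Subgroup.range_subtype, hHZ]
  obtain ⟨P⟩ : Nonempty (Sylow p H) := inferInstance
  have hPker : (P : Subgroup H) ≤ g.ker := by
    intro x hx
    refine MonoidHom.mem_ker.2 (orderOf_eq_one_iff.1 ?_)
    obtain ⟨k, hk⟩ := P.isPGroup' ⟨x, hx⟩
    refine Nat.eq_one_of_dvd_coprimes (hcop.symm.pow_left k)
      ((orderOf_map_dvd g x).trans (orderOf_dvd_of_pow_eq_one (congrArg Subtype.val hk))) ?_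
    exact Z.orderOf_dvd_natCard (hrange ▸ ⟨x, rfl⟩)
  have hminH : ∀ K : Subgroup H, K ⊔ g.ker = ⊤ → K = ⊤ := by
    intro K hK
    have h1 : (K.map H.subtype).map f = Z := by
      rw [Subgroup.map_map, ← hg, ← hrange, MonoidHom.range_eq_map, ← hK, Subgroup.map_sup,
        (Subgroup.map_eq_bot_iff _).2 le_rfl, sup_bot_eq]
    have h2 := hmin _ (Subgroup.map_subtype_le K) h1
    exact Subgroup.map_injective H.subtype_injective
      (h2.trans (CfsgLib.LocalSFour60.map_top_subtype H).symm)
  have hPn : (P : Subgroup H).Normal := by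
    refine Subgroup.normalizer_eq_top_iff.1 (hminH _ ?_)
    rw [eq_top_iff, ← CfsgLib.GlaubermanZJ.normalizer_inf_sup_eq_top P g.ker, inf_eq_left.2 hPker]
  haveI := hPn
  obtain ⟨C, hC⟩ := Subgroup.exists_right_complement'_of_coprime P.card_coprime_index
  have hCtop : C = ⊤ := hminH C (by
    rw [eq_top_iff, ← hC.sup_eq_top]
    exact sup_le (hPker.trans le_sup_right) le_sup_left)
  have hPbot : (P : Subgroup H) = ⊥ := by
    have h1 := hC.disjoint
    rwa [hCtop, disjoint_top] at h1
  have hHcop : (Nat.card H).Coprime p := by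
    refine (hp.coprime_iff_not_dvd.2 fun hd => ?_).symm
    exact P.ne_bot_of_dvd_card hd hPbot
  haveI := h H hHcop
  haveI : Group.IsNilpotent g.range :=
    Group.nilpotent_of_surjective g.rangeRestrict g.rangeRestrict_surjective
  exact Group.nilpotent_of_mulEquiv (MulEquiv.subgroupCongr hrange)

theorem no_dihedral (hp : p.Prime) (hp3 : 3 < p)
    (h : ∀ H : Subgroup G, (Nat.card ↥H).Coprime p → Group.IsNilpotent ↥H)
    (hd : CfsgLib.LocalSFour60.HasDihedral p G) : False := by
  obtain ⟨a, b, r, hr, hr2, hrp, ha, hb, hab, habr⟩ := hd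
  set c := a * b with hc
  have hac : a * c * a⁻¹ = c⁻¹ := by
    rw [hc, inv_eq_of_mul_eq_one_right ha, mul_inv_rev, inv_eq_of_mul_eq_one_right hb,
      inv_eq_of_mul_eq_one_right ha, ← mul_assoc, ha, one_mul]
  set H := Subgroup.zpowers c ⊔ Subgroup.zpowers a with hH
  have hn : Subgroup.zpowers a ≤ Subgroup.normalizer (Subgroup.zpowers c : Set G) := by
    rw [Subgroup.zpowers_le, Subgroup.mem_normalizer_iff_map_conj_eq, MonoidHom.map_zpowers]
    show Subgroup.zpowers (a * c * a⁻¹) = _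
    rw [hac, Subgroup.zpowers_inv]
  have hall : ∀ x : H, x ^ (2 * r) = 1 := by
    rintro ⟨x, hx⟩
    refine Subtype.ext ?_
    show x ^ (2 * r) = 1
    have hx' : x ∈ ((Subgroup.zpowers c ⊔ Subgroup.zpowers a : Subgroup G) : Set G) := hx
    rw [Subgroup.coe_mul_of_right_le_normalizer_left _ _ hn] at hx'
    obtain ⟨_, ⟨i, rfl⟩, _, ⟨j, rfl⟩, rfl⟩ := hx'
    show (c ^ i * a ^ j) ^ (2 * r) = 1
    rcases Int.even_or_odd j with ⟨k, rfl⟩ | ⟨k, rfl⟩
    · have : a ^ (k + k) = 1 := by rw [← two_mul, zpow_mul, zpow_two, ha, one_zpow]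
      rw [this, mul_one, mul_comm 2 r, pow_mul,
        ← zpow_natCast (c ^ i) r, ← zpow_mul, mul_comm i, zpow_mul, zpow_natCast, habr, one_zpow,
        one_pow]
    · have : a ^ (2 * k + 1) = a := by
        rw [zpow_add, zpow_mul, zpow_two, ha, one_zpow, one_mul, zpow_one]
      rw [this, pow_mul, sq]
      have h2 : c ^ i * a * (c ^ i * a) = 1 := by
        rw [show c ^ i * a * (c ^ i * a) = c ^ i * (a * c ^ i * a⁻¹) * (a * a) by group, ← conj_zpow,
          hac, inv_zpow, mul_inv_cancel, ha, one_mul]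
      rw [h2, one_pow]
  have hcop : (Nat.card H).Coprime p := coprime_of_pow_eq_one hp (fun hd => by
    rcases (Nat.Prime.dvd_mul hp).1 hd with h2 | h2
    · exact absurd (Nat.le_of_dvd two_pos h2) (by omega)
    · exact hrp ((Nat.prime_dvd_prime_iff_eq hp hr).1 h2).symm) hall
  haveI := h H hcop
  have h1 : (⟨c, Subgroup.mem_sup_left (Subgroup.mem_zpowers c)⟩ : H) = 1 := by
    refine eq_one_of_inverted (a := ⟨a, Subgroup.mem_sup_right (Subgroup.mem_zpowers a)⟩)
      (Subtype.ext hac) ?_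
    rw [Subgroup.orderOf_mk]
    exact (hr.odd_of_ne_two hr2).of_dvd_nat (orderOf_dvd_of_pow_eq_one habr)
  exact hab (congrArg Subtype.val h1)

theorem not_involves (hp : p.Prime) (hp3 : 3 < p)
    (h : ∀ H : Subgroup G, (Nat.card ↥H).Coprime p → Group.IsNilpotent ↥H) :
    ¬ Cfsg.Involves (Equiv.Perm (Fin 4)) G := by
  rintro ⟨K, R, hn, ⟨e⟩⟩
  have hK : ∀ L : Subgroup K, (Nat.card ↥L).Coprime p → Group.IsNilpotent ↥L := by
    intro L hL
    haveI := h (L.map K.subtype) (by rwa [Subgroup.card_map_of_injective K.subtype_injective])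
    exact Group.nilpotent_of_mulEquiv (L.equivMapOfInjective K.subtype K.subtype_injective).symm
  haveI := nilpotent_image hp hK (e.toMonoidHom.comp (QuotientGroup.mk' (R.subgroupOf K))) ⊤
    (fun y _ => by
      obtain ⟨x, hx⟩ := (e.surjective.comp (QuotientGroup.mk'_surjective _)) y
      exact ⟨x, hx⟩)
    (by
      rw [Subgroup.card_top, Nat.card_eq_fintype_card, Fintype.card_perm, Fintype.card_fin]
      refine Nat.Coprime.symm (hp.coprime_iff_not_dvd.2 fun hd => ?_)
      have h4 : p ≤ 4 := hp.dvd_factorial.1 hd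
      interval_cases p
      norm_num at hp)
  haveI : Group.IsNilpotent (Equiv.Perm (Fin 4)) := Group.nilpotent_of_mulEquiv Subgroup.topEquiv
  have := eq_one_of_inverted (a := Equiv.swap (0 : Fin 4) 1)
    (c := Equiv.swap (0 : Fin 4) 1 * Equiv.swap 1 2) (by decide)
    (by
      rw [show orderOf (Equiv.swap (0 : Fin 4) 1 * Equiv.swap 1 2) = 3 from
        haveI := Fact.mk Nat.prime_three; orderOf_eq_prime (by decide) (by decide)]
      decide)
  exact absurd this (by decide)

theorem sq_mem_centralizer (hp : p.Prime) (hp3 : 3 < p)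
    (h : ∀ H : Subgroup G, (Nat.card ↥H).Coprime p → Group.IsNilpotent ↥H)
    (U : Subgroup G) (hU : Elem U) (hU4 : Nat.card U = 4)
    (g : G) (hg : g ∈ Subgroup.normalizer (U : Set G)) :
    g * g ∈ Subgroup.centralizer (U : Set G) := by
  classical
  haveI := Fintype.ofFinite G
  -- `g ^ 6` centralises `U`
  have hgU : ∀ u ∈ U, g * u * g⁻¹ ∈ U := fun u hu => conj_mem_of_mem_normalizer hg hu
  have h6 : ∀ u ∈ U, g ^ 6 * u * (g ^ 6)⁻¹ = u := by
    let T := {u : G // u ∈ U ∧ u ≠ 1}
    let σ : Equiv.Perm T := Equiv.ofBijective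
      (fun u => ⟨g * u.1 * g⁻¹, hgU u.1 u.2.1, fun h => u.2.2 (conj_eq_one_iff.1 h)⟩)
      (Finite.injective_iff_bijective.1 fun u v huv =>
        Subtype.ext ((MulAut.conj g).injective (congrArg Subtype.val huv)))
    have hσ : ∀ (n : ℕ) (u : T), ((σ ^ n) u).1 = g ^ n * u.1 * (g ^ n)⁻¹ := by
      intro n
      induction n with
      | zero => intro u; simp
      | succ n ih =>
        intro u
        rw [pow_succ' σ, Equiv.Perm.mul_apply]
        show g * ((σ ^ n) u).1 * g⁻¹ = _
        rw [ih, pow_succ' g]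
        group
    have hcard : Nat.card (Equiv.Perm T) = 6 := by
      have h3 : Fintype.card T = 3 := by
        rw [Fintype.card_subtype]
        have : (Finset.univ.filter fun u : G => u ∈ U ∧ u ≠ 1) =
            (Finset.univ.filter fun u : G => u ∈ U).erase 1 := by
          ext u; simp [and_comm]
        rw [this, Finset.card_erase_of_mem (by simp), ← Fintype.card_subtype,
          ← Nat.card_eq_fintype_card]
        show Nat.card ↥U - 1 = 3
        omega
      rw [Nat.card_eq_fintype_card, Fintype.card_perm, h3]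
      rfl
    intro u hu
    by_cases hu1 : u = 1
    · subst hu1; group
    have h1 := hσ 6 ⟨u, hu, hu1⟩
    rw [← hcard, pow_card_eq_one', Equiv.Perm.one_apply, hcard] at h1
    exact h1.symm
  set X := U ⊔ Subgroup.zpowers g with hX
  have hgN : Subgroup.zpowers g ≤ Subgroup.normalizer (U : Set G) := Subgroup.zpowers_le.2 hg
  set C := Subgroup.zpowers (g ^ 6) with hC
  have hXC : X ≤ Subgroup.centralizer (C : Set G) := by
    refine sup_le (fun u hu => ?_) (Subgroup.zpowers_le.2 ?_)
    · refine Subgroup.mem_centralizer_iff.2 ?_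
      rintro _ ⟨i, rfl⟩
      exact (show Commute (g ^ 6) u from mul_inv_eq_iff_eq_mul.1 (h6 u hu)).zpow_left i
    · refine Subgroup.mem_centralizer_iff.2 ?_
      rintro _ ⟨i, rfl⟩
      exact ((Commute.refl g).pow_left 6).zpow_left i
  haveI hCn : (C.subgroupOf X).Normal := ⟨fun c hc x => by
    refine Subgroup.mem_subgroupOf.2 ?_
    show (x : G) * c * (x : G)⁻¹ ∈ C
    rw [← Subgroup.mem_centralizer_iff.1 (hXC x.2) c hc, mul_inv_cancel_right]
    exact hc⟩
  set π := QuotientGroup.mk' (C.subgroupOf X) with hπ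
  have hY : ∀ y : X ⧸ C.subgroupOf X, y ^ 12 = 1 := by
    intro y
    obtain ⟨⟨x, hx⟩, rfl⟩ := QuotientGroup.mk'_surjective _ y
    rw [← map_pow, QuotientGroup.mk'_apply, QuotientGroup.eq_one_iff, Subgroup.mem_subgroupOf]
    show x ^ 12 ∈ C
    have hx' : x ∈ ((U ⊔ Subgroup.zpowers g : Subgroup G) : Set G) := hx
    rw [Subgroup.coe_mul_of_right_le_normalizer_left _ _ hgN] at hx'
    obtain ⟨u, hu, _, ⟨i, rfl⟩, rfl⟩ := hx'
    have key : ∀ n : ℕ, ∃ v ∈ U, (u * g ^ i) ^ n = v * (g ^ i) ^ n := by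
      intro n
      induction n with
      | zero => exact ⟨1, one_mem _, by simp⟩
      | succ n ih =>
        obtain ⟨v, hv, he⟩ := ih
        refine ⟨v * ((g ^ i) ^ n * u * ((g ^ i) ^ n)⁻¹), mul_mem hv
          (conj_mem_of_mem_normalizer (pow_mem (hgN ⟨i, rfl⟩) n) hu), ?_⟩
        rw [pow_succ, he, pow_succ]
        group
    obtain ⟨v, hv, he⟩ := key 6
    have hgC : (g ^ i) ^ 6 ∈ C := Subgroup.mem_zpowers_iff.2 ⟨i, by
      rw [← zpow_natCast, ← zpow_natCast, ← zpow_mul, ← zpow_mul, mul_comm]⟩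
    have hcomm : (g ^ i) ^ 6 * v = v * (g ^ i) ^ 6 :=
      Subgroup.mem_centralizer_iff.1 (hXC (Subgroup.mem_sup_left hv)) _ hgC
    show (u * g ^ i) ^ 12 ∈ C
    rw [show (12 : ℕ) = 6 * 2 by norm_num, pow_mul, he, sq,
      show v * (g ^ i) ^ 6 * (v * (g ^ i) ^ 6) = v * ((g ^ i) ^ 6 * v) * (g ^ i) ^ 6 by group, hcomm,
      ← mul_assoc, hU.sq v hv, one_mul]
    exact mul_mem hgC hgC
  have hXh : ∀ L : Subgroup X, (Nat.card ↥L).Coprime p → Group.IsNilpotent ↥L := fun L hL => by
    haveI := h (L.map X.subtype) (by rwa [Subgroup.card_map_of_injective X.subtype_injective])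
    exact Group.nilpotent_of_mulEquiv (L.equivMapOfInjective X.subtype X.subtype_injective).symm
  haveI := nilpotent_image hp hXh π ⊤
    (fun y _ => QuotientGroup.mk'_surjective _ y)
    (by
      rw [Subgroup.card_top]
      refine coprime_of_pow_eq_one hp (fun hd => ?_) hY
      have h23 : p ∣ 2 ^ 2 * 3 := by simpa using hd
      rcases (Nat.Prime.dvd_mul hp).1 h23 with h2 | h2
      · exact absurd (Nat.le_of_dvd two_pos (hp.dvd_of_dvd_pow h2)) (by omega)
      · exact absurd (Nat.le_of_dvd three_pos h2) (by omega))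
  haveI : Group.IsNilpotent (X ⧸ C.subgroupOf X) := Group.nilpotent_of_mulEquiv Subgroup.topEquiv
  refine Subgroup.mem_centralizer_iff.2 fun u hu => ?_
  let g' : X := ⟨g, Subgroup.mem_sup_right (Subgroup.mem_zpowers g)⟩
  let u' : X := ⟨u, Subgroup.mem_sup_left hu⟩
  -- `[g², u]` is fixed by `g`
  set d := g * g * u * (g * g)⁻¹ * u⁻¹ with hd
  have hdU : d ∈ U := by
    refine mul_mem ?_ (inv_mem hu)
    rw [show g * g * u * (g * g)⁻¹ = g * (g * u * g⁻¹) * g⁻¹ by group]
    exact hgU _ (hgU u hu)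
  have hdC : d ∈ C := by
    have hcm : Commute (π (g' * g')) (π u') := by
      refine CfsgLib.Solvable.commute_of_coprime_orderOf (Nat.Coprime.coprime_dvd_left
        (orderOf_dvd_of_pow_eq_one (n := 3) ?_) (Nat.Coprime.coprime_dvd_right
        (orderOf_dvd_of_pow_eq_one (n := 2) ?_) (by norm_num)))
      · rw [← map_pow, hπ, QuotientGroup.mk'_apply, QuotientGroup.eq_one_iff, Subgroup.mem_subgroupOf]
        show (g * g) ^ 3 ∈ C
        rw [← sq, ← pow_mul]
        exact Subgroup.mem_zpowers _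
      · rw [← map_pow, hπ, QuotientGroup.mk'_apply, QuotientGroup.eq_one_iff, Subgroup.mem_subgroupOf]
        show u ^ 2 ∈ C
        rw [sq, hU.sq u hu]
        exact one_mem _
    have h1 : π (g' * g' * u' * (g' * g')⁻¹ * u'⁻¹) = 1 := by
      simp only [map_mul, map_inv] at hcm ⊢
      rw [hcm.eq]
      group
    rw [hπ, QuotientGroup.mk'_apply, QuotientGroup.eq_one_iff, Subgroup.mem_subgroupOf] at h1
    exact h1
  have hdfix : g * g * d * (g * g)⁻¹ = d := by
    have h1 := Subgroup.mem_centralizer_iff.1 (hXC (Subgroup.mem_sup_right (Subgroup.mem_zpowers g))) d hdC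
    have h2 : Commute g d := h1.symm
    rw [(h2.mul_left h2).eq, mul_inv_cancel_right]
  have h61 := h6 u hu
  have h62 : g ^ 6 * u * (g ^ 6)⁻¹ = d * u := by
    have e1 : g * g * u * (g * g)⁻¹ = d * u := by rw [hd]; group
    have hmul : ∀ x y : G, g * g * (x * y) * (g * g)⁻¹ =
        (g * g * x * (g * g)⁻¹) * (g * g * y * (g * g)⁻¹) := fun x y => by group
    calc g ^ 6 * u * (g ^ 6)⁻¹ = g * g * (g * g * (g * g * u * (g * g)⁻¹) * (g * g)⁻¹) * (g * g)⁻¹ := by
          simp [pow_succ, mul_assoc]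
      _ = g * g * (d * (d * u)) * (g * g)⁻¹ := by rw [e1, hmul d u, hdfix, e1]
      _ = d * u := by rw [← mul_assoc d d, hU.sq d hdU, one_mul, e1]
  rw [h62, mul_eq_right] at h61
  rw [hd, mul_inv_eq_one, mul_inv_eq_iff_eq_mul] at h61
  exact h61.symm

theorem solvable_aux (hp : p.Prime) (hp3 : 3 < p) : ∀ (n : ℕ) (X : Type u) [Group X] [Finite X],
    Nat.card X = n → (∀ H : Subgroup X, (Nat.card ↥H).Coprime p → Group.IsNilpotent ↥H) →
    Group.IsSolvable X := by
  classical
  intro n
  induction n using Nat.strong_induction_on with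
  | _ n ih =>
  intro X _ _ hn h
  have hsub : ∀ M : Subgroup X, M ≠ ⊤ → Group.IsSolvable M := fun M hM =>
    ih _ (hn ▸ lt_of_le_of_ne (Subgroup.card_le_card_group M)
      fun e => hM (Subgroup.eq_top_of_card_eq M e)) M rfl fun L hL => by
        haveI := h (L.map M.subtype) (by rwa [Subgroup.card_map_of_injective M.subtype_injective])
        exact Group.nilpotent_of_mulEquiv (L.equivMapOfInjective M.subtype M.subtype_injective).symm
  by_contra hns
  haveI hnt : Nontrivial X := by
    by_contra hn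
    rw [not_nontrivial_iff_subsingleton] at hn
    exact hns inferInstance
  haveI hsimp : IsSimpleGroup X := by
    refine ⟨fun N hN => ?_⟩
    by_contra hcon
    push Not at hcon
    haveI := hN
    haveI := hsub N hcon.2
    haveI : Group.IsSolvable (X ⧸ N) := by
      refine ih _ ?_ _ rfl fun L hL =>
        nilpotent_image hp h (QuotientGroup.mk' N) L
          (fun y _ => QuotientGroup.mk'_surjective N y) hL
      rw [← hn, Subgroup.card_eq_card_quotient_mul_card_subgroup N]
      exact lt_mul_of_one_lt_right Nat.card_pos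
        (Finite.one_lt_card_iff_nontrivial.2 ((Subgroup.nontrivial_iff_ne_bot N).2 hcon.1))
    exact hns (Group.isSolvable_of_ker_le_range N.subtype (QuotientGroup.mk' N)
      (by rw [QuotientGroup.ker_mk', Subgroup.range_subtype]))
  have hna : ¬ ∀ a b : X, a * b = b * a := fun hc => hns (Group.isSolvable_of_comm hc)
  have heven : 2 ∣ Nat.card X := by
    by_contra hodd
    exact hns (Cfsg.Agent.S0205.result (Nat.odd_iff.2 (by omega)))
  have hsol : ∀ T : Subgroup X, IsPGroup 2 T → T ≠ ⊥ →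
      Group.IsSolvable (Subgroup.normalizer (T : Set X)) := by
    intro T hT hne
    refine hsub _ fun htop => ?_
    rcases (Subgroup.normalizer_eq_top_iff.1 htop).eq_bot_or_eq_top with h' | h'
    · exact hne h'
    · subst h'
      haveI : Fact (Nat.Prime 2) := ⟨Nat.prime_two⟩
      haveI : Group.IsNilpotent X :=
        (IsPGroup.of_equiv hT Subgroup.topEquiv).isNilpotent
      exact hns inferInstance
  obtain ⟨M, hM⟩ := CfsgLib.LocalSFour60.exists_stronglyEmbedded hsimp hna heven hsol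
    (not_involves hp hp3 h) fun U hU hU4 g hg => sq_mem_centralizer hp hp3 h U hU hU4 g hg
  push Not at hna
  exact no_dihedral hp hp3 h
    (CfsgLib.LocalSFour60.hasDihedral_of_stronglyEmbedded (by omega) hna hM)

/-- Let p > 3 be a prime and G a finite group in which every subgroup of order prime to p is nilpotent. Then G is solvable. -/
theorem result {G : Type*} [Group G] [Finite G] (p : ℕ) (hp : p.Prime) (hp3 : 3 < p)
    (h : ∀ H : Subgroup G, (Nat.card ↥H).Coprime p → Group.IsNilpotent ↥H) : Group.IsSolvable G :=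
  solvable_aux hp hp3 _ G rfl h

end Cfsg.Agent.S3940
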