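import Cfsg.Statements.S3995
import Mathlib
import Cfsg.Agent.Counting.Frobenius
import Cfsg.Agent.TwoGroup.UniqueInvolution

set_option autoImplicit false
open Cfsg

namespace Cfsg.Agent.S3995

variable {G : Type*} [Group G] [Finite G]

noncomputable def cnt (G : Type*) [Group G] (m : ℕ) : ℕ := Nat.card {g : G // orderOf g = m}

theorem totient_dvd_cnt (m : ℕ) : m.totient ∣ cnt G m := by
  refine CfsgLib.Counting.dvd_card_of_totient _ ?_ _ (fun g hg => by rw [hg])
  intro g h hg hgh
  rw [← Nat.card_zpowers, ← hgh, Nat.card_zpowers, hg]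

theorem dvd_sum_cnt {N : ℕ} (hN : N ≠ 0) (hdvd : N ∣ Nat.card G) : N ∣ ∑ d ∈ N.divisors, cnt G d := by
  classical
  haveI := Fintype.ofFinite G
  have h := CfsgLib.Counting.card_pow_eq_one_dvd hdvd
  rwa [Nat.card_eq_fintype_card, Fintype.card_subtype,
    Finset.card_eq_sum_card_fiberwise (f := orderOf) (t := N.divisors) (fun g hg => by
      rw [Finset.mem_coe, Finset.mem_filter] at hg
      exact Nat.mem_divisors.mpr ⟨orderOf_dvd_of_pow_eq_one hg.2, hN⟩),
    Finset.sum_congr rfl (fun d hd => ?_)] at h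
  rw [cnt, Nat.card_eq_fintype_card, Fintype.card_subtype, Finset.filter_filter]
  congr 1
  ext g
  simp only [Finset.mem_filter, Finset.mem_univ, true_and]
  exact ⟨fun hh => hh.2, fun hh => ⟨orderOf_dvd_iff_pow_eq_one.mp (hh ▸ Nat.dvd_of_mem_divisors hd), hh⟩⟩

theorem exists_small_model (P : Type*) [Group P] [Finite P] :
    ∃ (Q : Type) (_ : Group Q) (_ : Finite Q), Nonempty (P ≃* Q) := by
  haveI : Small.{0} P := inferInstance
  exact ⟨Shrink.{0} P, inferInstance, inferInstance, ⟨(Shrink.mulEquiv).symm⟩⟩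

theorem sum_divisors_mul_coprime {a b : ℕ} (h : Nat.Coprime a b) (f : ℕ → ℕ) :
    ∑ d ∈ (a * b).divisors, f d = ∑ i ∈ a.divisors, ∑ j ∈ b.divisors, f (i * j) := by
  rw [h.divisors_mul, Finset.sum_map]
  exact (Finset.sum_attach (a.divisors ×ˢ b.divisors) (fun x => f (x.1 * x.2))).trans (Finset.sum_product _ _ _)

/-- Let G be a finite group such that the numbers of elements of each order that occurs in G (the numbers #{g : o(g) = m}, m ranging over the element orders of G) take exactly two values, 1 and some n ≠ 1. Then either G is a p-group of exponent p and order at least 3 for some prime p, or G is the quaternion group of order 8, or G is cyclic of order 4, or G ≅ Z₂ × P for a p-group P of exponent p with p an odd prime. -/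
theorem result {G : Type*} [Group G] [Finite G] (n : ℕ) (hn : n ≠ 1) (h : ((fun m : ℕ => Nat.card {g : G // orderOf g = m}) '' Set.range (orderOf : G → ℕ)) = {1, n}) :
    (∃ p : ℕ, p.Prime ∧ IsPGroup p G ∧ 3 ≤ Nat.card G ∧ Monoid.exponent G = p) ∨
      Nonempty (G ≃* QuaternionGroup 2) ∨ (IsCyclic G ∧ Nat.card G = 4) ∨
      (∃ (p : ℕ) (P : Type) (_ : Group P) (_ : Finite P), p.Prime ∧ p ≠ 2 ∧ IsPGroup p P ∧ Monoid.exponent P = p ∧
        Nonempty (G ≃* Multiplicative (ZMod 2) × P)) := by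
  have hcnt : ∀ x : G, cnt G (orderOf x) = 1 ∨ cnt G (orderOf x) = n := by
    intro x
    have : cnt G (orderOf x) ∈ ({1, n} : Set ℕ) := h ▸ ⟨orderOf x, ⟨x, rfl⟩, rfl⟩
    simpa using this
  obtain ⟨x₀, hx₀⟩ : ∃ x : G, cnt G (orderOf x) = n := by
    have : n ∈ ({1, n} : Set ℕ) := by simp
    rw [← h] at this
    obtain ⟨_, ⟨x, rfl⟩, hx⟩ := this
    exact ⟨x, hx⟩
  have hpos : ∀ x : G, 0 < cnt G (orderOf x) := fun x =>
    haveI : Nonempty {g : G // orderOf g = orderOf x} := ⟨⟨x, rfl⟩⟩
    Nat.card_pos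
  have hn2 : 2 ≤ n := by
    have := hpos x₀
    rw [hx₀] at this
    omega
  have hc1 : cnt G 1 = 1 := by
    haveI : Unique {g : G // orderOf g = 1} := ⟨⟨⟨1, orderOf_one⟩⟩, fun g => Subtype.ext (orderOf_eq_one_iff.mp g.2)⟩
    exact Nat.card_unique
  have hx₀1 : x₀ ≠ 1 := by
    rintro rfl
    rw [orderOf_one, hc1] at hx₀
    exact hn hx₀.symm
  haveI : Nontrivial G := ⟨⟨x₀, 1, hx₀1⟩⟩
  by_cases hbig : ∀ x : G, x ^ 2 = 1
  · refine Or.inl ⟨2, Nat.prime_two, fun x => ⟨1, by rw [pow_one]; exact hbig x⟩, ?_, ?_⟩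
    · have ho : orderOf x₀ = 2 := orderOf_eq_prime (hbig x₀) hx₀1
      rw [ho] at hx₀
      haveI := Fintype.ofFinite G
      classical
      have h1 : cnt G 2 + cnt G 1 ≤ Nat.card G := by
        rw [cnt, cnt, Nat.card_eq_fintype_card, Nat.card_eq_fintype_card, Nat.card_eq_fintype_card,
          Fintype.card_subtype, Fintype.card_subtype, ← Finset.card_union_of_disjoint
            (Finset.disjoint_filter.mpr fun g _ hg => by omega)]
        exact Finset.card_le_univ _
      omega
    · refine (Nat.prime_two.eq_one_or_self_of_dvd _ (Monoid.exponent_dvd_of_forall_pow_eq_one hbig)).resolve_left ?_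
      exact fun h1 => hx₀1 (orderOf_eq_one_iff.mp (Nat.dvd_one.mp (h1 ▸ Monoid.order_dvd_exponent x₀)))
  push_neg at hbig
  obtain ⟨y, hy⟩ := hbig
  have hge3 : ∀ x : G, 3 ≤ orderOf x → cnt G (orderOf x) = n ∧ Even n := by
    intro x hx
    have h1 : Even (cnt G (orderOf x)) :=
      (even_iff_two_dvd.mpr ((Nat.totient_even (by omega)).two_dvd.trans (totient_dvd_cnt _)))
    rcases hcnt x with h2 | h2
    · rw [h2] at h1; exact absurd h1 (by decide)
    · exact ⟨h2, h2 ▸ h1⟩
  have hy3 : 3 ≤ orderOf y := by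
    have h1 : orderOf y ≠ 1 := fun h' => hy (by rw [orderOf_eq_one_iff.mp h', one_pow])
    have h2 : orderOf y ≠ 2 := fun h' => hy (h' ▸ pow_orderOf_eq_one y)
    have := orderOf_pos y
    omega
  have heven : Even n := (hge3 y hy3).2
  have hdvd : ∀ x : G, orderOf x ∣ Nat.card G := fun x => orderOf_dvd_natCard x
  have hu : ∀ s t : G, orderOf s = 2 → orderOf t = 2 → s = t := by
    intro s t hs ht
    have h1 := dvd_sum_cnt (G := G) two_ne_zero (hs ▸ hdvd s)
    rw [Nat.prime_two.sum_divisors, hc1] at h1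
    have h2 : cnt G 2 = 1 := by
      rcases hs ▸ hcnt s with h2 | h2
      · exact h2
      · rw [h2] at h1; exact absurd heven (by rw [Nat.even_iff]; omega)
    have := (Nat.card_eq_one_iff_unique.mp h2).1
    exact congrArg Subtype.val (Subsingleton.elim (⟨s, hs⟩ : {g : G // orderOf g = 2}) ⟨t, ht⟩)
  have hcentral : ∀ s : G, orderOf s = 2 → ∀ g, Commute s g := by
    intro s hs g
    have := hu (g * s * g⁻¹) s ((MulEquiv.orderOf_eq (MulAut.conj g) s).trans hs) hs
    exact (mul_inv_eq_iff_eq_mul.mp this).symm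
  have hfact : ∀ {p : ℕ}, p.Prime → p ≠ 2 → ∀ x : G, orderOf x = p → p ∣ 1 + n := by
    intro p hp hp2 x hx
    have h1 := dvd_sum_cnt (G := G) hp.ne_zero (hx ▸ hdvd x)
    rwa [hp.sum_divisors, hc1, ← hx, (hge3 x (by have := hp.two_le; omega)).1, hx, add_comm n 1] at h1
  have hroot : ∀ (x : G) (d : ℕ), d ∣ orderOf x → ∃ w : G, orderOf w = d := fun x d hd =>
    ⟨x ^ (orderOf x / d), by
      rw [orderOf_pow_of_dvd (Nat.div_pos (Nat.le_of_dvd (orderOf_pos x) hd) (Nat.pos_of_dvd_of_pos hd (orderOf_pos x))).ne'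
        (Nat.div_dvd_of_dvd hd), Nat.div_div_self hd (orderOf_pos x).ne']⟩
  have hnosq : ∀ {p : ℕ}, p.Prime → p ≠ 2 → ∀ x : G, orderOf x ≠ p ^ 2 := by
    intro p hp hp2 x hx
    obtain ⟨w, hw⟩ := hroot x p (hx ▸ dvd_pow_self p two_ne_zero)
    have h1 := hfact hp hp2 w hw
    have h2 := dvd_sum_cnt (G := G) (pow_ne_zero 2 hp.ne_zero) (hx ▸ hdvd x)
    have hp3 : 3 ≤ p := by have := hp.two_le; omega
    rw [Nat.sum_divisors_prime_pow hp, Finset.sum_range_succ, Finset.sum_range_succ, Finset.sum_range_one,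
      pow_zero, hc1, pow_one] at h2
    have e1 : cnt G (p ^ 2) = n := by rw [← hx]; exact (hge3 x (by rw [hx]; nlinarith)).1
    have e2 : cnt G p = n := by rw [← hw]; exact (hge3 w (by omega)).1
    rw [e1, e2] at h2
    have h3 : p ∣ 1 + n + n := dvd_trans (dvd_pow_self p two_ne_zero) h2
    have h4 : p ∣ n := (Nat.dvd_add_right h1).mp h3
    have h5 : p ∣ 1 := (Nat.dvd_add_left h4).mp h1
    exact hp.one_lt.ne' (Nat.dvd_one.mp h5)
  have hcases : ∀ d, cnt G d = 0 ∨ ∃ x : G, orderOf x = d := by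
    intro d
    by_cases hd : ∃ x : G, orderOf x = d
    · exact Or.inr hd
    · push_neg at hd
      haveI : IsEmpty {g : G // orderOf g = d} := ⟨fun g => hd g g.2⟩
      exact Or.inl Nat.card_of_isEmpty
  have huniq : ∀ {p q : ℕ}, p.Prime → q.Prime → p ≠ 2 → q ≠ 2 → ∀ x w : G, orderOf x = p → orderOf w = q → p = q := by
    intro p q hp hq hp2 hq2 x w hx hw
    by_contra hpq
    have hco : Nat.Coprime p q := (Nat.coprime_primes hp hq).mpr hpq
    have hp3 : 3 ≤ p := by have := hp.two_le; omega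
    have hq3 : 3 ≤ q := by have := hq.two_le; omega
    have h2 := dvd_sum_cnt (G := G) (Nat.mul_ne_zero hp.ne_zero hq.ne_zero)
      (hco.mul_dvd_of_dvd_of_dvd (hx ▸ hdvd x) (hw ▸ hdvd w))
    rw [sum_divisors_mul_coprime hco] at h2
    simp only [hp.sum_divisors, hq.sum_divisors, mul_one, one_mul, hc1] at h2
    rw [← hx, (hge3 x (by omega)).1, hx, ← hw, (hge3 w (by omega)).1, hw] at h2
    have h3 : p ∣ cnt G (p * q) + n + (n + 1) := (dvd_mul_right p q).trans h2
    have h1 := hfact hp hp2 x hx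
    rcases hcases (p * q) with h4 | ⟨v, hv⟩
    · rw [h4, zero_add, show n + (n + 1) = 1 + n + n by ring] at h3
      have h5 : p ∣ n := (Nat.dvd_add_right h1).mp h3
      exact hp.one_lt.ne' (Nat.dvd_one.mp ((Nat.dvd_add_left h5).mp h1))
    · rw [← hv, (hge3 v (by rw [hv]; nlinarith)).1, show n + n + (n + 1) = 1 + n + 2 * n by ring] at h3
      have h5 : p ∣ 2 * n := (Nat.dvd_add_right h1).mp h3
      have h6 : p ∣ n := ((Nat.coprime_primes hp Nat.prime_two).mpr hp2).dvd_of_dvd_mul_left h5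
      exact hp.one_lt.ne' (Nat.dvd_one.mp ((Nat.dvd_add_left h6).mp h1))
  have hno8 : ∀ x : G, orderOf x ≠ 8 := by
    intro x hx
    obtain ⟨w, hw⟩ := hroot x 4 (by rw [hx]; norm_num)
    obtain ⟨z, hz⟩ := hroot x 2 (by rw [hx]; norm_num)
    have h2 := dvd_sum_cnt (G := G) (by norm_num : (8 : ℕ) ≠ 0) (hx ▸ hdvd x)
    have hz1 : cnt G 2 = 1 := by
      haveI : Unique {g : G // orderOf g = 2} := ⟨⟨⟨z, hz⟩⟩, fun g => Subtype.ext (hu g z g.2 hz)⟩
      exact Nat.card_unique
    rw [show (8 : ℕ).divisors = {1, 2, 4, 8} by decide] at h2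
    simp only [Finset.sum_insert, Finset.mem_insert, Finset.mem_singleton, Finset.sum_singleton, hc1, hz1,
      show ¬ (1 = 2 ∨ 1 = 4 ∨ 1 = 8) by omega, show ¬ (2 = 4 ∨ 2 = 8) by omega, show ¬ (4 = 8) by omega, not_false_eq_true] at h2
    rw [← hw, (hge3 w (by omega)).1, ← hx, (hge3 x (by omega)).1, hx] at h2
    obtain ⟨k, hk⟩ := heven
    omega
  have h2pow : ∀ x : G, ∀ k, orderOf x = 2 ^ k → x ^ 4 = 1 := by
    intro x k hk
    rw [← orderOf_dvd_iff_pow_eq_one, hk, show (4 : ℕ) = 2 ^ 2 by norm_num, Nat.pow_dvd_pow_iff_le_right one_lt_two]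
    by_contra hlt
    obtain ⟨w, hw⟩ := hroot x 8 (by rw [hk, show (8 : ℕ) = 2 ^ 3 by norm_num]; exact pow_dvd_pow 2 (by omega))
    exact hno8 w hw
  haveI : Fact (Nat.Prime 2) := ⟨Nat.prime_two⟩
  by_cases hodd : ∃ p, p.Prime ∧ p ≠ 2 ∧ p ∣ Nat.card G
  · obtain ⟨p, hp, hp2, hpG⟩ := hodd
    haveI := Fact.mk hp
    have hp3 : 3 ≤ p := by have := hp.two_le; omega
    obtain ⟨u, hu'⟩ := exists_prime_orderOf_dvd_card' p hpG
    have hpdvd := hfact hp hp2 u hu'
    have hno4 : ∀ x : G, orderOf x ≠ 4 := by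
      intro x hx
      obtain ⟨z, hz⟩ := hroot x 2 (by rw [hx]; norm_num)
      have hz1 : cnt G 2 = 1 := by
        haveI : Unique {g : G // orderOf g = 2} := ⟨⟨⟨z, hz⟩⟩, fun g => Subtype.ext (hu g z g.2 hz)⟩
        exact Nat.card_unique
      have h2p : orderOf (z * u) = 2 * p := by
        rw [(hcentral z hz u).orderOf_mul_eq_mul_orderOf_of_coprime (by
          rw [hz, hu']; exact (Nat.coprime_primes Nat.prime_two hp).mpr (Ne.symm hp2)), hz, hu']
      have hco : Nat.Coprime 4 p := by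
        rw [show (4 : ℕ) = 2 ^ 2 by norm_num]
        exact ((Nat.coprime_primes Nat.prime_two hp).mpr (Ne.symm hp2)).pow_left 2
      have h2 := dvd_sum_cnt (G := G) (Nat.mul_ne_zero (by norm_num) hp.ne_zero)
        (hco.mul_dvd_of_dvd_of_dvd (hx ▸ hdvd x) (hu' ▸ hdvd u))
      rw [sum_divisors_mul_coprime hco] at h2
      simp only [hp.sum_divisors] at h2
      rw [show (4 : ℕ).divisors = {1, 2, 4} by decide] at h2
      simp only [Finset.sum_insert, Finset.mem_insert, Finset.mem_singleton, Finset.sum_singleton, hc1, hz1,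
        show ¬ (1 = 2 ∨ 1 = 4) by omega, show ¬ (2 = 4) by omega, not_false_eq_true, one_mul, mul_one] at h2
      rw [← hx, (hge3 x (by omega)).1, hx, ← hu', (hge3 u (by omega)).1, hu', ← h2p, (hge3 _ (by rw [h2p]; omega)).1] at h2
      have h3 : p ∣ cnt G (4 * p) + (3 * n + 2) := by
        refine (dvd_mul_left p 4).trans (h2.trans (dvd_of_eq ?_))
        ring
      rcases hcases (4 * p) with h4 | ⟨v, hv⟩
      · rw [h4, zero_add] at h3
        have h5 : p ∣ 3 * (1 + n) := hpdvd.trans (dvd_mul_left _ _)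
        have h6 := Nat.dvd_sub h5 h3
        rw [show 3 * (1 + n) - (3 * n + 2) = 1 by omega] at h6
        exact hp.one_lt.ne' (Nat.dvd_one.mp h6)
      · rw [← hv, (hge3 v (by rw [hv]; omega)).1] at h3
        have h5 : p ∣ 4 * (1 + n) := hpdvd.trans (dvd_mul_left _ _)
        have h6 := Nat.dvd_sub h5 h3
        rw [show 4 * (1 + n) - (n + (3 * n + 2)) = 2 by omega] at h6
        exact hp2 ((Nat.prime_dvd_prime_iff_eq hp Nat.prime_two).mp h6)
    have h2p : ∀ x : G, x ^ (2 * p) = 1 := by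
      intro x
      rw [← orderOf_dvd_iff_pow_eq_one]
      refine (Nat.dvd_iff_prime_pow_dvd_dvd _ _).mpr ?_
      intro r k hr hrk
      rcases Nat.eq_zero_or_pos k with rfl | hk
      · simp
      by_cases hr2 : r = 2
      · subst hr2
        have hk1 : k = 1 := by
          by_contra hk1
          obtain ⟨w, hw⟩ := hroot x 4 ((show (4 : ℕ) ∣ 2 ^ k by
            rw [show (4 : ℕ) = 2 ^ 2 by norm_num]; exact pow_dvd_pow 2 (by omega)).trans hrk)
          exact hno4 w hw
        rw [hk1, pow_one]; exact dvd_mul_right 2 p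
      · have hk1 : k = 1 := by
          by_contra hk1
          obtain ⟨w, hw⟩ := hroot x (r ^ 2) ((pow_dvd_pow r (by omega)).trans hrk)
          exact hnosq hr hr2 w hw
        obtain ⟨w, hw⟩ := hroot x r ((dvd_pow_self r (by omega)).trans hrk)
        rw [hk1, pow_one, huniq hr hp hr2 hp2 w u hw hu']
        exact dvd_mul_left p 2
    by_cases h2G : ∃ z : G, orderOf z = 2
    · obtain ⟨z, hz⟩ := h2G
      right; right; right
      set Z := Subgroup.zpowers z
      haveI hZn : Z.Normal := ⟨fun a ha g => by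
        obtain ⟨i, rfl⟩ := ha
        rw [show g * z ^ i * g⁻¹ = z ^ i by rw [← ((hcentral z hz g).zpow_left i).eq, mul_inv_cancel_right]]
        exact Subgroup.zpow_mem _ (Subgroup.mem_zpowers z) i⟩
      have hQ : IsPGroup p (G ⧸ Z) := by
        intro q
        obtain ⟨g, rfl⟩ := QuotientGroup.mk_surjective q
        refine ⟨1, ?_⟩
        rw [pow_one, ← QuotientGroup.mk_pow, QuotientGroup.eq_one_iff]
        by_cases h1 : g ^ p = 1
        · rw [h1]; exact Z.one_mem
        · rw [hu (g ^ p) z (orderOf_eq_prime (by rw [← pow_mul, mul_comm, h2p]) h1) hz]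
          exact Subgroup.mem_zpowers z
      obtain ⟨b, hb⟩ := IsPGroup.iff_card.mp hQ
      have hcard : Nat.card G = p ^ b * 2 := by
        rw [Subgroup.card_eq_card_quotient_mul_card_subgroup Z, hb, Nat.card_zpowers, hz]
      let P : Sylow p G := default
      have hPcard : Nat.card (P : Subgroup G) = p ^ b := by
        rw [P.card_eq_multiplicity, hcard, Nat.factorization_mul (pow_ne_zero b hp.ne_zero) two_ne_zero,
          Finsupp.add_apply, hp.factorization_pow, Nat.prime_two.factorization, Finsupp.single_eq_same,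
          Finsupp.single_eq_of_ne hp2, add_zero]
      have hexpP : ∀ g : (P : Subgroup G), g ^ p = 1 := by
        intro g
        apply Subtype.ext
        obtain ⟨k, hk⟩ := P.2 g
        have h1 : orderOf (g : G) ∣ p ^ k := orderOf_dvd_of_pow_eq_one (by simpa using congrArg Subtype.val hk)
        have h2 : orderOf (g : G) ∣ 2 * p := orderOf_dvd_of_pow_eq_one (h2p _)
        have h3 : Nat.Coprime (orderOf (g : G)) 2 :=
          Nat.Coprime.coprime_dvd_left h1 (((Nat.coprime_primes hp Nat.prime_two).mpr hp2).pow_left k)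
        simpa using orderOf_dvd_iff_pow_eq_one.mp (h3.dvd_of_dvd_mul_left h2)
      haveI : Nontrivial (P : Subgroup G) := by
        rw [← Finite.one_lt_card_iff_nontrivial]
        exact hPcard ▸ Nat.one_lt_pow (by
          rintro rfl
          rw [hcard, pow_zero, one_mul] at hpG
          exact hp2 ((Nat.prime_dvd_prime_iff_eq hp Nat.prime_two).mp hpG)) hp.one_lt
      have hexp : Monoid.exponent (P : Subgroup G) = p := by
        refine (hp.eq_one_or_self_of_dvd _ (Monoid.exponent_dvd_of_forall_pow_eq_one hexpP)).resolve_left ?_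
        obtain ⟨g, hg⟩ := exists_ne (1 : (P : Subgroup G))
        exact fun h1 => hg (orderOf_eq_one_iff.mp (Nat.dvd_one.mp (h1 ▸ Monoid.order_dvd_exponent g)))
      obtain ⟨Q, iQ, fQ, ⟨e⟩⟩ := exists_small_model (P : Subgroup G)
      refine ⟨p, Q, iQ, fQ, hp, hp2, P.2.of_equiv e, by rw [← Monoid.exponent_eq_of_mulEquiv e, hexp], ?_⟩
      let f : Z × (P : Subgroup G) →* G := MonoidHom.noncommCoprod Z.subtype (P : Subgroup G).subtype (by
        rintro ⟨_, i, rfl⟩ g
        exact (hcentral z hz g).zpow_left i)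
      have hinj : Function.Injective f := by
        rw [injective_iff_map_eq_one]
        rintro ⟨a, g⟩ hag
        have hag' : (a : G) * g = 1 := hag
        have h1 : (a : G) = 1 := by
          have h2 : orderOf (a : G) ∣ 2 := hz ▸ (Nat.card_zpowers z ▸ (Subgroup.orderOf_coe a).symm ▸ orderOf_dvd_natCard a)
          have h3 : orderOf (a : G) ∣ p := by
            rw [eq_inv_of_mul_eq_one_left hag', orderOf_inv]
            exact orderOf_dvd_of_pow_eq_one (by simpa using congrArg Subtype.val (hexpP g))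
          have h4 := Nat.dvd_gcd h2 h3
          rw [(Nat.coprime_primes Nat.prime_two hp).mpr (Ne.symm hp2)] at h4
          exact orderOf_eq_one_iff.mp (Nat.dvd_one.mp h4)
        rw [h1, one_mul] at hag'
        exact Prod.ext (Subtype.ext h1) (Subtype.ext hag')
      have hbij : Function.Bijective f := hinj.bijective_of_nat_card_le (by
        rw [Nat.card_prod, Nat.card_zpowers, hz, hPcard, hcard, mul_comm])
      haveI : IsCyclic Z := inferInstance
      exact ⟨(MulEquiv.ofBijective f hbij).symm.trans (MulEquiv.prodCongr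
        (mulEquivOfCyclicCardEq (by rw [Nat.card_zpowers, hz]; simp)) e)⟩
    · push_neg at h2G
      have hP : ∀ x : G, x ^ p = 1 := fun x => by
        by_contra hne
        exact h2G (x ^ p) (orderOf_eq_prime (by rw [← pow_mul, mul_comm, h2p]) hne)
      refine Or.inl ⟨p, hp, fun x => ⟨1, by rw [pow_one]; exact hP x⟩,
        hp3.trans (Nat.le_of_dvd Nat.card_pos hpG), ?_⟩
      refine (hp.eq_one_or_self_of_dvd _ (Monoid.exponent_dvd_of_forall_pow_eq_one hP)).resolve_left ?_
      exact fun h1 => hx₀1 (orderOf_eq_one_iff.mp (Nat.dvd_one.mp (h1 ▸ Monoid.order_dvd_exponent x₀)))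
  · push_neg at hodd
    have hG2 : IsPGroup 2 G := by
      exact IsPGroup.of_card (Nat.eq_prime_pow_of_unique_prime_dvd (p := 2) Nat.card_pos.ne' (fun {d} hd hdG => by
        by_contra hne
        exact hodd d hd hne hdG))
    have h4 : ∀ x : G, x ^ 4 = 1 := by
      intro x
      obtain ⟨k, hk⟩ := hG2 x
      obtain ⟨j, -, hj⟩ := (Nat.dvd_prime_pow Nat.prime_two).mp (orderOf_dvd_of_pow_eq_one hk)
      exact h2pow x j hj
    have hamo : CfsgLib.TwoGroup.AtMostOneInvolution G := hu
    rcases CfsgLib.TwoGroup.cyclic_or_quaternion hG2 hamo with hcyc | ⟨k, hk, ⟨e⟩⟩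
    · refine Or.inr (Or.inr (Or.inl ⟨hcyc, ?_⟩))
      have h1 : Nat.card G ∣ 4 := IsCyclic.exponent_eq_card (α := G) ▸ Monoid.exponent_dvd_of_forall_pow_eq_one h4
      have h2 : orderOf y ∣ Nat.card G := hdvd y
      have h3 := Nat.le_of_dvd Nat.card_pos h2
      have h5 := Nat.le_of_dvd (by norm_num) h1
      rcases Nat.lt_or_ge (Nat.card G) 4 with h6 | h6
      · have h7 : Nat.card G = 3 := by omega
        rw [h7] at h1; norm_num at h1
      · omega
    · have hk1 : k = 1 := by
        have h1 : orderOf (e.symm (QuaternionGroup.a 1)) ∣ 4 := orderOf_dvd_of_pow_eq_one (h4 _)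
        haveI : NeZero (2 ^ k) := ⟨by positivity⟩
        rw [MulEquiv.orderOf_eq, QuaternionGroup.orderOf_a_one] at h1
        have h2 := Nat.le_of_dvd (by norm_num) h1
        by_contra hne
        have : 2 ^ 2 ≤ 2 ^ k := Nat.pow_le_pow_right two_pos (by omega)
        omega
      subst hk1
      exact Or.inr (Or.inl ⟨e⟩)

end Cfsg.Agent.S3995
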