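import Cfsg.Statements.S4021
import Cfsg.Agent.EqOrderConj75.Quaternion

set_option autoImplicit false
open Cfsg

namespace Cfsg.Agent.S4021

/-- Let G be a finite group in which any two subgroups of the same order are conjugate. Then G/O(G), O(G) the largest normal subgroup of odd order, is one of: a cyclic 2-group; the one-dimensional affine group over the field with 8 elements; the one-dimensional semi-affine group over the field with 8 or with 32 elements; PSL₂(8); the full automorphism group of PSL₂(32); the alternating group of degree 4 or 5; SL₂(3); or SL₂(5). -/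
theorem result {G : Type*} [Group G] [Finite G]
    (hC : ∀ H K : Subgroup G, Nat.card H = Nat.card K → ∃ g : G, K = H.map (MulAut.conj g).toMonoidHom) :
    (IsCyclic (G ⧸ Cfsg.oddCore G) ∧ IsPGroup 2 (G ⧸ Cfsg.oddCore G)) ∨
    Nonempty (G ⧸ Cfsg.oddCore G ≃* Cfsg.affineGroup (GaloisField 2 3)) ∨
    Nonempty (G ⧸ Cfsg.oddCore G ≃* Cfsg.semiaffineGroup (GaloisField 2 3)) ∨
    Nonempty (G ⧸ Cfsg.oddCore G ≃* Cfsg.semiaffineGroup (GaloisField 2 5)) ∨
    Nonempty (G ⧸ Cfsg.oddCore G ≃* Matrix.ProjectiveSpecialLinearGroup (Fin 2) (GaloisField 2 3)) ∨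
    Nonempty (G ⧸ Cfsg.oddCore G ≃* MulAut (Matrix.ProjectiveSpecialLinearGroup (Fin 2) (GaloisField 2 5))) ∨
    Nonempty (G ⧸ Cfsg.oddCore G ≃* alternatingGroup (Fin 4)) ∨
    Nonempty (G ⧸ Cfsg.oddCore G ≃* alternatingGroup (Fin 5)) ∨
    Nonempty (G ⧸ Cfsg.oddCore G ≃* Matrix.SpecialLinearGroup (Fin 2) (ZMod 3)) ∨
    Nonempty (G ⧸ Cfsg.oddCore G ≃* Matrix.SpecialLinearGroup (Fin 2) (ZMod 5)) := by
  haveI hnorm : (Cfsg.oddCore G).Normal := (CfsgLib.Fus.oddCore_spec G).1
  have hq : CfsgLib.EqOrderConj75.EqOrdConj (G ⧸ Cfsg.oddCore G) :=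
    CfsgLib.EqOrderConj75.EqOrdConj.quotient hC _
  have hO : Cfsg.oddCore (G ⧸ Cfsg.oddCore G) = ⊥ := CfsgLib.Fus.oddCore_quotient_eq_bot G
  haveI : Fact (Nat.Prime 2) := ⟨Nat.prime_two⟩
  obtain ⟨S⟩ : Nonempty (Sylow 2 (G ⧸ Cfsg.oddCore G)) := inferInstance
  rcases CfsgLib.EqOrderConj75.sylow_shape hq S with hel | hcyc | ⟨⟨e⟩⟩
  · obtain ⟨n, hn⟩ := S.2.exists_card_eq
    rcases Nat.lt_or_ge n 2 with hlt | hge
    · -- order at most two: cyclic
      have : IsCyclic (S : Subgroup (G ⧸ Cfsg.oddCore G)) := by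
        rcases (show n = 0 ∨ n = 1 by omega) with rfl | rfl
        · haveI := (Nat.card_eq_one_iff_unique.mp hn).1
          infer_instance
        · exact isCyclic_of_prime_card (p := 2) hn
      exact Or.inl (CfsgLib.EqOrderConj75.cyclic_case hO S)
    rcases Nat.eq_or_lt_of_le hge with heq | hgt
    · subst heq
      rcases CfsgLib.EqOrderConj75.rank_two_cases hq hO S hel hn with h4 | h5
      · exact (Or.inr (Or.inr (Or.inr (Or.inr (Or.inr (Or.inr (Or.inl h4)))))))
      · exact (Or.inr (Or.inr (Or.inr (Or.inr (Or.inr (Or.inr (Or.inr (Or.inl h5))))))))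
    · by_cases hnor : (S : Subgroup (G ⧸ Cfsg.oddCore G)).Normal
      · rcases CfsgLib.EqOrderConj75.normal_cases hq hO S hel hnor hgt hn with h | h | h
        · exact (Or.inr (Or.inl h))
        · exact (Or.inr (Or.inr (Or.inl h)))
        · exact (Or.inr (Or.inr (Or.inr (Or.inl h))))
      · rcases CfsgLib.EqOrderConj75.rank_big hq hO S hel hnor hgt hn with h | h
        · exact (Or.inr (Or.inr (Or.inr (Or.inr (Or.inl h)))))
        · exact (Or.inr (Or.inr (Or.inr (Or.inr (Or.inr (Or.inl h))))))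
  · exact Or.inl (CfsgLib.EqOrderConj75.cyclic_case hO S)
  · rcases CfsgLib.EqOrderConj75.quaternion_case hq hO S e with h | h
    · exact (Or.inr (Or.inr (Or.inr (Or.inr (Or.inr (Or.inr (Or.inr (Or.inr (Or.inl h)))))))))
    · exact (Or.inr (Or.inr (Or.inr (Or.inr (Or.inr (Or.inr (Or.inr (Or.inr (Or.inr h)))))))))

end Cfsg.Agent.S4021
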