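import Cfsg.Statements.S4027
import Cfsg.Agent.NoInversion.Basic

set_option autoImplicit false
open Cfsg

namespace Cfsg.Agent.S4027

theorem mem_normalizer_of_inv {G : Type*} [Group G] {x g : G} (h : g * x * g⁻¹ = x⁻¹) :
    g ∈ Subgroup.normalizer ((Subgroup.zpowers x : Subgroup G) : Set G) := by
  have hz : ∀ n : ℤ, g * x ^ n * g⁻¹ = x ^ (-n) := fun n => by rw [← conj_zpow, h, inv_zpow, zpow_neg]
  rw [Subgroup.mem_normalizer_iff]
  intro w
  constructor
  · rintro ⟨n, rfl⟩; exact ⟨-n, (hz n).symm⟩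
  · rintro ⟨n, hn⟩
    refine ⟨-n, ?_⟩
    have h1 : g * x ^ (-n) * g⁻¹ = g * w * g⁻¹ := by rw [hz, neg_neg]; exact hn
    exact mul_left_cancel (mul_right_cancel h1)

/-- Let G be a finite group in which every element x of odd order satisfies N_G(⟨x⟩) = C_G(x). Then the Sylow 2-subgroups of G are normal. -/
theorem result {G : Type*} [Group G] [Finite G]
    (hirr : ∀ x : G, (∀ r : ℕ, r.Prime → r ∣ orderOf x → r ≠ 2) →
      Subgroup.normalizer ((Subgroup.zpowers x : Subgroup G) : Set G) ≤ Subgroup.centralizer {x}) (P : Sylow 2 G) :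
    (P : Subgroup G).Normal := by
  refine CfsgLib.NoInversion.sylow_normal (fun x g hodd hg => ?_) P
  have hc := hirr x (fun r hr hd => by
    rintro rfl
    exact absurd hd (Nat.two_dvd_ne_zero.mpr (Nat.odd_iff.mp hodd))) (mem_normalizer_of_inv hg)
  rw [Subgroup.mem_centralizer_singleton_iff] at hc
  have h2 : x ^ 2 = 1 := by
    rw [hc, mul_inv_cancel_right] at hg
    rw [pow_two]; exact mul_eq_one_iff_eq_inv.mpr hg
  have h1 := orderOf_dvd_of_pow_eq_one h2
  rcases (Nat.dvd_prime Nat.prime_two).mp h1 with h | h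
  · exact orderOf_eq_one_iff.mp h
  · rw [h] at hodd; exact absurd hodd (by decide)

end Cfsg.Agent.S4027
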