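import Cfsg.Statements.S4040
import Mathlib
import Cfsg.Agent.S0117
import Cfsg.Agent.OddLocal.CenterThompson
import Cfsg.Agent.Coprime.Sylow
import Cfsg.Agent.FPFNilpotent.Basic

set_option autoImplicit false
open Cfsg

namespace Cfsg.Agent.S4040

universe u

theorem aux : ∀ (n : ℕ) (G : Type u) [Group G] [Finite G], Nat.card G = n →
    ∀ M : Subgroup G, IsCoatom M → Group.IsNilpotent M → Odd (Nat.card M) → Group.IsSolvable G := by
  intro n
  induction n using Nat.strong_induction_on with
  | _ n ih =>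
  intro G _ _ hG M hmax hnil hodd
  haveI := hnil
  by_cases hcore : ∃ N : Subgroup G, N.Normal ∧ N ≠ ⊥ ∧ N ≤ M
  · obtain ⟨N, hN, hN1, hNM⟩ := hcore
    haveI : Group.IsSolvable N := Group.isSolvable_of_isSolvable_injective (Subgroup.inclusion_injective hNM)
    haveI : Group.IsSolvable (G ⧸ N) := by
      set π := QuotientGroup.mk' N
      have hcm : (M.map π).comap π = M := by
        rw [Subgroup.comap_map_eq, QuotientGroup.ker_mk', sup_eq_left.mpr hNM]
      refine ih (Nat.card (G ⧸ N)) ?_ (G ⧸ N) rfl (M.map π) ⟨?_, ?_⟩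
        (Group.nilpotent_of_surjective (π.subgroupMap M) (π.subgroupMap_surjective M))
        (hodd.of_dvd_nat (Subgroup.card_map_dvd M π))
      · rw [← hG, Subgroup.card_eq_card_quotient_mul_card_subgroup N]
        exact lt_mul_of_one_lt_right Nat.card_pos ((Subgroup.one_lt_card_iff_ne_bot N).2 hN1)
      · intro h
        rw [h, Subgroup.comap_top] at hcm
        exact hmax.1 hcm.symm
      · intro L hL
        have hlt : M < L.comap π := by
          rw [← hcm]
          exact Subgroup.comap_lt_comap_of_surjective (QuotientGroup.mk'_surjective N) |>.mpr hL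
        have := hmax.2 _ hlt
        rw [← Subgroup.map_comap_eq_self_of_surjective (QuotientGroup.mk'_surjective N) L, this,
          Subgroup.map_top_of_surjective _ (QuotientGroup.mk'_surjective N)]
    exact (Group.isSolvable_iff_subgroup_quotient N).mpr ⟨‹_›, ‹_›⟩
  push_neg at hcore
  by_cases hM1 : M = ⊥
  · subst hM1
    by_cases h : ∀ x : G, x = 1
    · haveI : Subsingleton G := ⟨fun a b => by rw [h a, h b]⟩
      infer_instance
    · push_neg at h
      obtain ⟨x, hx⟩ := h
      have : Subgroup.zpowers x = ⊤ := hmax.2 _ (bot_lt_iff_ne_bot.mpr (by simpa using hx))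
      exact Group.isSolvable_of_comm fun a b => by
        have ha : a ∈ Subgroup.zpowers x := this ▸ Subgroup.mem_top a
        have hb : b ∈ Subgroup.zpowers x := this ▸ Subgroup.mem_top b
        obtain ⟨i, rfl⟩ := ha
        obtain ⟨j, rfl⟩ := hb
        exact ((Commute.refl x).zpow_zpow i j).eq
  have hself : ∀ Q : Subgroup G, Q ≤ M → Q ≠ ⊥ → M ≤ Subgroup.normalizer (Q : Set G) →
      Subgroup.normalizer (Q : Set G) = M := by
    intro Q hQM hQ hle
    by_contra hne
    have := hmax.2 _ (lt_of_le_of_ne hle (Ne.symm hne))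
    exact hcore Q (Subgroup.normalizer_eq_top_iff.mp this) hQ hQM
  have hloc : ∀ p, p.Prime → p ∣ Nat.card M →
      Cfsg.HasNormalPComplement p G ∧ ¬ p ∣ M.index := by
    intro p hp hpM
    haveI := Fact.mk hp
    have hp2 : p ≠ 2 := by
      rintro rfl
      exact absurd hodd (by rw [Nat.not_odd_iff_even]; exact even_iff_two_dvd.mpr hpM)
    let T : Sylow p M := default
    haveI hTn : (T : Subgroup M).Normal := inferInstance
    set Q := (T : Subgroup M).map M.subtype
    have hQM : Q ≤ M := Subgroup.map_subtype_le _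
    have hQc : Nat.card Q = p ^ (Nat.card M).factorization p := by
      rw [Subgroup.card_map_of_injective M.subtype_injective, T.card_eq_multiplicity]
    have hQ1 : Q ≠ ⊥ := by
      intro h
      rw [h, Subgroup.card_bot] at hQc
      exact (Nat.one_lt_pow (hp.factorization_pos_of_dvd Nat.card_pos.ne' hpM).ne' hp.one_lt).ne hQc
    have hMN : M ≤ Subgroup.normalizer (Q : Set G) := fun m hm => by
      rw [Subgroup.mem_normalizer_iff]
      intro x
      constructor
      · rintro ⟨y, hy, rfl⟩
        exact ⟨⟨m, hm⟩ * y * ⟨m, hm⟩⁻¹, hTn.conj_mem y hy _, rfl⟩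
      · rintro ⟨y, hy, hyx⟩
        refine ⟨⟨m, hm⟩⁻¹ * y * ⟨m, hm⟩, (by have h := hTn.conj_mem y hy (⟨m, hm⟩⁻¹); rwa [inv_inv] at h), ?_⟩
        show m⁻¹ * M.subtype y * m = x
        rw [hyx]; group
    have hNQ : Subgroup.normalizer (Q : Set G) = M := hself Q hQM hQ1 hMN
    have hQp : IsPGroup p Q := T.2.map _
    obtain ⟨S, hS⟩ := hQp.exists_le_sylow
    have hSQ : (S : Subgroup G) = Q := by
      by_contra hne
      have hlt : Q.subgroupOf (S : Subgroup G) < ⊤ := by
        rw [lt_top_iff_ne_top, Ne, Subgroup.subgroupOf_eq_top]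
        exact fun h => hne (le_antisymm h hS)
      haveI := S.2.isNilpotent
      obtain ⟨x, hx, hxQ⟩ := SetLike.exists_of_lt (Group.normalizerCondition_of_isNilpotent (Q.subgroupOf (S : Subgroup G)) hlt)
      have hxN : (x : G) ∈ Subgroup.normalizer (Q : Set G) := by
        rw [Subgroup.mem_normalizer_iff] at hx ⊢
        intro y
        constructor
        · intro hy
          exact (hx ⟨y, hS hy⟩).mp hy
        · intro hy
          have hy2 : y ∈ (S : Subgroup G) := by
            have := (S : Subgroup G).mul_mem ((S : Subgroup G).mul_mem ((S : Subgroup G).inv_mem x.2) (hS hy)) x.2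
            simpa [mul_assoc] using this
          exact (hx ⟨y, hy2⟩).mpr hy
      rw [hNQ] at hxN
      -- a `p`-element of `M` lies in its normal Sylow subgroup
      have hzp : IsPGroup p (Subgroup.zpowers (⟨(x : G), hxN⟩ : M)) := by
        obtain ⟨k, hk⟩ := S.2 x
        rintro ⟨_, i, rfl⟩
        refine ⟨k, Subtype.ext (Subtype.ext ?_)⟩
        have hk' : (x : G) ^ p ^ k = 1 := congrArg Subtype.val hk
        show ((x : G) ^ i) ^ p ^ k = 1
        rw [← zpow_natCast, ← zpow_mul, mul_comm, zpow_mul, zpow_natCast, hk', one_zpow]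
      obtain ⟨T', hT'⟩ := hzp.exists_le_sylow
      haveI := Sylow.unique_of_normal T hTn
      have : T' = T := Subsingleton.elim T' T
      exact hxQ (show (x : G) ∈ Q from ⟨⟨(x : G), hxN⟩, this ▸ hT' (Subgroup.mem_zpowers _), rfl⟩)
    refine ⟨(Cfsg.Agent.S0117.result hp2 S).mpr ?_, ?_⟩
    · set Z := Cfsg.centerThompsonOf p (S : Subgroup G)
      have hZ1 : Z ≠ ⊥ := (CfsgLib.GlaubermanZJ.fullCenter p).obj_ne_bot G (S : Subgroup G) S.2 (by rw [hSQ]; exact hQ1)
      have hZM : Z ≤ M := by
        refine le_trans (inf_le_left.trans ?_) hQM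
        rw [← hSQ]
        exact Subgroup.map_subtype_le _
      have hle : M ≤ Subgroup.normalizer (Z : Set G) := by
        refine le_trans ?_ (CfsgLib.OddLocal.normalizer_le_normalizer_centerThompsonOf _)
        rw [hSQ, hNQ]
      rw [hself Z hZM hZ1 hle]
      exact CfsgLib.FPFNilpotent.hasNormalPComplement_of_isNilpotent hnil
    · intro hdvd
      have h1 : Nat.card (S : Subgroup G) = p ^ (Nat.card G).factorization p := S.card_eq_multiplicity
      rw [hSQ, hQc, ← M.card_mul_index, Nat.factorization_mul Nat.card_pos.ne' Subgroup.index_ne_zero_of_finite,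
        Finsupp.add_apply] at h1
      have := Nat.pow_right_injective hp.two_le h1
      have := hp.factorization_pos_of_dvd Subgroup.index_ne_zero_of_finite hdvd
      omega
  -- the intersection of the normal complements
  set π := (Nat.card M).primeFactors
  let K : Subgroup G := ⨅ p ∈ π, Cfsg.pResidual p G
  have hKmem : ∀ g, g ∈ K ↔ ∀ p ∈ π, (orderOf g).Coprime p := by
    intro g
    simp only [K, Subgroup.mem_iInf]
    refine forall₂_congr fun p hp => ?_
    obtain ⟨hpp, hpd, -⟩ := Nat.mem_primeFactors.mp hp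
    haveI := Fact.mk hpp
    exact CfsgLib.Transfer.mem_pResidual_iff (hloc p hpp hpd).1 g
  haveI hKn : K.Normal := ⟨fun k hk g => (hKmem _).mpr fun p hp => by
    have := (hKmem k).mp hk p hp
    rwa [show orderOf (g * k * g⁻¹) = orderOf k from MulEquiv.orderOf_eq (MulAut.conj g) k]⟩
  have hcop : (Nat.card M).Coprime (Nat.card K) := by
    refine Nat.coprime_of_dvd fun q hq hqM hqK => ?_
    haveI := Fact.mk hq
    obtain ⟨k, hk⟩ := exists_prime_orderOf_dvd_card' q hqK
    have h := (hKmem (k : G)).mp k.2 q (Nat.mem_primeFactors.mpr ⟨hq, hqM, Nat.card_pos.ne'⟩)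
    rw [Subgroup.orderOf_coe, hk] at h
    exact hq.one_lt.ne' (Nat.Coprime.eq_one_of_dvd h dvd_rfl)
  have hMK : M ≤ Subgroup.normalizer (K : Set G) := Subgroup.le_normalizer_of_normal
  have hMsol : Group.IsSolvable M := inferInstance
  by_cases hKM : K ≤ M
  · -- then `G / K` is a `π`-group, so `M = G`
    exfalso
    have hKbot : K = ⊥ := by
      by_contra hne
      exact hcore K hKn hne hKM
    have hall : M.index = 1 := by
      by_contra hne
      obtain ⟨q, hq, hqd⟩ := Nat.exists_prime_and_dvd hne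
      haveI := Fact.mk hq
      obtain ⟨x, hx⟩ := exists_prime_orderOf_dvd_card' (G := G) q (hqd.trans M.index_dvd_card)
      have hxK : x ∈ K := (hKmem x).mpr fun p hp => by
        obtain ⟨hpp, hpd, -⟩ := Nat.mem_primeFactors.mp hp
        rw [hx]
        exact (Nat.coprime_primes hq hpp).mpr fun h => (hloc p hpp hpd).2 (h ▸ hqd)
      rw [hKbot, Subgroup.mem_bot] at hxK
      rw [hxK, orderOf_one] at hx
      exact hq.one_lt.ne hx
    exact hmax.1 (Subgroup.index_eq_one.mp hall)
  · -- `M` normalises a Sylow subgroup of `K`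
    have hqgroup : ∀ q : ℕ, q.Prime → q ∣ Nat.card K → ∃ Q : Subgroup G, Q ≠ ⊥ ∧ IsPGroup q Q ∧ M ⊔ Q = ⊤ ∧
        M ≤ Subgroup.normalizer (Q : Set G) := by
      intro q hq hqK
      haveI := Fact.mk hq
      obtain ⟨P, hP⟩ := CfsgLib.Coprime.exists_invariant_sylow (p := q) hMK hcop (Or.inl hMsol)
      have hQ1 : (P : Subgroup K).map K.subtype ≠ ⊥ := fun h => P.ne_bot_of_dvd_card hqK
        ((Subgroup.map_eq_bot_iff_of_injective _ K.subtype_injective).mp h)
      refine ⟨_, hQ1, P.2.map _, hmax.2 _ (lt_of_le_of_ne le_sup_left fun h => ?_), hP⟩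
      refine hQ1 (eq_bot_iff.mpr fun x hx => ?_)
      have hxM : x ∈ M := h ▸ Subgroup.mem_sup_right hx
      exact (Subgroup.inf_eq_bot_of_coprime hcop).le ⟨hxM, Subgroup.map_subtype_le _ hx⟩
    have hKbot : K ≠ ⊥ := fun h => hKM (h ▸ bot_le)
    obtain ⟨q, hq, hqK⟩ := Nat.exists_prime_and_dvd ((Subgroup.one_lt_card_iff_ne_bot K).mpr hKbot).ne'
    haveI := Fact.mk hq
    obtain ⟨Q, hQ1, hQp, hsup, hnorm⟩ := hqgroup q hq hqK
    haveI : Q.Normal := Subgroup.normalizer_eq_top_iff.mp
      (eq_top_iff.mpr (hsup ▸ sup_le hnorm Subgroup.le_normalizer))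
    haveI : Group.IsSolvable Q := by
      haveI := hQp.isNilpotent
      infer_instance
    haveI : Group.IsSolvable (G ⧸ Q) := by
      refine Group.isSolvable_of_surjective (f := (QuotientGroup.mk' Q).comp M.subtype) ?_
      intro x
      obtain ⟨g, rfl⟩ := QuotientGroup.mk'_surjective Q x
      have hg : g ∈ M ⊔ Q := hsup ▸ Subgroup.mem_top g
      rw [Subgroup.mem_sup_of_normal_right] at hg
      obtain ⟨a, ha, b, hb, rfl⟩ := hg
      exact ⟨⟨a, ha⟩, by
        show (a : G ⧸ Q) = ((a * b : G) : G ⧸ Q)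
        rw [QuotientGroup.mk_mul, (QuotientGroup.eq_one_iff b).mpr hb, mul_one]⟩
    exact (Group.isSolvable_iff_subgroup_quotient Q).mpr ⟨‹_›, ‹_›⟩

/-- A finite group possessing a maximal subgroup that is nilpotent of odd order is solvable. -/
theorem result {G : Type*} [Group G] [Finite G]
    (M : Subgroup G) (hmax : IsCoatom M) (hnil : Group.IsNilpotent M) (hodd : Odd (Nat.card M)) :
    Group.IsSolvable G := by
  exact aux _ G rfl M hmax hnil hodd

end Cfsg.Agent.S4040
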