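import Cfsg.Statements.S4049
import Cfsg.Agent.S4027

set_option autoImplicit false
open Cfsg

namespace Cfsg.Agent.S4049

/-- Let G be a finite group such that N_G(H)/C_G(H) has odd order for every nontrivial subgroup H of odd order. Then the Sylow 2-subgroups of G are normal. -/
theorem result {G : Type*} [Group G] [Finite G]
    (hhom : ∀ H : Subgroup G, H ≠ ⊥ → ¬ 2 ∣ Nat.card ↥H →
        ¬ 2 ∣ (Subgroup.centralizer (H : Set G)).relIndex (Subgroup.normalizer (H : Set G))) (P : Sylow 2 G) :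
    (P : Subgroup G).Normal := by
  refine CfsgLib.NoInversion.sylow_normal (fun x g hodd hg => ?_) P
  by_contra hx
  set H := Subgroup.zpowers x
  have hH1 : H ≠ ⊥ := fun h => hx (Subgroup.zpowers_eq_bot.mp h)
  have hHo : ¬ 2 ∣ Nat.card H := by
    rw [Nat.card_zpowers]; exact Nat.two_dvd_ne_zero.mpr (Nat.odd_iff.mp hodd)
  have hidx := hhom H hH1 hHo
  set N := Subgroup.normalizer (H : Set G)
  set C := Subgroup.centralizer (H : Set G)
  have hgN : g ∈ N := Cfsg.Agent.S4027.mem_normalizer_of_inv hg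
  haveI : (C.subgroupOf N).Normal := by
    refine ⟨fun c hc n => ?_⟩
    rw [Subgroup.mem_subgroupOf, Subgroup.mem_centralizer_iff] at hc ⊢
    intro y hy
    have hy' := (Subgroup.mem_normalizer_iff.mp (N.inv_mem n.2) y).mp hy
    rw [inv_inv] at hy'
    have := hc _ hy'
    push_cast
    calc y * ((n : G) * c * (n : G)⁻¹) = (n : G) * (((n : G)⁻¹ * y * n) * c) * (n : G)⁻¹ := by group
      _ = (n : G) * ((c : G) * ((n : G)⁻¹ * y * n)) * (n : G)⁻¹ := by rw [this]
      _ = _ := by group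
  have hsq : ((⟨g, hgN⟩ : N) : N ⧸ C.subgroupOf N) ^ 2 = 1 := by
    rw [← QuotientGroup.mk_pow, QuotientGroup.eq_one_iff, Subgroup.mem_subgroupOf, Subgroup.mem_centralizer_iff]
    rintro y ⟨n, rfl⟩
    show x ^ n * (((⟨g, hgN⟩ : N) ^ 2 : N) : G) = (((⟨g, hgN⟩ : N) ^ 2 : N) : G) * x ^ n
    push_cast
    have h1 : g ^ 2 * x * (g ^ 2)⁻¹ = x := by
      calc g ^ 2 * x * (g ^ 2)⁻¹ = g * (g * x * g⁻¹) * g⁻¹ := by rw [pow_two]; group
        _ = g * x⁻¹ * g⁻¹ := by rw [hg]
        _ = (g * x * g⁻¹)⁻¹ := by group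
        _ = x := by rw [hg, inv_inv]
    have h2 : Commute (g ^ 2) x := mul_inv_eq_iff_eq_mul.mp h1
    exact (h2.zpow_right n).eq.symm
  have h1 : orderOf ((⟨g, hgN⟩ : N) : N ⧸ C.subgroupOf N) = 1 := by
    refine Nat.eq_one_of_dvd_coprimes (Nat.prime_two.coprime_iff_not_dvd.mpr hidx)
      (orderOf_dvd_of_pow_eq_one hsq) ?_
    rw [Subgroup.relIndex, Subgroup.index_eq_card]; exact orderOf_dvd_natCard _
  have hgC : g ∈ C := (QuotientGroup.eq_one_iff (N := C.subgroupOf N) _).mp (orderOf_eq_one_iff.mp h1)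
  have hcomm := Subgroup.mem_centralizer_iff.mp hgC x (Subgroup.mem_zpowers x)
  rw [← hcomm, mul_inv_cancel_right] at hg
  have h2 := orderOf_dvd_of_pow_eq_one (show x ^ 2 = 1 by rw [pow_two]; exact mul_eq_one_iff_eq_inv.mpr hg)
  rcases (Nat.dvd_prime Nat.prime_two).mp h2 with h | h
  · exact hx (orderOf_eq_one_iff.mp h)
  · rw [h] at hodd; exact absurd hodd (by decide)

end Cfsg.Agent.S4049
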