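import Cfsg.Statements.S4073
import Cfsg.Agent.CAGroups.SelfNormalizing
import Cfsg.Agent.Dickson.PSL
import Cfsg.Agent.SL2.Torus
import Mathlib

set_option autoImplicit false
set_option linter.style.haveILetI false
open Cfsg

namespace Cfsg.Agent.S4073

open CfsgLib.CAGroups.SelfNorm

variable {F : Type*} [Field F] [Fintype F] [CharP F 2]

local notation "SL₂F" => Matrix.SpecialLinearGroup (Fin 2) F

omit [Fintype F] in
theorem two_eq_zero : (2 : F) = 0 := CharTwo.two_eq_zero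

omit [Fintype F] in
theorem mul_self_of_commute_involution {t x : SL₂F} (ht : t * t = 1) (ht1 : t ≠ 1) (hx : Commute x t) :
    x * x = 1 := by
  have htc : t ∉ Subgroup.center SL₂F := by
    rw [CfsgLib.SL2.center_eq_bot, Subgroup.mem_bot]; exact ht1
  have htr : CfsgLib.SL2.tr t = 0 := by
    by_contra hne
    have h := CfsgLib.SL2.coe_sq t
    rw [show (t : Matrix (Fin 2) (Fin 2) F) * (t : Matrix (Fin 2) (Fin 2) F) = 1 from
      congrArg Subtype.val ht] at h
    have e01 := congrFun (congrFun h 0) 1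
    have e10 := congrFun (congrFun h 1) 0
    have e00 := congrFun (congrFun h 0) 0
    have e11 := congrFun (congrFun h 1) 1
    simp at e01 e10 e00 e11
    refine (CfsgLib.SL2.not_mem_center_iff_entries.1 htc) ⟨e01.resolve_left hne, e10.resolve_left hne, ?_⟩
    exact mul_left_cancel₀ hne (by linear_combination e11 - e00)
  obtain ⟨a, b, hab⟩ := (CfsgLib.SL2.mem_centralizer_iff_exists htc).1
    (Subgroup.mem_centralizer_singleton_iff.mpr hx.eq)
  have hx0 : CfsgLib.SL2.tr x = 0 := by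
    have h2 := two_eq_zero (F := F)
    simp only [CfsgLib.SL2.tr] at htr ⊢
    rw [hab]
    simp
    linear_combination a * h2 + b * htr
  rw [CfsgLib.SL2.mul_self_of_tr_eq_zero hx0, CfsgLib.SL2.neg_one_eq_one]

omit [Fintype F] in
theorem tr_sq_ne_four {c : SL₂F} (hodd : Odd (orderOf c)) (hc : c ≠ 1) : CfsgLib.SL2.tr c ^ 2 ≠ 4 := by
  intro e
  have h4 : (4 : F) = 0 := by linear_combination (2 : F) * two_eq_zero (F := F)
  rw [h4] at e
  have h0 : CfsgLib.SL2.tr c = 0 := pow_eq_zero_iff two_ne_zero |>.mp e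
  refine hc (CfsgLib.CAGroups.AbelianCent.eq_one_of_odd_sq hodd ?_)
  rw [CfsgLib.SL2.mul_self_of_tr_eq_zero h0, CfsgLib.SL2.neg_one_eq_one]

/-- A dihedral subgroup of twice odd order is self-normalizing. -/
theorem normalizer_le_of_card {H : Subgroup SL₂F} {m : ℕ} (hm : Odd m) (hm1 : 1 < m)
    (hcard : Nat.card H = 2 * m) {c : SL₂F} (hcH : c ∈ H) (hc : orderOf c = m) :
    Subgroup.normalizer (H : Set SL₂F) ≤ H := by
  set C := Subgroup.zpowers c with hC
  have hCH : C ≤ H := Subgroup.zpowers_le.mpr hcH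
  have hidx : (C.subgroupOf H).index = 2 := by
    have h := (C.subgroupOf H).index_mul_card
    rw [Nat.card_congr (Subgroup.subgroupOfEquivOfLe hCH).toEquiv, Nat.card_zpowers, hc, hcard] at h
    exact Nat.eq_of_mul_eq_mul_right (by omega) h
  have hmemC : ∀ x ∈ H, Odd (orderOf x) → x ∈ C := by
    intro x hx hxo
    obtain ⟨k, hk⟩ := hxo
    have h2 : (⟨x, hx⟩ : H) * ⟨x, hx⟩ ∈ C.subgroupOf H := Subgroup.mul_self_mem_of_index_two hidx _
    have h3 : (x * x) ∈ C := h2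
    have : x = ((x * x) ^ k)⁻¹ := by
      refine eq_inv_of_mul_eq_one_left ?_
      rw [← pow_two, ← pow_mul, ← pow_succ', ← hk, pow_orderOf_eq_one]
    rw [this]
    exact C.inv_mem (C.pow_mem h3 k)
  have hprod : ∀ x ∈ H, ∀ y ∈ H, x ∉ C → y ∉ C → x * y ∈ C := fun x hx y hy hxC hyC => by
    have := (Subgroup.mul_mem_iff_of_index_two hidx (a := (⟨x, hx⟩ : H)) (b := ⟨y, hy⟩)).mpr
      ⟨fun h => absurd h hxC, fun h => absurd h hyC⟩
    exact this
  haveI : Fact (Nat.Prime 2) := ⟨Nat.prime_two⟩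
  obtain ⟨⟨t, htH⟩, htord⟩ := exists_prime_orderOf_dvd_card' (G := H) 2 (by rw [hcard]; exact dvd_mul_right _ _)
  rw [Subgroup.orderOf_mk] at htord
  obtain ⟨htt, ht1⟩ := CfsgLib.StronglyEmbedded.orderOf_two_iff.mp htord
  have htC : t ∉ C := fun h => by
    have hd : orderOf t ∣ m := hc ▸ Nat.card_zpowers c ▸ Subgroup.orderOf_dvd_natCard C h
    rw [htord] at hd
    obtain ⟨k, hk⟩ := hm
    omega
  have hc1 : c ≠ 1 := fun h => by rw [h, orderOf_one] at hc; omega
  have hcodd : Odd (orderOf c) := hc.symm ▸ hm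
  have htr := tr_sq_ne_four hcodd hc1
  have htwo : ∀ g ∈ Subgroup.normalizer (H : Set SL₂F), g * c * g⁻¹ = c ∨ g * c * g⁻¹ = c⁻¹ := by
    intro g hg
    have h1 : g * c * g⁻¹ ∈ C := hmemC _ ((Subgroup.mem_normalizer_iff.mp hg c).mp hcH)
      (by rw [CfsgLib.StronglyEmbedded.orderOf_conj]; exact hcodd)
    refine CfsgLib.SL2.eq_or_eq_inv_of_tr_eq htr ?_ (CfsgLib.SL2.tr_conj _ _)
    obtain ⟨i, hi⟩ := h1
    refine Subgroup.mem_centralizer_singleton_iff.mpr ?_
    rw [← hi]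
    exact ((Commute.refl c).zpow_left i).eq
  have hnofix : ∀ s : SL₂F, s * s = 1 → Commute s c → s = 1 := fun s hs hsc => by
    by_contra hs1
    exact hc1 (CfsgLib.CAGroups.AbelianCent.eq_one_of_odd_sq hcodd
      (mul_self_of_commute_involution hs hs1 hsc.symm))
  have htinv : t * c * t⁻¹ = c⁻¹ := (htwo t (Subgroup.le_normalizer htH)).resolve_left fun e =>
    ht1 (hnofix t htt (mul_inv_eq_iff_eq_mul.mp e))
  intro g hg
  set a := g * t * g⁻¹ with ha
  have haH : a ∈ H := (Subgroup.mem_normalizer_iff.mp hg t).mp htH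
  have hao : orderOf a = 2 := by rw [ha, CfsgLib.StronglyEmbedded.orderOf_conj, htord]
  have haC : a ∉ C := fun h => by
    have hd : orderOf a ∣ m := hc ▸ Nat.card_zpowers c ▸ Subgroup.orderOf_dvd_natCard C h
    rw [hao] at hd
    obtain ⟨k, hk⟩ := hm
    omega
  obtain ⟨i, hi⟩ : a * t ∈ C := hprod a haH t htH haC htC
  obtain ⟨k, hk⟩ := hm
  set d := c ^ (i * ((k : ℤ) + 1)) with hd
  have htd : t * d⁻¹ = d * t := by
    have h1 : t * d⁻¹ * t⁻¹ = d := by
      rw [hd, ← zpow_neg, ← conj_zpow, htinv, inv_zpow, zpow_neg, inv_inv]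
    calc t * d⁻¹ = (t * d⁻¹ * t⁻¹) * t := by group
      _ = d * t := by rw [h1]
  have hdd : d * d = c ^ i := by
    rw [hd, ← zpow_add, show i * ((k : ℤ) + 1) + i * ((k : ℤ) + 1) = i + (m : ℤ) * i by rw [hk]; push_cast; ring,
      zpow_add, zpow_mul, zpow_natCast, ← hc, pow_orderOf_eq_one, one_zpow, mul_one]
  have hat : a = d * t * d⁻¹ := by
    rw [mul_assoc, htd, ← mul_assoc, hdd, show c ^ i = a * t from hi, mul_assoc, htt, mul_one]
  set g' := d⁻¹ * g with hg'
  have hg't : Commute g' t := by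
    have h1 : g' * t * g'⁻¹ = t := by
      rw [hg', show d⁻¹ * g * t * (d⁻¹ * g)⁻¹ = d⁻¹ * (g * t * g⁻¹) * d by group, ← ha, hat]; group
    exact mul_inv_eq_iff_eq_mul.mp h1
  have hdH : d ∈ H := H.zpow_mem hcH _
  have hg'N : g' ∈ Subgroup.normalizer (H : Set SL₂F) :=
    Subgroup.mul_mem _ (Subgroup.inv_mem _ (Subgroup.le_normalizer hdH)) hg
  have hg'2 := mul_self_of_commute_involution htt ht1 hg't
  suffices hg'H : g' ∈ H by
    rw [show g = d * g' by rw [hg', mul_inv_cancel_left]]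
    exact H.mul_mem hdH hg'H
  rcases htwo g' hg'N with e | e
  · rw [hnofix g' hg'2 (mul_inv_eq_iff_eq_mul.mp e)]
    exact one_mem _
  · have hs : (g' * t) * c * (g' * t)⁻¹ = c := by
      rw [show g' * t * c * (g' * t)⁻¹ = g' * (t * c * t⁻¹) * g'⁻¹ by group, htinv,
        show g' * c⁻¹ * g'⁻¹ = (g' * c * g'⁻¹)⁻¹ by group, e, inv_inv]
    have hs2 : g' * t * (g' * t) = 1 := by
      rw [show g' * t * (g' * t) = g' * (t * g') * t by group, ← hg't.eq,
        show g' * (g' * t) * t = (g' * g') * (t * t) by group, hg'2, htt, one_mul]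
    have h1 : g' * t = 1 := hnofix _ hs2 (mul_inv_eq_iff_eq_mul.mp hs)
    rw [eq_inv_of_mul_eq_one_left h1]
    exact H.inv_mem htH

/-- The Borel subgroup: nonabelian subgroups of it are the whole of it. -/
theorem eq_borel {H : Subgroup SL₂F} (hprime : (Fintype.card F - 1).Prime)
    (hH : H ≤ (CfsgLib.SL2.B : Subgroup SL₂F)) (hab : ¬ Comm H) : H = CfsgLib.SL2.B := by
  classical
  have h00 : ∀ g ∈ (CfsgLib.SL2.B : Subgroup SL₂F), ∀ h ∈ (CfsgLib.SL2.B : Subgroup SL₂F),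
      (g * h) 0 0 = g 0 0 * h 0 0 := fun g hg h hh => by
    rw [CfsgLib.SL2.mem_B] at hg hh
    simp [Matrix.mul_apply, Fin.sum_univ_two, hh]
  have hUone : ∀ g ∈ (CfsgLib.SL2.B : Subgroup SL₂F), g 0 0 = 1 → g ∈ (CfsgLib.SL2.U : Subgroup SL₂F) := by
    intro g hg h1
    obtain ⟨t, a, rfl⟩ := CfsgLib.SL2.eq_u_mul_d hg
    have ha : a = 1 := Units.ext (by simpa [Matrix.mul_apply, Fin.sum_univ_two] using h1)
    rw [ha, map_one, mul_one]
    exact CfsgLib.SL2.u_mem_U t
  -- the image in the torus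
  let f : H →* Fˣ := MonoidHom.toHomUnits
    { toFun := fun g : H => (g : SL₂F) 0 0
      map_one' := by simp
      map_mul' := fun g h => h00 _ (hH g.2) _ (hH h.2) }
  have hf : ∀ g : H, (f g : F) = (g : SL₂F) 0 0 := fun g => rfl
  have hU : ∀ a b : F, Commute (CfsgLib.SL2.u a : SL₂F) (CfsgLib.SL2.u b) := fun a b => by
    show CfsgLib.SL2.u a * CfsgLib.SL2.u b = CfsgLib.SL2.u b * CfsgLib.SL2.u a
    rw [← CfsgLib.SL2.u_add, ← CfsgLib.SL2.u_add, add_comm]
  have hcardu : Nat.card Fˣ = Fintype.card F - 1 := by rw [Nat.card_units, Nat.card_eq_fintype_card]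
  have hsurj : f.range = ⊤ := by
    haveI : Fact (Nat.card Fˣ).Prime := ⟨hcardu.symm ▸ hprime⟩
    rcases Subgroup.eq_bot_or_eq_top_of_prime_card f.range with hb | ht
    · refine absurd (fun a ha b hb' => ?_) hab
      have h1 : ∀ g ∈ H, g ∈ (CfsgLib.SL2.U : Subgroup SL₂F) := fun g hg => hUone g (hH hg) (by
        rw [← hf ⟨g, hg⟩, show f ⟨g, hg⟩ = 1 from Subgroup.mem_bot.mp (hb ▸ ⟨_, rfl⟩), Units.val_one])
      obtain ⟨s, rfl⟩ := CfsgLib.SL2.mem_U.1 (h1 a ha)
      obtain ⟨s', rfl⟩ := CfsgLib.SL2.mem_U.1 (h1 b hb')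
      exact hU s s'
    · exact ht
  have hlift : ∀ a : Fˣ, ∃ t : F, CfsgLib.SL2.u t * CfsgLib.SL2.d a ∈ H := fun a => by
    obtain ⟨g, hg⟩ : a ∈ f.range := hsurj ▸ Subgroup.mem_top a
    obtain ⟨t, b, e⟩ := CfsgLib.SL2.eq_u_mul_d (hH g.2)
    refine ⟨t, ?_⟩
    have hb : b = a := Units.ext (by
      rw [← hg, hf, e]; simp [Matrix.mul_apply, Fin.sum_univ_two])
    rw [← hb, ← e]
    exact g.2
  obtain ⟨s, hs0, hsH⟩ : ∃ s : F, s ≠ 0 ∧ CfsgLib.SL2.u s ∈ H := by
    by_contra hno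
    push Not at hno
    refine hab fun a ha b hb => ?_
    have hm : a * b * a⁻¹ * b⁻¹ ∈ H := H.mul_mem (H.mul_mem (H.mul_mem ha hb) (H.inv_mem ha)) (H.inv_mem hb)
    have h1 : f (⟨a, ha⟩ * ⟨b, hb⟩ * ⟨a, ha⟩⁻¹ * ⟨b, hb⟩⁻¹) = 1 := by
      rw [map_mul, map_mul, map_mul, map_inv, map_inv, mul_comm (f ⟨a, ha⟩), mul_inv_cancel_right, mul_inv_cancel]
    obtain ⟨s, hs⟩ := CfsgLib.SL2.mem_U.1 (hUone _ (hH hm) ((hf ⟨_, hm⟩).symm.trans (congrArg Units.val h1)))
    have hs0 : s = 0 := by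
      by_contra h0
      exact hno s h0 (hs ▸ hm)
    rw [hs0, CfsgLib.SL2.u_zero] at hs
    exact mul_inv_eq_iff_eq_mul.mp (mul_inv_eq_one.mp hs)
  have hUH : ∀ r : F, CfsgLib.SL2.u r ∈ H := by
    intro r
    rcases eq_or_ne r 0 with rfl | hr
    · rw [CfsgLib.SL2.u_zero]; exact H.one_mem
    obtain ⟨a, ha⟩ := (surjective_frobenius F 2 : Function.Surjective _) (r / s)
    rw [frobenius_def] at ha
    have ha0 : a ≠ 0 := fun h => by
      rw [h, zero_pow two_ne_zero] at ha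
      exact div_ne_zero hr hs0 ha.symm
    obtain ⟨t, ht⟩ := hlift (Units.mk0 a ha0)
    have h1 := H.mul_mem (H.mul_mem ht hsH) (H.inv_mem ht)
    rw [show CfsgLib.SL2.u t * CfsgLib.SL2.d (Units.mk0 a ha0) * CfsgLib.SL2.u s *
        (CfsgLib.SL2.u t * CfsgLib.SL2.d (Units.mk0 a ha0))⁻¹ = CfsgLib.SL2.u t *
        (CfsgLib.SL2.d (Units.mk0 a ha0) * CfsgLib.SL2.u s * (CfsgLib.SL2.d (Units.mk0 a ha0))⁻¹) *
        (CfsgLib.SL2.u t)⁻¹ by group, CfsgLib.SL2.d_conj_u, (hU t _).eq, mul_inv_cancel_right,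
      Units.val_mk0, ha, div_mul_cancel₀ r hs0] at h1
    exact h1
  refine le_antisymm hH fun g hg => ?_
  obtain ⟨t, a, rfl⟩ := CfsgLib.SL2.eq_u_mul_d hg
  obtain ⟨t', ht'⟩ := hlift a
  refine H.mul_mem (hUH t) ?_
  have := H.mul_mem (H.inv_mem (hUH t')) ht'
  rwa [inv_mul_cancel_left] at this

theorem normalizer_borel :
    Subgroup.normalizer ((CfsgLib.SL2.B : Subgroup SL₂F) : Set SL₂F) ≤ CfsgLib.SL2.B := by
  intro g hg
  have h := (Subgroup.mem_normalizer_iff.1 hg (CfsgLib.SL2.u 1)).1 rfl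
  rw [CfsgLib.SL2.mem_B, Matrix.SpecialLinearGroup.coe_mul, Matrix.SpecialLinearGroup.coe_mul,
    CfsgLib.SL2.inv_apply] at h
  simp [Matrix.mul_apply, Fin.sum_univ_two] at h
  have : g 1 0 * g 1 0 = 0 := by linear_combination -h
  exact mul_self_eq_zero.1 this

/-- Backward direction. -/
theorem cond_of_prime {n : ℕ} (hn : 2 ≤ n) (hF : Fintype.card F = 2 ^ n) (hprime : (2 ^ n - 1).Prime) :
    Cond SL₂F := by
  classical
  intro H hH
  haveI : Fact (Nat.Prime 2) := ⟨Nat.prime_two⟩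
  let e := CfsgLib.CAGroups.mulEquivPslOfSl2 F
  set H' := H.map e.toMonoidHom with hH'
  have ei : H ≃* H' := H.equivMapOfInjective _ e.injective
  have hoddq : ¬ 2 ∣ 2 ^ n - 1 := by
    have : 2 ∣ 2 ^ n := dvd_pow_self 2 (by omega)
    have := Nat.one_le_two_pow (n := n)
    omega
  have hgcd : Nat.gcd 2 (Fintype.card F - 1) = 1 := by
    rw [hF]; exact (Nat.Prime.coprime_iff_not_dvd Nat.prime_two).mpr hoddq
  have hn' : n.Prime := (Nat.prime_of_pow_sub_one_prime (by omega) hprime).2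
  have dih : ∀ {m : ℕ}, Odd m → 1 < m → Nat.card H' = 2 * m → ∀ x : H', orderOf x = m →
      Subgroup.normalizer (H : Set SL₂F) ≤ H := fun hm h1 hc x hx => by
    refine normalizer_le_of_card hm h1 (by rw [Nat.card_congr ei.toEquiv, hc]) (c := ((ei.symm x : H) : SL₂F))
      (ei.symm x).2 ?_
    rw [Subgroup.orderOf_coe, MulEquiv.orderOf_eq, hx]
  rcases CfsgLib.Dickson.classify_psl 2 H' with ⟨x, hx⟩ | ⟨hc, -, -⟩ | ⟨m, hm2, hm, ⟨i⟩, -⟩ | ⟨h, -⟩ |
    ⟨h, -⟩ | ⟨h, -⟩ | ⟨L, m, hLm, hL⟩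
  · obtain ⟨g, rfl⟩ := CfsgLib.Dickson.exists_psl_smul_infty x
    rw [CfsgLib.Dickson.pslStab_smul, CfsgLib.Dickson.pslStab_infty] at hx
    obtain ⟨s, rfl⟩ := QuotientGroup.mk'_surjective _ g
    have hle : H.map (MulAut.conj s⁻¹).toMonoidHom ≤ (CfsgLib.SL2.B : Subgroup SL₂F) := by
      rintro _ ⟨h, hh, rfl⟩
      obtain ⟨_, ⟨b, hb, rfl⟩, hbe⟩ := Subgroup.mem_map.mp (hx ⟨h, hh, rfl⟩)
      have h1 : QuotientGroup.mk' (Subgroup.center SL₂F) (s * b * s⁻¹) = e h := by
        rw [map_mul, map_mul, map_inv]; exact hbe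
      have h2 : s * b * s⁻¹ = h := e.injective h1
      show s⁻¹ * h * s⁻¹⁻¹ ∈ _
      rw [← h2, show s⁻¹ * (s * b * s⁻¹) * s⁻¹⁻¹ = b by group]
      exact hb
    have hab : ¬ Comm (H.map (MulAut.conj s⁻¹).toMonoidHom) := fun hc => hH fun a ha b hb => by
      refine (MulAut.conj s⁻¹).injective ?_
      rw [map_mul, map_mul]
      exact hc _ (Subgroup.mem_map_of_mem _ ha) _ (Subgroup.mem_map_of_mem _ hb)
    have heq := eq_borel (hF.symm ▸ hprime) hle hab
    intro g hg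
    have hg' : (MulAut.conj s⁻¹) g ∈ Subgroup.normalizer ((CfsgLib.SL2.B : Subgroup SL₂F) : Set SL₂F) := by
      rw [← heq]
      exact Subgroup.le_normalizer_map (MulAut.conj s⁻¹).toMonoidHom (Subgroup.mem_map_of_mem _ hg)
    have := normalizer_borel hg'
    rw [← heq] at this
    obtain ⟨h, hh, he⟩ := Subgroup.mem_map.mp this
    rw [← (MulAut.conj s⁻¹).injective he]
    exact hh
  · refine absurd (fun a ha b hb => ?_) hH
    haveI : IsCyclic H := ei.isCyclic.mpr hc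
    letI := IsCyclic.commGroup (α := H)
    exact congrArg Subtype.val (mul_comm (⟨a, ha⟩ : H) ⟨b, hb⟩)
  · refine dih (Nat.not_even_iff_odd.mp fun he => hm (even_iff_two_dvd.mp he)) (by omega) ?_
      (i.symm (DihedralGroup.r 1)) (by rw [MulEquiv.orderOf_eq, DihedralGroup.orderOf_r_one])
    rw [Nat.card_congr i.toEquiv, DihedralGroup.nat_card]
  · exact absurd (by norm_num : 2 ∣ 12) h
  · exact absurd (by norm_num : 2 ∣ 24) h
  · rcases h with h | h
    · exact absurd (by norm_num : 2 ∣ 60) h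
    · norm_num at h
  · obtain ⟨⟨iL⟩, -⟩ := hL.resolve_right fun h => h.1 rfl
    haveI : Fintype L := Fintype.ofFinite L
    haveI : CharP L 2 := inferInstance
    obtain ⟨k, -, hk⟩ := FiniteField.card L 2
    rw [Nat.card_eq_fintype_card, hk, hF, ← pow_mul] at hLm
    have hkm : (k : ℕ) * m = n := Nat.pow_right_injective le_rfl hLm
    obtain ⟨j⟩ := CfsgLib.Dickson.psl_equiv_pgl (F := L)
    have hcard : Nat.card H' = Fintype.card L * (Fintype.card L ^ 2 - 1) := by
      rw [Nat.card_congr (iL.trans j.symm).toEquiv, ← CfsgLib.Dickson.card_psl (F := L)]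
      have hd : ¬ 2 ∣ Fintype.card L - 1 := by
        have : 2 ∣ Fintype.card L := hk ▸ dvd_pow_self 2 k.ne_zero
        have := Fintype.card_pos (α := L)
        omega
      rw [(Nat.Prime.coprime_iff_not_dvd Nat.prime_two).mpr hd, mul_one]
    rcases hn'.eq_one_or_self_of_dvd k ⟨m, hkm.symm⟩ with h1 | h1
    · rw [hk, h1, pow_one] at hcard
      have hc6 : Nat.card H' = 2 * 3 := hcard.trans (by norm_num)
      haveI : Fact (Nat.Prime 3) := ⟨by norm_num⟩
      obtain ⟨x, hx⟩ := exists_prime_orderOf_dvd_card' (G := H') 3 (hc6 ▸ dvd_mul_left 3 2)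
      exact dih (by decide : Odd 3) (by norm_num) hc6 x hx
    · have hG : Nat.card (Matrix.ProjectiveSpecialLinearGroup (Fin 2) F) = Nat.card H' := by
        have h := CfsgLib.Dickson.card_psl (F := F)
        rw [hgcd, mul_one] at h
        rw [h, hcard, hk, h1, hF]
      rw [← Nat.card_congr ei.toEquiv, ← Nat.card_congr e.toEquiv] at hG
      rw [Subgroup.eq_top_of_card_eq H hG.symm]
      exact le_top

/-- Forward: if `q - 1` is not prime some nonabelian subgroup is not self-normalizing. -/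
theorem prime_of_cond (h4 : 4 ≤ Fintype.card F) (h : Cond SL₂F) : (Fintype.card F - 1).Prime := by
  classical
  by_contra hnp
  set r := (Fintype.card F - 1).minFac with hr
  have hrp : r.Prime := Nat.minFac_prime (by omega)
  haveI : Fact r.Prime := ⟨hrp⟩
  have hcardu : Nat.card Fˣ = Fintype.card F - 1 := by rw [Nat.card_units, Nat.card_eq_fintype_card]
  obtain ⟨a, ha⟩ := exists_prime_orderOf_dvd_card' (G := Fˣ) r (hcardu ▸ Nat.minFac_dvd _)
  obtain ⟨g, hg⟩ := IsCyclic.exists_generator (α := Fˣ)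
  have hgr : g ^ r ≠ 1 := fun e => by
    have hd := orderOf_dvd_of_pow_eq_one e
    rw [orderOf_eq_card_of_forall_mem_zpowers hg, hcardu] at hd
    rcases (Nat.dvd_prime hrp).mp hd with h1 | h1
    · omega
    · exact hnp (h1 ▸ hrp)
  let H : Subgroup SL₂F :=
    { carrier := {x | x 1 0 = 0 ∧ x 0 0 ^ r = 1}
      one_mem' := ⟨by simp, by simp⟩
      mul_mem' := fun {x y} hx hy => by
        refine ⟨?_, ?_⟩
        · simp [Matrix.mul_apply, Fin.sum_univ_two, hx.1, hy.1]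
        · rw [show (x * y) 0 0 = x 0 0 * y 0 0 by simp [Matrix.mul_apply, Fin.sum_univ_two, hy.1], mul_pow, hx.2, hy.2, one_mul]
      inv_mem' := fun {x} hx => by
        have hd := CfsgLib.SL2.det_eq x
        rw [hx.1, mul_zero, sub_zero] at hd
        refine ⟨?_, ?_⟩
        · rw [Matrix.SpecialLinearGroup.coe_inv, Matrix.adjugate_fin_two]; simp [hx.1]
        · rw [Matrix.SpecialLinearGroup.coe_inv, Matrix.adjugate_fin_two]; simp
          have := congrArg (· ^ r) hd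
          simp [mul_pow, hx.2] at this
          exact this }
  have hmem : ∀ x, x ∈ H ↔ x 1 0 = 0 ∧ x 0 0 ^ r = 1 := fun x => Iff.rfl
  have hnc : ¬ Comm H := fun hc => by
    have h1 : CfsgLib.SL2.d a ∈ H := (hmem _).mpr ⟨by simp, by
      rw [show (CfsgLib.SL2.d a : SL₂F) 0 0 = (a : F) by simp, ← Units.val_pow_eq_pow_val, ← ha,
        pow_orderOf_eq_one, Units.val_one]⟩
    have h2 : CfsgLib.SL2.u (1 : F) ∈ H := (hmem _).mpr ⟨by simp, by simp⟩
    have h3 := CfsgLib.SL2.d_conj_u a (1 : F)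
    rw [hc _ h1 _ h2, mul_inv_cancel_right] at h3
    have h4 : (a : F) ^ 2 * 1 = 1 := (CfsgLib.SL2.u_injective h3).symm
    rw [mul_one] at h4
    rcases sq_eq_one_iff.mp h4 with e | e
    · rw [show a = 1 from Units.ext e, orderOf_one] at ha; exact hrp.one_lt.ne ha
    · rw [CharTwo.neg_eq] at e
      rw [show a = 1 from Units.ext e, orderOf_one] at ha; exact hrp.one_lt.ne ha
  have hd : CfsgLib.SL2.d g ∈ Subgroup.normalizer (H : Set SL₂F) := by
    refine Subgroup.mem_normalizer_fintype (S := (H : Set SL₂F)) fun x hx => ?_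
    rw [SetLike.mem_coe, hmem] at hx ⊢
    obtain ⟨t, b, rfl⟩ := CfsgLib.SL2.eq_u_mul_d (CfsgLib.SL2.mem_B.mpr hx.1)
    have hb : ((b : F)) ^ r = 1 := by simpa [Matrix.mul_apply, Fin.sum_univ_two] using hx.2
    rw [show CfsgLib.SL2.d g * (CfsgLib.SL2.u t * CfsgLib.SL2.d b) * (CfsgLib.SL2.d g : SL₂F)⁻¹ =
      (CfsgLib.SL2.d g * CfsgLib.SL2.u t * (CfsgLib.SL2.d g)⁻¹) *
      (CfsgLib.SL2.d g * CfsgLib.SL2.d b * (CfsgLib.SL2.d g)⁻¹) by group, CfsgLib.SL2.d_conj_u,
      ← map_inv CfsgLib.SL2.d, ← map_mul, ← map_mul, mul_comm g b, mul_inv_cancel_right]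
    exact ⟨by simp [Matrix.mul_apply, Fin.sum_univ_two], by simpa [Matrix.mul_apply, Fin.sum_univ_two] using hb⟩
  have := ((hmem _).mp (h H hnc hd)).2
  rw [show (CfsgLib.SL2.d g : SL₂F) 0 0 = (g : F) by simp] at this
  exact hgr (Units.ext (by simpa using this))

/-- `Cond` is invariant under isomorphism. -/
theorem cond_of_equiv {G G' : Type*} [Group G] [Group G'] (e : G ≃* G') (h : Cond G) : Cond G' := by
  intro H hH x hx
  have hne : ¬ Comm (H.comap e.toMonoidHom) := fun hc => hH fun a ha b hb => by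
    refine e.symm.injective ?_
    rw [map_mul, map_mul]
    exact hc _ (by simpa using ha) _ (by simpa using hb)
  have := h _ hne (show e.symm x ∈ Subgroup.normalizer ((H.comap e.toMonoidHom : Subgroup G) : Set G) from
    Subgroup.mem_normalizer_iff.mpr fun y => by
      have := Subgroup.mem_normalizer_iff.mp hx (e y)
      simpa using this)
  simpa using this

end Cfsg.Agent.S4073

namespace Cfsg.Agent.S4073

open CfsgLib.CAGroups.SelfNorm

/-- Let G be a finite non-abelian simple group. Every non-abelian subgroup of G is self-normalizing if and only if G is isomorphic to PSL₂(2ⁿ) for some n ≥ 2 with 2ⁿ − 1 prime (this includes the alternating group of degree 5 as PSL₂(4)). -/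
theorem result {G : Type*} [Group G] [Finite G] [IsSimpleGroup G]
    (hna : ¬ IsMulCommutative G) :
    (∀ H : Subgroup G, ¬ IsMulCommutative H → Subgroup.normalizer (H : Set G) = H) ↔
    ∃ n : ℕ, 2 ≤ n ∧ (2 ^ n - 1).Prime ∧ Nonempty (G ≃* Matrix.ProjectiveSpecialLinearGroup (Fin 2) (GaloisField 2 n)) := by
  haveI : Fact (Nat.Prime 2) := ⟨Nat.prime_two⟩
  have hna' : ¬ Comm (⊤ : Subgroup G) := fun hc =>
    hna ⟨⟨fun a b => hc a (Subgroup.mem_top a) b (Subgroup.mem_top b)⟩⟩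
  constructor
  · intro hP
    have h := cond_of_normalizer_eq hP
    have heven : Even (Nat.card G) := by
      by_contra hodd
      haveI := isSolvable_of_odd_aux _ G rfl h (Nat.not_even_iff_odd.mp hodd)
      exact hna ⟨⟨IsSimpleGroup.comm_iff_isSolvable.mpr inferInstance⟩⟩
    obtain ⟨F, iF, iF', f, hc, hf2, hf, ⟨e⟩⟩ := CfsgLib.CAGroups.simple_mulEquiv_sl2 hna heven fun t ht =>
      (isMulCommutative_iff_comm _).mpr (comm_centralizer_involution h hna' ht)
    haveI := hc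
    haveI := Fintype.ofFinite (GaloisField 2 f)
    have h4 : 4 ≤ Fintype.card F := by
      rw [hf]; exact (show 4 = 2 ^ 2 by norm_num) ▸ Nat.pow_le_pow_right (by norm_num) hf2
    refine ⟨f, hf2, hf ▸ prime_of_cond h4 (cond_of_equiv e h), ?_⟩
    obtain ⟨j⟩ := CfsgLib.Dickson.psl_congr (FiniteField.ringEquivOfCardEq (K := F) (K' := GaloisField 2 f)
      (by rw [hf, ← Nat.card_eq_fintype_card, GaloisField.card 2 f (by omega)]))
    exact ⟨(e.trans (CfsgLib.CAGroups.mulEquivPslOfSl2 F)).trans j⟩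
  · rintro ⟨n, hn, hp, ⟨e⟩⟩ H hH
    haveI := Fintype.ofFinite (GaloisField 2 n)
    have hcond := cond_of_equiv ((CfsgLib.CAGroups.mulEquivPslOfSl2 (GaloisField 2 n)).trans e.symm)
      (cond_of_prime (F := GaloisField 2 n) hn
        (by rw [← Nat.card_eq_fintype_card, GaloisField.card 2 n (by omega)]) hp)
    exact le_antisymm (hcond H fun hc => hH ((isMulCommutative_iff_comm H).mpr hc)) Subgroup.le_normalizer

end Cfsg.Agent.S4073
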