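import Cfsg.Statements.S4082
import Cfsg.Agent.PByCyclic.Basic

set_option autoImplicit false
open Cfsg

namespace Cfsg.Agent.S4082

open scoped Pointwise

/-- Let p be an odd prime and G a finite group with Sylow p-subgroup P. Say that G has restricted p-by-cyclic subgroups when every subgroup H of G whose Sylow p-subgroup is normal in H with cyclic quotient is itself cyclic or dihedral of order 2pⁿ for some n. Then G has restricted p-by-cyclic subgroups if and only if P is cyclic and one of the following holds: (1) N_G(P) = C_G(P); or (2) N_G(P)/C_G(P) has order 2 and, for the subgroup Q of order p of P, the centralizer C_G(Q) is abelian and every element of N_G(Q) outside C_G(Q) is an involution inverting every element of C_G(Q). -/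
theorem result {G : Type*} [Group G] [Finite G] {p : ℕ}
    [Fact p.Prime] (hp : p ≠ 2) (P : Sylow p G) :
    (∀ H : Subgroup G, (∀ S : Sylow p ↥H, (S : Subgroup ↥H).Normal) →
        (∀ (S : Sylow p ↥H) [(S : Subgroup ↥H).Normal], IsCyclic (↥H ⧸ (S : Subgroup ↥H))) →
        IsCyclic H ∨ (∃ n : ℕ, Nonempty (H ≃* DihedralGroup (p ^ n)))) ↔
    (IsCyclic P ∧
      (Subgroup.normalizer ((P : Subgroup G) : Set G) = Subgroup.centralizer ((P : Subgroup G) : Set G) ∨
       ((Subgroup.centralizer ((P : Subgroup G) : Set G)).relIndex (Subgroup.normalizer ((P : Subgroup G) : Set G)) = 2 ∧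
        ∀ Q : Subgroup G, Q ≤ P → Nat.card Q = p →
          IsMulCommutative ↥(Subgroup.centralizer (Q : Set G)) ∧
          ∀ x : G, x ∈ Subgroup.normalizer (Q : Set G) → x ∉ Subgroup.centralizer (Q : Set G) →
            orderOf x = 2 ∧ ∀ c : G, c ∈ Subgroup.centralizer (Q : Set G) → x * c * x⁻¹ = c⁻¹))) := by
  classical
  have hpp : p.Prime := Fact.out
  haveI := Fact.mk Nat.prime_two
  constructor
  · intro hH
    -- apply the restriction to `S ⋊ ⟨h⟩`
    have test : ∀ (S : Subgroup G) (h : G), IsPGroup p S → h ∈ Subgroup.normalizer (S : Set G) → ¬ p ∣ orderOf h →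
        IsCyclic ↥(S ⊔ Subgroup.zpowers h) ∨ ∃ n : ℕ, Nonempty (↥(S ⊔ Subgroup.zpowers h) ≃* DihedralGroup (p ^ n)) :=
      fun S h hS hn ho => hH _ (fun T => ((CfsgLib.PByCyclic.sylow_normal_cyclic_quotient hS hn ho).1 T).2)
        fun T _ => (CfsgLib.PByCyclic.sylow_normal_cyclic_quotient hS hn ho).2 T
    have act : ∀ (S : Subgroup G) (h : G), IsPGroup p S → h ∈ Subgroup.normalizer (S : Set G) → ¬ p ∣ orderOf h →
        h ∉ Subgroup.centralizer (S : Set G) → orderOf h = 2 ∧ ∀ s ∈ S, h * s * h⁻¹ = s⁻¹ := by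
      intro S h hS hn ho hnc
      rcases test S h hS hn ho with hcyc | ⟨n, ⟨e⟩⟩
      · exact absurd (fun s hs => congrArg Subtype.val (IsCyclic.commutative.is_comm.comm
          (⟨s, Subgroup.mem_sup_left hs⟩ : ↥(S ⊔ Subgroup.zpowers h)) ⟨h, Subgroup.mem_sup_right (Subgroup.mem_zpowers h)⟩)) hnc
      set H := S ⊔ Subgroup.zpowers h
      set hh : H := ⟨h, Subgroup.mem_sup_right (Subgroup.mem_zpowers h)⟩ with hhdef
      have hord : orderOf h = 2 := by
        have h1 : orderOf h ∣ 2 * p ^ n := by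
          have h0 : orderOf hh ∣ Nat.card H := orderOf_dvd_natCard hh
          rwa [Nat.card_congr e.toEquiv, DihedralGroup.nat_card, hhdef, Subgroup.orderOf_mk] at h0
        have h2 := (Nat.Coprime.pow_right n ((hpp.coprime_iff_not_dvd.2 ho).symm)).dvd_of_dvd_mul_right h1
        rcases (Nat.dvd_prime Nat.prime_two).1 h2 with h3 | h3
        · exact absurd (fun s _ => by rw [orderOf_eq_one_iff.1 h3, mul_one, one_mul]) hnc
        · exact h3
      refine ⟨hord, fun s hs => ?_⟩
      set ss : H := ⟨s, Subgroup.mem_sup_left hs⟩ with hssdef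
      have hsodd : ∀ i, e ss ≠ DihedralGroup.sr i := by
        intro i he
        obtain ⟨j, hj⟩ := IsPGroup.iff_orderOf.mp hS ⟨s, hs⟩
        have h1 : orderOf ss = 2 := by rw [← e.orderOf_eq, he, DihedralGroup.orderOf_sr]
        rw [hssdef, Subgroup.orderOf_mk] at h1
        rw [Subgroup.orderOf_mk, h1] at hj
        rcases (Nat.dvd_prime Nat.prime_two).1 ((dvd_pow_self p (show j ≠ 0 by rintro rfl; simp at hj)).trans hj.symm.dvd) with h2 | h2
        · exact hpp.ne_one h2
        · exact hp h2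
      obtain ⟨a, ha⟩ : ∃ a, e ss = DihedralGroup.r a := by
        rcases hc : e ss with a | a
        · exact ⟨a, rfl⟩
        · exact absurd hc (hsodd a)
      obtain ⟨b, hb⟩ : ∃ b, e hh = DihedralGroup.sr b := by
        rcases hc : e hh with b | b
        · exfalso
          have h1 : (DihedralGroup.r b) ^ (p ^ n) = (1 : DihedralGroup (p ^ n)) := by
            rw [DihedralGroup.r_pow, ZMod.natCast_self, mul_zero, DihedralGroup.r_zero]
          rw [← hc, ← map_pow, map_eq_one_iff e e.injective, ← orderOf_dvd_iff_pow_eq_one, hhdef, Subgroup.orderOf_mk, hord] at h1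
          exact hp ((Nat.prime_dvd_prime_iff_eq Nat.prime_two hpp).1 (Nat.prime_two.dvd_of_dvd_pow h1)).symm
        · exact ⟨b, rfl⟩
      have h2 : e (hh * ss * hh⁻¹) = e ss⁻¹ := by
        rw [map_mul, map_mul, map_inv, map_inv, ha, hb, DihedralGroup.inv_sr, DihedralGroup.inv_r,
          DihedralGroup.sr_mul_r, DihedralGroup.sr_mul_sr]
        congr 1; ring
      exact congrArg Subtype.val (e.injective h2)
    have hPcyc : IsCyclic P := by
      rcases test P 1 P.2 (Subgroup.one_mem _) (by rw [orderOf_one]; exact hpp.not_dvd_one) with h | ⟨n, ⟨e⟩⟩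
      · rwa [Subgroup.zpowers_one_eq_bot, sup_bot_eq] at h
      · exfalso
        obtain ⟨k, hk⟩ := IsPGroup.iff_card.mp P.2
        have h1 := Nat.card_congr e.toEquiv
        rw [Subgroup.zpowers_one_eq_bot, sup_bot_eq, DihedralGroup.nat_card] at h1
        have h2 : 2 ∣ p ^ k := by rw [← hk]; exact ⟨_, h1⟩
        exact hp ((Nat.prime_dvd_prime_iff_eq Nat.prime_two hpp).1 (Nat.prime_two.dvd_of_dvd_pow h2)).symm
    refine ⟨hPcyc, or_iff_not_imp_left.2 fun hNC => ?_⟩
    set N := Subgroup.normalizer ((P : Subgroup G) : Set G) with hNdef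
    set C := Subgroup.centralizer ((P : Subgroup G) : Set G) with hCdef
    have hPC : (P : Subgroup G) ≤ C := fun a ha b hb =>
      congrArg Subtype.val (hPcyc.commutative.is_comm.comm (⟨b, hb⟩ : (P : Subgroup G)) ⟨a, ha⟩)
    have hparts : ∀ n ∈ N, (∀ k, ¬ p ∣ orderOf (n ^ k) → n ^ k ∈ C) → n ∈ C := fun n hn h1 =>
      Cfsg.Agent.S4016.mem_of_parts (p := p) n C h1 fun k hk =>
        hPC (Cfsg.Agent.S4016.mem_sylow_of_mem_normalizer P (N.pow_mem hn k) hk)
    obtain ⟨x₀, hx₀, hx₀o, hx₀C⟩ : ∃ x ∈ N, ¬ p ∣ orderOf x ∧ x ∉ C := by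
      by_contra hh
      push Not at hh
      exact hNC (le_antisymm (fun n hn => hparts n hn fun k hk => hh _ (N.pow_mem hn k) hk)
        (Subgroup.centralizer_le_normalizer _))
    refine ⟨?_, ?_⟩
    · -- every element acts as `±1`
      have hpm : ∀ n ∈ N, n ∈ C ∨ ∀ s ∈ P, n * s * n⁻¹ = s⁻¹ := by
        intro n hn
        refine or_iff_not_imp_left.2 fun hnC => ?_
        obtain ⟨k, hk, hkC⟩ : ∃ k, ¬ p ∣ orderOf (n ^ k) ∧ n ^ k ∉ C := by
          by_contra hh
          push Not at hh
          exact hnC (hparts n hn hh)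
        obtain ⟨a, m, hm, hnm⟩ := Nat.exists_eq_pow_mul_and_not_dvd (orderOf_pos n).ne' p hpp.ne_one
        have hu : n ^ p ^ a ∉ C := fun hh => by
          refine hnC (hparts n hn fun i hi => ?_)
          have : n ^ i ∈ Subgroup.zpowers (n ^ p ^ a) := by
            have h1 : (n ^ i) ^ m = 1 := by
              have hd : orderOf (n ^ i) ∣ p ^ a * m := hnm ▸ orderOf_pow_dvd i
              exact orderOf_dvd_iff_pow_eq_one.1
                ((Nat.Coprime.pow_right a ((hpp.coprime_iff_not_dvd.2 hi).symm)).dvd_of_dvd_mul_left hd)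
            rw [← pow_mul, ← orderOf_dvd_iff_pow_eq_one, hnm] at h1
            have hm0 : m ≠ 0 := fun e => hm (by rw [e]; exact dvd_zero p)
            obtain ⟨c, rfl⟩ : p ^ a ∣ i := Nat.dvd_of_mul_dvd_mul_right (Nat.pos_of_ne_zero hm0) h1
            rw [pow_mul]; exact Subgroup.pow_mem _ (Subgroup.mem_zpowers _) _
          exact (Subgroup.zpowers_le.2 hh) this
        have huo : ¬ p ∣ orderOf (n ^ p ^ a) := by
          rw [orderOf_pow_of_dvd (pow_ne_zero _ hpp.ne_zero) (hnm ▸ dvd_mul_right _ _), hnm,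
            Nat.mul_div_cancel_left _ (pow_pos hpp.pos _)]
          exact hm
        obtain ⟨hu2, huinv⟩ := act P _ P.2 (N.pow_mem hn _) huo hu
        -- `n` is the product of `n ^ p ^ a` and an element centralizing `P`
        intro s hs
        obtain ⟨t, ht⟩ : ∃ t, p ^ a = 2 * t + 1 := (hpp.odd_of_ne_two hp).pow
        have hord : orderOf n = p ^ a * 2 := by
          have h1 : orderOf (n ^ p ^ a) = m := by
            rw [orderOf_pow_of_dvd (pow_ne_zero _ hpp.ne_zero) (hnm ▸ dvd_mul_right _ _), hnm,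
              Nat.mul_div_cancel_left _ (pow_pos hpp.pos _)]
          rw [hnm, ← h1, hu2]
        have hc : n ^ (2 * t) ∈ C := by
          refine hPC (Cfsg.Agent.S4016.mem_sylow_of_mem_normalizer P (N.pow_mem hn _) ?_)
          obtain ⟨j, -, hj⟩ := (Nat.dvd_prime_pow hpp).mp (orderOf_dvd_of_pow_eq_one (n := p ^ a) (x := n ^ (2 * t)) (by
            rw [← pow_mul, show 2 * t * p ^ a = p ^ a * 2 * t by ring, pow_mul, ← hord, pow_orderOf_eq_one, one_pow]))
          exact ⟨j, hj⟩
        calc n * s * n⁻¹ = n * (n ^ (2 * t) * s * (n ^ (2 * t))⁻¹) * n⁻¹ := by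
              rw [← hc s hs, mul_inv_cancel_right]
          _ = n ^ p ^ a * s * (n ^ p ^ a)⁻¹ := by rw [ht, pow_succ']; group
          _ = s⁻¹ := huinv s hs
      show (C.subgroupOf N).index = 2
      rw [Subgroup.index_eq_two_iff]
      refine ⟨⟨x₀, hx₀⟩, fun b => ?_⟩
      have hinv₀ := (hpm x₀ hx₀).resolve_left hx₀C
      simp only [Subgroup.mem_subgroupOf, Subgroup.coe_mul]
      rcases hpm b.1 b.2 with hb | hb
      · exact Or.inr ⟨hb, fun hh => hx₀C ((C.mul_mem_cancel_left hb).1 hh)⟩
      · by_cases hbC : (b : G) ∈ C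
        · exact Or.inr ⟨hbC, fun hh => hx₀C ((C.mul_mem_cancel_left hbC).1 hh)⟩
        · refine Or.inl ⟨fun s hs => ?_, hbC⟩
          rw [eq_comm, ← mul_inv_eq_iff_eq_mul]
          calc (b : G) * x₀ * s * ((b : G) * x₀)⁻¹ = b * (x₀ * s * x₀⁻¹) * (b : G)⁻¹ := by group
            _ = ((b : G) * s * (b : G)⁻¹)⁻¹ := by rw [hinv₀ s hs]; group
            _ = s := by rw [hb s hs, inv_inv]
    · intro Q hQP hQc
      have hQp : IsPGroup p Q := IsPGroup.of_card (n := 1) (by rw [hQc, pow_one])
      set CQ := Subgroup.centralizer (Q : Set G) with hCQ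
      have hinvol : ∀ x ∈ Subgroup.normalizer (Q : Set G), x ∉ CQ → orderOf x = 2 ∧ ∀ q ∈ Q, x * q * x⁻¹ = q⁻¹ := by
        intro x hxN hxC
        obtain ⟨a, m, hm, hxm⟩ := Nat.exists_eq_pow_mul_and_not_dvd (orderOf_pos x).ne' p hpp.ne_one
        have hm0 : m ≠ 0 := fun h => hm (h ▸ dvd_zero p)
        set u := x ^ p ^ a with hu
        have huo : orderOf u = m := by
          rw [hu, orderOf_pow_of_dvd (pow_ne_zero _ hpp.ne_zero) (hxm ▸ dvd_mul_right _ _), hxm,
            Nat.mul_div_cancel_left _ (pow_pos hpp.pos _)]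
        set w := x ^ m with hw
        have hwo : orderOf w = p ^ a := by
          rw [hw, orderOf_pow_of_dvd hm0 (hxm ▸ dvd_mul_left _ _), hxm, Nat.mul_div_cancel _ (Nat.pos_of_ne_zero hm0)]
        have hwQ : w ∈ Subgroup.normalizer (Q : Set G) := Subgroup.pow_mem _ hxN _
        set S := Subgroup.zpowers w ⊔ Q with hS
        have hwp : IsPGroup p (Subgroup.zpowers w) := IsPGroup.of_card (n := a) (by rw [Nat.card_zpowers, hwo])
        have hSp : IsPGroup p S := hwp.to_sup_of_normal_right' hQp ((Subgroup.zpowers_le).2 hwQ)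
        haveI hQcyc : IsCyclic Q := isCyclic_of_prime_card hQc
        have hwC : w ∈ CQ := by
          obtain ⟨⟨q, hq⟩, hqgen⟩ := IsCyclic.exists_generator (α := Q)
          obtain ⟨r, hr⟩ := hqgen ⟨w * q * w⁻¹, (Subgroup.mem_normalizer_iff.1 hwQ q).1 hq⟩
          have hr : q ^ r = w * q * w⁻¹ := congrArg Subtype.val hr
          have hqo : orderOf q = p := by
            rw [← hQc, ← orderOf_eq_card_of_forall_mem_zpowers hqgen, Subgroup.orderOf_mk]
          -- a `p`-element cannot move an element of a group of order `p`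
          haveI : Finite (Subgroup.zpowers w) := inferInstance
          have hdvd : Nat.card (MulAut Q) = p - 1 := by
            rw [IsCyclic.card_mulAut, hQc, Nat.totient_prime hpp]
          let φ := Subgroup.normalizerMonoidHom Q
          have h1 : orderOf (φ ⟨w, hwQ⟩) = 1 := by
            refine Nat.eq_one_of_dvd_coprimes (a := p - 1) (b := p ^ a) ?_ (hdvd ▸ orderOf_dvd_natCard _)
              (by rw [← hwo, ← Subgroup.orderOf_mk (H := Subgroup.normalizer (Q : Set G)) w hwQ]; exact orderOf_map_dvd φ _)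
            exact Nat.Coprime.pow_right a ((hpp.coprime_iff_not_dvd.2 (Nat.not_dvd_of_pos_of_lt (by have := hpp.two_le; omega) (by have := hpp.two_le; omega))).symm)
          have h2 : (⟨w, hwQ⟩ : Subgroup.normalizer (Q : Set G)) ∈ φ.ker := orderOf_eq_one_iff.1 h1
          rw [Subgroup.normalizerMonoidHom_ker, Subgroup.mem_subgroupOf] at h2
          exact h2
        have huN : u ∈ Subgroup.normalizer (S : Set G) := by
          rw [hS, sup_comm]
          refine Subgroup.mem_normalizer_fintype fun b hb => ?_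
          have hb' : b ∈ ((Q : Set G) * (Subgroup.zpowers w : Set G)) := by
            rw [← Subgroup.coe_mul_of_right_le_normalizer_left Q _ ((Subgroup.zpowers_le).2 hwQ)]
            exact hb
          obtain ⟨q, hq, _, ⟨i, rfl⟩, rfl⟩ := Set.mem_mul.1 hb'
          rw [show u * (q * w ^ i) * u⁻¹ = (u * q * u⁻¹) * (u * w ^ i * u⁻¹) by group]
          refine Subgroup.mul_mem _ (Subgroup.mem_sup_left ((Subgroup.mem_normalizer_iff.1 (Subgroup.pow_mem _ hxN _) q).1 hq)) ?_
          have hc : Commute u (w ^ i) := ((Commute.refl x).pow_pow _ _).zpow_right i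
          rw [hc.eq, mul_inv_cancel_right]
          exact Subgroup.mem_sup_right (Subgroup.zpow_mem_zpowers _ _)
        have hunC : u ∉ Subgroup.centralizer (S : Set G) := by
          intro hh
          refine hxC (Cfsg.Agent.S4016.mem_of_parts (p := p) x CQ (fun k hk => ?_) fun k hk => ?_)
          · have : x ^ k ∈ Subgroup.zpowers u := by
              have h1 : (x ^ k) ^ m = 1 := orderOf_dvd_iff_pow_eq_one.1
                ((Nat.Coprime.pow_right a ((hpp.coprime_iff_not_dvd.2 hk).symm)).dvd_of_dvd_mul_left (hxm ▸ orderOf_pow_dvd k))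
              rw [← pow_mul, ← orderOf_dvd_iff_pow_eq_one, hxm] at h1
              obtain ⟨c, rfl⟩ : p ^ a ∣ k := Nat.dvd_of_mul_dvd_mul_right (Nat.pos_of_ne_zero hm0) h1
              rw [pow_mul]; exact Subgroup.pow_mem _ (Subgroup.mem_zpowers _) _
            exact (Subgroup.zpowers_le.2 (Subgroup.centralizer_le (show (Q : Set G) ⊆ S from
              fun b hb => Subgroup.mem_sup_right hb) hh)) this
          · obtain ⟨j, hj⟩ := hk
            have : x ^ k ∈ Subgroup.zpowers w := by
              have h1 : (x ^ k) ^ p ^ a = 1 := orderOf_dvd_iff_pow_eq_one.1 (by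
                rw [hj]
                exact (Nat.Coprime.pow_left j (hpp.coprime_iff_not_dvd.2 hm)).dvd_of_dvd_mul_right
                  (hj ▸ hxm ▸ orderOf_pow_dvd k))
              rw [← pow_mul, ← orderOf_dvd_iff_pow_eq_one, hxm, mul_comm] at h1
              obtain ⟨c, rfl⟩ : m ∣ k := Nat.dvd_of_mul_dvd_mul_right (pow_pos hpp.pos a) h1
              rw [pow_mul]; exact Subgroup.pow_mem _ (Subgroup.mem_zpowers _) _
            exact (Subgroup.zpowers_le.2 hwC) this
        obtain ⟨hu2, huinv⟩ := act S u hSp huN (huo ▸ hm) hunC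
        have hw1 : w = 1 := by
          have h1 := huinv w (Subgroup.mem_sup_left (Subgroup.mem_zpowers w))
          rw [show u * w * u⁻¹ = w by
            rw [((Commute.refl x).pow_pow _ _ : Commute u w).eq, mul_inv_cancel_right]] at h1
          have h2 : orderOf w ∣ 2 := orderOf_dvd_of_pow_eq_one (by rw [sq]; nth_rewrite 1 [h1]; rw [inv_mul_cancel])
          rw [hwo] at h2
          have : p ^ a = 1 := Nat.eq_one_of_dvd_coprimes
            (Nat.Coprime.pow_left a ((Nat.coprime_primes hpp Nat.prime_two).2 hp)) dvd_rfl h2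
          rw [← orderOf_eq_one_iff, hwo, this]
        have hux : u = x := by
          have : p ^ a = 1 := by rw [← hwo, hw1, orderOf_one]
          rw [hu, this, pow_one]
        rw [hux] at hu2 huinv
        exact ⟨hu2, fun q hq => huinv q (Subgroup.mem_sup_right hq)⟩
      -- an element outside `C(Q)`
      have hx₀Q : x₀ ∈ Subgroup.normalizer (Q : Set G) ∧ x₀ ∉ CQ := by
        obtain ⟨-, hinv₀⟩ := act P x₀ P.2 hx₀ hx₀o hx₀C
        refine ⟨Subgroup.mem_normalizer_fintype fun q hq => ?_, fun hh => ?_⟩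
        · rw [hinv₀ q (hQP hq)]; exact Q.inv_mem hq
        · obtain ⟨q, hq, hq1⟩ : ∃ q ∈ Q, q ≠ 1 := by
            by_contra h
            push Not at h
            rw [(Subgroup.eq_bot_iff_forall Q).2 h, Subgroup.card_bot] at hQc
            exact hpp.ne_one hQc.symm
          have h1 := hinv₀ q (hQP hq)
          rw [← hh q hq, mul_inv_cancel_right] at h1
          have h2 : orderOf q ∣ 2 := orderOf_dvd_of_pow_eq_one (by rw [sq]; nth_rewrite 1 [h1]; rw [inv_mul_cancel])
          have h3 : orderOf q ∣ p := hQc ▸ Subgroup.orderOf_dvd_natCard Q hq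
          exact hq1 (orderOf_eq_one_iff.1 (Nat.eq_one_of_dvd_coprimes ((Nat.coprime_primes hpp Nat.prime_two).2 hp) h3 h2))
      have hallinv : ∀ x ∈ Subgroup.normalizer (Q : Set G), x ∉ CQ → ∀ c ∈ CQ, x * c * x⁻¹ = c⁻¹ := by
        intro x hx hxC c hc
        have h2 : x * x = 1 := by rw [← sq, ← (hinvol x hx hxC).1, pow_orderOf_eq_one]
        have h3 : (x * c) * (x * c) = 1 := by
          rw [← sq, ← (hinvol (x * c) (Subgroup.mul_mem _ hx (Subgroup.centralizer_le_normalizer _ hc))
            fun h => hxC ((CQ.mul_mem_cancel_right hc).1 h)).1, pow_orderOf_eq_one]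
        rw [inv_eq_of_mul_eq_one_right h2, eq_inv_iff_mul_eq_one]
        rw [← h3]; group
      refine ⟨⟨⟨fun a b => Subtype.ext ?_⟩⟩, fun x hx hxC => ⟨(hinvol x hx hxC).1, hallinv x hx hxC⟩⟩
      have h1 := hallinv x₀ hx₀Q.1 hx₀Q.2
      have h2 : x₀ * ((a : G) * b) * x₀⁻¹ = x₀ * (b * a) * x₀⁻¹ := by
        rw [show x₀ * ((b : G) * a) * x₀⁻¹ = (x₀ * b * x₀⁻¹) * (x₀ * a * x₀⁻¹) by group, h1 _ (CQ.mul_mem a.2 b.2),
          h1 _ a.2, h1 _ b.2, mul_inv_rev]
      exact mul_right_cancel (b := x₀⁻¹) (a := _) h2 |> fun h => mul_left_cancel h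
  · rintro ⟨hPcyc, hcase⟩ H hn hc
    obtain ⟨S, h, hS, hhn, ho, rfl⟩ := CfsgLib.PByCyclic.exists_decomp H hn hc
    haveI : IsCyclic S := by
      obtain ⟨P', hP'⟩ := hS.exists_le_sylow
      haveI : IsCyclic (P' : Subgroup G) :=
        isCyclic_of_surjective (P.equiv P').toMonoidHom (P.equiv P').surjective
      exact isCyclic_of_injective (Subgroup.inclusion hP') (Subgroup.inclusion_injective hP')
    by_cases hhC : h ∈ Subgroup.centralizer (S : Set G)
    · exact Or.inl (CfsgLib.PByCyclic.isCyclic_sup hS ho hhC)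
    obtain ⟨z, hzS, hzo⟩ : ∃ z ∈ S, orderOf z = p := by
      obtain ⟨k, hk⟩ := IsPGroup.iff_card.mp hS
      obtain ⟨⟨z, hz⟩, hzo⟩ := exists_prime_orderOf_dvd_card' (G := S) p (by
        rw [hk]
        refine dvd_pow_self p fun h0 => hhC ?_
        rw [h0, pow_zero, Subgroup.card_eq_one] at hk
        intro s hs
        rw [hk] at hs
        simp [Subgroup.mem_bot.1 hs])
      exact ⟨z, hz, by rwa [Subgroup.orderOf_mk] at hzo⟩
    -- move `z` into `P`
    obtain ⟨P', hP'⟩ := hS.exists_le_sylow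
    obtain ⟨g, hg⟩ := MulAction.exists_smul_eq G P P'
    have hmem : ∀ s ∈ S, g⁻¹ * s * g ∈ P := by
      intro s hs
      have h1 : s ∈ ((g • P : Sylow p G) : Subgroup G) := hg ▸ hP' hs
      rw [Sylow.coe_subgroup_smul, Subgroup.mem_pointwise_smul_iff_inv_smul_mem] at h1
      simp only [MulAut.smul_def, ← map_inv, MulAut.conj_apply, inv_inv] at h1
      exact h1
    set z' := g⁻¹ * z * g with hz'
    have hz'o : orderOf z' = p := by
      rw [hz', show g⁻¹ * z * g = MulAut.conj g⁻¹ z by simp, (MulAut.conj g⁻¹).orderOf_eq, hzo]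
    set Q := Subgroup.zpowers z' with hQ
    have hQP : Q ≤ (P : Subgroup G) := (Subgroup.zpowers_le).2 (hmem z hzS)
    set x := g⁻¹ * h * g with hx
    have hxQ : x ∈ Subgroup.normalizer (Q : Set G) := by
      refine Subgroup.mem_normalizer_fintype fun w hw => ?_
      obtain ⟨i, rfl⟩ := hw
      show x * z' ^ i * x⁻¹ ∈ Q
      rw [← conj_zpow]
      refine Subgroup.zpow_mem _ ?_ _
      have hS' : h * z * h⁻¹ ∈ S := (Subgroup.mem_normalizer_iff.1 hhn z).1 hzS
      have hzz : h * z * h⁻¹ ∈ Subgroup.zpowers z := by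
        obtain ⟨⟨g₁, hg₁⟩, hgen⟩ := IsCyclic.exists_generator (α := S)
        obtain ⟨i, hi⟩ := hgen ⟨z, hzS⟩
        obtain ⟨r, hr⟩ := hgen ⟨h * g₁ * h⁻¹, (Subgroup.mem_normalizer_iff.1 hhn g₁).1 hg₁⟩
        have hi : g₁ ^ i = z := congrArg Subtype.val hi
        have hr : g₁ ^ r = h * g₁ * h⁻¹ := congrArg Subtype.val hr
        exact ⟨r, by show z ^ r = h * z * h⁻¹; rw [← hi, ← conj_zpow, ← hr, ← zpow_mul, ← zpow_mul, mul_comm]⟩
      obtain ⟨r, hr⟩ := hzz
      refine ⟨r, ?_⟩
      show z' ^ r = x * z' * x⁻¹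
      have hr : z ^ r = h * z * h⁻¹ := hr
      rw [hz', hx]
      calc (g⁻¹ * z * g) ^ r = g⁻¹ * z ^ r * g := by
            rw [show g⁻¹ * z * g = g⁻¹ * z * (g⁻¹)⁻¹ by rw [inv_inv], conj_zpow, inv_inv]
        _ = _ := by rw [hr]; group
    have hz1 : z ≠ 1 := fun e => hpp.ne_one (by rw [← hzo, e, orderOf_one])
    have hxC : x ∉ Subgroup.centralizer (Q : Set G) := by
      intro hh
      refine hhC (CfsgLib.PByCyclic.centralizes_of_fix hS hhn ho hzS hz1 ?_)
      have := hh z' (Subgroup.mem_zpowers z')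
      calc h * z = g * (x * z') * g⁻¹ := by rw [hz', hx]; group
        _ = g * (z' * x) * g⁻¹ := by rw [this]
        _ = z * h := by rw [hz', hx]; group
    rcases hcase with hNC | ⟨-, hQ2⟩
    · -- Frattini
      exfalso
      set D := Subgroup.centralizer (Q : Set G) with hD
      have hPD : (P : Subgroup G) ≤ D := fun a ha b hb =>
        congrArg Subtype.val (hPcyc.commutative.is_comm.comm (⟨b, hQP hb⟩ : (P : Subgroup G)) ⟨a, ha⟩)
      have hxD : ((x • P : Sylow p G) : Subgroup G) ≤ D := by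
        intro a ha
        rw [Sylow.coe_subgroup_smul, Subgroup.mem_pointwise_smul_iff_inv_smul_mem] at ha
        simp only [MulAut.smul_def, ← map_inv, MulAut.conj_apply, inv_inv] at ha
        intro b hb
        have hb' : x⁻¹ * b * x ∈ Q := by
          have := (Subgroup.mem_normalizer_iff.1 (Subgroup.inv_mem _ hxQ) b).1 hb
          rwa [inv_inv] at this
        calc b * a = x * ((x⁻¹ * b * x) * (x⁻¹ * a * x)) * x⁻¹ := by group
          _ = x * ((x⁻¹ * a * x) * (x⁻¹ * b * x)) * x⁻¹ := by rw [hPD ha _ hb']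
          _ = a * b := by group
      obtain ⟨c, hc⟩ := MulAction.exists_smul_eq D ((x • P).subtype hxD) (P.subtype hPD)
      have hc' : ((c : G) * x) • P = P := by
        apply Sylow.ext
        have h1 := congrArg (fun T : Sylow p D => ((T : Subgroup D).map D.subtype)) hc
        simp only [Sylow.coe_subgroup_smul, Sylow.coe_subtype] at h1
        rw [mul_smul, Sylow.coe_subgroup_smul]
        ext a
        constructor
        · intro ha
          rw [Subgroup.mem_pointwise_smul_iff_inv_smul_mem] at ha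
          have haD : a ∈ D := by
            have := hxD ha
            simp only [MulAut.smul_def, ← map_inv, MulAut.conj_apply, inv_inv] at this
            have := D.mul_mem (D.mul_mem c.2 this) (D.inv_mem c.2)
            rwa [show (c : G) * ((c : G)⁻¹ * a * c) * (c : G)⁻¹ = a by group] at this
          have hmem : (⟨a, haD⟩ : D) ∈ (c • ((x • P).subtype hxD) : Sylow p D).toSubgroup := by
            rw [Sylow.coe_subgroup_smul, Subgroup.mem_pointwise_smul_iff_inv_smul_mem, Sylow.coe_subtype, Subgroup.mem_subgroupOf]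
            simpa [MulAut.smul_def] using ha
          rw [hc, Sylow.coe_subtype] at hmem
          exact hmem
        · intro ha
          have hmem : (⟨a, hPD ha⟩ : D) ∈ (P.subtype hPD : Sylow p D).toSubgroup := by
            rw [Sylow.coe_subtype]; exact ha
          rw [← hc, Sylow.coe_subgroup_smul, Subgroup.mem_pointwise_smul_iff_inv_smul_mem, Sylow.coe_subtype, Subgroup.mem_subgroupOf] at hmem
          rw [Subgroup.mem_pointwise_smul_iff_inv_smul_mem]
          simpa [MulAut.smul_def] using hmem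
      have hcx : (c : G) * x ∈ Subgroup.normalizer ((P : Subgroup G) : Set G) := Sylow.smul_eq_iff_mem_normalizer.1 hc'
      rw [hNC] at hcx
      exact hxC ((D.mul_mem_cancel_left c.2).1 (Subgroup.centralizer_le (fun b hb => hQP hb) hcx))
    · obtain ⟨-, hall⟩ := hQ2 Q hQP (by rw [hQ, Nat.card_zpowers, hz'o])
      obtain ⟨hx2, hxinv⟩ := hall x hxQ hxC
      have hh2 : orderOf h = 2 := by
        rw [← hx2, hx, show g⁻¹ * h * g = MulAut.conj g⁻¹ h by simp, (MulAut.conj g⁻¹).orderOf_eq]
      obtain ⟨k, hk⟩ := IsPGroup.iff_card.mp hS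
      obtain ⟨⟨a, haS⟩, hagen⟩ := IsCyclic.exists_generator (α := S)
      haveI : NeZero (p ^ k) := ⟨pow_ne_zero _ hpp.ne_zero⟩
      refine Or.inr ⟨k, CfsgLib.PByCyclic.equiv_dihedral a h (Subgroup.mem_sup_left haS)
        (Subgroup.mem_sup_right (Subgroup.mem_zpowers h)) ?_ (by rw [← sq, ← hh2, pow_orderOf_eq_one]) ?_ ?_
        (by rw [CfsgLib.PByCyclic.card_sup_zpowers hS hhn ho, hk, hh2, mul_comm])⟩
      · rw [← hk, ← orderOf_eq_card_of_forall_mem_zpowers hagen, Subgroup.orderOf_mk]
      · intro hh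
        exact hhC fun s hs => by
          obtain ⟨i, hi⟩ := hh
          obtain ⟨j, hj⟩ := hagen ⟨s, hs⟩
          have hi : a ^ i = h := hi
          have hj : a ^ j = s := congrArg Subtype.val hj
          rw [← hi, ← hj, zpow_mul_comm]
      · have haC : g⁻¹ * a * g ∈ Subgroup.centralizer (Q : Set G) := fun b hb =>
          congrArg Subtype.val (hPcyc.commutative.is_comm.comm (⟨b, hQP hb⟩ : (P : Subgroup G)) ⟨_, hmem a haS⟩)
        have := hxinv _ haC
        calc h * a * h⁻¹ = g * (x * (g⁻¹ * a * g) * x⁻¹) * g⁻¹ := by rw [hx]; group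
          _ = g * (g⁻¹ * a * g)⁻¹ * g⁻¹ := by rw [this]
          _ = a⁻¹ := by group

end Cfsg.Agent.S4082
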