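import Cfsg.Statements.S4097
import Cfsg.Agent.CentralMalnormal.Basic
import Cfsg.Agent.Cores.GenFitting

set_option autoImplicit false
open Cfsg

namespace Cfsg.Agent.S4097

universe u

theorem step {G : Type*} [Group G] [Finite G] (A : Subgroup G) (hA : Group.IsSolvable A)
    (hc : ∀ S : Subgroup G, A ≤ S → Group.IsSolvable S → ∀ a ∈ A, ∀ s ∈ S, a * s = s * a)
    (hmax : ∀ H : Subgroup G, H ≠ ⊤ → A ≤ H → H ≤ Subgroup.centralizer (A : Set G)) :
    A ≤ Subgroup.center G := by
  set M := Subgroup.centralizer (A : Set G) with hM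
  by_contra hAZ
  have htop : M ≠ ⊤ := fun h => hAZ fun a ha => Subgroup.mem_center_iff.mpr fun x =>
    (Subgroup.mem_centralizer_iff.mp (show x ∈ M from h ▸ Subgroup.mem_top x) a ha).symm
  have hAM : A ≤ M := fun a ha => Subgroup.mem_centralizer_iff.mpr fun b hb =>
    hc A le_rfl hA b hb a ha
  have hnorm : Subgroup.normalizer (M : Set G) = M := by
    by_contra hne
    have hlt : M < Subgroup.normalizer (M : Set G) :=
      lt_of_le_of_ne Subgroup.le_normalizer (Ne.symm hne)
    have hNtop : Subgroup.normalizer (M : Set G) = ⊤ := by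
      by_contra h
      exact not_le_of_gt hlt (hmax _ h (hAM.trans Subgroup.le_normalizer))
    haveI : M.Normal := Subgroup.normalizer_eq_top_iff.mp hNtop
    -- the normal closure of `A` is abelian
    have hNC : Subgroup.normalClosure (A : Set G) ≤ M := Subgroup.normalClosure_le_normal hAM
    have hcomm : ∀ x ∈ Group.conjugatesOfSet (A : Set G), ∀ y ∈ Group.conjugatesOfSet (A : Set G),
        x * y = y * x := by
      intro x hx y hy
      obtain ⟨a, ha, hxa⟩ := Group.mem_conjugatesOfSet_iff.mp hx
      obtain ⟨g, rfl⟩ := isConj_iff.mp hxa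
      have hy' : y ∈ M := hNC (Subgroup.conjugatesOfSet_subset_normalClosure hy)
      have h1 : g⁻¹ * y * g⁻¹⁻¹ ∈ M := Subgroup.Normal.conj_mem inferInstance y hy' g⁻¹
      have h2 := Subgroup.mem_centralizer_iff.mp h1 a ha
      calc g * a * g⁻¹ * y = g * (a * (g⁻¹ * y * g⁻¹⁻¹)) * g⁻¹ := by group
        _ = g * (g⁻¹ * y * g⁻¹⁻¹ * a) * g⁻¹ := by rw [h2]
        _ = y * (g * a * g⁻¹) := by group
    haveI : IsMulCommutative (Subgroup.normalClosure (A : Set G)) :=
      Subgroup.isMulCommutative_closure hcomm
    haveI hNs : Group.IsSolvable (Subgroup.normalClosure (A : Set G)) :=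
      Group.isSolvable_of_comm mul_comm'
    refine hAZ fun a ha => Subgroup.mem_center_iff.mpr fun x => ?_
    have hS : Group.IsSolvable
        ↥(Subgroup.normalClosure (A : Set G) ⊔ Subgroup.zpowers x) := by
      haveI : Group.IsSolvable (Subgroup.zpowers x) := Group.isSolvable_of_comm mul_comm'
      exact CfsgLib.Cores.isSolvable_sup hNs inferInstance
    exact (hc _ (le_sup_of_le_left Subgroup.subset_normalClosure) hS a ha x
      (Subgroup.mem_sup_right (Subgroup.mem_zpowers x))).symm
  have hZM : Subgroup.center G ≤ M := fun z hz => Subgroup.mem_centralizer_iff.mpr fun a _ =>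
    Subgroup.mem_center_iff.mp hz a
  obtain ⟨K, hKn, hKs, hKM, hsup⟩ := CfsgLib.CentralMalnormal.exists_solvable_kernel M hZM
    (fun h => hAZ (hAM.trans h)) htop fun g c hc' hcz hgc =>
      hnorm ▸ CfsgLib.CentralMalnormal.mem_normalizer_of_conj_mem A hmax htop hc' hcz hgc
  haveI := hKn
  have hKle : K ≤ M := fun k hk => Subgroup.mem_centralizer_iff.mpr fun a ha =>
    hc (K ⊔ A) le_sup_right (CfsgLib.Cores.isSolvable_sup hKs hA) a ha k (Subgroup.mem_sup_left hk)
  exact htop (by rwa [sup_eq_right.mpr hKle] at hsup)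

theorem key : ∀ (n : ℕ) (G : Type u) [Group G] [Finite G], Nat.card G = n → ∀ A : Subgroup G,
    Group.IsSolvable A →
    (∀ S : Subgroup G, A ≤ S → Group.IsSolvable S → ∀ a ∈ A, ∀ s ∈ S, a * s = s * a) →
    A ≤ Subgroup.center G := by
  intro n
  induction n using Nat.strong_induction_on with
  | _ n ih =>
    intro G _ _ hn A hA hc
    refine step A hA hc fun H hH hAH x hx => Subgroup.mem_centralizer_iff.mpr fun a ha => ?_
    have hlt : Nat.card H < n := hn ▸ lt_of_le_of_ne (Subgroup.card_le_card_group H)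
      (fun e => hH (Subgroup.eq_top_of_card_eq H e))
    haveI := hA
    have hA' : Group.IsSolvable (A.subgroupOf H) :=
      Group.isSolvable_of_isSolvable_injective (f := (Subgroup.subgroupOfEquivOfLe hAH).toMonoidHom)
        (Subgroup.subgroupOfEquivOfLe hAH).injective
    have h := ih _ hlt H rfl (A.subgroupOf H) hA' (fun S hS hSs b hb s hs => ?_)
    · exact (congrArg Subtype.val (Subgroup.mem_center_iff.mp (h (x := ⟨a, hAH ha⟩) ha) ⟨x, hx⟩)).symm
    · haveI := hSs
      have hS' : Group.IsSolvable (S.map H.subtype) :=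
        Group.isSolvable_of_surjective (f := (S.equivMapOfInjective H.subtype
          H.subtype_injective).toMonoidHom) (S.equivMapOfInjective _ _).surjective
      exact Subtype.ext (hc (S.map H.subtype)
        (fun y hy => ⟨⟨y, hAH hy⟩, hS hy, rfl⟩) hS' _ hb _ (Subgroup.mem_map_of_mem _ hs))


/-- Let A be a solvable subgroup of a finite group G such that A lies in the centre of every solvable subgroup of G containing A. Then A lies in the centre of G. -/
theorem result {G : Type*} [Group G] [Finite G]
    (A : Subgroup G) (hA : Group.IsSolvable A)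
    (hc : ∀ S : Subgroup G, A ≤ S → Group.IsSolvable S → ∀ a ∈ A, ∀ s ∈ S, a * s = s * a) : A ≤ Subgroup.center G := by
  exact key _ G rfl A hA hc

end Cfsg.Agent.S4097
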