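import Cfsg.Statements.S4104
import Cfsg.Agent.PiClassHall7.Prep

set_option autoImplicit false
open Cfsg

namespace Cfsg.Agent.S4104

/-- Let G be a finite group, π a set of primes with least member p, m the π-part of the order of G and k the number of conjugacy classes of G consisting of π-elements (elements whose order is divisible only by primes in π). If k > m/p, then G has a nilpotent Hall π-subgroup (a nilpotent subgroup of order m) whose derived subgroup has order at most p. -/
theorem result {G : Type*} [Group G] [Finite G]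
    (π : Set ℕ) (hπ : ∀ q ∈ π, q.Prime) (p : ℕ) (hp : p ∈ π) (hmin : ∀ q ∈ π, p ≤ q)
    (m : ℕ) (hm : m ∣ Nat.card G) (hmπ : ∀ q : ℕ, q.Prime → q ∣ m → q ∈ π)
    (hm' : ∀ q ∈ π, ¬ q ∣ Nat.card G / m)
    (k : ℕ) (hk : k = Nat.card {C : ConjClasses G // ∀ q : ℕ, q.Prime → (∃ g : G, ConjClasses.mk g = C ∧ q ∣ orderOf g) → q ∈ π})
    (hmany : m < p * k) :
    ∃ H : Subgroup G, Nat.card H = m ∧ Group.IsNilpotent H ∧ Nat.card (commutator H) ≤ p := by
  classical
  obtain ⟨π₀, hπ₀, hpart, hcount⟩ :=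
    CfsgLib.PiClassHall7.exists_finset_data π hπ p hmin m hm hmπ hm'
  rw [← hk] at hcount
  obtain ⟨H, hH, hkH⟩ := CfsgLib.PiClassHall7.exists_hall π₀ (fun q hq => (hπ₀ q hq).1) G p
    (fun q hq => (hπ₀ q hq).2) (by rw [hpart, ← hcount]; exact hmany)
  have hs : ∀ q : ℕ, q.Prime → q ∣ Nat.card H → p ≤ q := fun q hq hd =>
    (hπ₀ q (CfsgLib.PiClassHall7.prime_mem_of_dvd_part (fun q hq => (hπ₀ q hq).1) hq (hH ▸ hd))).2
  rw [hpart] at hH
  rw [← hcount] at hkH
  have hlt : Nat.card H < p * Nat.card (ConjClasses H) := by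
    rw [hH]; exact lt_of_lt_of_le hmany (Nat.mul_le_mul_left p hkH)
  exact ⟨H, hH, CfsgLib.PiClassHall7.isNilpotent_of_many p hs hlt,
    CfsgLib.PiClassHall7.card_commutator_le p hs hlt⟩

end Cfsg.Agent.S4104
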