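import Cfsg.Statements.S4113
import Mathlib

set_option autoImplicit false
open Cfsg

namespace Cfsg.Agent.S4113

theorem exists_decomp {G : Type*} [Group G] (M H : Subgroup G) [M.Normal] (hHM : H ⊔ M = ⊤) (g : G) :
    ∃ h ∈ H, ∃ m ∈ M, h * m = g := by
  have : g ∈ H ⊔ M := hHM ▸ Subgroup.mem_top g
  rwa [← SetLike.mem_coe, Subgroup.mul_normal, Set.mem_mul] at this

/-- Let G be a finite group, M ≤ N non-trivial proper normal subgroups, and H a subgroup with HM = G and H ∩ M = 1. Then every element of G outside N acts fixed-point-freely on M (C_G(x) ≤ N for every x ∈ M, x ≠ 1) if and only if H ∩ gHg⁻¹ ≤ H ∩ N for every g outside H, with H proper and non-trivial and H ∩ N proper in H. -/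
theorem result {G : Type*} [Group G] [Finite G] (N M : Subgroup G) [N.Normal] [M.Normal] (hMN : M ≤ N) (hM1 : M ≠ ⊥) (hN2 : N ≠ ⊤)
    (H : Subgroup G) (hHM : H ⊔ M = ⊤) (hHM' : H ⊓ M = ⊥) :
    (∀ x ∈ M, x ≠ 1 → Subgroup.centralizer ({x} : Set G) ≤ N) ↔
      (H ≠ ⊥ ∧ H ≠ ⊤ ∧ H ⊓ N < H ∧ ∀ g : G, g ∉ H → H ⊓ H.map (MulAut.conj g).toMonoidHom ≤ N) := by
  have hdis : ∀ {z : G}, z ∈ H → z ∈ M → z = 1 := fun {z} h1 h2 =>
    Subgroup.mem_bot.1 (hHM' ▸ (show z ∈ H ⊓ M from ⟨h1, h2⟩))
  constructor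
  · intro hfpf
    refine ⟨?_, ?_, ?_, ?_⟩
    · intro h
      rw [h, bot_sup_eq] at hHM
      exact hN2 (top_le_iff.1 (hHM ▸ hMN))
    · intro h
      rw [h, top_inf_eq] at hHM'
      exact hM1 hHM'
    · refine lt_of_le_of_ne inf_le_left fun h => hN2 (top_le_iff.1 ?_)
      rw [← hHM]
      exact sup_le (inf_eq_left.1 h) hMN
    · rintro g hg _ ⟨hy, ⟨z, hz, rfl⟩⟩
      obtain ⟨h, hh, m, hm, rfl⟩ := exists_decomp M H hHM g
      simp only [MulEquiv.coe_toMonoidHom, MulAut.conj_apply] at hy ⊢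
      by_contra hN
      have hz' : m * z * m⁻¹ ∈ H := by
        have := mul_mem (mul_mem (inv_mem hh) hy) hh
        convert this using 1
        group
      have hc : (m * z * m⁻¹) * z⁻¹ = 1 := by
        refine hdis (mul_mem hz' (inv_mem hz)) ?_
        have hzz := Subgroup.Normal.conj_mem inferInstance m⁻¹ (inv_mem hm) z
        have := mul_mem hm hzz
        convert this using 1
        group
      have hzm : z * m = m * z := by
        have := mul_inv_eq_one.1 hc
        calc z * m = (m * z * m⁻¹) * m := by rw [this]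
          _ = m * z := by group
      have hm1 : m ≠ 1 := fun e => hg (by rw [e, mul_one]; exact hh)
      have hzN : z ∈ N := hfpf m hm hm1 (Subgroup.mem_centralizer_singleton_iff.2 hzm)
      exact hN (Subgroup.Normal.conj_mem inferInstance z hzN _)
  · rintro ⟨-, -, -, hTI⟩ x hx hx1 g hg
    by_contra hgN
    obtain ⟨h, hh, m, hm, rfl⟩ := exists_decomp M H hHM g
    have hhN : h ∉ N := fun e => hgN (mul_mem e (hMN hm))
    let f : M → M := fun u => ⟨h⁻¹ * ((u : G) * h * (u : G)⁻¹), by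
      have := mul_mem (Subgroup.Normal.conj_mem inferInstance (u : G) u.2 h⁻¹) (inv_mem u.2)
      convert this using 1
      group⟩
    have hf : Function.Injective f := by
      intro u v huv
      have huv' := congrArg Subtype.val huv
      simp only [f, mul_right_inj] at huv'
      have hw : ((v : G)⁻¹ * u) * h * ((v : G)⁻¹ * u)⁻¹ = h := by
        calc ((v : G)⁻¹ * u) * h * ((v : G)⁻¹ * u)⁻¹ = (v : G)⁻¹ * ((u : G) * h * (u : G)⁻¹) * v := by group
          _ = h := by rw [huv']; group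
      apply Subtype.ext
      by_contra hne
      have hwH : ((v : G)⁻¹ * u) ∉ H := fun e =>
        hne (inv_mul_eq_one.1 (hdis e (mul_mem (inv_mem v.2) u.2))).symm
      exact hhN (hTI _ hwH ⟨hh, h, hh, hw⟩)
    obtain ⟨⟨u, hu⟩, huv⟩ := (Finite.injective_iff_surjective.1 hf) ⟨m, hm⟩
    have huv' : h⁻¹ * (u * h * u⁻¹) = m := congrArg Subtype.val huv
    have hg' : h * m = u * h * u⁻¹ := by rw [← huv']; group
    have hy : u⁻¹ * x * u ∈ M := by simpa using Subgroup.Normal.conj_mem inferInstance x hx u⁻¹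
    have hcy : (u⁻¹ * x * u) * h = h * (u⁻¹ * x * u) := by
      have h3 := Subgroup.mem_centralizer_singleton_iff.1 hg
      rw [hg'] at h3
      calc (u⁻¹ * x * u) * h = u⁻¹ * (x * (u * h * u⁻¹)) * u := by group
        _ = u⁻¹ * ((u * h * u⁻¹) * x) * u := by rw [h3]
        _ = h * (u⁻¹ * x * u) := by group
    have hyH : u⁻¹ * x * u ∉ H := by
      intro e
      have := hdis e hy
      apply hx1
      calc x = u * (u⁻¹ * x * u) * u⁻¹ := by group
        _ = 1 := by rw [this]; group
    refine hhN (hTI _ hyH ⟨hh, h, hh, ?_⟩)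
    simp only [MulEquiv.coe_toMonoidHom, MulAut.conj_apply]
    rw [hcy]
    group

end Cfsg.Agent.S4113
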