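import Cfsg.Statements.S4133
import Cfsg.Agent.AbelianTwoPower.Perfect
import Cfsg.Agent.ThreeSizes.Star

set_option autoImplicit false
open Cfsg

namespace Cfsg.Agent.S4133

/-- Let G be a finite group all of whose Sylow subgroups are abelian, and let 2^a be the largest power of 2 dividing the size of any conjugacy class of G. If some element has a conjugacy class of size exactly 2^a, then G is solvable. -/
theorem result {G : Type*} [Group G] [Finite G]
    (hA : ∀ (p : ℕ) [Fact p.Prime] (P : Sylow p G), IsMulCommutative (P : Subgroup G))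
    (a : ℕ) (hmax : ∀ y : G, ¬ 2 ^ (a + 1) ∣ (Subgroup.centralizer ({y} : Set G)).index) (hx : ∃ x : G, (Subgroup.centralizer ({x} : Set G)).index = 2 ^ a) :
    Group.IsSolvable G := by
  by_contra hns
  haveI : Fact (Nat.Prime 2) := ⟨Nat.prime_two⟩
  obtain ⟨x, hx⟩ := hx
  -- the perfect core
  obtain ⟨n, -, hn⟩ : ∃ n, True ∧ derivedSeries G (n + 1) = derivedSeries G n := by
    by_contra hno
    push Not at hno
    have hlt : ∀ i, Nat.card (derivedSeries G (i + 1)) < Nat.card (derivedSeries G i) := by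
      intro i
      by_contra hge
      exact hno i trivial (Subgroup.eq_of_le_of_card_ge (derivedSeries_antitone G (Nat.le_succ i))
        (not_lt.1 hge))
    have hdec : ∀ i, Nat.card (derivedSeries G i) + i ≤ Nat.card G := by
      intro i
      induction i with
      | zero => simpa using Subgroup.card_le_card_group (derivedSeries G 0)
      | succ i ih => have := hlt i; omega
    have := hdec (Nat.card G)
    have h0 : 0 < Nat.card (derivedSeries G (Nat.card G)) := Nat.card_pos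
    omega
  set K := derivedSeries G n with hK
  haveI hKn : K.Normal := derivedSeries_normal G n
  have hKperf : commutator K = ⊤ := by
    apply Subgroup.map_injective K.subtype_injective
    rw [Subgroup.map_subtype_commutator, ← MonoidHom.range_eq_map, Subgroup.range_subtype, hK,
      ← derivedSeries_succ, hn]
  have hKab : ∀ (p : ℕ) [Fact p.Prime] (P : Sylow p K), IsMulCommutative (P : Subgroup K) := by
    intro p _ P
    refine ⟨⟨fun a b => Subtype.ext (Subtype.ext ?_)⟩⟩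
    obtain ⟨Q, hQ⟩ := (P.isPGroup'.map K.subtype).exists_le_sylow
    have h1 := congrArg Subtype.val
      ((hA p Q).is_comm.comm ⟨_, hQ ⟨a, a.2, rfl⟩⟩ ⟨_, hQ ⟨b, b.2, rfl⟩⟩)
    simpa using h1
  have hKns : ¬ Group.IsSolvable K := by
    intro hs
    obtain ⟨j, hj⟩ := hs
    have hall : ∀ i, derivedSeries K i = ⊤ := by
      intro i
      induction i with
      | zero => rfl
      | succ i ih => rw [derivedSeries_succ, ih]; exact hKperf
    rw [hall j] at hj
    have hKbot : K = ⊥ := by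
      rw [eq_bot_iff]
      intro g hg
      have h1 : (⟨g, hg⟩ : K) = 1 := Subgroup.mem_bot.1 (hj ▸ Subgroup.mem_top (⟨g, hg⟩ : K))
      exact Subgroup.mem_bot.2 (congrArg Subtype.val h1)
    exact hns ⟨n, hKbot⟩
  have hxK : K ≤ Subgroup.centralizer ({x} : Set G) := by
    have hd := CfsgLib.PCompl.relIndex_dvd_index_of_normal (Subgroup.centralizer ({x} : Set G)) K
    rw [hx] at hd
    obtain ⟨j, -, hj⟩ := (Nat.dvd_prime_pow Nat.prime_two).1 hd
    exact Subgroup.subgroupOf_eq_top.1 (CfsgLib.AbelianTwoPower.eq_top_of_two_power_index hKperf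
      (fun P a ha b hb =>
        congrArg Subtype.val ((hKab 2 P).is_comm.comm ⟨a, ha⟩ ⟨b, hb⟩)) _ hj)
  -- a real element of `K`
  obtain ⟨⟨y, hy⟩, ⟨g, hg⟩, hyZ, hy2, hgy⟩ := CfsgLib.ThreeSizes.exists_real hKns
  have hgy' : g * y * g⁻¹ = y⁻¹ := congrArg Subtype.val hgy
  have hcomm : ∀ k ∈ K, Commute k x := fun k hk =>
    Subgroup.mem_centralizer_singleton_iff.1 (hxK hk)
  have hkey : ∀ w ∈ K, CfsgLib.TwoSizes.cen (x * w) =
      CfsgLib.TwoSizes.cen x ⊓ CfsgLib.TwoSizes.cen w := by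
    intro w hw
    refine le_antisymm (fun c hc => ?_) fun c hc => CfsgLib.TwoSizes.mem_cen.2
      ((show Commute c x from CfsgLib.TwoSizes.mem_cen.1 hc.1).mul_right
        (CfsgLib.TwoSizes.mem_cen.1 hc.2))
    set d := x⁻¹ * (c * x * c⁻¹) with hd
    have he : c * x * c⁻¹ * (c * w * c⁻¹) = x * w := by
      rw [show c * x * c⁻¹ * (c * w * c⁻¹) = c * (x * w) * c⁻¹ by group,
        CfsgLib.TwoSizes.mem_cen.1 hc, mul_inv_cancel_right]
    have hd' : d = w * (c * w * c⁻¹)⁻¹ := by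
      rw [hd, eq_mul_inv_iff_mul_eq, mul_assoc, he, inv_mul_cancel_left]
    have hdK : d ∈ K := hd' ▸ mul_mem hw (inv_mem (hKn.conj_mem w hw c))
    have hdZ : (⟨d, hdK⟩ : K) ∈ Subgroup.center K := by
      rw [Subgroup.mem_center_iff]
      rintro ⟨k, hk⟩
      apply Subtype.ext
      have h1 : Commute k (c * x * c⁻¹) := by
        have h2 := (hcomm _ (hKn.conj_mem k hk c⁻¹)).map (MulAut.conj c)
        simpa [mul_assoc] using h2
      exact ((hcomm k hk).inv_right.mul_right h1).eq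
    rw [CfsgLib.AbelianTwoPower.center_eq_bot_of_perfect hKperf hKab, Subgroup.mem_bot] at hdZ
    have hd1 : x⁻¹ * (c * x * c⁻¹) = 1 := congrArg Subtype.val hdZ
    have hcx : c * x = x * c := by
      rw [← mul_inv_eq_iff_eq_mul]; exact (inv_mul_eq_one.1 hd1).symm
    refine ⟨CfsgLib.TwoSizes.mem_cen.2 hcx, CfsgLib.TwoSizes.mem_cen.2 ?_⟩
    rw [show c * x * c⁻¹ = x by rw [hcx, mul_inv_cancel_right]] at he
    exact mul_inv_eq_iff_eq_mul.1 (mul_left_cancel he)
  have hgC : g ∈ CfsgLib.TwoSizes.cen x := hxK hg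
  have hgN : g ∈ CfsgLib.ThreeSizes.nrm (x * y) := by
    refine CfsgLib.ThreeSizes.mem_nrm_of ?_
    rw [show g * (x * y) * g⁻¹ = (g * x * g⁻¹) * (g * y * g⁻¹) by group, hgy',
      (hcomm g hg).eq, mul_inv_cancel_right, hkey _ (inv_mem hy), hkey _ hy,
      CfsgLib.ThreeSizes.cen_inv]
  have hy1 : y⁻¹ ≠ y := by
    intro h1
    refine hyZ ?_
    have h2 : orderOf y ∣ 2 := orderOf_dvd_of_pow_eq_one
      (by rw [pow_two]; nth_rewrite 1 [← h1]; exact inv_mul_cancel y)
    rw [Subgroup.orderOf_mk] at hy2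
    have h3 : y = 1 := orderOf_eq_one_iff.1 (Nat.eq_one_of_dvd_coprimes hy2 dvd_rfl h2)
    have : (⟨y, hy⟩ : K) = 1 := Subtype.ext h3
    rw [this]
    exact one_mem _
  have hgnot : g ∉ CfsgLib.TwoSizes.cen (x * y) := by
    rw [hkey _ hy]
    rintro ⟨-, hgcy⟩
    rw [CfsgLib.TwoSizes.mem_cen.1 hgcy, mul_inv_cancel_right] at hgy'
    exact hy1 hgy'.symm
  have hg2 : g * g ∈ CfsgLib.TwoSizes.cen (x * y) := by
    rw [hkey _ hy]
    refine ⟨mul_mem hgC hgC, CfsgLib.TwoSizes.mem_cen.2 ?_⟩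
    have h2 : g * g * y * (g * g)⁻¹ = y := by
      rw [show g * g * y * (g * g)⁻¹ = g * (g * y * g⁻¹) * g⁻¹ by group, hgy',
        show g * y⁻¹ * g⁻¹ = (g * y * g⁻¹)⁻¹ by group, hgy', inv_inv]
    exact mul_inv_eq_iff_eq_mul.1 h2
  set Y := CfsgLib.TwoSizes.cen x ⊓ CfsgLib.ThreeSizes.nrm (x * y)
  have hle : CfsgLib.TwoSizes.cen (x * y) ≤ Y :=
    le_inf ((hkey _ hy).le.trans inf_le_left) Subgroup.le_normalizer
  haveI : ((CfsgLib.TwoSizes.cen (x * y)).subgroupOf Y).Normal :=
    (Subgroup.normal_subgroupOf_iff_le_normalizer hle).2 inf_le_right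
  have h2Y : 2 ∣ (CfsgLib.TwoSizes.cen (x * y)).relIndex Y := by
    by_contra hnd
    obtain ⟨m, hm⟩ : Odd ((CfsgLib.TwoSizes.cen (x * y)).relIndex Y) := by
      rwa [← Nat.not_even_iff_odd, even_iff_two_dvd]
    have h1 := Subgroup.pow_index_mem ((CfsgLib.TwoSizes.cen (x * y)).subgroupOf Y)
      (⟨g, hgC, hgN⟩ : Y)
    rw [show ((CfsgLib.TwoSizes.cen (x * y)).subgroupOf Y).index =
      (CfsgLib.TwoSizes.cen (x * y)).relIndex Y from rfl, hm, Subgroup.mem_subgroupOf] at h1
    change g ^ (2 * m + 1) ∈ _ at h1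
    rw [pow_succ, pow_mul, pow_two] at h1
    exact hgnot ((Subgroup.mul_mem_cancel_left _ (pow_mem hg2 m)).1 h1)
  refine hmax (x * y) ?_
  show 2 ^ (a + 1) ∣ (CfsgLib.TwoSizes.cen (x * y)).index
  rw [← Subgroup.relIndex_mul_index hle, pow_succ']
  refine Nat.mul_dvd_mul h2Y ?_
  rw [← hx]
  exact Subgroup.index_dvd_of_le inf_le_left

end Cfsg.Agent.S4133
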