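import Cfsg.Statements.S4137
import Cfsg.Agent.RankFour.Main
import Cfsg.Agent.Dickson.PSL
import Cfsg.Agent.CAGroups.SimpleAbelianCentralizers

set_option autoImplicit false
open Cfsg

namespace Cfsg.Agent.S4137

/-- Let G be a finite group with trivial centre and at most three distinct sizes of conjugacy classes other than 1. Then G is solvable or G is isomorphic to PSL₂(2^a) for some a ≥ 1. -/
theorem result {G : Type*} [Group G] [Finite G]
    (hZ : Subgroup.center G = ⊥) (h : Nat.card {n : ℕ | 1 < n ∧ ∃ x : G, (Subgroup.centralizer ({x} : Set G)).index = n} ≤ 3) :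
    Group.IsSolvable G ∨ ∃ a : ℕ, 0 < a ∧ Nonempty (G ≃* Matrix.ProjectiveSpecialLinearGroup (Fin 2) (GaloisField 2 a)) := by
  classical
  by_cases hs : Group.IsSolvable G
  · exact Or.inl hs
  refine Or.inr ?_
  have hthree : ∀ a b c : G, a ≠ 1 → b ≠ 1 → c ≠ 1 →
      CfsgLib.CoprimeLargest.idx a ≠ CfsgLib.CoprimeLargest.idx b →
      CfsgLib.CoprimeLargest.idx a ≠ CfsgLib.CoprimeLargest.idx c →
      CfsgLib.CoprimeLargest.idx b ≠ CfsgLib.CoprimeLargest.idx c →
      ∀ x : G, x ≠ 1 → CfsgLib.CoprimeLargest.idx x = CfsgLib.CoprimeLargest.idx a ∨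
        CfsgLib.CoprimeLargest.idx x = CfsgLib.CoprimeLargest.idx b ∨
        CfsgLib.CoprimeLargest.idx x = CfsgLib.CoprimeLargest.idx c := by
    intro a b c ha hb hc hab hac hbc x hx
    by_contra hno
    push Not at hno
    have hone : ∀ u : G, u ≠ 1 → 1 < CfsgLib.CoprimeLargest.idx u := fun u hu =>
      Subgroup.one_lt_index_of_ne_top fun ht => hu (by
        have : u ∈ Subgroup.center G := Subgroup.mem_center_iff.2 fun g =>
          Subgroup.mem_centralizer_singleton_iff.1 (ht.ge (Subgroup.mem_top g))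
        rwa [hZ, Subgroup.mem_bot] at this)
    set N := {n : ℕ | 1 < n ∧ ∃ x : G, (Subgroup.centralizer ({x} : Set G)).index = n} with hN
    have hfin : N.Finite := (Set.finite_range fun x : G =>
      (Subgroup.centralizer ({x} : Set G)).index).subset fun n hn => hn.2
    have hsub : ↑({CfsgLib.CoprimeLargest.idx a, CfsgLib.CoprimeLargest.idx b,
        CfsgLib.CoprimeLargest.idx c, CfsgLib.CoprimeLargest.idx x} : Finset ℕ) ⊆ N := by
      intro n hn
      simp only [Finset.coe_insert, Finset.coe_singleton, Set.mem_insert_iff, Set.mem_singleton_iff] at hn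
      rcases hn with rfl | rfl | rfl | rfl
      exacts [⟨hone a ha, a, rfl⟩, ⟨hone b hb, b, rfl⟩, ⟨hone c hc, c, rfl⟩, ⟨hone x hx, x, rfl⟩]
    have h4 := Set.ncard_le_ncard hsub hfin
    have h3 : N.ncard ≤ 3 := h
    rw [Set.ncard_coe_finset, Finset.card_insert_of_notMem, Finset.card_insert_of_notMem,
      Finset.card_insert_of_notMem, Finset.card_singleton] at h4
    · omega
    · simp [hno.2.2.symm]
    · simp [hbc, hno.2.1.symm]
    · simp [hab, hac, hno.1.symm]
  have hfree : CfsgLib.RankFour.NoNest G := fun x z hx hz hle => by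
    by_contra hne
    exact hs (CfsgLib.RankFour.isSolvable_of_nest hZ hthree hx hz (lt_of_le_of_ne hle hne))
  obtain ⟨F, iF, iF', hc, ⟨e⟩⟩ := hfree.exists_mulEquiv_sl2 hZ hs
  haveI : Fact (Nat.Prime 2) := ⟨Nat.prime_two⟩
  haveI := hc
  obtain ⟨n, -, hn⟩ := FiniteField.card F 2
  letI := Fintype.ofFinite (GaloisField 2 n)
  have hcard : Fintype.card F = Fintype.card (GaloisField 2 n) := by
    rw [← Nat.card_eq_fintype_card (α := GaloisField 2 n), GaloisField.card 2 n n.ne_zero, hn]
  obtain ⟨e'⟩ := CfsgLib.Dickson.psl_congr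
    (FiniteField.ringEquivOfCardEq hcard : F ≃+* GaloisField 2 n)
  exact ⟨n, n.pos, ⟨(e.trans (CfsgLib.CAGroups.mulEquivPslOfSl2 F)).trans e'⟩⟩

end Cfsg.Agent.S4137
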