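import Cfsg.Statements.S4192
import Cfsg.Agent.RealClassGraph11.Less
import Cfsg.Agent.RealClassGraph11.Module
import Cfsg.Agent.RealClassGraph11.Structure

set_option autoImplicit false
open Cfsg

namespace Cfsg.Agent.S4192

/-- Let G be a finite group; call an element real when it is conjugate to its inverse, and say that the real-class-size graph of a group is disconnected when the primes dividing its real class sizes split into two non-empty disjoint parts with no real class size divisible by a prime from each part. If the real-class-size graph of G is disconnected, then some real class size of G is even, and either the Sylow 2-subgroups of G are normal, or the subgroup K generated by the 2-elements of G (the smallest normal subgroup of odd index) again has a disconnected real-class-size graph and every real class size of K is odd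 or a power of 2. -/
theorem result {G : Type*} [Group G] [Finite G] (h : (∃ π₁ π₂ : Set ℕ, π₁.Nonempty ∧ π₂.Nonempty ∧ Disjoint π₁ π₂ ∧ (∀ q ∈ π₁ ∪ π₂, q.Prime ∧ ∃ n ∈ {n : ℕ | ∃ x : G, IsConj x x⁻¹ ∧ (Subgroup.centralizer ({x} : Set G)).index = n}, q ∣ n) ∧ (∀ q : ℕ, q.Prime → (∃ n ∈ {n : ℕ | ∃ x : G, IsConj x x⁻¹ ∧ (Subgroup.centralizer ({x} : Set G)).index = n}, q ∣ n) → q ∈ π₁ ∨ q ∈ π₂) ∧ ∀ a ∈ π₁, ∀ b ∈ π₂, ∀ n ∈ {n : ℕ | ∃ x : G, IsConj x x⁻¹ ∧ (Subgroup.centralizer ({x} : Set G)).index = n}, ¬ (a ∣ n ∧ b ∣ n))) : (∃ n ∈ {n : ℕ | ∃ x : G, IsConj x x⁻¹ ∧ (Subgroup.centralizer ({x} : Set G)).index = n}, 2 ∣ n) ∧ ((∀ P : Sylow 2 G, (P : Subgroup G).Normal) ∨ ((∃ π₁ π₂ : Set ℕ, π₁.Nonempty ∧ π₂.Nonempty ∧ Disjoint π₁ π₂ ∧ (∀ q ∈ π₁ ∪ π₂, q.Prime ∧ ∃ n ∈ {n : ℕ | ∃ x : ↥(Subgroup.closure {g : G | ∃ k : ℕ, orderOf g = 2 ^ k}), IsConj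 x x⁻¹ ∧ (Subgroup.centralizer ({x} : Set ↥(Subgroup.closure {g : G | ∃ k : ℕ, orderOf g = 2 ^ k}))).index = n}, q ∣ n) ∧ (∀ q : ℕ, q.Prime → (∃ n ∈ {n : ℕ | ∃ x : ↥(Subgroup.closure {g : G | ∃ k : ℕ, orderOf g = 2 ^ k}), IsConj x x⁻¹ ∧ (Subgroup.centralizer ({x} : Set ↥(Subgroup.closure {g : G | ∃ k : ℕ, orderOf g = 2 ^ k}))).index = n}, q ∣ n) → q ∈ π₁ ∨ q ∈ π₂) ∧ ∀ a ∈ π₁, ∀ b ∈ π₂, ∀ n ∈ {n : ℕ | ∃ x : ↥(Subgroup.closure {g : G | ∃ k : ℕ, orderOf g = 2 ^ k}), IsConj x x⁻¹ ∧ (Subgroup.centralizer ({x} : Set ↥(Subgroup.closure {g : G | ∃ k : ℕ, orderOf g = 2 ^ k}))).index = n}, ¬ (a ∣ n ∧ b ∣ n)) ∧ ∀ n ∈ {n : ℕ | ∃ x : ↥(Subgroup.closure {g : G | ∃ k : ℕ, orderOf g = 2 ^ k}), IsConj x x⁻¹ ∧ (Subgroup.centralizer ({x} : Set ↥(Subgroup.closure {g : G | ∃ k : ℕ, orderOf g = 2 ^ k}))).index = n}, Odd n ∨ ∃ j : ℕ, n = 2 ^ j)) := by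
  obtain ⟨π₁, π₂, ⟨a, ha⟩, ⟨b, hb⟩, hdisj, hsub, hcover, hnoedge⟩ := h
  obtain ⟨hap, _, ⟨x, hx, rfl⟩, hax⟩ := hsub a (Or.inl ha)
  obtain ⟨hbp, _, ⟨y, hy, rfl⟩, hby⟩ := hsub b (Or.inr hb)
  have hs : CfsgLib.RealClassGraph11.Split G π₁ π₂ :=
    ⟨⟨x, hx, a, ha, hap, hax⟩, ⟨y, hy, b, hb, hbp, hby⟩,
      fun z hz p hp hd => hcover p hp ⟨_, ⟨z, hz, rfl⟩, hd⟩,
      fun z hz p hp q hq => hnoedge p hp q hq _ ⟨z, hz, rfl⟩, hdisj⟩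
  obtain ⟨σ₁, σ₂, hs', h2⟩ := hs.normalise
  refine ⟨?_, ?_⟩
  · obtain ⟨z, hz, h2z⟩ := hs.exists_even
    exact ⟨_, ⟨z, hz, rfl⟩, h2z⟩
  by_cases hP : ∀ P : Sylow 2 G, (P : Subgroup G).Normal
  · exact Or.inl hP
  haveI : Group.IsSolvable G := hs'.isSolvable_of h2 fun V _ _ _ hsp => hsp.isSolvable
  obtain ⟨⟨τ₁, τ₂, hK, hKsub⟩, hKsize⟩ := hs'.twoGen_structure h2 hP
  refine Or.inr ⟨⟨τ₁, τ₂, ?_, ?_, hK.disj, ?_, ?_, ?_⟩, ?_⟩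
  · obtain ⟨_, _, p, hp, -⟩ := hK.exists₁
    exact ⟨p, hp⟩
  · obtain ⟨_, _, p, hp, -⟩ := hK.exists₂
    exact ⟨p, hp⟩
  · intro q hq
    obtain ⟨hqp, z, hz, hqz⟩ := hKsub q hq
    exact ⟨hqp, _, ⟨z, hz, rfl⟩, hqz⟩
  · rintro q hq ⟨_, ⟨z, hz, rfl⟩, hqz⟩
    exact hK.cover z hz q hq hqz
  · rintro p hp q hq _ ⟨z, hz, rfl⟩
    exact hK.noedge z hz p hp q hq
  · rintro _ ⟨z, hz, rfl⟩
    exact hKsize z hz

end Cfsg.Agent.S4192
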