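import Cfsg.Statements.S4201
import Mathlib

set_option autoImplicit false
open Cfsg

namespace Cfsg.Agent.S4201

theorem class_number_le {X : Type*} [Group X] [Finite X] (N : Subgroup X) [N.Normal] :
    Nat.card (ConjClasses X) ≤ Nat.card (ConjClasses N) * Nat.card (ConjClasses (X ⧸ N)) := by
  classical
  set q := QuotientGroup.mk' N with hq
  let b₀ : X → (X ⧸ N) → X := fun a c =>
    if h : ∃ b, Commute a b ∧ q b = c then h.choose else 1
  let a₀ : X → (X ⧸ N) → X := fun n c =>
    if h : ∃ a, Commute a n ∧ q a = c then h.choose else 1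
  have hb : ∀ a b, Commute a b → Commute a (b₀ a (q b)) ∧ q (b₀ a (q b)) = q b := by
    intro a b h
    have hex : ∃ b', Commute a b' ∧ q b' = q b := ⟨b, h, rfl⟩
    simp only [b₀, dif_pos hex]
    exact hex.choose_spec
  have ha : ∀ a n, Commute a n → Commute (a₀ n (q a)) n ∧ q (a₀ n (q a)) = q a := by
    intro a n h
    have hex : ∃ a', Commute a' n ∧ q a' = q a := ⟨a, h, rfl⟩
    simp only [a₀, dif_pos hex]
    exact hex.choose_spec
  let nn : {p : X × X // Commute p.1 p.2} → X := fun p => (b₀ p.1.1 (q p.1.2))⁻¹ * p.1.2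
  have hnn : ∀ p, nn p ∈ N ∧ Commute p.1.1 (nn p) := fun p => by
    obtain ⟨h1, h2⟩ := hb _ _ p.2
    exact ⟨(QuotientGroup.eq).1 h2, h1.inv_right.mul_right p.2⟩
  let mm : {p : X × X // Commute p.1 p.2} → X := fun p => (a₀ (nn p) (q p.1.1))⁻¹ * p.1.1
  have hmm : ∀ p, mm p ∈ N ∧ Commute (mm p) (nn p) := fun p => by
    obtain ⟨h1, h2⟩ := ha _ _ (hnn p).2
    exact ⟨(QuotientGroup.eq).1 h2, h1.inv_left.mul_left (hnn p).2⟩
  let F : {p : X × X // Commute p.1 p.2} →
      {p : (X ⧸ N) × (X ⧸ N) // Commute p.1 p.2} × {p : N × N // Commute p.1 p.2} := fun p =>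
    (⟨(q p.1.1, q p.1.2), p.2.map q⟩,
      ⟨(⟨mm p, (hmm p).1⟩, ⟨nn p, (hnn p).1⟩), Subtype.ext (hmm p).2.eq⟩)
  have hF : Function.Injective F := by
    rintro ⟨⟨a, b⟩, hab⟩ ⟨⟨a', b'⟩, hab'⟩ h
    have h1 : q a = q a' := congrArg (fun z => z.1.1.1) h
    have h2 : q b = q b' := congrArg (fun z => z.1.1.2) h
    have h3 : mm ⟨(a, b), hab⟩ = mm ⟨(a', b'), hab'⟩ := congrArg (fun z => (z.2.1.1 : X)) h
    have h4 : nn ⟨(a, b), hab⟩ = nn ⟨(a', b'), hab'⟩ := congrArg (fun z => (z.2.1.2 : X)) h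
    have ea : a = a' := by
      simp only [mm] at h3
      rw [h1, h4] at h3
      exact mul_left_cancel h3
    subst ea
    simp only [nn] at h4
    rw [h2] at h4
    exact Subtype.ext (Prod.ext rfl (mul_left_cancel h4))
  have hle := Nat.card_le_card_of_injective F hF
  rw [Nat.card_prod, card_comm_eq_card_conjClasses_mul_card,
    card_comm_eq_card_conjClasses_mul_card, card_comm_eq_card_conjClasses_mul_card,
    N.card_eq_card_quotient_mul_card_subgroup] at hle
  refine Nat.le_of_mul_le_mul_right ?_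
    (Nat.mul_pos (Nat.card_pos (α := X ⧸ N)) (Nat.card_pos (α := N)))
  linarith


/-- If N is a normal subgroup of the finite group X then k(X) ≤ k(N)·k(X ⧸ N), where k denotes the number of conjugacy classes. -/
theorem result {X : Type*} [Group X] [Finite X] (N : Subgroup X) [N.Normal] : Nat.card (ConjClasses X) ≤ Nat.card (ConjClasses N) * Nat.card (ConjClasses (X ⧸ N)) := by
  exact class_number_le N

end Cfsg.Agent.S4201
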