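import Cfsg.Statements.S4231
import Cfsg.Agent.AltAutSq.Basic
import Cfsg.Agent.S3835

set_option autoImplicit false
open Cfsg

namespace Cfsg.Agent.S4231

open Equiv Equiv.Perm in
/-- An even permutation with given cycle type and order. -/
theorem exists_even_order {n : ℕ} (m : Multiset ℕ) (hm : m.sum ≤ n ∧ ∀ a ∈ m, 2 ≤ a) (hs : Even (m.sum + Multiset.card m)) :
    ∃ g : alternatingGroup (Fin n), orderOf g = m.lcm := by
  obtain ⟨g, hg⟩ := (Equiv.Perm.exists_with_cycleType_iff (Fin n)).mpr (show m.sum ≤ Fintype.card (Fin n) ∧ ∀ a ∈ m, 2 ≤ a by simpa using hm)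
  refine ⟨⟨g, ?_⟩, ?_⟩
  · rw [Equiv.Perm.mem_alternatingGroup, Equiv.Perm.sign_of_cycleType, hg]
    exact hs.neg_one_pow
  · rw [Subgroup.orderOf_mk, ← Equiv.Perm.lcm_cycleType, hg]

theorem abelian_of_lt_sq {n : ℕ} (hn : 5 ≤ n) (G : Subgroup (MulAut (alternatingGroup (Fin n)))) {q : ℕ} [Fact q.Prime]
    (hq : q ≠ 2) (hnq : n < q ^ 2) (Q : Sylow q G) : IsMulCommutative (Q : Subgroup G) := by
  have hq' : q.Prime := Fact.out
  set ι := (MulAut.conjNormal : Equiv.Perm (Fin n) →* MulAut (alternatingGroup (Fin n))) with hι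
  have hinj : Function.Injective ι := Cfsg.Agent.S2119.injective_conjNormal (by simp; omega)
  set K := ((Q : Subgroup G).map G.subtype).comap ι with hK
  have hKp : IsPGroup q K := (Q.2.map G.subtype).comap_of_injective ι hinj
  have hmem : ∀ a : (Q : Subgroup G), ∃ σ ∈ K, ι σ = ((a : G) : MulAut (alternatingGroup (Fin n))) := by
    intro a
    obtain ⟨σ, hσ⟩ := CfsgLib.AltAutSq.mem_range_of_odd_order hn ((a : G) : MulAut (alternatingGroup (Fin n))) (by
      obtain ⟨j, hj⟩ := IsPGroup.iff_orderOf.mp Q.2 a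
      rw [Subgroup.orderOf_coe, Subgroup.orderOf_coe, hj]
      exact (hq'.odd_of_ne_two hq).pow)
    exact ⟨σ, ⟨(a : G), a.2, hσ.symm⟩, hσ⟩
  refine ⟨⟨fun a b => ?_⟩⟩
  obtain ⟨s, hs, hsa⟩ := hmem a
  obtain ⟨t, ht, htb⟩ := hmem b
  apply Subtype.ext
  apply Subtype.ext
  show ((a : G) : MulAut (alternatingGroup (Fin n))) * (b : G) = (b : G) * (a : G)
  rw [← hsa, ← htb, ← map_mul, ← map_mul, Cfsg.Agent.S3835.commute_of_lt_sq hnq hKp hs ht]

/-- Let n ≥ 5 and let G be a group of automorphisms of the alternating group of degree n containing all inner automorphisms. If p ≠ q are primes and G has no element of order pq, then every Sylow p-subgroup of G is abelian or every Sylow q-subgroup of G is abelian. -/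
theorem result (n : ℕ) (hn : 5 ≤ n) (G : Subgroup (MulAut (alternatingGroup (Fin n))))
    (hG : (MulAut.conj : alternatingGroup (Fin n) →* MulAut (alternatingGroup (Fin n))).range ≤ G)
    (p q : ℕ) [Fact p.Prime] [Fact q.Prime] (hpq : p ≠ q) (h : ∀ g : G, orderOf g ≠ p * q) :
    (∀ P : Sylow p G, IsMulCommutative (P : Subgroup G)) ∨ (∀ Q : Sylow q G, IsMulCommutative (Q : Subgroup G)) := by
  have hp : p.Prime := Fact.out
  have hq : q.Prime := Fact.out
  have hinjA : Function.Injective (MulAut.conj : alternatingGroup (Fin n) →* MulAut (alternatingGroup (Fin n))) := by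
    intro a b hab
    apply Subtype.ext
    refine Cfsg.Agent.S2119.injective_conjNormal (α := Fin n) (by simp; omega) ?_
    refine MulEquiv.ext fun x => Subtype.ext ?_
    have := congrArg (fun e : MulAut (alternatingGroup (Fin n)) => ((e x : alternatingGroup (Fin n)) : Equiv.Perm (Fin n))) hab
    simpa [MulAut.conjNormal_apply] using this
  have hbad : ∀ a : alternatingGroup (Fin n), orderOf a ≠ p * q := by
    intro a ha
    refine h ⟨MulAut.conj a, hG ⟨a, rfl⟩⟩ ?_
    rw [Subgroup.orderOf_mk, orderOf_injective _ hinjA, ha]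
  have two : ∀ {r : ℕ}, r.Prime → r ≠ 2 → p * q = 2 * r → n < r ^ 2 := by
    intro r hr hr2 he
    by_contra hn'
    push Not at hn'
    have h3 : 3 ≤ r := by have := hr.two_le; omega
    obtain ⟨g, hg⟩ := exists_even_order (n := n) {2, 2, r}
      ⟨by simp; nlinarith, by simp; exact hr.two_le⟩
      (by simp; obtain ⟨k, hk⟩ := hr.odd_of_ne_two hr2; exact ⟨k + 4, by omega⟩)
    refine hbad g (hg.trans ?_)
    rw [he]
    simp
    show Nat.lcm 2 (Nat.lcm 2 r) = 2 * r
    rw [← Nat.lcm_assoc, Nat.lcm_self]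
    exact Nat.Coprime.lcm_eq_mul ((Nat.coprime_primes Nat.prime_two hr).mpr (Ne.symm hr2))
  by_cases hp2 : p = 2
  · exact Or.inr fun Q => abelian_of_lt_sq hn G (hp2 ▸ Ne.symm hpq) (two hq (hp2 ▸ Ne.symm hpq) (by rw [hp2])) Q
  by_cases hq2 : q = 2
  · exact Or.inl fun P => abelian_of_lt_sq hn G hp2 (two hp hp2 (by rw [hq2, mul_comm])) P
  by_cases hnp : n < p ^ 2
  · exact Or.inl fun P => abelian_of_lt_sq hn G hp2 hnp P
  by_cases hnq : n < q ^ 2
  · exact Or.inr fun Q => abelian_of_lt_sq hn G hq2 hnq Q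
  exfalso
  obtain ⟨g, hg⟩ := exists_even_order (n := n) {p, q}
    ⟨by simp; nlinarith [hp.two_le, hq.two_le], by simp; exact ⟨hp.two_le, hq.two_le⟩⟩
    (by simp; obtain ⟨k, hk⟩ := hp.odd_of_ne_two hp2; obtain ⟨l, hl⟩ := hq.odd_of_ne_two hq2; exact ⟨k + l + 2, by omega⟩)
  refine hbad g (hg.trans ?_)
  simp
  exact Nat.Coprime.lcm_eq_mul ((Nat.coprime_primes hp hq).mpr hpq)

end Cfsg.Agent.S4231
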