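import Cfsg.Statements.S4234
import Cfsg.Agent.Dickson.Thirteen

set_option autoImplicit false
open Cfsg

namespace Cfsg.Agent.S4234

section Helpers

variable {K S : Type*} [Group K] [CommGroup S]

/-- Coprime orders: a subgroup of the product contains the projections of its elements. -/
theorem inl_fst_mem [Finite K] [Finite S] (hKS : (Nat.card K).Coprime (Nat.card S))
    {H : Subgroup (K × S)} {x : K × S} (hx : x ∈ H) : (x.1, (1 : S)) ∈ H := by
  obtain ⟨n, hn1, hn0⟩ := Nat.chineseRemainder hKS 1 0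
  have h : x ^ n = (x.1, 1) := by
    refine Prod.ext ?_ ?_
    · rw [Prod.pow_fst]
      calc x.1 ^ n = x.1 ^ 1 :=
            pow_eq_pow_iff_modEq.mpr (hn1.of_dvd (orderOf_dvd_natCard x.1))
        _ = x.1 := pow_one _
    · rw [Prod.pow_snd]
      calc x.2 ^ n = x.2 ^ 0 :=
            pow_eq_pow_iff_modEq.mpr (hn0.of_dvd (orderOf_dvd_natCard x.2))
        _ = 1 := pow_zero _
  exact h ▸ pow_mem hx n

theorem normalizer_eq [Finite K] [Finite S] (hKS : (Nat.card K).Coprime (Nat.card S))
    (H : Subgroup (K × S)) :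
    Subgroup.normalizer (H : Set (K × S)) =
      (Subgroup.normalizer ((H.comap (MonoidHom.inl K S) : Subgroup K) : Set K)).comap
        (MonoidHom.fst K S) := by
  have conj : ∀ g x : K × S, g * x * g⁻¹ = (g.1 * x.1 * g.1⁻¹, x.2) := fun g x =>
    Prod.ext rfl (by simp [mul_comm g.2])
  ext g
  rw [Subgroup.mem_comap, Subgroup.mem_normalizer_iff, Subgroup.mem_normalizer_iff]
  refine ⟨fun h a => ?_, fun h x => ?_⟩
  · have := h (a, 1)
    rw [conj] at this
    simpa using this
  · rw [conj]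
    have key : ∀ y : K × S, y ∈ H ↔ (y.1, (1 : S)) ∈ H ∧ ((1 : K), y.2) ∈ H := fun y =>
      ⟨fun hy => ⟨inl_fst_mem hKS hy, by
          have h' : ((1 : K), y.2) = (y.1, (1 : S))⁻¹ * y := Prod.ext (by simp) (by simp)
          rw [h']
          exact mul_mem (inv_mem (inl_fst_mem hKS hy)) hy⟩,
        fun ⟨h1, h2⟩ => by simpa using mul_mem h1 h2⟩
    have hh := h x.1
    simp only [Subgroup.mem_comap, MonoidHom.inl_apply, MonoidHom.coe_fst] at hh
    rw [key x, key (g.1 * x.1 * g.1⁻¹, x.2)]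
    exact ⟨fun ⟨h1, h2⟩ => ⟨hh.mp h1, h2⟩, fun ⟨h1, h2⟩ => ⟨hh.mpr h1, h2⟩⟩

theorem isCoatom_normalizer_of_equiv {L : Type*} [Group L] (e : K ≃* L) {A : Subgroup K}
    (hA : ¬ A.Normal)
    (h : ∀ B : Subgroup L, ¬ B.Normal → IsCoatom (Subgroup.normalizer (B : Set L))) :
    IsCoatom (Subgroup.normalizer (A : Set K)) := by
  refine (OrderIso.isCoatom_iff e.mapSubgroup _).mp ?_
  have hN : e.mapSubgroup (Subgroup.normalizer (A : Set K)) =
      Subgroup.normalizer ((A.map e.toMonoidHom : Subgroup L) : Set L) :=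
    Subgroup.map_equiv_normalizer_eq A e
  rw [hN]
  refine h _ fun hn => hA (Subgroup.normalizer_eq_top_iff.mp (e.mapSubgroup.injective ?_))
  rw [hN, Subgroup.normalizer_eq_top_iff.mpr hn, OrderIso.map_top]

end Helpers

/-- Let K be isomorphic to PSL(2, 13) or to SL(2, 13) and let S be a finite abelian group of order coprime to the order of K. Then in the direct product K × S every subgroup that is not normal has a normalizer that is a maximal subgroup. -/
theorem result {K S : Type*} [Group K] [CommGroup S] [Finite K] [Finite S]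
    (hK : Nonempty (K ≃* Matrix.ProjectiveSpecialLinearGroup (Fin 2) (ZMod 13)) ∨
      Nonempty (K ≃* Matrix.SpecialLinearGroup (Fin 2) (ZMod 13)))
    (hKS : (Nat.card K).Coprime (Nat.card S)) (H : Subgroup (K × S)) (hH : ¬ H.Normal) :
    IsCoatom (Subgroup.normalizer (H : Set (K × S))) := by
  haveI : Fact (Nat.Prime 13) := ⟨by norm_num⟩
  set A := H.comap (MonoidHom.inl K S) with hA
  have hA' : ¬ A.Normal := fun hn => hH (Subgroup.normalizer_eq_top_iff.mp (by
    rw [normalizer_eq hKS H, ← hA, Subgroup.normalizer_eq_top_iff.mpr hn, Subgroup.comap_top]))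
  rw [normalizer_eq hKS H]
  refine Subgroup.isCoatom_comap_of_surjective (fun k => ⟨(k, 1), rfl⟩) ?_
  rcases hK with ⟨⟨e⟩⟩ | ⟨⟨e⟩⟩
  · refine isCoatom_normalizer_of_equiv e hA' fun B hB =>
      CfsgLib.Dickson.Thirteen.isCoatom_normalizer (ZMod.card 13) (fun h => hB ?_) (fun h => hB ?_)
    all_goals (rw [h]; infer_instance)
  · exact isCoatom_normalizer_of_equiv e hA' fun B hB =>
      CfsgLib.Dickson.Thirteen.isCoatom_normalizer_sl (ZMod.card 13) hB

end Cfsg.Agent.S4234
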