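import Cfsg.Statements.S4249
import Cfsg.Agent.Hughes.GT

set_option autoImplicit false
open Cfsg

namespace Cfsg.Agent.S4249

/-- Let G be a finite group and p a prime such that G is not a p-group, and suppose the Hughes subgroup H_p(G), generated by all elements g with g^p ≠ 1, is a proper subgroup. Then H_p(G) is nilpotent and has index p in G. -/
theorem result {G : Type*} [Group G] [Finite G] (p : ℕ) (hp : p.Prime) (hG : ¬ IsPGroup p G)
    (hH : Subgroup.closure {g : G | g ^ p ≠ 1} ≠ ⊤) :
    Group.IsNilpotent (Subgroup.closure {g : G | g ^ p ≠ 1}) ∧ (Subgroup.closure {g : G | g ^ p ≠ 1}).index = p := by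
  haveI := Fact.mk hp
  set H := Subgroup.closure {g : G | g ^ p ≠ 1} with hdef
  haveI : H.Normal := ⟨fun x hx g => by
    have hle : H ≤ H.comap (MulAut.conj g).toMonoidHom := by
      rw [hdef, Subgroup.closure_le]
      intro y hy
      refine Subgroup.subset_closure ?_
      show (MulAut.conj g y) ^ p ≠ 1
      rw [← map_pow]
      exact fun h => hy ((map_eq_one_iff _ (MulAut.conj g).injective).mp h)
    exact hle hx⟩
  have hout : ∀ x : G, x ∉ H → x ^ p = 1 := fun x hx => by
    by_contra h
    exact hx (Subgroup.subset_closure h)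
  obtain ⟨g, hg⟩ : ∃ g, g ∉ H := by
    by_contra h
    push_neg at h
    exact hH (eq_top_iff.mpr fun x _ => h x)
  have hnil : Group.IsNilpotent H := CfsgLib.Hughes.isNilpotent_of_splits CfsgLib.Hughes.gtHyp
    (p := p) _ H _ rfl (CfsgLib.Hughes.splits_conjNormal hout hg)
  exact ⟨hnil, CfsgLib.Hughes.index_eq_of_isNilpotent hnil hH hout hG⟩

end Cfsg.Agent.S4249
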