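import Cfsg.Statements.S4265
import Cfsg.Agent.LinClasses.ComplexMain
-- import your own Cfsg.Agent.* helpers here

set_option autoImplicit false
open Cfsg

namespace Cfsg.Agent.S4265

/-- Let G be a finite solvable subgroup of GL_r(ℂ), r ≥ 1, with Fitting subgroup F(G) normal in G. Then for every subgroup H of G the quotient H/(H ∩ F(G)) has at most 3^{r−1} conjugacy classes. -/
theorem result (r : ℕ) (hr : 1 ≤ r) (G : Subgroup (GL (Fin r) ℂ)) [Finite ↥G] (hsolv : Group.IsSolvable ↥G) [hF : (Cfsg.fittingSubgroup ↥G).Normal] (H : Subgroup ↥G) : Nat.card (ConjClasses (↥H ⧸ (Cfsg.fittingSubgroup ↥G).subgroupOf H)) ≤ 3 ^ (r - 1) := by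
  haveI : NeZero r := ⟨by omega⟩
  let ρ : Representation ℂ ↥G (Fin r → ℂ) :=
    (Units.coeHom _).comp ((Matrix.GeneralLinearGroup.toLin (n := Fin r) (R := ℂ)).toMonoidHom.comp G.subtype)
  have hρ : Function.Injective ρ := fun x y h =>
    Subtype.ext ((Matrix.GeneralLinearGroup.toLin (n := Fin r) (R := ℂ)).injective (Units.ext h))
  obtain ⟨M, hMn, hMnil, hkb⟩ := CfsgLib.LinClasses.complex_main r hsolv ρ hρ (Module.finrank_fin_fun ℂ)
  haveI := hMn
  have hle : M ≤ Cfsg.fittingSubgroup ↥G := le_sSup ⟨hMn, hMnil⟩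
  have hq : CfsgLib.LinClasses.KB (↥G ⧸ Cfsg.fittingSubgroup ↥G) (3 ^ (r - 1)) :=
    hkb.of_surjective
      (QuotientGroup.map M (Cfsg.fittingSubgroup ↥G) (MonoidHom.id _) (by simpa using hle))
      (fun q => by
        obtain ⟨g, rfl⟩ := QuotientGroup.mk_surjective q
        exact ⟨QuotientGroup.mk g, rfl⟩)
  let f : ↥H ⧸ (Cfsg.fittingSubgroup ↥G).subgroupOf H →* ↥G ⧸ Cfsg.fittingSubgroup ↥G :=
    QuotientGroup.map _ _ H.subtype le_rfl
  have hf : Function.Injective f := (injective_iff_map_eq_one f).2 fun q hqq => by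
    obtain ⟨h, rfl⟩ := QuotientGroup.mk_surjective q
    exact (QuotientGroup.eq_one_iff _).2 (Subgroup.mem_subgroupOf.2 ((QuotientGroup.eq_one_iff _).1 hqq))
  rw [CfsgLib.LinClasses.card_classes_congr (MonoidHom.ofInjective hf)]
  exact hq _

end Cfsg.Agent.S4265
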