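import Cfsg.Statements.S4273
import Cfsg.Agent.S1644
import Cfsg.Agent.JankoCount.Centralizer
-- import your own Cfsg.Agent.* helpers here

set_option autoImplicit false
open Cfsg

namespace Cfsg.Agent.S4273

/-- Uniqueness of the simple group of order 175560: any two finite simple groups of order 175560 are isomorphic. -/
theorem result {G : Type*} {H : Type*} [Group G] [Finite G] [IsSimpleGroup G] [Group H] [Finite H] [IsSimpleGroup H] (hG : Nat.card G = 175560) (hH : Nat.card H = 175560) : Nonempty (G ≃* H) := by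
  obtain ⟨S⟩ := (inferInstance : Nonempty (Sylow 2 G))
  obtain ⟨T⟩ := (inferInstance : Nonempty (Sylow 2 H))
  obtain ⟨hSa, hS8, t, ht, ⟨e⟩⟩ := CfsgLib.JankoCount.centralizer_iso hG S
  obtain ⟨hTa, hT8, u, hu, ⟨f⟩⟩ := CfsgLib.JankoCount.centralizer_iso hH T
  obtain ⟨i⟩ := Cfsg.Agent.S1644.result S hSa hS8 t ht e
  obtain ⟨j⟩ := Cfsg.Agent.S1644.result T hTa hT8 u hu f
  exact ⟨i.trans j.symm⟩

end Cfsg.Agent.S4273
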