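import Cfsg.Statements.S4347
import Mathlib

set_option autoImplicit false
open Cfsg

namespace Cfsg.Agent.S4347

/-- Let G be a finite group and p a prime. Say a Sylow p-subgroup Q is redundant when every element of p-power order lies in some Sylow p-subgroup other than Q. Then G has no redundant Sylow p-subgroup if and only if some element of p-power order lies in exactly one Sylow p-subgroup. -/
theorem result {G : Type*} [Group G] [Finite G]
    (p : ℕ) [Fact p.Prime] :
    (¬ ∃ Q : Sylow p G, ∀ x : G, (∃ k : ℕ, orderOf x = p ^ k) → ∃ P : Sylow p G, P ≠ Q ∧ x ∈ P) ↔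
      ∃ x : G, (∃ k : ℕ, orderOf x = p ^ k) ∧ ∃! P : Sylow p G, x ∈ P := by
  constructor
  · intro h
    obtain ⟨Q⟩ := (inferInstance : Nonempty (Sylow p G))
    have hQ : ¬ ∀ x : G, (∃ k : ℕ, orderOf x = p ^ k) → ∃ P : Sylow p G, P ≠ Q ∧ x ∈ P :=
      fun hh => h ⟨Q, hh⟩
    simp only [not_forall, not_exists, not_and] at hQ
    obtain ⟨x, hx, hxQ⟩ := hQ
    have hz : IsPGroup p (Subgroup.zpowers x) := by
      obtain ⟨k, hk⟩ := hx
      exact IsPGroup.of_card (n := k) (by rw [Nat.card_zpowers, hk])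
    obtain ⟨P, hP⟩ := hz.exists_le_sylow
    have hxP : x ∈ P := hP (Subgroup.mem_zpowers x)
    have hall : ∀ R : Sylow p G, x ∈ R → R = Q := fun R hR => by
      by_contra hne; exact hxQ R hne hR
    exact ⟨x, hx, Q, (hall P hxP) ▸ hxP, fun R hR => hall R hR⟩
  · rintro ⟨x, ⟨k, hk⟩, P, hxP, huniq⟩ ⟨Q, hQ⟩
    obtain ⟨g, hg⟩ := MulAction.exists_smul_eq G P Q
    obtain ⟨R, hRQ, hR⟩ := hQ (g * x * g⁻¹) ⟨k, by
      rw [← hk]; exact (MulEquiv.orderOf_eq (MulAut.conj g) x)⟩
    have hx' : x ∈ (g⁻¹ • R : Sylow p G) := by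
      change x ∈ ((g⁻¹ • R : Sylow p G) : Subgroup G)
      rw [Sylow.coe_subgroup_smul, Subgroup.mem_pointwise_smul_iff_inv_smul_mem]
      have hR' : g * x * g⁻¹ ∈ (R : Subgroup G) := hR
      convert hR' using 1
      simp [mul_assoc]
    have := huniq _ hx'
    apply hRQ
    rw [← hg, ← this, smul_inv_smul]

end Cfsg.Agent.S4347
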