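import Cfsg.Statements.S4348


set_option autoImplicit false
open Cfsg

namespace Cfsg.Agent.S4348

/-- Let G be a finite group, p a prime and P a Sylow p-subgroup of G, and let O_p(G) be the largest normal p-subgroup of G. If P/O_p(G) is cyclic, then some element of p-power order of G lies in exactly one Sylow p-subgroup. -/
theorem result {G : Type*} [Group G] [Finite G]
    (p : ℕ) [Fact p.Prime] (P : Sylow p G)
    [hn : ((Cfsg.pCore p G).subgroupOf (P : Subgroup G)).Normal]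
    (hc : IsCyclic ((P : Subgroup G) ⧸ (Cfsg.pCore p G).subgroupOf (P : Subgroup G))) :
    ∃ x : G, (∃ k : ℕ, orderOf x = p ^ k) ∧ ∃! Q : Sylow p G, x ∈ Q := by
  obtain ⟨q, hq⟩ := hc.exists_generator
  obtain ⟨x, rfl⟩ := QuotientGroup.mk_surjective q
  have hx : ∃ k : ℕ, orderOf (x : G) = p ^ k := by
    obtain ⟨k, hk⟩ := IsPGroup.iff_orderOf.1 P.2 x
    exact ⟨k, by simpa using hk⟩
  refine ⟨(x : G), hx, P, x.2, fun Q hQ => ?_⟩
  have hO : Cfsg.pCore p G ≤ Q := sSup_le fun N hN => by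
    obtain ⟨R, hR⟩ := hN.2.exists_le_sylow
    obtain ⟨g, hg⟩ := MulAction.exists_smul_eq G R Q
    rw [← hg]
    intro n hn
    refine ⟨g⁻¹ * n * g, hR ?_, by simp [MulAut.conj_apply, mul_assoc]⟩
    simpa using hN.1.conj_mem n hn g⁻¹
  have hle : (P : Subgroup G) ≤ Q := by
    intro y hy
    obtain ⟨k, hk⟩ := Subgroup.mem_zpowers_iff.1 (hq (QuotientGroup.mk ⟨y, hy⟩))
    rw [← QuotientGroup.mk_zpow, QuotientGroup.eq] at hk
    have h2 : (x : G) ^ (-k) * y ∈ Q := by
      rw [zpow_neg]; exact hO (Subgroup.mem_subgroupOf.1 hk)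
    have h3 := mul_mem (zpow_mem (show (x : G) ∈ (Q : Subgroup G) from hQ) k) (show _ ∈ (Q : Subgroup G) from h2)
    rwa [zpow_neg, mul_inv_cancel_left] at h3
  exact Sylow.ext (P.3 Q.2 hle)

end Cfsg.Agent.S4348
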