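import Cfsg.Statements.S4349
import Cfsg.Agent.SymSylow.Generated

set_option autoImplicit false
open Cfsg

namespace Cfsg.Agent.S4349

open Equiv CfsgLib.SymSylow.Mono

/-- Cycles are determined by their lengths, and at most two points are fixed. -/
def Sep {Ω : Type*} (x : Perm Ω) : Prop :=
  (∀ a b, x a ≠ a → (∀ k : ℕ, (x ^ k) a = a ↔ (x ^ k) b = b) → x.SameCycle a b) ∧
    ∀ a b c, x a = a → x b = b → x c = c → a = b ∨ a = c ∨ b = c

section Basics

variable {Ω : Type*} [Fintype Ω] [DecidableEq Ω]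

theorem pow_apply_eq_iff_dvd {x : Perm Ω} {a : Ω} (ha : x a ≠ a) (k : ℕ) :
    (x ^ k) a = a ↔ (x.cycleOf a).support.card ∣ k := by
  have hc : (x.cycleOf a).IsCycle := Perm.isCycle_cycleOf x ha
  rw [← hc.orderOf, orderOf_dvd_iff_pow_eq_one, hc.pow_eq_one_iff' (x := a) (by
    rwa [Perm.cycleOf_apply_self]), Perm.cycleOf_pow_apply_self]

theorem sep_iff (x : Perm Ω) :
    Sep x ↔ Fintype.card Ω ≤ x.support.card + 2 ∧ x.cycleType.Nodup := by
  have hfix : Fintype.card Ω ≤ x.support.card + 2 ↔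
      ∀ a b c, x a = a → x b = b → x c = c → a = b ∨ a = c ∨ b = c := by
    have hc := Finset.card_compl_add_card x.support
    constructor
    · intro h a b c ha hb hc'
      by_contra hcon
      push Not at hcon
      have h2 : 2 < x.supportᶜ.card :=
        Finset.two_lt_card_iff.2 ⟨a, b, c, by simpa using ha, by simpa using hb,
          by simpa using hc', hcon.1, hcon.2.1, hcon.2.2⟩
      omega
    · intro h
      by_contra hcon
      obtain ⟨a, b, c, ha, hb, hc', h1, h2, h3⟩ :=
        Finset.two_lt_card_iff.1 (show 2 < x.supportᶜ.card by omega)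
      simp only [Finset.mem_compl, Perm.mem_support, not_not] at ha hb hc'
      rcases h a b c ha hb hc' with e | e | e
      exacts [h1 e, h2 e, h3 e]
  rw [Sep, hfix, and_comm]
  refine and_congr Iff.rfl ?_
  rw [Perm.cycleType_def, Multiset.nodup_map_iff_inj_on x.cycleFactorsFinset.nodup]
  constructor
  · intro h c hc d hd e
    obtain ⟨a, ha⟩ := (Perm.mem_cycleFactorsFinset_iff.1 hc).1.nonempty_support
    obtain ⟨b, hb⟩ := (Perm.mem_cycleFactorsFinset_iff.1 hd).1.nonempty_support
    have ea := Perm.cycle_is_cycleOf ha hc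
    have eb := Perm.cycle_is_cycleOf hb hd
    have hxa : x a ≠ a := Perm.mem_support.1 (Perm.mem_cycleFactorsFinset_support_le hc ha)
    have hxb : x b ≠ b := Perm.mem_support.1 (Perm.mem_cycleFactorsFinset_support_le hd hb)
    have hs := h a b hxa fun k => by
      rw [pow_apply_eq_iff_dvd hxa, pow_apply_eq_iff_dvd hxb, ← ea, ← eb,
        show c.support.card = d.support.card from e]
    rw [ea, eb, hs.cycleOf_eq]
  · intro h a b hxa hab
    have hxb : x b ≠ b := fun e => hxa ((pow_one x ▸ (hab 1).2 (by rw [pow_one]; exact e)))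
    have hcard : (x.cycleOf a).support.card = (x.cycleOf b).support.card :=
      Nat.dvd_antisymm
        ((pow_apply_eq_iff_dvd hxa _).1 ((hab _).2 ((pow_apply_eq_iff_dvd hxb _).2 dvd_rfl)))
        ((pow_apply_eq_iff_dvd hxb _).1 ((hab _).1 ((pow_apply_eq_iff_dvd hxa _).2 dvd_rfl)))
    have e := h (x.cycleOf a)
      (Perm.cycleOf_mem_cycleFactorsFinset_iff.2 (Perm.mem_support.2 hxa)) (x.cycleOf b)
      (Perm.cycleOf_mem_cycleFactorsFinset_iff.2 (Perm.mem_support.2 hxb)) hcard
    have hb : b ∈ (x.cycleOf a).support := by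
      rw [e]
      exact Perm.mem_support_cycleOf_iff.2 ⟨Perm.SameCycle.refl x b, Perm.mem_support.2 hxb⟩
    exact (Perm.mem_support_cycleOf_iff.1 hb).1

/-- A transposition pairing two disjoint orbits of the same length lies in some Sylow subgroup
containing `x`. -/
theorem exists_sylow_swap {x : Perm Ω} {m : ℕ} (hx : orderOf x = 2 ^ m) {a b : Ω}
    (hper : ∀ k : ℕ, (x ^ k) a = a ↔ (x ^ k) b = b)
    (hdis : ∀ i j : ℕ, (x ^ i) a ≠ (x ^ j) b) :
    ∃ P : Sylow 2 (Perm Ω), x ∈ P ∧ Equiv.swap a b ∈ P := by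
  set gen : ℕ → Perm Ω := fun j => Equiv.swap ((x ^ j) a) ((x ^ j) b) with hgen
  set T := Subgroup.closure (Set.range gen) with hT
  have hperiod : ∀ i j, ((x ^ i) a = (x ^ j) a ↔ (x ^ i) b = (x ^ j) b) := by
    intro i j
    rcases le_total i j with h | h
    · obtain ⟨d, rfl⟩ := Nat.exists_eq_add_of_le h
      simp only [pow_add, Perm.mul_apply, EmbeddingLike.apply_eq_iff_eq]
      exact eq_comm.trans ((hper d).trans eq_comm)
    · obtain ⟨d, rfl⟩ := Nat.exists_eq_add_of_le h
      simp only [pow_add, Perm.mul_apply, EmbeddingLike.apply_eq_iff_eq]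
      exact hper d
  have hcomm : ∀ i j, gen i * gen j = gen j * gen i := by
    intro i j
    by_cases h : (x ^ i) a = (x ^ j) a
    · rw [show gen i = gen j by simp only [hgen, h, (hperiod i j).1 h]]
    · refine (Perm.Disjoint.commute ?_).eq
      intro v
      by_cases hv : v = (x ^ i) a ∨ v = (x ^ i) b
      · right
        rcases hv with rfl | rfl
        · exact swap_apply_of_ne_of_ne h (hdis i j)
        · exact swap_apply_of_ne_of_ne (Ne.symm (hdis j i)) fun e => h ((hperiod i j).2 e)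
      · push Not at hv
        exact Or.inl (swap_apply_of_ne_of_ne hv.1 hv.2)
  have hcen : ∀ u ∈ T, ∀ v ∈ T, u * v = v * u := by
    have h1 : T ≤ Subgroup.centralizer (Set.range gen) := by
      rw [hT, Subgroup.closure_le]
      rintro _ ⟨i, rfl⟩ _ ⟨j, rfl⟩
      exact hcomm j i
    have h2 : T ≤ Subgroup.centralizer (T : Set (Perm Ω)) := by
      nth_rw 1 [hT]
      rw [Subgroup.closure_le]
      intro u hu v hv
      exact (h1 hv u hu).symm
    exact fun u hu v hv => (h2 hu v hv).symm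
  have hTp : IsPGroup 2 T := by
    rintro ⟨u, hu⟩
    refine ⟨1, Subtype.ext ?_⟩
    rw [pow_one, Subgroup.coe_pow, OneMemClass.coe_one]
    induction hu using Subgroup.closure_induction with
    | mem v hv => obtain ⟨i, rfl⟩ := hv; rw [sq, Equiv.swap_mul_self]
    | one => rw [one_pow]
    | mul u v hu hv hu' hv' => rw [(show Commute u v from hcen u hu v hv).mul_pow, hu', hv', one_mul]
    | inv u _ hu' => rw [inv_pow, hu', inv_one]
  have hnorm : Subgroup.zpowers x ≤ Subgroup.normalizer (T : Set (Perm Ω)) := by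
    rw [Subgroup.zpowers_le]
    refine Subgroup.mem_normalizer_fintype fun u hu => ?_
    refine (?_ : T ≤ T.comap (MulAut.conj x).toMonoidHom) hu
    nth_rw 1 [hT]
    rw [Subgroup.closure_le]
    rintro _ ⟨i, rfl⟩
    refine Subgroup.subset_closure ⟨i + 1, ?_⟩
    show gen (i + 1) = x * gen i * x⁻¹
    simp only [hgen, pow_succ', Perm.mul_apply, ← Equiv.swap_apply_apply]
  have hxp : IsPGroup 2 (Subgroup.zpowers x) := IsPGroup.iff_card.2 ⟨m, by rw [Nat.card_zpowers, hx]⟩
  obtain ⟨P, hP⟩ := (IsPGroup.to_sup_of_normal_right' hxp hTp hnorm).exists_le_sylow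
  refine ⟨P, hP (Subgroup.mem_sup_left (Subgroup.mem_zpowers x)),
    hP (Subgroup.mem_sup_right (Subgroup.subset_closure ⟨0, ?_⟩))⟩
  simp [hgen]

/-- The necessity of the condition. -/
theorem sep_of_unique {x : Perm Ω} {m : ℕ} (hx : orderOf x = 2 ^ m)
    (huniq : ∀ P Q : Sylow 2 (Perm Ω), x ∈ P → x ∈ Q → P = Q) : Sep x := by
  have key : ∀ a b c : Ω, a ≠ b → a ≠ c → b ≠ c →
      (∀ k : ℕ, (x ^ k) a = a ↔ (x ^ k) b = b) → (∀ i j : ℕ, (x ^ i) a ≠ (x ^ j) b) →
      (∀ k : ℕ, (x ^ k) a = a ↔ (x ^ k) c = c) → (∀ i j : ℕ, (x ^ i) a ≠ (x ^ j) c) → False := by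
    intro a b c hab hac hbc h1 h2 h3 h4
    obtain ⟨P, hxP, hP⟩ := exists_sylow_swap hx h1 h2
    obtain ⟨Q, hxQ, hQ⟩ := exists_sylow_swap hx h3 h4
    rw [← huniq P Q hxP hxQ] at hQ
    have h3c : (Equiv.swap a b * Equiv.swap a c).IsThreeCycle :=
      Perm.isThreeCycle_swap_mul_swap_same hab hac hbc
    obtain ⟨k, hk⟩ := IsPGroup.iff_orderOf.1 P.isPGroup'
      ⟨_, mul_mem hP hQ⟩
    rw [Subgroup.orderOf_mk, h3c.orderOf] at hk
    rcases k with _ | k
    · simp at hk
    · rw [pow_succ] at hk; omega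
  refine ⟨fun a b ha hper => ?_, fun a b c ha hb hc => ?_⟩
  · by_contra hs
    have hdis : ∀ i j : ℕ, (x ^ i) a ≠ (x ^ j) b := by
      intro i j e
      exact hs (((Perm.SameCycle.refl x a).pow_right (n := i)).trans
        (e ▸ ((Perm.SameCycle.refl x b).pow_left (n := j))))
    have hxb : x b ≠ b := fun e => ha (by simpa using (hper 1).2 (by simpa using e))
    refine key a b (x b) (by simpa using hdis 0 0) (by simpa using hdis 0 1) (Ne.symm hxb) hper hdis
      (fun k => ?_) (fun i j => ?_)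
    · rw [← Perm.mul_apply, ← pow_succ, pow_succ', Perm.mul_apply, EmbeddingLike.apply_eq_iff_eq]
      exact hper k
    · rw [← Perm.mul_apply, ← pow_succ]
      exact hdis i (j + 1)
  · by_contra hcon
    push Not at hcon
    have hp : ∀ v, x v = v → ∀ k : ℕ, (x ^ k) v = v := fun v hv k =>
      Perm.pow_apply_eq_self_of_apply_eq_self hv k
    refine key a b c hcon.1 hcon.2.1 hcon.2.2 ?_ ?_ ?_ ?_ <;> intros <;>
      simp only [hp a ha, hp b hb, hp c hc, ne_eq] <;> tauto

/-- An involution commuting with a separated permutation, with at most one fixed point, is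
unique. -/
theorem involution_unique {x T T' : Perm Ω} (hs : Sep x)
    (hT : Commute x T) (hT2 : ∀ v, T (T v) = v) (hT1 : ∀ u v, T u = u → T v = v → u = v)
    (hT' : Commute x T') (hT2' : ∀ v, T' (T' v) = v) (hT1' : ∀ u v, T' u = u → T' v = v → u = v) :
    T = T' := by
  have hmoved : ∀ (S : Perm Ω), Commute x S → (∀ v, S (S v) = v) →
      (∀ u v, S u = u → S v = v → u = v) → ∀ v, x v ≠ v →
      ∃ i : ℕ, S v = (x ^ i) v ∧ (x.cycleOf v).support.card ∣ 2 * i ∧
        ¬ (x.cycleOf v).support.card ∣ i := by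
    intro S hS hS2 hS1 v hv
    have hcomm : ∀ (k : ℕ) w, (x ^ k) (S w) = S ((x ^ k) w) := fun k w =>
      Equiv.ext_iff.1 (hS.pow_left k).eq w
    have hne : S v ≠ v := fun e => hv (hS1 (x v) v (by
      have := hcomm 1 v
      rw [pow_one, e] at this
      exact this.symm) e)
    obtain ⟨i, hi⟩ := (hs.1 v (S v) hv fun k => by
      rw [hcomm, EmbeddingLike.apply_eq_iff_eq]).exists_nat_pow_eq
    refine ⟨i, hi.symm, ?_, fun h => hne ?_⟩
    · rw [← pow_apply_eq_iff_dvd hv, two_mul, pow_add, Perm.mul_apply, hi, hcomm, hi, hS2]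
    · rw [← hi, (pow_apply_eq_iff_dvd hv i).2 h]
  have hfix : ∀ (S : Perm Ω), Commute x S → ∀ v, x v = v → x (S v) = S v := by
    intro S hS v hv
    have := Equiv.ext_iff.1 hS.eq v
    simp only [Perm.mul_apply] at this
    rw [this, hv]
  refine Equiv.ext fun v => ?_
  by_cases hv : x v = v
  · have ha := hfix T hT v hv
    have hb := hfix T' hT' v hv
    rcases hs.2 v (T v) (T' v) hv ha hb with e | e | e
    · -- `T` fixes `v`
      by_contra hne
      have hne' : T' v ≠ v := fun h => hne (e.symm.trans h.symm)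
      have hc := hfix T hT _ hb
      have h1 : T (T' v) ≠ T' v := fun h => hne' ((hT1 v (T' v) e.symm h).symm)
      rcases hs.2 v (T' v) (T (T' v)) hv hb hc with f | f | f
      · exact hne' f.symm
      · have := congrArg T f
        rw [hT2, ← e] at this
        exact hne' this.symm
      · exact h1 f.symm
    · by_contra hne
      have hne' : T v ≠ v := fun h => hne (h.trans e)
      have hc := hfix T' hT' _ ha
      have h1 : T' (T v) ≠ T v := fun h => hne' ((hT1' v (T v) e.symm h).symm)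
      rcases hs.2 v (T v) (T' (T v)) hv ha hc with f | f | f
      · exact hne' f.symm
      · have := congrArg T' f
        rw [hT2', ← e] at this
        exact hne' this.symm
      · exact h1 f.symm
    · exact e
  · obtain ⟨i, hi, hi2, hin⟩ := hmoved T hT hT2 hT1 v hv
    obtain ⟨j, hj, hj2, hjn⟩ := hmoved T' hT' hT2' hT1' v hv
    rw [hi, hj]
    set L := (x.cycleOf v).support.card with hL
    obtain ⟨a, ha⟩ := hi2
    obtain ⟨b, hb⟩ := hj2
    have hodd : ∀ {i a : ℕ}, 2 * i = L * a → ¬ L ∣ i → a % 2 = 1 := by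
      intro i a h hn
      by_contra h2
      exact hn ⟨a / 2, by
        have : a = 2 * (a / 2) := by omega
        rw [this, mul_left_comm] at h
        omega⟩
    have ha2 := hodd ha hin
    have hb2 := hodd hb hjn
    have key : ∀ {i j a b : ℕ}, 2 * i = L * a → 2 * j = L * b → a % 2 = 1 → b % 2 = 1 → a ≤ b →
        (x ^ i) v = (x ^ j) v := by
      intro i j a b ha hb ha2 hb2 hab
      obtain ⟨c, rfl⟩ : ∃ c, b = a + 2 * c := ⟨(b - a) / 2, by omega⟩
      have e : j = i + L * c := by rw [mul_add, mul_left_comm] at hb; omega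
      rw [e, pow_add, Perm.mul_apply, (pow_apply_eq_iff_dvd hv _).2 (Dvd.intro c rfl)]
    rcases le_total a b with h | h
    · exact key ha hb ha2 hb2 h
    · exact (key hb ha hb2 ha2 h).symm

end Basics

section Induction

variable {I R : Type*} [Fintype I] [DecidableEq I] [Fintype R] [DecidableEq R]

omit [DecidableEq I] [DecidableEq R] in
theorem map_conj_wr (s : Perm I) (c : I → ZMod 2) (P : Subgroup (Perm I)) :
    (wr (R := R) P).map (MulAut.conj (mo s 1 c)).toMonoidHom =
      wr (P.map (MulAut.conj s).toMonoidHom) := by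
  refine Subgroup.eq_of_le_of_card_ge ?_ (le_of_eq ?_)
  · rintro _ ⟨_, ⟨π, hπ, b, rfl⟩, rfl⟩
    refine ⟨s * π * s⁻¹, ⟨π, hπ, rfl⟩,
      fun j => b (s⁻¹ j) + c (π (s⁻¹ j)) - c (s⁻¹ j), ?_⟩
    show mo s 1 c * mo π 1 b * (mo (R := R) s 1 c)⁻¹ = _
    rw [mul_inv_eq_iff_eq_mul, mo_one_one_mul, mo_one_one_mul]
    refine congrArg₂ (fun u v => mo u 1 v) (by group) (funext fun i => ?_)
    simp only [Perm.inv_def, Equiv.symm_apply_apply]
    ring
  · rw [Subgroup.card_map_of_injective (MulEquiv.injective _), card_wr, card_wr,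
      Subgroup.card_map_of_injective (MulEquiv.injective _)]

omit [Fintype I] [DecidableEq I] [Fintype R] [DecidableEq R] in
theorem pow_mo_inl (π : Perm I) (b : I → ZMod 2) (k : ℕ) (i : I) (y : ZMod 2) :
    (mo (R := R) π 1 b ^ k) (Sum.inl (i, y)) =
      Sum.inl ((π ^ k) i, y + ∑ j ∈ Finset.range k, b ((π ^ j) i)) := by
  induction k with
  | zero => simp
  | succ k ih =>
    rw [pow_succ', Perm.mul_apply, ih, mo_inl, Finset.sum_range_succ, pow_succ', Perm.mul_apply]
    simp [add_assoc]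

/-- The pairs inherit the separation. -/
theorem sep_quotient {π : Perm I} {b : I → ZMod 2} (hs : Sep (mo (R := R) π 1 b)) : Sep π := by
  set x := mo (R := R) π 1 b with hx
  have hlift : ∀ i j : I, x.SameCycle (Sum.inl (i, 0)) (Sum.inl (j, 0)) → π.SameCycle i j := by
    intro i j h
    obtain ⟨k, hk⟩ := h.exists_nat_pow_eq
    rw [hx, pow_mo_inl] at hk
    exact ⟨(k : ℤ), by rw [zpow_natCast]; exact congrArg Prod.fst (Sum.inl_injective hk)⟩
  have hsum : ∀ (i : I) (L q : ℕ), (π ^ L) i = i →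
      ∑ j ∈ Finset.range (L * q), b ((π ^ j) i) = q • ∑ j ∈ Finset.range L, b ((π ^ j) i) := by
    intro i L q hL
    induction q with
    | zero => simp
    | succ q ih =>
      rw [Nat.mul_succ, Finset.sum_range_add, ih, succ_nsmul]
      refine congrArg _ (Finset.sum_congr rfl fun j _ => ?_)
      rw [add_comm, pow_add, Perm.mul_apply, pow_mul,
        Perm.pow_apply_eq_self_of_apply_eq_self hL]
  refine ⟨fun i j hi hper => ?_, fun i j l hi hj hl => ?_⟩
  · set L := (π.cycleOf i).support.card with hLdef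
    have hLi : (π ^ L) i = i := (pow_apply_eq_iff_dvd hi L).2 dvd_rfl
    have hLj : (π ^ L) j = j := (hper L).1 hLi
    -- the shift along a cycle is nonzero
    have hshift : ∀ l, π l ≠ l → (∀ k : ℕ, (π ^ k) l = l ↔ L ∣ k) →
        ∑ t ∈ Finset.range L, b ((π ^ t) l) = 1 := by
      intro l hl hk
      by_contra hne
      have h0 : ∑ t ∈ Finset.range L, b ((π ^ t) l) = 0 := by
        revert hne
        generalize ∑ t ∈ Finset.range L, b ((π ^ t) l) = z
        intro hne
        rcases Fin.forall_fin_two (p := fun z : Fin 2 => z = 0 ∨ z = 1) |>.2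
          ⟨Or.inl rfl, Or.inr rfl⟩ z with e | e
        · exact e
        · exact absurd e hne
      have hxl : x (Sum.inl (l, 0)) ≠ Sum.inl (l, 0) := by
        intro e
        rw [hx, mo_inl] at e
        exact hl (congrArg Prod.fst (Sum.inl_injective e))
      obtain ⟨k, hk'⟩ := (hs.1 (Sum.inl (l, 0)) (Sum.inl (l, 1)) hxl fun k => by
        rw [hx, pow_mo_inl, pow_mo_inl]
        simp).exists_nat_pow_eq
      rw [hx, pow_mo_inl] at hk'
      have hk'' := Sum.inl_injective hk'
      simp only [Prod.mk.injEq, zero_add] at hk''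
      obtain ⟨q, rfl⟩ := (hk k).1 hk''.1
      rw [hsum l L q ((hk L).2 dvd_rfl), h0, nsmul_zero] at hk''
      exact zero_ne_one hk''.2
    have hperi : ∀ k : ℕ, (π ^ k) i = i ↔ L ∣ k := pow_apply_eq_iff_dvd hi
    have hperj : ∀ k : ℕ, (π ^ k) j = j ↔ L ∣ k := fun k => (hper k).symm.trans (hperi k)
    have hj : π j ≠ j := fun e => hi (by simpa using (hper 1).2 (by simpa using e))
    have hi1 := hshift i hi hperi
    have hj1 := hshift j hj hperj
    refine hlift i j (hs.1 _ _ ?_ fun k => ?_)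
    · intro e
      rw [hx, mo_inl] at e
      exact hi (congrArg Prod.fst (Sum.inl_injective e))
    · rw [hx, pow_mo_inl, pow_mo_inl]
      simp only [Sum.inl.injEq, Prod.mk.injEq, zero_add]
      constructor <;> rintro ⟨h, h'⟩
      · obtain ⟨q, rfl⟩ := (hperi k).1 h
        rw [hsum i L q hLi, hi1] at h'
        exact ⟨(hperj _).2 (dvd_mul_right L q), by rw [hsum j L q hLj, hj1, h']⟩
      · obtain ⟨q, rfl⟩ := (hperj k).1 h
        rw [hsum j L q hLj, hj1] at h'
        exact ⟨(hperi _).2 (dvd_mul_right L q), by rw [hsum i L q hLi, hi1, h']⟩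
  · by_contra hcon
    push Not at hcon
    -- among three fixed pairs two behave alike
    have hfix : ∀ i, π i = i → b i = 0 → ∀ y, x (Sum.inl (i, y)) = Sum.inl (i, y) :=
      fun i hi hb y => by rw [hx, mo_inl, hi, hb]; simp
    have htwo : ∀ u v, u ≠ v → π u = u → π v = v → b u = b v → False := by
      intro u v huv hu hv e
      rcases Fin.forall_fin_two (p := fun z : Fin 2 => z = 0 ∨ z = 1) |>.2
          ⟨Or.inl rfl, Or.inr rfl⟩ (b u) with e0 | e1
      · rcases hs.2 _ _ (Sum.inl (v, (0 : ZMod 2))) (hfix u hu e0 0) (hfix u hu e0 1)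
          (hfix v hv (e ▸ e0) 0) with f | f | f
        · exact zero_ne_one (congrArg Prod.snd (Sum.inl_injective f))
        · exact huv (congrArg Prod.fst (Sum.inl_injective f))
        · exact huv (congrArg Prod.fst (Sum.inl_injective f))
      · have hu' : ∀ k : ℕ, (π ^ k) u = u := Perm.pow_apply_eq_self_of_apply_eq_self hu
        have hv' : ∀ k : ℕ, (π ^ k) v = v := Perm.pow_apply_eq_self_of_apply_eq_self hv
        have hsc := hs.1 (Sum.inl (u, 0)) (Sum.inl (v, 0)) (by
          intro f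
          rw [hx, mo_inl] at f
          have := congrArg Prod.snd (Sum.inl_injective f)
          simp [show b u = 1 from e1] at this) fun k => by
            rw [hx, pow_mo_inl, pow_mo_inl]
            simp only [Sum.inl.injEq, Prod.mk.injEq, zero_add, hu', hv', true_and]
            rw [e]
        obtain ⟨k, hk⟩ := hlift u v hsc
        rw [Perm.zpow_apply_eq_self_of_apply_eq_self hu] at hk
        exact huv hk
    obtain ⟨h1, h2, h3⟩ := hcon
    have two : ∀ z z' z'' : ZMod 2, z = z' ∨ z = z'' ∨ z' = z'' := by decide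
    rcases two (b i) (b j) (b l) with e | e | e
    exacts [htwo i j h1 hi hj e, htwo i l h2 hi hl e, htwo j l h3 hj hl e]

end Induction

theorem sep_transport {Ω Ω' : Type*} (e : Ω ≃ Ω') {x : Perm Ω} (h : Sep (e.permCongr x)) :
    Sep x := by
  have hpow : ∀ (k : ℕ) a, ((e.permCongr x) ^ k) (e a) = e ((x ^ k) a) := by
    intro k
    induction k with
    | zero => intro a; rfl
    | succ k ih =>
      intro a
      rw [pow_succ, Perm.mul_apply, Equiv.permCongr_apply, Equiv.symm_apply_apply, ih,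
        pow_succ, Perm.mul_apply]
  refine ⟨fun a b ha hper => ?_, fun a b c ha hb hc => ?_⟩
  · obtain ⟨k, hk⟩ := h.1 (e a) (e b) (by simpa using ha) (fun k => by simp [hpow, hper k])
    refine ⟨k, e.injective ?_⟩
    have hz : (e.permCongr x) ^ k = e.permCongr (x ^ k) := (map_zpow e.permCongrHom x k).symm
    rw [hz] at hk
    simpa using hk
  · simpa using h.2 (e a) (e b) (e c) (by simp [ha]) (by simp [hb]) (by simp [hc])

theorem unique_of_sep (n : ℕ) : ∀ (Ω : Type) [Fintype Ω] [DecidableEq Ω], Fintype.card Ω = n →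
    ∀ x : Perm Ω, Sep x → ∀ P Q : Sylow 2 (Perm Ω), x ∈ P → x ∈ Q → P = Q := by
  induction n using Nat.strong_induction_on with
  | _ n ih =>
  intro Ω _ _ hn x hs P Q hxP hxQ
  rcases le_or_gt n 1 with h1 | h1
  · have : Subsingleton Ω := Fintype.card_le_one_iff_subsingleton.1 (hn ▸ h1)
    exact Sylow.ext (Subgroup.ext fun g => by
      rw [Subsingleton.elim g 1]; simp only [one_mem])
  obtain ⟨e₀⟩ := exists_equiv_model 2 Ω
  obtain ⟨P₀⟩ := (inferInstance : Nonempty (Sylow 2 (Perm (Fin (Nat.card Ω / 2)))))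
  have hR : Fintype.card (Fin (Nat.card Ω % 2)) < 2 := by
    rw [Fintype.card_fin]; exact Nat.mod_lt _ two_pos
  obtain ⟨e₁, he₁⟩ := exists_equiv_wr hR e₀ P₀ P
  obtain ⟨e₂, he₂⟩ := exists_equiv_wr hR e₀ P₀ Q
  set T : Perm (Fin (Nat.card Ω / 2) × ZMod 2 ⊕ Fin (Nat.card Ω % 2)) := mo 1 1 1 with hTdef
  have hTz : ∀ w ∈ wr (R := Fin (Nat.card Ω % 2)) (P₀ : Subgroup (Perm (Fin (Nat.card Ω / 2)))),
      Commute w T := by
    rintro _ ⟨π, -, b, rfl⟩
    rw [commute_iff_eq, hTdef, mo_one_one_mul, mo_one_one_mul, mul_one, one_mul]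
    refine congrArg _ (funext fun i => ?_)
    simp [add_comm]
  have hT2 : ∀ w, T (T w) = w := by
    rintro (⟨i, y⟩ | r)
    · simp [hTdef, add_assoc, CharTwo.add_self_eq_zero]
    · rfl
  have hT1 : ∀ u v, T u = u → T v = v → u = v := by
    rintro (⟨i, y⟩ | r) (⟨j, z⟩ | r') hu hv <;> simp [hTdef] at hu hv ⊢
    exact Fin.ext (by have := r.isLt; have := r'.isLt; omega)
  have hTT : e₁.permCongr T = e₂.permCongr T := by
    have hprop : ∀ (e : Fin (Nat.card Ω / 2) × ZMod 2 ⊕ Fin (Nat.card Ω % 2) ≃ Ω) (S : Sylow 2 (Perm Ω)),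
        (S : Subgroup (Perm Ω)) =
          (wr (P₀ : Subgroup (Perm (Fin (Nat.card Ω / 2))))).map e.permCongrHom.toMonoidHom →
        x ∈ S → Commute x (e.permCongr T) ∧ (∀ v, e.permCongr T (e.permCongr T v) = v) ∧
          ∀ u v, e.permCongr T u = u → e.permCongr T v = v → u = v := by
      intro e S hS hxS
      have hx' : x ∈ (S : Subgroup (Perm Ω)) := hxS
      rw [hS] at hx'
      obtain ⟨w, hw, rfl⟩ := hx'
      refine ⟨(hTz w hw).map e.permCongrHom.toMonoidHom, fun v => ?_, fun u v hu hv => ?_⟩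
      · simp [hT2]
      · have hu' : T (e.symm u) = e.symm u := by
          simpa [Equiv.eq_symm_apply] using hu
        have hv' : T (e.symm v) = e.symm v := by
          simpa [Equiv.eq_symm_apply] using hv
        exact e.symm.injective (hT1 _ _ hu' hv')
    obtain ⟨a1, a2, a3⟩ := hprop e₁ P he₁ hxP
    obtain ⟨b1, b2, b3⟩ := hprop e₂ Q he₂ hxQ
    exact involution_unique hs a1 a2 a3 b1 b2 b3
  -- the change of coordinates is monomial
  set g : Perm (Fin (Nat.card Ω / 2) × ZMod 2 ⊕ Fin (Nat.card Ω % 2)) := e₂.trans e₁.symm with hg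
  have hgT : ∀ w, g (T w) = T (g w) := by
    intro w
    apply e₁.injective
    have h := Equiv.ext_iff.1 hTT (e₂ w)
    simp only [Equiv.permCongr_apply, Equiv.symm_apply_apply] at h
    simp [hg, ← h]
  have hginr : ∀ r, ∃ r', g (Sum.inr r) = Sum.inr r' := by
    intro r
    rcases h : g (Sum.inr r) with ⟨i, y⟩ | r'
    · have := hgT (Sum.inr r)
      rw [h, show T (Sum.inr r) = Sum.inr r from rfl, h] at this
      simp [hTdef] at this
    · exact ⟨r', rfl⟩
  have hginl : ∀ i, ∃ i' c, ∀ y, g (Sum.inl (i, y)) = Sum.inl (i', y + c) := by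
    intro i
    rcases h : g (Sum.inl (i, 0)) with ⟨i', c⟩ | r
    · refine ⟨i', c, fun y => ?_⟩
      rcases Fin.forall_fin_two (p := fun z : Fin 2 => z = 0 ∨ z = 1) |>.2
          ⟨Or.inl rfl, Or.inr rfl⟩ y with e | e
      · rw [show y = 0 from e, h, zero_add]
      · have := hgT (Sum.inl (i, 0))
        rw [h] at this
        simp [hTdef] at this
        rw [show y = 1 from e, this, add_comm]
    · exfalso
      have := hgT (Sum.inl (i, 0))
      rw [h, show T (Sum.inr r) = Sum.inr r from rfl, ← h] at this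
      have := g.injective this
      simp [hTdef] at this
  choose s c hsc using hginl
  have hsinj : Function.Injective s := by
    intro i j e
    have h1 := hsc i 0
    have h2 := hsc j (c i - c j)
    rw [zero_add] at h1
    rw [sub_add_cancel, ← e, ← h1] at h2
    exact (congrArg Prod.fst (Sum.inl_injective (g.injective h2))).symm
  set σ : Perm (Fin (Nat.card Ω / 2)) := Equiv.ofBijective s hsinj.bijective_of_finite with hσ
  have hgmo : g = mo σ 1 c := by
    refine ext_inl (fun i y => by simp [hσ, hsc]) fun r => ?_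
    obtain ⟨r', hr'⟩ := hginr r
    rw [hr', mo_inr, show r' = r from Fin.ext (by have := r.isLt; have := r'.isLt; omega)]
  let P₁ : Sylow 2 (Perm (Fin (Nat.card Ω / 2))) := σ • P₀
  have hQ' : (Q : Subgroup (Perm Ω)) =
      (wr (P₁ : Subgroup (Perm (Fin (Nat.card Ω / 2))))).map e₁.permCongrHom.toMonoidHom := by
    have hP₁ : (P₁ : Subgroup (Perm (Fin (Nat.card Ω / 2)))) =
        (P₀ : Subgroup (Perm (Fin (Nat.card Ω / 2)))).map (MulAut.conj σ).toMonoidHom := rfl
    rw [hP₁, ← map_conj_wr σ c, ← hgmo, Subgroup.map_map, he₂]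
    refine congrArg (fun f => Subgroup.map f (wr (P₀ : Subgroup (Perm (Fin (Nat.card Ω / 2)))))) ?_
    refine MonoidHom.ext fun w => Equiv.ext fun v => ?_
    simp [hg, Perm.mul_apply, Perm.inv_def]
  have hxP' : x ∈ (P : Subgroup (Perm Ω)) := hxP
  have hxQ' : x ∈ (Q : Subgroup (Perm Ω)) := hxQ
  rw [he₁] at hxP'
  rw [hQ'] at hxQ'
  obtain ⟨_, ⟨π, hπ, b, rfl⟩, rfl⟩ := hxP'
  obtain ⟨_, ⟨π', hπ', b', rfl⟩, hx2⟩ := hxQ'
  obtain ⟨rfl, -⟩ := mo_inj (e₁.permCongrHom.injective hx2)
  have hsπ : Sep π' := sep_quotient (sep_transport e₁ hs)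
  have hlt : Nat.card Ω / 2 < n := by
    rw [Nat.card_eq_fintype_card, hn]; omega
  have heq := ih _ hlt _ (Fintype.card_fin _) π' hsπ P₀ P₁ hπ hπ'
  refine Sylow.ext ?_
  rw [he₁, hQ', ← heq]

/-- Let n ≥ 2 and let x be an element of 2-power order of the symmetric group of degree n. Then x lies in exactly one Sylow 2-subgroup if and only if x has at most two fixed points and the nontrivial cycles of x have pairwise different lengths. -/
theorem result (n : ℕ) (hn : 2 ≤ n)
    (x : Equiv.Perm (Fin n)) (hx : ∃ k : ℕ, orderOf x = 2 ^ k) :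
    (∃! P : Sylow 2 (Equiv.Perm (Fin n)), x ∈ P) ↔ (n ≤ x.support.card + 2 ∧ x.cycleType.Nodup) := by
  obtain ⟨m, hm⟩ := hx
  have hiff := sep_iff x
  rw [Fintype.card_fin] at hiff
  rw [← hiff]
  constructor
  · rintro ⟨P, -, hP⟩
    exact sep_of_unique hm fun P' Q' hP' hQ' => (hP P' hP').trans (hP Q' hQ').symm
  · intro hs
    obtain ⟨P, hP⟩ := (IsPGroup.iff_card.2 ⟨m, by rw [Nat.card_zpowers, hm]⟩ :
      IsPGroup 2 (Subgroup.zpowers x)).exists_le_sylow
    exact ⟨P, hP (Subgroup.mem_zpowers x), fun Q hQ =>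
      unique_of_sep n (Fin n) (Fintype.card_fin n) x hs Q P hQ (hP (Subgroup.mem_zpowers x))⟩

end Cfsg.Agent.S4349
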