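import Cfsg.Statements.S4369
import Cfsg.Agent.MinNonCA98.Assembly
import Cfsg.Agent.MinNonCA98.Radical
import Cfsg.Agent.MinNonCA98.Perfect.Main
import Cfsg.Agent.MinNonCA98.OddCenter
import Cfsg.Agent.MinNonCA98.EndD
import Cfsg.Agent.MinNonCA98.FieldStep

set_option autoImplicit false
open Cfsg

namespace Cfsg.Agent.S4369

/-- Call a group a CA-group when the centralizer of every non-central element is abelian. A finite group G is non-solvable, is not a CA-group, and has all its proper subgroups CA-groups, if and only if G is isomorphic to PSL(2, q) where q > 5 is a prime with 16 not dividing q² - 1, or q = 3ᵖ or q = 5ᵖ for an odd prime p. -/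
theorem result {G : Type*} [Group G] [Finite G] :
    (¬ Group.IsSolvable G ∧ ¬ (∀ x : G, x ∉ Subgroup.center G → IsMulCommutative (Subgroup.centralizer ({x} : Set G))) ∧ ∀ H : Subgroup G, H ≠ ⊤ → (∀ x : H, x ∉ Subgroup.center H → IsMulCommutative (Subgroup.centralizer ({x} : Set H)))) ↔
      ∃ (F : Type) (_ : Field F) (_ : Fintype F), Nonempty (G ≃* Matrix.ProjectiveSpecialLinearGroup (Fin 2) F) ∧
        (((Fintype.card F).Prime ∧ 5 < Fintype.card F ∧ ¬ 16 ∣ Fintype.card F ^ 2 - 1) ∨
         (∃ p : ℕ, p.Prime ∧ p ≠ 2 ∧ (Fintype.card F = 3 ^ p ∨ Fintype.card F = 5 ^ p))) :=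
  CfsgLib.MinNonCA98.minNonCA_iff.trans
    (CfsgLib.MinNonCA98.classification_of CfsgLib.MinNonCA98.radicalStep
      CfsgLib.MinNonCA98.perfectStep CfsgLib.MinNonCA98.oddCenterStep
      CfsgLib.MinNonCA98.endStep CfsgLib.MinNonCA98.fieldStep)

end Cfsg.Agent.S4369
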