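import Mathlib
import Cfsg.Statements.S4394
import Cfsg.Agent.PLengthExp.SchmidtSylow
import Cfsg.Agent.SolvableStructure.Schmidt

set_option autoImplicit false
open Cfsg
open scoped Pointwise

namespace Cfsg.Agent.S4394

open CfsgLib.PLengthExp in
/-- The normal Sylow subgroup of a minimal non-nilpotent group has an automorphism fixing all proper
invariant subgroups. -/
theorem exists_fixesProper {X : Type*} [Group X] [Finite X] {p : ℕ} [Fact p.Prime]
    (hX : Cfsg.IsMinimalNonNilpotent X) (P : Sylow p X) (hPn : (P : Subgroup X).Normal)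
    (hP1 : (P : Subgroup X) ≠ ⊥) :
    ∃ (r : ℕ) (σ : MulAut (P : Subgroup X)), r.Prime ∧ r ≠ p ∧ σ ^ r = 1 ∧ σ ≠ 1 ∧ FixesProper σ := by
  obtain ⟨r, q, hr, hq, hrq, R, Q, hRc, hQn, hsup, hmov⟩ := CfsgLib.Schmidt.exists_structure hX
  haveI := Fact.mk hr
  haveI := Fact.mk hq
  haveI := hPn
  haveI := hQn
  have hrp : r ≠ p := by
    intro h
    subst h
    have := Sylow.unique_of_normal P hPn
    have hPR : (R : Subgroup X) = P := by rw [Subsingleton.elim R P]
    refine hmov fun x hx => Subgroup.mem_centralizer_iff.2 fun y hy => ?_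
    exact (Subgroup.commute_of_normal_of_disjoint _ _ hPn hQn (IsPGroup.disjoint_of_ne r q hrq _ _ P.2 Q.2)
      x y (hPR ▸ hx) hy).eq.symm
  obtain rfl : p = q := by
    by_contra hpq
    refine hP1 ((Subgroup.eq_bot_iff_forall _).2 fun x hx => ?_)
    have hxR : x ∈ (Q : Subgroup X) := by
      obtain ⟨y, hy, z, hz, rfl⟩ : x ∈ ((R : Subgroup X) : Set X) * ((Q : Subgroup X) : Set X) := by
        rw [← Subgroup.mul_normal, hsup]; exact Subgroup.mem_top x
      obtain ⟨i, hi⟩ := R.2 ⟨y, hy⟩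
      obtain ⟨j, hj⟩ := P.2 ⟨_, hx⟩
      have hi' : (y : X ⧸ (Q : Subgroup X)) ^ r ^ i = 1 := by
        rw [← QuotientGroup.mk_pow, show y ^ r ^ i = 1 from congrArg Subtype.val hi, QuotientGroup.mk_one]
      have hj' : (y : X ⧸ (Q : Subgroup X)) ^ p ^ j = 1 := by
        have h1 : ((y * z : X) : X ⧸ (Q : Subgroup X)) = y := by
          rw [QuotientGroup.mk_mul, (QuotientGroup.eq_one_iff z).2 hz, mul_one]
        rw [← h1, ← QuotientGroup.mk_pow, show (y * z) ^ p ^ j = 1 from congrArg Subtype.val hj,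
          QuotientGroup.mk_one]
      have h1 : (y : X ⧸ (Q : Subgroup X)) = 1 := orderOf_eq_one_iff.1 (Nat.eq_one_of_dvd_coprimes
        (Nat.Coprime.pow i j ((Nat.coprime_primes hr Fact.out).2 hrp))
        (orderOf_dvd_of_pow_eq_one hi') (orderOf_dvd_of_pow_eq_one hj'))
      exact mul_mem ((QuotientGroup.eq_one_iff y).1 h1) hz
    exact (Subgroup.eq_bot_iff_forall _).1 (IsPGroup.disjoint_of_ne p q hpq _ _ P.2 Q.2).eq_bot x ⟨hx, hxR⟩
  have := Sylow.unique_of_normal P hPn
  obtain rfl : Q = P := Subsingleton.elim _ _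
  have hdisj : (R : Subgroup X) ⊓ Q = ⊥ := (IsPGroup.disjoint_of_ne r p hrp _ _ R.2 Q.2).eq_bot
  obtain ⟨⟨g, hgR⟩, hg⟩ := hRc.exists_generator
  have hRg : (R : Subgroup X) = Subgroup.zpowers g := by
    refine le_antisymm (fun x hx => ?_) (Subgroup.zpowers_le.2 hgR)
    obtain ⟨k, hk⟩ := hg ⟨x, hx⟩
    exact ⟨k, congrArg Subtype.val hk⟩
  obtain ⟨i, hi⟩ := R.2 ⟨g, hgR⟩
  have hgord : g ^ r ^ i = 1 := congrArg Subtype.val hi
  have hcomm : ∀ (h : X) (Y : Subgroup X), h ∈ (R : Subgroup X) → Y ≤ (Q : Subgroup X) →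
      Subgroup.zpowers h ⊔ Y ≠ ⊤ → ∀ y ∈ Y, Commute h y := by
    intro h Y hh hY hne y hy
    haveI := hX.2 _ hne
    obtain ⟨a, ha⟩ := IsPGroup.iff_orderOf.1 R.2 ⟨h, hh⟩
    obtain ⟨b, hb⟩ := IsPGroup.iff_orderOf.1 Q.2 ⟨y, hY hy⟩
    rw [Subgroup.orderOf_mk] at ha hb
    have h1 := CfsgLib.Schmidt.commute_of_nilpotent' (G := (Subgroup.zpowers h ⊔ Y : Subgroup X))
      (x := ⟨h, Subgroup.mem_sup_left (Subgroup.mem_zpowers h)⟩) (y := ⟨y, Subgroup.mem_sup_right hy⟩)
      hr (by rw [Subgroup.orderOf_mk, ha]) (by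
        rw [Subgroup.orderOf_mk, hb]
        exact ((Nat.coprime_primes Fact.out hr).2 (Ne.symm hrp)).pow_left _)
    exact congrArg Subtype.val h1
  let σ : MulAut (Q : Subgroup X) := MulAut.conjNormal g
  have hσv : ∀ y : (Q : Subgroup X), ((σ y : (Q : Subgroup X)) : X) = g * y * g⁻¹ := fun y =>
    MulAut.conjNormal_apply g y
  refine ⟨r, σ, hr, hrp, ?_, ?_, ?_⟩
  · have hne : Subgroup.zpowers (g ^ r) ⊔ (Q : Subgroup X) ≠ ⊤ := by
      intro h
      have hm : g ∈ (Subgroup.zpowers (g ^ r) : Set X) * ((Q : Subgroup X) : Set X) := by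
        rw [← Subgroup.mul_normal, h]; exact Subgroup.mem_top g
      obtain ⟨_, ⟨k, rfl⟩, z, hz, hkz⟩ := hm
      have hzR : z ∈ (R : Subgroup X) := by
        rw [show z = ((g ^ r) ^ k)⁻¹ * g from eq_inv_mul_of_mul_eq hkz]
        exact mul_mem (inv_mem (zpow_mem (pow_mem hgR r) k)) hgR
      have hz1 : z = 1 := (Subgroup.eq_bot_iff_forall _).1 hdisj z ⟨hzR, hz⟩
      rw [hz1] at hkz
      simp only [mul_one] at hkz
      have h1 : g ^ ((r : ℤ) * k - 1) = 1 := by
        rw [zpow_sub_one, zpow_mul, zpow_natCast, hkz, mul_inv_cancel]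
      obtain ⟨a, ha⟩ := IsPGroup.iff_orderOf.1 R.2 ⟨g, hgR⟩
      rw [Subgroup.orderOf_mk] at ha
      rcases Nat.eq_zero_or_pos a with rfl | ha0
      · rw [pow_zero, orderOf_eq_one_iff] at ha
        refine hmov ?_
        rw [hRg, ha, Subgroup.zpowers_one_eq_bot]
        exact bot_le
      · have h2 : (orderOf g : ℤ) ∣ (r : ℤ) * k - 1 := orderOf_dvd_iff_zpow_eq_one.2 h1
        rw [ha] at h2
        have h3 : (r : ℤ) ∣ (r : ℤ) * k - 1 :=
          (Int.natCast_dvd_natCast.2 (dvd_pow_self r ha0.ne')).trans h2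
        have h4 : (r : ℤ) ∣ 1 := by
          have := dvd_sub (dvd_mul_right (r : ℤ) k) h3
          rwa [sub_sub_cancel] at this
        exact hr.one_lt.ne' (Nat.dvd_one.1 (by exact_mod_cast h4))
    refine MulEquiv.ext fun y => Subtype.ext ?_
    show (((MulAut.conjNormal g : MulAut (Q : Subgroup X)) ^ r) y : X) = y
    rw [← map_pow, MulAut.conjNormal_apply, (hcomm (g ^ r) _ (pow_mem hgR r) le_rfl hne y y.2).eq,
      mul_inv_cancel_right]
  · intro h
    refine hmov ?_
    rw [hRg, Subgroup.zpowers_le]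
    refine Subgroup.mem_centralizer_iff.2 fun y hy => ?_
    have h1 := congrArg Subtype.val (DFunLike.congr_fun h ⟨y, hy⟩)
    rw [hσv] at h1
    exact (mul_inv_eq_iff_eq_mul.1 h1).symm
  · intro Y hY hinv y hy
    set Yx := Y.map (Q : Subgroup X).subtype with hYx
    have hn : Subgroup.zpowers g ≤ Subgroup.normalizer (Yx : Set X) := by
      rw [Subgroup.zpowers_le, Subgroup.mem_normalizer_iff_map_conj_eq]
      refine Subgroup.eq_of_le_of_card_ge ?_
        (Subgroup.card_map_of_injective (f := (MulAut.conj g).toMonoidHom) (MulAut.conj g).injective).ge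
      rintro _ ⟨_, ⟨z, hz, rfl⟩, rfl⟩
      exact ⟨σ z, hinv z hz, hσv z⟩
    have hne : Subgroup.zpowers g ⊔ Yx ≠ ⊤ := by
      intro h
      refine hY ((Subgroup.eq_top_iff' _).2 fun x => ?_)
      have hm : (x : X) ∈ (Subgroup.zpowers g : Set X) * (Yx : Set X) := by
        rw [← Subgroup.coe_mul_of_left_le_normalizer_right _ _ hn, h]; exact Subgroup.mem_top _
      obtain ⟨_, ⟨k, rfl⟩, z, hz, hkz⟩ := hm
      have hk1 : g ^ k = 1 := by
        refine (Subgroup.eq_bot_iff_forall _).1 hdisj _ ⟨zpow_mem hgR k, ?_⟩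
        show g ^ k ∈ (Q : Subgroup X)
        rw [show g ^ k = (x : X) * z⁻¹ from eq_mul_inv_of_mul_eq hkz]
        exact mul_mem x.2 (inv_mem (Subgroup.map_subtype_le Y hz))
      obtain ⟨w, hw, rfl⟩ := hz
      simp only [hk1, one_mul] at hkz
      exact (Subtype.ext hkz : w = x) ▸ hw
    refine Subtype.ext ?_
    rw [hσv, (hcomm g Yx hgR (Subgroup.map_subtype_le Y) hne y ⟨y, hy, rfl⟩).eq, mul_inv_cancel_right]

/-- Let X be a finite minimal non-nilpotent group (not nilpotent, every proper subgroup nilpotent) with a nontrivial normal Sylow p-subgroup P. If G is a finite p-solvable group whose Sylow p-subgroups are isomorphic to P, then G has p-length at most 1. -/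
theorem result {G X : Type*} [Group G] [Finite G] [Group X] [Finite X] (p : ℕ) [Fact p.Prime]
    (hX : Cfsg.IsMinimalNonNilpotent X) (P : Sylow p X) (hPn : (P : Subgroup X).Normal) (hP1 : (P : Subgroup X) ≠ ⊥)
    (hG : Cfsg.IsPSolvable p G) (Q : Sylow p G) (hQ : Nonempty (↥(Q : Subgroup G) ≃* ↥(P : Subgroup X))) : Cfsg.PLengthLE p 1 G := by
  obtain ⟨r, σ, hr, hrp, hσ, hσ1, hfix⟩ := exists_fixesProper hX P hPn hP1
  obtain ⟨e⟩ := hQ
  refine CfsgLib.Constrained.pLengthLE_succ_of_quotient (k := 0) ?_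
  set O := pPrimeCore p G with hO
  let T := Q.mapSurjective (QuotientGroup.mk'_surjective O)
  let f : (Q : Subgroup G) →* (T : Subgroup (G ⧸ O)) :=
    MonoidHom.mk' (fun x => ⟨((x : G) : G ⧸ O), x, x.2, rfl⟩) fun a b => Subtype.ext rfl
  have hf : Function.Bijective f := by
    constructor
    · rw [injective_iff_map_eq_one]
      intro x hx
      have h1 : (x : G) ∈ O := (QuotientGroup.eq_one_iff _).1 (congrArg Subtype.val hx)
      obtain ⟨i, hi⟩ := IsPGroup.iff_orderOf.1 Q.2 x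
      refine orderOf_eq_one_iff.1 ?_
      rw [hi]
      rcases Nat.eq_zero_or_pos i with rfl | hi0
      · exact pow_zero p
      · exact absurd ((dvd_pow_self p hi0.ne').trans (hi ▸ (Subgroup.orderOf_coe x) ▸
          Subgroup.orderOf_dvd_natCard O h1)) CfsgLib.Constrained.pPrimeCore_not_dvd
    · rintro ⟨_, x, hx, rfl⟩
      exact ⟨⟨x, hx⟩, rfl⟩
  let E : (T : Subgroup (G ⧸ O)) ≃* (P : Subgroup X) := (MulEquiv.ofBijective f hf).symm.trans e
  let σ' : MulAut (T : Subgroup (G ⧸ O)) := (E.trans σ).trans E.symm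
  have hσ'v : ∀ (i : ℕ) x, (σ' ^ i) x = E.symm ((σ ^ i) (E x)) := by
    intro i x
    induction i with
    | zero => simp
    | succ i ih =>
      rw [pow_succ', pow_succ', MulAut.mul_apply, MulAut.mul_apply, ih]
      show E.symm (σ (E (E.symm _))) = _
      rw [E.apply_symm_apply]
  have hle : pCore p (G ⧸ O) ≤ (T : Subgroup (G ⧸ O)) := by
    obtain ⟨T', hT'⟩ := (CfsgLib.Constrained.isPGroup_pCore (p := p) (G := G ⧸ O)).exists_le_sylow
    obtain ⟨y, hy⟩ := MulAction.exists_smul_eq (G ⧸ O) T' T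
    intro x hx
    show x ∈ (T : Subgroup (G ⧸ O))
    rw [← hy, Sylow.coe_subgroup_smul]
    exact Subgroup.mem_pointwise_smul_iff_inv_smul_mem.2
      (hT' ((inferInstance : (pCore p (G ⧸ O)).Normal).conj_mem' x hx y))
  have hmain := CfsgLib.PLengthExp.le_pCore_of_fixesProper hr hrp
    (CfsgLib.Constrained.IsPSolvable.quotient hG O) CfsgLib.Constrained.pPrimeCore_quotient_pPrimeCore
    (T : Subgroup (G ⧸ O)) T.2 hle (σ := σ')
    (MulEquiv.ext fun x => by rw [hσ'v, hσ]; exact E.symm_apply_apply x)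
    (fun h => hσ1 (MulEquiv.ext fun y => by
      have h1 := DFunLike.congr_fun h (E.symm y)
      rw [← pow_one σ', hσ'v, pow_one, E.apply_symm_apply, MulAut.one_apply] at h1
      exact E.symm.injective h1))
    (by
      intro Y hY hinv y hy
      have h1 := hfix (Y.map E.toMonoidHom) (fun h => hY (Subgroup.map_injective (f := E.toMonoidHom) E.injective
        (h.trans (Subgroup.map_top_of_surjective _ E.surjective).symm))) (by
          rintro _ ⟨z, hz, rfl⟩
          refine ⟨σ' z, hinv z hz, ?_⟩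
          show E (E.symm (σ (E z))) = σ (E z)
          rw [E.apply_symm_apply]) (E y) ⟨y, hy, rfl⟩
      show E.symm (σ (E y)) = y
      rw [h1, E.symm_apply_apply])
  rw [CfsgLib.Constrained.pLengthLE_zero_iff]
  intro hdvd
  obtain ⟨y, hy⟩ := exists_prime_orderOf_dvd_card' p hdvd
  obtain ⟨S, hS⟩ := (IsPGroup.of_card (p := p) (n := 1) (show Nat.card (Subgroup.zpowers y) = p ^ 1 by
    rw [Nat.card_zpowers, hy, pow_one])).exists_le_sylow
  let U := Q.mapSurjective (QuotientGroup.mk'_surjective (pPrimePCore p G))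
  obtain ⟨c, hc⟩ := MulAction.exists_smul_eq (G ⧸ pPrimePCore p G) U S
  have hU : (U : Subgroup (G ⧸ pPrimePCore p G)) = ⊥ := by
    rw [Sylow.coe_mapSurjective, Subgroup.map_eq_bot_iff, QuotientGroup.ker_mk', pPrimePCore]
    exact Subgroup.map_le_iff_le_comap.1 hmain
  have h1 : y ∈ (S : Subgroup (G ⧸ pPrimePCore p G)) := hS (Subgroup.mem_zpowers y)
  rw [← hc, Sylow.coe_subgroup_smul, hU, Subgroup.smul_bot, Subgroup.mem_bot] at h1
  rw [h1, orderOf_one] at hy
  exact (Fact.out : p.Prime).ne_one hy.symm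

end Cfsg.Agent.S4394
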