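import Cfsg.Statements.S4395
import Cfsg.Agent.SchmidtUniversal.Standard
import Cfsg.Agent.Transfer.NormalPComplement

set_option autoImplicit false
set_option linter.style.haveILetI false
universe u
open Cfsg

namespace Cfsg.Agent.S4395

/-- Let p ≠ q be primes, r ≥ 1, a the multiplicative order of p modulo q, and a₀ = a when a is odd, a₀ = 3a/2 when a is even. Call a finite group minimal non-p-nilpotent when it has no normal p-complement but every proper subgroup has one. Then there is a minimal non-p-nilpotent group G₀ of order p^a₀ · q^r such that every minimal non-p-nilpotent group of order p^t · q^r (any t) is a quotient of G₀ by a central subgroup. -/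
theorem result (p q r : ℕ) [Fact p.Prime] [Fact q.Prime] (hpq : p ≠ q) (hr : 1 ≤ r) (a a₀ : ℕ)
    (ha : a = orderOf (p : ZMod q)) (ha₀ : a₀ = if a % 2 = 1 then a else 3 * a / 2) :
    ∃ (G₀ : Type u) (_ : Group G₀) (_ : Finite G₀),
      (¬ Cfsg.HasNormalPComplement p G₀ ∧ ∀ K : Subgroup G₀, K ≠ ⊤ → Cfsg.HasNormalPComplement p ↥K) ∧ Nat.card G₀ = p ^ a₀ * q ^ r ∧
      ∀ (X : Type u) [Group X] [Finite X], (¬ Cfsg.HasNormalPComplement p X ∧ ∀ K : Subgroup X, K ≠ ⊤ → Cfsg.HasNormalPComplement p ↥K) →
        (∃ t : ℕ, Nat.card X = p ^ t * q ^ r) → ∃ φ : G₀ →* X, Function.Surjective φ ∧ φ.ker ≤ Subgroup.center G₀ := by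
  obtain ⟨F, _, _, _, ζ, h⟩ := CfsgLib.SchmidtUniversal.exists_rootData.{u} p q a hpq ha
  obtain ⟨P₀, _, _, D₀, hP₀⟩ := CfsgLib.SchmidtUniversal.exists_standard h
  rw [CfsgLib.SchmidtUniversal.add_halfExp] at hP₀
  rw [← ha₀] at hP₀
  haveI : NeZero (q ^ r) := ⟨pow_ne_zero _ (Fact.out : q.Prime).ne_zero⟩
  have hτr : D₀.τ ^ (q ^ r) = 1 := by
    obtain ⟨c, hc⟩ : q ∣ q ^ r := dvd_pow_self q (by omega)
    rw [hc, pow_mul, D₀.pow_q, one_pow]
  let φC : Multiplicative (ZMod (q ^ r)) →* MulAut P₀ :=
    MonoidHom.mk' (fun k => D₀.τ ^ k.toAdd.val) fun k l => by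
      rw [← pow_add, toAdd_mul, ZMod.val_add]
      exact (pow_eq_pow_mod _ hτr).symm
  let G₀ := P₀ ⋊[φC] Multiplicative (ZMod (q ^ r))
  haveI : Finite G₀ := Finite.of_equiv _ (SemidirectProduct.equivProd (φ := φC)).symm
  have hcard : Nat.card G₀ = p ^ a₀ * q ^ r := by
    rw [Nat.card_congr (SemidirectProduct.equivProd (φ := φC)), Nat.card_prod, hP₀,
      Nat.card_congr Multiplicative.toAdd, Nat.card_zmod]
  have hp' : p.Prime := Fact.out
  have hq' : q.Prime := Fact.out
  have hqp : Nat.Coprime q p := (Nat.coprime_primes hq' hp').2 (Ne.symm hpq)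
  obtain ⟨u₁, hu₁⟩ : ∃ u, D₀.f u ≠ 1 := by
    obtain ⟨u, hu⟩ := D₀.surj (Multiplicative.ofAdd 1)
    exact ⟨u, by rw [hu, Ne, ofAdd_eq_one]; exact one_ne_zero⟩
  have hmove : D₀.τ u₁ ≠ u₁ := by
    intro e
    have h1 := D₀.equiv u₁
    rw [e] at h1
    have h2 : (D₀.f u₁).toAdd ≠ 0 := fun e => hu₁ (Multiplicative.toAdd.injective e)
    exact h.prim.ne_one hq'.one_lt ((mul_eq_right₀ h2).1 h1.symm)
  have hnon : ¬ Cfsg.HasNormalPComplement p G₀ := by
    intro hcon
    obtain ⟨N, hNn, hNco, j, hNidx⟩ := CfsgLib.Transfer.hasNormalPComplement_iff_exists.1 hcon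
    haveI := hNn
    let x : G₀ := SemidirectProduct.inr (Multiplicative.ofAdd 1)
    have hxN : x ∈ N := by
      have hxo : (orderOf x).Coprime p := by
        refine Nat.Coprime.coprime_dvd_left ?_ (Nat.Coprime.pow_left r hqp)
        refine (orderOf_map_dvd _ _).trans ?_
        have := orderOf_dvd_natCard (Multiplicative.ofAdd (1 : ZMod (q ^ r)))
        rwa [Nat.card_congr Multiplicative.toAdd, Nat.card_zmod] at this
      have h1 : (x : G₀ ⧸ N) = 1 := by
        refine orderOf_eq_one_iff.1 (Nat.eq_one_of_dvd_coprimes (Nat.Coprime.pow_right j hxo)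
          (orderOf_map_dvd (QuotientGroup.mk' N) x) ?_)
        rw [← hNidx]; exact orderOf_dvd_natCard _
      exact (QuotientGroup.eq_one_iff x).1 h1
    apply hmove
    let i : P₀ →* G₀ := SemidirectProduct.inl
    have hxconj : x * i u₁ * x⁻¹ = i (D₀.τ u₁) := by
      show SemidirectProduct.inr _ * SemidirectProduct.inl u₁ * (SemidirectProduct.inr _)⁻¹ = _
      rw [← map_inv SemidirectProduct.inr, ← SemidirectProduct.inl_aut]
      show SemidirectProduct.inl ((D₀.τ ^ (Multiplicative.ofAdd (1 : ZMod (q ^ r))).toAdd.val) u₁) = _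
      rw [toAdd_ofAdd]
      haveI : Fact (1 < q ^ r) := ⟨Nat.one_lt_pow (by omega) hq'.one_lt⟩
      rw [ZMod.val_one, pow_one]
    have h2 : i (D₀.τ u₁ * u₁⁻¹) ∈ N := by
      rw [map_mul, map_inv, ← hxconj, show x * i u₁ * x⁻¹ * (i u₁)⁻¹ = x * (i u₁ * x⁻¹ * (i u₁)⁻¹) by group]
      exact mul_mem hxN (hNn.conj_mem _ (inv_mem hxN) _)
    obtain ⟨m, hm⟩ := D₀.isP (D₀.τ u₁ * u₁⁻¹)
    have h3 : orderOf (i (D₀.τ u₁ * u₁⁻¹)) = 1 := by
      refine Nat.eq_one_of_dvd_coprimes (Nat.Coprime.pow_right m hNco) ?_ ((orderOf_map_dvd i _).trans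
        (orderOf_dvd_of_pow_eq_one hm))
      exact (Subgroup.orderOf_mk _ h2).symm ▸ orderOf_dvd_natCard (⟨_, h2⟩ : N)
    rw [orderOf_eq_one_iff, ← map_one i] at h3
    exact mul_inv_eq_one.1 (SemidirectProduct.inl_injective h3)
  have hmin : ∀ K : Subgroup G₀, K ≠ ⊤ → Cfsg.HasNormalPComplement p ↥K := by
    intro K hK
    let i : P₀ →* G₀ := SemidirectProduct.inl
    by_cases hfull : K.map (SemidirectProduct.rightHom : G₀ →* _) = ⊤
    · obtain ⟨y, hyK, hy⟩ := (hfull ▸ Subgroup.mem_top (Multiplicative.ofAdd (1 : ZMod (q ^ r))) :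
        Multiplicative.ofAdd (1 : ZMod (q ^ r)) ∈ K.map SemidirectProduct.rightHom)
      haveI : Fact (1 < q ^ r) := ⟨Nat.one_lt_pow (by omega) hq'.one_lt⟩
      let R : Subgroup P₀ := K.comap i
      have hconj : ∀ u, y * i u * y⁻¹ = i (y.left * D₀.τ u * y.left⁻¹) := by
        intro u
        have hy' : y.right = Multiplicative.ofAdd 1 := hy
        have hφ : φC y.right = D₀.τ := by
          rw [hy']
          show D₀.τ ^ (1 : ZMod (q ^ r)).val = D₀.τ
          rw [ZMod.val_one, pow_one]
        conv_lhs => rw [← SemidirectProduct.inl_left_mul_inr_right y]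
        rw [← hφ]
        show _ = SemidirectProduct.inl _
        rw [map_mul, map_mul, map_inv SemidirectProduct.inl, SemidirectProduct.inl_aut,
          map_inv SemidirectProduct.inr, mul_inv_rev]
        simp only [mul_assoc]
        rfl
      have hR : ∀ u ∈ R, y.left * D₀.τ u * y.left⁻¹ ∈ R := fun u hu => by
        show i _ ∈ K
        rw [← hconj]
        exact mul_mem (mul_mem hyK hu) (inv_mem hyK)
      -- invariance up to the kernel
      let M : AddSubgroup F := Subgroup.toAddSubgroup' (R.map D₀.f)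
      rcases CfsgLib.SchmidtUniversal.addSubgroup_eq h M (by
          intro m hm
          obtain ⟨u, hu, hum⟩ := (show Multiplicative.ofAdd m ∈ R.map D₀.f from hm)
          refine ⟨_, hR u hu, Multiplicative.toAdd.injective ?_⟩
          show (D₀.f (y.left * D₀.τ u * y.left⁻¹)).toAdd = ζ * m
          rw [map_mul D₀.f, map_mul D₀.f, map_inv D₀.f, toAdd_mul, toAdd_mul, toAdd_inv, D₀.equiv, hum,
            toAdd_ofAdd]
          abel) with h0 | h0
      · -- `K` is abelian
        have hRker : ∀ u ∈ R, D₀.f u = 1 := by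
          intro u hu
          have h1 : (D₀.f u).toAdd ∈ M := ⟨u, hu, rfl⟩
          rw [h0, AddSubgroup.mem_bot] at h1
          exact Multiplicative.toAdd.injective h1
        have hcomm : ∀ u ∈ R, Commute y (i u) := by
          intro u hu
          have h1 := hconj u
          rw [D₀.fix u (hRker u hu), Subgroup.mem_center_iff.1 (D₀.central u (hRker u hu)) y.left,
            mul_inv_cancel_right] at h1
          exact mul_inv_eq_iff_eq_mul.1 h1
        have hdec : ∀ w ∈ K, ∃ (n : ℕ) (u : P₀), u ∈ R ∧ w = i u * y ^ n := by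
          intro w hw
          refine ⟨w.right.toAdd.val, (w * (y ^ w.right.toAdd.val)⁻¹).left, ?_, ?_⟩
          all_goals
            have hr0 : (w * (y ^ w.right.toAdd.val)⁻¹).right = 1 := by
              have h1 : SemidirectProduct.rightHom (w * (y ^ w.right.toAdd.val)⁻¹) = 1 := by
                rw [map_mul, map_inv, map_pow, hy, ← ofAdd_nsmul, nsmul_one, ZMod.natCast_zmod_val,
                  ofAdd_toAdd]
                exact mul_inv_cancel _
              exact h1
            have he : i (w * (y ^ w.right.toAdd.val)⁻¹).left = w * (y ^ w.right.toAdd.val)⁻¹ := by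
              conv_rhs => rw [← SemidirectProduct.inl_left_mul_inr_right (w * (y ^ w.right.toAdd.val)⁻¹), hr0,
                map_one, mul_one]
            first
              | (show i _ ∈ K
                 rw [he]
                 exact mul_mem hw (inv_mem (pow_mem hyK _)))
              | rw [he, inv_mul_cancel_right]
        haveI := CfsgLib.Schmidt.isNilpotent_of_isMulCommutative (G := K) ⟨⟨by
          rintro ⟨w, hw⟩ ⟨w', hw'⟩
          obtain ⟨n, u, hu, rfl⟩ := hdec w hw
          obtain ⟨n', u', hu', rfl⟩ := hdec w' hw'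
          refine Subtype.ext ?_
          have huu : Commute (i u) (i u') := by
            have h1 : Commute u u' := (Subgroup.mem_center_iff.1 (D₀.central u (hRker u hu)) u').symm
            exact h1.map i
          exact ((huu.mul_right ((hcomm u hu).symm.pow_right n')).mul_left
            (((hcomm u' hu').pow_left n).mul_right (Commute.pow_pow_self y n n')))⟩⟩
        exact CfsgLib.Schmidt.hasNormalPComplement_of_nilpotent p
      · -- `K` is everything
        exfalso
        have hmap : R.map D₀.f = ⊤ := by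
          refine eq_top_iff.2 fun x _ => ?_
          have h1 : x.toAdd ∈ M := h0 ▸ AddSubgroup.mem_top _
          exact h1
        have hinvR : ∀ u ∈ R, D₀.τ u ∈ R := by
          intro u hu
          obtain ⟨w, hw, hwy⟩ := (hmap ▸ Subgroup.mem_top (D₀.f y.left) : D₀.f y.left ∈ R.map D₀.f)
          have hz : w⁻¹ * y.left ∈ Subgroup.center P₀ :=
            D₀.central _ (by rw [map_mul, map_inv, hwy, inv_mul_cancel])
          have h1 := hR u hu
          have e : y.left * D₀.τ u * y.left⁻¹ = w * D₀.τ u * w⁻¹ := by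
            rw [show y.left = w * (w⁻¹ * y.left) by group, mul_inv_rev, mul_assoc w _ (D₀.τ u),
              ← Subgroup.mem_center_iff.1 hz (D₀.τ u)]
            group
          rw [e] at h1
          have h2 := mul_mem (mul_mem (inv_mem hw) h1) hw
          rwa [show w⁻¹ * (w * D₀.τ u * w⁻¹) * w = D₀.τ u by group] at h2
        have hRtop := D₀.minimal R hinvR hmap
        refine hK (eq_top_iff.2 fun w _ => ?_)
        rw [← SemidirectProduct.inl_left_mul_inr_right w]
        refine mul_mem (show i w.left ∈ K from (hRtop ▸ Subgroup.mem_top _ : w.left ∈ R)) ?_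
        have hy1 : SemidirectProduct.inr (Multiplicative.ofAdd (1 : ZMod (q ^ r))) ∈ K := by
          have e : (SemidirectProduct.inr (Multiplicative.ofAdd (1 : ZMod (q ^ r))) : G₀) = (i y.left)⁻¹ * y := by
            have e2 := SemidirectProduct.inl_left_mul_inr_right y
            rw [show y.right = _ from hy] at e2
            exact eq_inv_mul_of_mul_eq e2
          rw [e]
          exact mul_mem (inv_mem (show i y.left ∈ K from (hRtop ▸ Subgroup.mem_top _ : y.left ∈ R))) hyK
        rw [show w.right = Multiplicative.ofAdd (1 : ZMod (q ^ r)) ^ w.right.toAdd.val by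
          rw [← ofAdd_nsmul, nsmul_one, ZMod.natCast_zmod_val, ofAdd_toAdd], map_pow]
        exact pow_mem hy1 _
    · -- `K` lies over a proper subgroup of the cyclic quotient
      have hq_dvd : ∀ w ∈ K, φC w.right = 1 := by
        intro w hw
        by_contra hne
        refine hfull ?_
        have hgen : ¬ q ∣ w.right.toAdd.val := by
          rintro ⟨c, hc⟩
          refine hne ?_
          show D₀.τ ^ w.right.toAdd.val = 1
          rw [hc, pow_mul, D₀.pow_q, one_pow]
        have hcop : Nat.Coprime w.right.toAdd.val (q ^ r) :=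
          Nat.Coprime.pow_right r ((hq'.coprime_iff_not_dvd.2 hgen).symm)
        refine eq_top_iff.2 fun z _ => ?_
        have hz : z = w.right ^ (z.toAdd * (w.right.toAdd)⁻¹).val := by
          apply Multiplicative.toAdd.injective
          rw [toAdd_pow, nsmul_eq_mul, ZMod.natCast_zmod_val, mul_assoc]
          have : (w.right.toAdd)⁻¹ * w.right.toAdd = 1 := by
            rw [mul_comm, ← ZMod.natCast_zmod_val w.right.toAdd]
            exact ZMod.coe_mul_inv_eq_one _ hcop
          rw [this, mul_one]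
        rw [hz]
        exact ⟨w ^ _, pow_mem hw _, map_pow _ _ _⟩
      let ρ : K →* P₀ := MonoidHom.mk' (fun w => (w : G₀).left) fun w w' => by
        show ((w : G₀) * (w' : G₀)).left = _
        rw [SemidirectProduct.mul_left, hq_dvd w w.2, MulAut.one_apply]
      refine CfsgLib.Transfer.hasNormalPComplement_iff_exists.2 ⟨ρ.ker, inferInstance, ?_, ?_⟩
      · have hinj : Function.Injective
            ((SemidirectProduct.rightHom.comp K.subtype).comp ρ.ker.subtype) := by
          rintro ⟨⟨w, hw⟩, hwk⟩ ⟨⟨w', hw'⟩, hwk'⟩ e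
          refine Subtype.ext (Subtype.ext (SemidirectProduct.ext ?_ e))
          have h1 : w.left = 1 := hwk
          have h2 : w'.left = 1 := hwk'
          exact h1.trans h2.symm
        refine Nat.Coprime.coprime_dvd_left (Subgroup.card_dvd_of_injective _ hinj) ?_
        rw [Nat.card_congr Multiplicative.toAdd, Nat.card_zmod]
        exact Nat.Coprime.pow_left r hqp
      · obtain ⟨m, hm⟩ := IsPGroup.iff_card.1 (D₀.isP.to_subgroup ρ.range)
        exact ⟨m, by rw [Subgroup.index_ker, hm]⟩
  refine ⟨G₀, inferInstance, inferInstance, ⟨hnon, hmin⟩, hcard, ?_⟩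
  intro X _ _ hX ⟨t, ht⟩
  obtain ⟨P, D, x, hxo, hsup, hconj⟩ :=
    CfsgLib.SchmidtUniversal.exists_datum_of_group h hpq hr hX.1 hX.2 ht
  obtain ⟨ψ, hψ, hψτ, hψf⟩ := CfsgLib.SchmidtUniversal.exists_surjective_hom h D₀ D
    (hP₀.trans (by rw [ha₀, ← CfsgLib.SchmidtUniversal.add_halfExp]))
  let χ : Multiplicative (ZMod (q ^ r)) →* X :=
    MonoidHom.mk' (fun k => x ^ k.toAdd.val) fun k l => by
      rw [← pow_add, toAdd_mul, ZMod.val_add]
      exact (pow_eq_pow_mod _ (by rw [← hxo]; exact pow_orderOf_eq_one x)).symm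
  have hpowconj : ∀ (n : ℕ) (u : P₀), ((P : Subgroup X).subtype (ψ ((D₀.τ ^ n) u))) =
      x ^ n * (ψ u : X) * (x ^ n)⁻¹ := by
    intro n u
    induction n with
    | zero => simp
    | succ n ih =>
      rw [pow_succ', MulAut.mul_apply, ← hψτ, Subgroup.coe_subtype, hconj, pow_succ' x n]
      rw [Subgroup.coe_subtype] at ih
      rw [ih]
      group
  let φ : G₀ →* X := SemidirectProduct.lift ((P : Subgroup X).subtype.comp ψ) χ (by
    intro k
    refine MonoidHom.ext fun u => ?_
    show ((P : Subgroup X).subtype (ψ ((D₀.τ ^ k.toAdd.val) u))) = _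
    rw [hpowconj]
    rfl)
  have hφinl : ∀ u, φ (SemidirectProduct.inl u) = (ψ u : X) := fun u => SemidirectProduct.lift_inl _ _ _ u
  have hφinr : ∀ k, φ (SemidirectProduct.inr k) = x ^ k.toAdd.val := fun k => SemidirectProduct.lift_inr _ _ _ k
  refine ⟨φ, ?_, ?_⟩
  · rw [← MonoidHom.range_eq_top, eq_top_iff, ← hsup]
    refine sup_le (fun w hw => ?_) (Subgroup.zpowers_le.2 ⟨SemidirectProduct.inr (Multiplicative.ofAdd 1), ?_⟩)
    · obtain ⟨u, hu⟩ := hψ ⟨w, hw⟩
      exact ⟨SemidirectProduct.inl u, by rw [hφinl, hu]⟩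
    · haveI : Fact (1 < q ^ r) := ⟨Nat.one_lt_pow (by omega) hq'.one_lt⟩
      rw [hφinr, toAdd_ofAdd, ZMod.val_one, pow_one]
  · intro g hg
    rw [MonoidHom.mem_ker, ← SemidirectProduct.inl_left_mul_inr_right g, map_mul, hφinl, hφinr] at hg
    obtain ⟨i, hi⟩ := P.2 (ψ g.left)
    have hxn : x ^ g.right.toAdd.val = 1 := by
      refine orderOf_eq_one_iff.1 (Nat.eq_one_of_dvd_coprimes
        (Nat.Coprime.pow r i hqp) ?_ (orderOf_dvd_of_pow_eq_one ?_))
      · exact (orderOf_pow_dvd _).trans hxo.dvd
      · rw [eq_inv_of_mul_eq_one_right hg, inv_pow, ← Subgroup.coe_pow, hi, Subgroup.coe_one, inv_one]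
    have hr1 : g.right = 1 := by
      have hd := orderOf_dvd_of_pow_eq_one hxn
      rw [hxo] at hd
      have h0 := Nat.eq_zero_of_dvd_of_lt hd (ZMod.val_lt _)
      exact Multiplicative.toAdd.injective ((ZMod.val_eq_zero _).1 h0)
    rw [hxn, mul_one] at hg
    have hψ1 : ψ g.left = 1 := Subtype.ext hg
    have hf1 : D₀.f g.left = 1 := by rw [← hψf, hψ1, map_one]
    rw [Subgroup.mem_center_iff]
    intro w
    refine SemidirectProduct.ext ?_ ?_
    · rw [SemidirectProduct.mul_left, SemidirectProduct.mul_left, hr1, map_one, MulAut.one_apply]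
      have hfixn : ∀ n : ℕ, (D₀.τ ^ n) g.left = g.left := by
        intro n
        induction n with
        | zero => rfl
        | succ n ih => rw [pow_succ', MulAut.mul_apply, ih, D₀.fix _ hf1]
      show w.left * (D₀.τ ^ _) g.left = _
      rw [hfixn]
      exact Subgroup.mem_center_iff.1 (D₀.central _ hf1) _
    · rw [SemidirectProduct.mul_right, SemidirectProduct.mul_right, hr1, mul_one, one_mul]

end Cfsg.Agent.S4395
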