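import Cfsg.Statements.S4400


set_option autoImplicit false
open Cfsg

namespace Cfsg.Agent.S4400

theorem sq_mem_frattini {G : Type*} [Group G] [Finite G] (h2 : IsPGroup 2 G) (g : G) :
    g * g ∈ frattini G := by
  rw [frattini, Order.radical, Subgroup.mem_iInf]
  intro M
  rw [Subgroup.mem_iInf]
  intro hM
  haveI := h2.isNilpotent
  haveI hn : M.Normal := Subgroup.NormalizerCondition.normal_of_coatom M
    normalizerCondition_of_isNilpotent hM
  by_contra hg
  have htop : M ⊔ Subgroup.zpowers (g * g) = ⊤ :=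
    hM.2 _ (lt_of_le_of_ne le_sup_left fun h => hg (h ▸ le_sup_right (a := M) (Subgroup.mem_zpowers _)))
  obtain ⟨m, hm, z, hz, hmz⟩ := Subgroup.mem_sup_of_normal_left.1 (htop.symm ▸ Subgroup.mem_top g)
  obtain ⟨k, rfl⟩ := hz
  obtain ⟨j, hj⟩ := h2 g
  have h1 : g ^ (1 - 2 * k) ∈ M := by
    have e : g ^ (1 - 2 * k) = m := by
      have e2 : (g * g) ^ k = g ^ (2 * k) := by rw [← sq, zpow_mul]; norm_cast
      rw [sub_eq_add_neg, zpow_add, zpow_one, zpow_neg, mul_inv_eq_iff_eq_mul, ← e2]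
      exact hmz.symm
    rwa [e]
  have hco : IsCoprime (1 - 2 * k) ((2 : ℤ) ^ j) :=
    IsCoprime.pow_right ⟨1, k, by ring⟩
  obtain ⟨a, b, hab⟩ := hco
  have : g = (g ^ (1 - 2 * k)) ^ a := by
    have e3 : g ^ ((2 : ℤ) ^ j) = 1 := by exact_mod_cast hj
    calc g = g ^ ((1 - 2 * k) * a + (2 : ℤ) ^ j * b) := by
          rw [mul_comm _ a, mul_comm _ b, hab, zpow_one]
      _ = _ := by rw [zpow_add, zpow_mul, zpow_mul, e3, one_zpow, mul_one]
  exact hg (this ▸ mul_mem (zpow_mem h1 a) (zpow_mem h1 a))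

theorem two_mul_card_le {G : Type*} [Group G] [Finite G] {A B : Subgroup G} (h : A < B) :
    2 * Nat.card A ≤ Nat.card B := by
  obtain ⟨c, hc⟩ := Subgroup.card_dvd_of_le h.le
  have hne : Nat.card B ≠ Nat.card A := fun e =>
    h.ne (Subgroup.eq_of_le_of_card_ge h.le e.le)
  have : 2 ≤ c := by
    rcases c with _ | _ | c
    · simp [Nat.card_pos.ne'] at hc
    · simp at hc; exact absurd hc hne
    · omega
  rw [hc, mul_comm]
  exact Nat.mul_le_mul_left _ this

theorem four_mul_card_frattini_le {G : Type*} [Group G] [Finite G]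
    (hG : ¬ IsMulCommutative G) : 4 * Nat.card (frattini G) ≤ Nat.card G := by
  have hcyc : ∀ g : G, Subgroup.zpowers g ⊔ frattini G ≠ ⊤ := by
    intro g h
    have h' := frattini_nongenerating h
    refine hG ⟨⟨fun a b => ?_⟩⟩
    obtain ⟨i, hi⟩ := Subgroup.mem_zpowers_iff.1 (h'.symm ▸ Subgroup.mem_top a)
    obtain ⟨j, hj⟩ := Subgroup.mem_zpowers_iff.1 (h'.symm ▸ Subgroup.mem_top b)
    rw [← hi, ← hj, ← zpow_add, ← zpow_add, add_comm]
  obtain ⟨g, hg⟩ : ∃ g, g ∉ frattini G := by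
    by_contra h
    push Not at h
    exact hcyc 1 (eq_top_iff.2 fun a _ => le_sup_right (a := Subgroup.zpowers 1) (h a))
  have h1 : frattini G < Subgroup.zpowers g ⊔ frattini G :=
    lt_of_le_of_ne le_sup_right fun h => hg (h ▸ le_sup_left (b := frattini G) (Subgroup.mem_zpowers g))
  have h2 := two_mul_card_le (lt_of_le_of_ne le_top (hcyc g))
  have h3 := two_mul_card_le h1
  rw [Subgroup.card_top] at h2
  omega

theorem exists_central_mem {S : Type*} [Group S] [Finite S] (h2 : IsPGroup 2 S)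
    (R : Subgroup S) [R.Normal] (hR : R ≠ ⊥) : ∃ w ∈ R, w ≠ 1 ∧ ∀ s : S, s * w = w * s := by
  have hS : IsPGroup 2 (ConjAct S) := h2.of_equiv ConjAct.toConjAct
  haveI := (Subgroup.nontrivial_iff_ne_bot R).2 hR
  have hdvd : 2 ∣ Nat.card R :=
    (h2.to_subgroup R).card_eq_or_dvd.resolve_left Finite.one_lt_card.ne'
  have h1 : (1 : R) ∈ MulAction.fixedPoints (ConjAct S) R := fun c => smul_one c
  obtain ⟨w, hw, hne⟩ :=
    hS.exists_fixed_point_of_prime_dvd_card_of_fixed_point R hdvd h1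
  refine ⟨w, w.2, fun h => hne (Subtype.ext h.symm), fun s => ?_⟩
  have := congrArg Subtype.val (hw (ConjAct.toConjAct s))
  exact mul_inv_eq_iff_eq_mul.1 this

theorem central_mem_eq {S : Type*} [Group S] (P : Subgroup S)
    (hZ : Nat.card ↥(Subgroup.center ↥P) = 2) {u v : S} (hu : u ∈ P) (hv : v ∈ P)
    (hu1 : u ≠ 1) (hv1 : v ≠ 1) (huc : ∀ a ∈ P, a * u = u * a) (hvc : ∀ a ∈ P, a * v = v * a) :
    u = v := by
  have := Nat.card_eq_two_iff' (1 : Subgroup.center P) |>.1 hZ
  obtain ⟨w, -, hw⟩ := this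
  have a1 := hw ⟨⟨u, hu⟩, Subgroup.mem_center_iff.2 fun a => Subtype.ext (huc a a.2)⟩
    (fun h => hu1 (congrArg (fun z : Subgroup.center P => ((z : P) : S)) h))
  have a2 := hw ⟨⟨v, hv⟩, Subgroup.mem_center_iff.2 fun a => Subtype.ext (hvc a a.2)⟩
    (fun h => hv1 (congrArg (fun z : Subgroup.center P => ((z : P) : S)) h))
  exact congrArg (fun z : Subgroup.center P => ((z : P) : S)) (a1.trans a2.symm)

theorem card_sup_le {S : Type*} [Group S] [Finite S] (A B : Subgroup S) [B.Normal] :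
    Nat.card ↥(A ⊔ B) ≤ Nat.card A * Nat.card B := by
  rw [← Nat.card_prod]
  refine Nat.card_le_card_of_surjective
    (fun z : A × B => (⟨(z.1 : S) * z.2, mul_mem (le_sup_left (b := B) z.1.2) (le_sup_right (a := A) z.2.2)⟩ : ↥(A ⊔ B))) ?_
  rintro ⟨c, hc⟩
  obtain ⟨a, ha, b, hb, rfl⟩ := Subgroup.mem_sup_of_normal_right.1 hc
  exact ⟨(⟨a, ha⟩, ⟨b, hb⟩), rfl⟩

theorem card_le_card_sup {S : Type*} [Group S] [Finite S] (A B : Subgroup S) (h : A ⊓ B = ⊥) :
    Nat.card A * Nat.card B ≤ Nat.card ↥(A ⊔ B) := by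
  rw [← Nat.card_prod]
  refine Nat.card_le_card_of_injective
    (fun z : A × B => (⟨(z.1 : S) * z.2, mul_mem (le_sup_left (b := B) z.1.2) (le_sup_right (a := A) z.2.2)⟩ : ↥(A ⊔ B))) ?_
  intro z w hzw
  exact Subgroup.mul_injective_of_disjoint (disjoint_iff.2 h) (congrArg Subtype.val hzw)

theorem pRankLE_quotient {S : Type*} [Group S] (hr : Cfsg.SectionalPRankLE 2 4 S)
    (N : Subgroup S) [N.Normal] : Cfsg.PRankLE 2 4 (S ⧸ N) := by
  intro A hA hA2
  haveI : (N.comap (Subgroup.topEquiv : (⊤ : Subgroup S) ≃* S).toMonoidHom).Normal :=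
    Subgroup.normal_comap _
  let f : (⊤ : Subgroup S) ⧸ N.comap (Subgroup.topEquiv : (⊤ : Subgroup S) ≃* S).toMonoidHom →* S ⧸ N :=
    QuotientGroup.map _ N (Subgroup.topEquiv : (⊤ : Subgroup S) ≃* S).toMonoidHom le_rfl
  have hinj : Function.Injective f := by
    rw [injective_iff_map_eq_one]
    intro q
    induction q using QuotientGroup.induction_on with
    | _ a =>
      intro h
      have h' : (QuotientGroup.mk (a : S) : S ⧸ N) = 1 := h
      exact (QuotientGroup.eq_one_iff a).2 ((QuotientGroup.eq_one_iff (a : S)).1 h')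
  have hsurj : Function.Surjective f := by
    intro q
    induction q using QuotientGroup.induction_on with
    | _ a => exact ⟨QuotientGroup.mk ⟨a, Subgroup.mem_top a⟩, rfl⟩
  have := hr ⊤ (N.comap (Subgroup.topEquiv : (⊤ : Subgroup S) ≃* S).toMonoidHom) (A.comap f)
    ⟨⟨fun a b => Subtype.ext (hinj (by
      rw [Subgroup.coe_mul, Subgroup.coe_mul, map_mul, map_mul]
      exact congrArg Subtype.val (hA.is_comm.comm (⟨f a, a.2⟩ : A) ⟨f b, b.2⟩)))⟩⟩
    (fun a ha => hinj (by rw [map_pow, map_one]; exact hA2 _ ha))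
  refine le_trans (le_of_eq ?_) this
  exact (Nat.card_congr (Equiv.ofBijective (fun a : A.comap f => (⟨f a, a.2⟩ : A))
    ⟨fun a b h => Subtype.ext (hinj (congrArg Subtype.val h)),
     fun a => by obtain ⟨q, hq⟩ := hsurj (a : S ⧸ N); exact ⟨⟨q, show f q ∈ A from hq ▸ a.2⟩, Subtype.ext hq⟩⟩)).symm


/-- Let S be a finite 2-group of sectional 2-rank at most 4, and let P and Q be normal non-abelian subgroups of S whose centres have order 2 and are different. Then P and Q commute elementwise and intersect trivially, and PQ contains its own centralizer in S. -/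
theorem result {S : Type*} [Group S] [Finite S] (h2 : IsPGroup 2 S) (hr : Cfsg.SectionalPRankLE 2 4 S)
    (P Q : Subgroup S) [P.Normal] [Q.Normal] (hP : ¬ IsMulCommutative ↥P) (hQ : ¬ IsMulCommutative ↥Q)
    (hZP : Nat.card ↥(Subgroup.center ↥P) = 2) (hZQ : Nat.card ↥(Subgroup.center ↥Q) = 2)
    (hne : (Subgroup.center ↥P).map P.subtype ≠ (Subgroup.center ↥Q).map Q.subtype) :
    ⁅P, Q⁆ = ⊥ ∧ P ⊓ Q = ⊥ ∧ Subgroup.centralizer ((P ⊔ Q : Subgroup S) : Set S) ≤ P ⊔ Q := by
  haveI : Fact (Nat.Prime 2) := ⟨Nat.prime_two⟩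
  have centP : ∀ {w : S}, (∀ s : S, s * w = w * s) → w ∈ P → w ≠ 1 →
      (Subgroup.center ↥P).map P.subtype = Subgroup.zpowers w := by
    intro w hw hwP hw1
    apply le_antisymm
    · rintro _ ⟨u, hu, rfl⟩
      by_cases hu1 : (u : S) = 1
      · rw [Subgroup.subtype_apply, hu1]; exact one_mem _
      · rw [Subgroup.subtype_apply, central_mem_eq P hZP u.2 hwP hu1 hw1
          (fun a ha => congrArg Subtype.val (Subgroup.mem_center_iff.1 hu ⟨a, ha⟩)) (fun a _ => hw a)]
        exact Subgroup.mem_zpowers w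
    · rw [Subgroup.zpowers_le]
      exact ⟨⟨w, hwP⟩, Subgroup.mem_center_iff.2 fun a => Subtype.ext (hw a), rfl⟩
  have centQ : ∀ {w : S}, (∀ s : S, s * w = w * s) → w ∈ Q → w ≠ 1 →
      (Subgroup.center ↥Q).map Q.subtype = Subgroup.zpowers w := by
    intro w hw hwP hw1
    apply le_antisymm
    · rintro _ ⟨u, hu, rfl⟩
      by_cases hu1 : (u : S) = 1
      · rw [Subgroup.subtype_apply, hu1]; exact one_mem _
      · rw [Subgroup.subtype_apply, central_mem_eq Q hZQ u.2 hwP hu1 hw1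
          (fun a ha => congrArg Subtype.val (Subgroup.mem_center_iff.1 hu ⟨a, ha⟩)) (fun a _ => hw a)]
        exact Subgroup.mem_zpowers w
    · rw [Subgroup.zpowers_le]
      exact ⟨⟨w, hwP⟩, Subgroup.mem_center_iff.2 fun a => Subtype.ext (hw a), rfl⟩
  have hdis : P ⊓ Q = ⊥ := by
    by_contra hne'
    obtain ⟨w, ⟨hwP, hwQ⟩, hw1, hwc⟩ := exists_central_mem h2 (P ⊓ Q) hne'
    exact hne ((centP hwc hwP hw1).trans (centQ hwc hwQ hw1).symm)
  have hcomm : ⁅P, Q⁆ = ⊥ := le_bot_iff.1 (hdis ▸ Subgroup.commutator_le_inf P Q)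
  refine ⟨hcomm, hdis, ?_⟩
  by_contra hnot
  obtain ⟨x₀, hx₀C, hx₀⟩ := SetLike.not_le_iff_exists.1 hnot
  have hex : ∃ k, x₀ ^ (2 ^ k) ∈ P ⊔ Q := by
    obtain ⟨k, hk⟩ := h2 x₀
    exact ⟨k, hk ▸ one_mem _⟩
  classical
  have hk0 : Nat.find hex ≠ 0 := fun h => hx₀ (by have := Nat.find_spec hex; simpa [h] using this)
  set x := x₀ ^ (2 ^ (Nat.find hex - 1)) with hxdef
  have hxPQ : x ∉ P ⊔ Q := Nat.find_min hex (by omega)
  have hxx : x * x ∈ P ⊔ Q := by
    have := Nat.find_spec hex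
    rwa [hxdef, ← pow_add, ← two_mul, ← pow_succ', Nat.sub_add_cancel (Nat.pos_of_ne_zero hk0)]
  have hxc : ∀ a ∈ P ⊔ Q, a * x = x * a := fun a ha =>
    Subgroup.mem_centralizer_iff.1 (pow_mem hx₀C _) a ha
  have hPQc : ∀ a ∈ P, ∀ b ∈ Q, a * b = b * a := fun a ha b hb =>
    commutatorElement_eq_one_iff_mul_comm.1
      (Subgroup.mem_bot.1 (hcomm ▸ Subgroup.commutator_mem_commutator ha hb))
  let KP : Subgroup S := (frattini P).map P.subtype
  let KQ : Subgroup S := (frattini Q).map Q.subtype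
  haveI hKPn : KP.Normal := inferInstanceAs ((frattini P).map P.subtype).Normal
  haveI hKQn : KQ.Normal := inferInstanceAs ((frattini Q).map Q.subtype).Normal
  have sqP : ∀ a ∈ P, a * a ∈ KP := fun a ha =>
    ⟨_, sq_mem_frattini (h2.to_subgroup P) ⟨a, ha⟩, rfl⟩
  have sqQ : ∀ a ∈ Q, a * a ∈ KQ := fun a ha =>
    ⟨_, sq_mem_frattini (h2.to_subgroup Q) ⟨a, ha⟩, rfl⟩
  have hKP : KP ≠ ⊥ := fun h => hP ⟨⟨fun a b => by
    have e : ∀ c : P, c * c = 1 := fun c =>
      Subtype.ext (Subgroup.mem_bot.1 (h ▸ sqP c c.2))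
    have hinv : ∀ c : P, c⁻¹ = c := fun c => inv_eq_of_mul_eq_one_right (e c)
    calc a * b = (a * b)⁻¹ := (hinv _).symm
      _ = b * a := by rw [mul_inv_rev, hinv, hinv]⟩⟩
  have hKQ : KQ ≠ ⊥ := fun h => hQ ⟨⟨fun a b => by
    have e : ∀ c : Q, c * c = 1 := fun c =>
      Subtype.ext (Subgroup.mem_bot.1 (h ▸ sqQ c c.2))
    have hinv : ∀ c : Q, c⁻¹ = c := fun c => inv_eq_of_mul_eq_one_right (e c)
    calc a * b = (a * b)⁻¹ := (hinv _).symm
      _ = b * a := by rw [mul_inv_rev, hinv, hinv]⟩⟩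
  let N : Subgroup S := KP ⊔ KQ
  haveI hNn : N.Normal := Subgroup.sup_normal KP KQ
  -- the square of `x` lies in `N`
  have hxN : x * x ∈ N := by
    obtain ⟨a, ha, b, hb, hab⟩ := Subgroup.mem_sup_of_normal_right.1 hxx
    have hxa : ∀ c ∈ P ⊔ Q, c * (x * x) = x * x * c := fun c hc => by
      rw [← mul_assoc, hxc c hc, mul_assoc, hxc c hc, mul_assoc]
    have haZ : ∀ c ∈ P, c * a = a * c := fun c hc => by
      have h := hxa c (le_sup_left (b := Q) hc)
      rw [← hab, mul_assoc a b c, ← hPQc c hc b hb, ← mul_assoc, ← mul_assoc] at h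
      exact mul_right_cancel h
    have hbZ : ∀ c ∈ Q, c * b = b * c := fun c hc => by
      have h := hxa c (le_sup_right (a := P) hc)
      rw [← hab, ← mul_assoc, ← hPQc a ha c hc, mul_assoc, mul_assoc] at h
      exact mul_left_cancel h
    rw [← hab]
    refine mul_mem (Subgroup.mem_sup_left ?_) (Subgroup.mem_sup_right ?_)
    · by_cases h1 : a = 1
      · rw [h1]; exact one_mem _
      obtain ⟨w, hwK, hw1, hwc⟩ := exists_central_mem h2 KP hKP
      rw [central_mem_eq P hZP ha (Subgroup.map_subtype_le _ hwK) h1 hw1 haZ (fun c _ => hwc c)]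
      exact hwK
    · by_cases h1 : b = 1
      · rw [h1]; exact one_mem _
      obtain ⟨w, hwK, hw1, hwc⟩ := exists_central_mem h2 KQ hKQ
      rw [central_mem_eq Q hZQ hb (Subgroup.map_subtype_le _ hwK) h1 hw1 hbZ (fun c _ => hwc c)]
      exact hwK
  let T : Set S := (P : Set S) ∪ Q ∪ {x}
  let H : Subgroup S := Subgroup.closure T
  let π := QuotientGroup.mk' N
  have sqT : ∀ a ∈ T, π a * π a = 1 := by
    intro a ha
    rw [← map_mul]
    refine (QuotientGroup.eq_one_iff _).2 ?_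
    rcases ha with (ha | ha) | ha
    · exact Subgroup.mem_sup_left (sqP a ha)
    · exact Subgroup.mem_sup_right (sqQ a ha)
    · rw [Set.mem_singleton_iff.1 ha]; exact hxN
  have commP : ∀ a ∈ P, ∀ b ∈ P, π a * π b = π b * π a := by
    intro a ha b hb
    have e := sqT (a * b) (Or.inl (Or.inl (P.mul_mem ha hb)))
    have ea := sqT a (Or.inl (Or.inl ha))
    have eb := sqT b (Or.inl (Or.inl hb))
    rw [map_mul] at e
    calc π a * π b = (π a * π b)⁻¹ := (inv_eq_of_mul_eq_one_right e).symm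
      _ = π b * π a := by rw [mul_inv_rev, inv_eq_of_mul_eq_one_right ea, inv_eq_of_mul_eq_one_right eb]
  have commQ : ∀ a ∈ Q, ∀ b ∈ Q, π a * π b = π b * π a := by
    intro a ha b hb
    have e := sqT (a * b) (Or.inl (Or.inr (Q.mul_mem ha hb)))
    have ea := sqT a (Or.inl (Or.inr ha))
    have eb := sqT b (Or.inl (Or.inr hb))
    rw [map_mul] at e
    calc π a * π b = (π a * π b)⁻¹ := (inv_eq_of_mul_eq_one_right e).symm
      _ = π b * π a := by rw [mul_inv_rev, inv_eq_of_mul_eq_one_right ea, inv_eq_of_mul_eq_one_right eb]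
  have commT : ∀ a ∈ T, ∀ b ∈ T, π a * π b = π b * π a := by
    intro a ha b hb
    rcases ha with (ha | ha) | ha <;> rcases hb with (hb | hb) | hb
    · exact commP a ha b hb
    · rw [← map_mul, hPQc a ha b hb, map_mul]
    · rw [Set.mem_singleton_iff.1 hb, ← map_mul, hxc a (Subgroup.mem_sup_left ha), map_mul]
    · rw [← map_mul, ← hPQc b hb a ha, map_mul]
    · exact commQ a ha b hb
    · rw [Set.mem_singleton_iff.1 hb, ← map_mul, hxc a (Subgroup.mem_sup_right ha), map_mul]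
    · rw [Set.mem_singleton_iff.1 ha, ← map_mul, ← hxc b (Subgroup.mem_sup_left hb), map_mul]
    · rw [Set.mem_singleton_iff.1 ha, ← map_mul, ← hxc b (Subgroup.mem_sup_right hb), map_mul]
    · rw [Set.mem_singleton_iff.1 ha, Set.mem_singleton_iff.1 hb]
  let V : Subgroup (S ⧸ N) := Subgroup.closure (π '' T)
  have hVc : IsMulCommutative V := Subgroup.isMulCommutative_closure (by
    rintro _ ⟨a, ha, rfl⟩ _ ⟨b, hb, rfl⟩; exact commT a ha b hb)
  have hV2 : ∀ v ∈ V, v ^ 2 = 1 := by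
    intro v hv
    induction hv using Subgroup.closure_induction with
    | mem y hy => obtain ⟨a, ha, rfl⟩ := hy; rw [sq]; exact sqT a ha
    | one => exact one_pow 2
    | mul y z hy hz ey ez =>
      have : Commute y z := congrArg Subtype.val (hVc.is_comm.comm (⟨y, hy⟩ : V) ⟨z, hz⟩)
      rw [this.mul_pow, ey, ez, one_mul]
    | inv y hy ey => rw [inv_pow, ey, inv_one]
  have hV16 := pRankLE_quotient hr N V hVc hV2
  have hVH : V = H.map π := (MonoidHom.map_closure π T).symm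
  have hle1 : P ⊔ Q < H := by
    refine lt_of_le_of_ne (sup_le (fun a ha => Subgroup.subset_closure (Or.inl (Or.inl ha)))
      (fun a ha => Subgroup.subset_closure (Or.inl (Or.inr ha)))) fun h => hxPQ ?_
    rw [h]; exact Subgroup.subset_closure (Or.inr rfl)
  have hcardH : Nat.card H ≤ Nat.card V * Nat.card N := by
    let f : H →* V := (π.comp H.subtype).codRestrict V
      (fun a => hVH ▸ Subgroup.mem_map_of_mem π a.2)
    have hk : f.ker ≤ N.subgroupOf H := fun a ha =>
      (QuotientGroup.eq_one_iff (a : S)).1 (show π (a : S) = 1 from congrArg Subtype.val (MonoidHom.mem_ker.1 ha))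
    rw [← f.ker.card_mul_index, Subgroup.index_ker, mul_comm]
    refine Nat.mul_le_mul (Subgroup.card_le_card_group f.range) ?_
    refine (Subgroup.card_le_of_le hk).trans ?_
    exact Nat.card_le_card_of_injective (fun a => (⟨((a : H) : S), a.2⟩ : N))
      (fun a b h => Subtype.ext (Subtype.ext (congrArg (fun z : N => (z : S)) h)))
  have e1 := two_mul_card_le hle1
  have e2 := card_le_card_sup P Q hdis
  have e3 : Nat.card N ≤ Nat.card KP * Nat.card KQ := card_sup_le KP KQ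
  have e4 : 4 * Nat.card KP ≤ Nat.card P := by
    rw [show Nat.card KP = Nat.card (frattini P) from
      Nat.card_congr ((frattini P).equivMapOfInjective P.subtype P.subtype_injective).symm.toEquiv]
    exact four_mul_card_frattini_le hP
  have e5 : 4 * Nat.card KQ ≤ Nat.card Q := by
    rw [show Nat.card KQ = Nat.card (frattini Q) from
      Nat.card_congr ((frattini Q).equivMapOfInjective Q.subtype Q.subtype_injective).symm.toEquiv]
    exact four_mul_card_frattini_le hQ
  have e6 := Nat.mul_le_mul e4 e5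
  have e7 : Nat.card H ≤ 16 * (Nat.card KP * Nat.card KQ) :=
    hcardH.trans (Nat.mul_le_mul hV16 e3)
  have hpos : 0 < Nat.card KP * Nat.card KQ := Nat.mul_pos Nat.card_pos Nat.card_pos
  nlinarith

end Cfsg.Agent.S4400
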