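import Cfsg.Statements.S4405
import Cfsg.Agent.Eq.Def_Solvable
import Cfsg.Agent.Eq.Def_Transfer
import Cfsg.Agent.Eq.Def_Local
import Cfsg.Agent.LocalP.Basic
import Cfsg.Agent.S4400

set_option autoImplicit false
open Cfsg

namespace Cfsg.Agent.S4405

open scoped commutatorElement

theorem card_mul_relIndex_of_le {G : Type*} [Group G] {A B : Subgroup G} (h : A ≤ B) :
    Nat.card A * A.relIndex B = Nat.card B := by
  rw [Subgroup.relIndex, ← (A.subgroupOf B).card_mul_index]
  congr 1
  exact Nat.card_congr (Subgroup.subgroupOfEquivOfLe h).symm.toEquiv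

/-- In a group of order ten the fifth roots of unity form the subgroup of index two. -/
theorem mem_zpowers_of_pow_five {Q : Type*} [Group Q] (hQ : Nat.card Q = 10) {f x : Q}
    (hf : orderOf f = 5) (hx : x ^ 5 = 1) : x ∈ Subgroup.zpowers f := by
  have hi : (Subgroup.zpowers f).index = 2 := by
    have := (Subgroup.zpowers f).card_mul_index
    rw [Nat.card_zpowers, hf, hQ] at this
    omega
  have h2 := Subgroup.sq_mem_of_index_two hi x
  have : x = x ^ 5 * (x ^ 2 * x ^ 2)⁻¹ := by group
  rw [this, hx, one_mul]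
  exact inv_mem (mul_mem h2 h2)


/-- Let G be a finite group of order 320 = 64·5 whose largest normal 2-subgroup H = O₂(G) equals the Fitting subgroup F(G) and is extraspecial of order 32 containing no elementary abelian subgroup of order 8 (so H is the central product of a quaternion group and a dihedral group of order 8). If T is an involution of G outside H whose centralizer in H contains an elementary abelian subgroup of order 4, then C_H(T) itself is elementary abelian of order 4. -/
theorem result {G : Type*} [Group G] [Finite G]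
    (hG : Nat.card G = 320) (hHF : Cfsg.pCore 2 G = Cfsg.fittingSubgroup G)
    (hex : Cfsg.IsExtraspecial 2 ↥(Cfsg.pCore 2 G)) (h32 : Nat.card ↥(Cfsg.pCore 2 G) = 32)
    (hminus : ∀ A : Subgroup G, A ≤ Cfsg.pCore 2 G → Cfsg.IsElementaryAbelian 2 A → Nat.card ↥A ≤ 4)
    (T : G) (hT : orderOf T = 2) (hTH : T ∉ Cfsg.pCore 2 G)
    (V : Subgroup G) (hV : V ≤ Cfsg.pCore 2 G ⊓ Subgroup.centralizer ({T} : Set G)) (hV4 : Nat.card ↥V = 4) (hVe : Cfsg.IsElementaryAbelian 2 V) :
    Nat.card ↥(Cfsg.pCore 2 G ⊓ Subgroup.centralizer ({T} : Set G)) = 4 ∧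
      Cfsg.IsElementaryAbelian 2 (Cfsg.pCore 2 G ⊓ Subgroup.centralizer ({T} : Set G)) := by
  classical
  haveI h5 : Fact (Nat.Prime 5) := ⟨by norm_num⟩
  haveI h2f : Fact (Nat.Prime 2) := ⟨Nat.prime_two⟩
  set H : Subgroup G := Cfsg.pCore 2 G with hHdef
  haveI hHn : H.Normal := Cfsg.pCore_normal 2 G
  have hH2 : IsPGroup 2 H := CfsgLib.LocalP.isPGroup_pCore
  -- the centre
  let Z : Subgroup G := (Subgroup.center H).map H.subtype
  haveI hZn : Z.Normal := inferInstanceAs ((Subgroup.center H).map H.subtype).Normal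
  have hZH : Z ≤ H := Subgroup.map_subtype_le _
  have hZ2 : Nat.card Z = 2 :=
    (Nat.card_congr ((Subgroup.center H).equivMapOfInjective H.subtype H.subtype_injective).symm.toEquiv).trans hex.2
  have hZsq : ∀ z ∈ Z, z * z = 1 := fun z hz => by
    have := pow_card_eq_one' (x := (⟨z, hz⟩ : Z))
    rw [hZ2, sq] at this
    exact congrArg Subtype.val this
  have hZc : ∀ z ∈ Z, ∀ g : G, g * z = z * g := by
    intro z hz g
    by_cases h1 : z = 1
    · subst h1; simp
    obtain ⟨w, -, huniq⟩ := (Nat.card_eq_two_iff' (1 : Z)).1 hZ2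
    have e1 := huniq ⟨z, hz⟩ (fun h => h1 (congrArg Subtype.val h))
    have e2 := huniq ⟨g * z * g⁻¹, hZn.conj_mem z hz g⟩ (fun h => h1 (by
      simpa using congrArg Subtype.val h))
    exact mul_inv_eq_iff_eq_mul.1 (congrArg Subtype.val (e2.trans e1.symm))
  let π := QuotientGroup.mk' Z
  have hπ : ∀ h ∈ H, ∀ k ∈ H, π h * π k = π k * π h := by
    intro h hh k hk
    have hm : ⁅(⟨h, hh⟩ : H), ⟨k, hk⟩⁆ ∈ Subgroup.center H := by
      rw [← hex.1.2.2]
      exact Subgroup.commutator_mem_commutator (Subgroup.mem_top _) (Subgroup.mem_top _)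
    have : π (h * k * h⁻¹ * k⁻¹) = 1 := (QuotientGroup.eq_one_iff _).2 ⟨_, hm, rfl⟩
    rw [map_mul, map_mul, map_mul, map_inv, map_inv, mul_inv_eq_one, mul_inv_eq_iff_eq_mul] at this
    exact this
  have hsq : ∀ h ∈ H, π h * π h = 1 := by
    intro h hh
    rw [← map_mul]
    refine (QuotientGroup.eq_one_iff _).2 ⟨⟨h, hh⟩ * ⟨h, hh⟩, ?_, rfl⟩
    rw [← hex.1.2.1]
    exact Cfsg.Agent.S4400.sq_mem_frattini hH2 _
  let W : G → Subgroup G := fun x => H ⊓ (Subgroup.centralizer ({π x} : Set (G ⧸ Z))).comap π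
  have memW : ∀ {x h : G}, h ∈ W x ↔ h ∈ H ∧ π h * π x = π x * π h := by
    intro x h
    simp only [W, Subgroup.mem_inf, Subgroup.mem_comap, Subgroup.mem_centralizer_singleton_iff]
  -- an element of order five
  obtain ⟨f, hf⟩ := exists_prime_orderOf_dvd_card' (G := G) 5 (by rw [hG]; norm_num)
  have hfH : f ∉ H := fun h => by
    have := Subgroup.orderOf_dvd_natCard H h
    rw [hf, h32] at this; norm_num at this
  let ρ := QuotientGroup.mk' H
  have hQ : Nat.card (G ⧸ H) = 10 := by
    have := H.card_eq_card_quotient_mul_card_subgroup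
    rw [hG, h32] at this; omega
  have hρf : orderOf (ρ f) = 5 := by
    refine orderOf_eq_prime ?_ fun h => hfH ((QuotientGroup.eq_one_iff f).1 h)
    rw [← map_pow, ← hf, pow_orderOf_eq_one, map_one]
  have hT2 : T * T = 1 := by
    rw [← sq, ← hT]; exact pow_orderOf_eq_one T
  have hTinv : T⁻¹ = T := inv_eq_of_mul_eq_one_right hT2
  have hρT : ρ T * ρ T = 1 := by rw [← map_mul, hT2, map_one]
  have hTK : ρ T ∉ Subgroup.zpowers (ρ f) := fun h => by
    have h1 := Subgroup.orderOf_dvd_natCard _ h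
    rw [Nat.card_zpowers, hρf] at h1
    have h2 : orderOf (ρ T) ∣ 2 := orderOf_dvd_of_pow_eq_one (by rw [sq, hρT])
    have h3 : orderOf (ρ T) = 1 := Nat.eq_one_of_dvd_coprimes (by norm_num : Nat.Coprime 5 2) h1 h2
    exact hTH ((QuotientGroup.eq_one_iff T).1 (orderOf_eq_one_iff.1 h3))
  -- `f` fixes only the centre
  have hWf : W f ≤ Z := by
    have hC : ∀ h ∈ W f, f * h = h * f := by
      intro h hh
      obtain ⟨hhH, hcm⟩ := memW.1 hh
      have hz : f * h * f⁻¹ * h⁻¹ ∈ Z := by
        rw [← QuotientGroup.eq_one_iff]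
        change π (f * h * f⁻¹ * h⁻¹) = 1
        rw [map_mul, map_mul, map_mul, map_inv, map_inv, ← hcm]; simp
      set z := f * h * f⁻¹ * h⁻¹ with hzdef
      have hk : ∀ k : ℕ, f ^ k * h = z ^ k * h * f ^ k := by
        intro k
        induction k with
        | zero => simp
        | succ k ih =>
          have e : f * h = z * h * f := by rw [hzdef]; group
          calc f ^ (k + 1) * h = f * (f ^ k * h) := by rw [pow_succ']; group
            _ = f * z ^ k * h * f ^ k := by rw [ih]; group
            _ = z ^ k * (f * h) * f ^ k := by rw [hZc _ (pow_mem hz k) f]; group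
            _ = z ^ (k + 1) * h * f ^ (k + 1) := by rw [e, pow_succ z k, pow_succ' f k]; group
      have := hk 5
      rw [← hf, pow_orderOf_eq_one, one_mul, mul_one, hf] at this
      have hz5 : z ^ 5 = 1 := by
        simpa using mul_right_cancel (this.symm.trans (one_mul h).symm)
      have hz1 : z = 1 := by
        rw [pow_succ, show z ^ 4 = (z * z) * (z * z) by simp only [pow_succ, pow_zero, one_mul, mul_assoc], hZsq z hz, one_mul, one_mul] at hz5
        exact hz5
      rw [hzdef] at hz1
      calc f * h = f * h * f⁻¹ * h⁻¹ * (h * f) := by group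
        _ = h * f := by rw [hz1, one_mul]
    let Cf : Subgroup G := H ⊓ Subgroup.centralizer ({f} : Set G)
    have hle : W f ≤ Cf := fun h hh =>
      ⟨(memW.1 hh).1, Subgroup.mem_centralizer_singleton_iff.2 (hC h hh).symm⟩
    have hZCf : Z ≤ Cf := fun z hz =>
      ⟨hZH hz, Subgroup.mem_centralizer_singleton_iff.2 (hZc z hz f).symm⟩
    letI hact : MulAction (Subgroup.zpowers f) H :=
      MulAction.compHom H (ConjAct.toConjAct.toMonoidHom.comp (Subgroup.zpowers f).subtype)
    have hact' : ∀ (c : Subgroup.zpowers f) (h : H), ((c • h : H) : G) = c * h * (c : G)⁻¹ :=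
      fun c h => rfl
    have hfix : Nat.card (MulAction.fixedPoints (Subgroup.zpowers f) H) = Nat.card Cf := by
      refine Nat.card_congr
        { toFun := fun h => ⟨((h : H) : G), (h : H).2, ?_⟩
          invFun := fun h => ⟨⟨(h : G), h.2.1⟩, ?_⟩
          left_inv := fun h => rfl
          right_inv := fun h => rfl }
      · have := congrArg Subtype.val (h.2 ⟨f, Subgroup.mem_zpowers f⟩)
        rw [hact'] at this
        exact Subgroup.mem_centralizer_singleton_iff.2 (mul_inv_eq_iff_eq_mul.1 this).symm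
      · rintro ⟨c, hc⟩
        obtain ⟨k, rfl⟩ := Subgroup.mem_zpowers_iff.1 hc
        apply Subtype.ext
        rw [hact']
        have : Commute (f ^ k) (h : G) :=
          (show Commute f (h : G) from (Subgroup.mem_centralizer_singleton_iff.1 h.2.2).symm).zpow_left k
        exact mul_inv_eq_iff_eq_mul.2 this
    have hmod := (IsPGroup.of_card (G := Subgroup.zpowers f) (p := 5) (n := 1)
      (by rw [Nat.card_zpowers, hf, pow_one])).card_modEq_card_fixedPoints H
    rw [hfix, h32, Nat.ModEq] at hmod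
    obtain ⟨m, hm, hCf⟩ := (Nat.dvd_prime_pow Nat.prime_two (m := 5)).1
      (h32 ▸ Subgroup.card_dvd_of_le (inf_le_left : Cf ≤ H))
    have hm15 : m = 1 ∨ m = 5 := by
      rw [hCf] at hmod
      interval_cases m <;> omega
    rcases hm15 with rfl | rfl
    · exact hle.trans (Subgroup.eq_of_le_of_card_ge hZCf (by rw [hCf, hZ2]; rfl)).ge
    · exfalso
      have hCH : Cf = H := Subgroup.eq_of_le_of_card_ge inf_le_left (by rw [hCf, h32]; norm_num)
      have hfh : ∀ h ∈ H, Commute f h := fun h hh =>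
        (Subgroup.mem_centralizer_singleton_iff.1 (hCH.ge hh).2).symm
      haveI hNn : (Subgroup.zpowers f).Normal := by
        refine ⟨fun n hn g => ?_⟩
        have hkey : g * f * g⁻¹ ∈ Subgroup.zpowers f := by
          have h1 : ρ (g * f * g⁻¹) ∈ Subgroup.zpowers (ρ f) :=
            mem_zpowers_of_pow_five hQ hρf (by
              rw [← map_pow, conj_pow, ← hf, pow_orderOf_eq_one, mul_one, mul_inv_cancel, map_one])
          obtain ⟨k, hk⟩ := Subgroup.mem_zpowers_iff.1 h1
          rw [← map_zpow] at hk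
          have hh : (f ^ k)⁻¹ * (g * f * g⁻¹) ∈ H := QuotientGroup.eq.1 hk
          set h := (f ^ k)⁻¹ * (g * f * g⁻¹) with hhdef
          have hcom : Commute (f ^ k) h := (hfh h hh).zpow_left k
          have e1 : f ^ k * h = g * f * g⁻¹ := by rw [hhdef]; group
          have e5 : (f ^ k) ^ 5 = 1 := by
            rw [← zpow_natCast, ← zpow_mul, mul_comm, zpow_mul, zpow_natCast, ← hf,
              pow_orderOf_eq_one, one_zpow]
          have h5' : h ^ 5 = 1 := by
            have := congrArg (· ^ 5) e1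
            simp only [hcom.mul_pow, e5, one_mul, conj_pow] at this
            rw [this, ← hf, pow_orderOf_eq_one, mul_one, mul_inv_cancel]
          have : h = 1 := by
            obtain ⟨j, hj⟩ := hH2 ⟨h, hh⟩
            refine orderOf_eq_one_iff.1 (Nat.eq_one_of_dvd_coprimes
              ((Nat.Coprime.pow_left j (by norm_num : Nat.Coprime 2 5))) ?_ (orderOf_dvd_of_pow_eq_one h5'))
            exact orderOf_dvd_of_pow_eq_one (congrArg Subtype.val hj)
          rw [← e1, this, mul_one]
          exact zpow_mem (Subgroup.mem_zpowers f) k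
        obtain ⟨i, rfl⟩ := Subgroup.mem_zpowers_iff.1 hn
        rw [← conj_zpow]
        exact zpow_mem hkey i
      have hle' : Subgroup.zpowers f ≤ Cfsg.fittingSubgroup G :=
        le_sSup ⟨hNn, by letI := IsCyclic.commGroup (α := Subgroup.zpowers f); infer_instance⟩
      rw [← hHF] at hle'
      exact hfH (hle' (Subgroup.mem_zpowers f))
  -- two conjugates of `T` generate modulo `H` something containing `f`
  set g : G := f * T * f⁻¹ * T with hgdef
  have hgK : ρ g ∈ Subgroup.zpowers (ρ f) := by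
    have hn : ρ T * (ρ f)⁻¹ * (ρ T)⁻¹ ∈ Subgroup.zpowers (ρ f) := by
      refine mem_zpowers_of_pow_five hQ hρf ?_
      rw [conj_pow, inv_pow, ← hρf, pow_orderOf_eq_one, inv_one, mul_one, mul_inv_cancel]
    have : ρ g = ρ f * (ρ T * (ρ f)⁻¹ * (ρ T)⁻¹) := by
      rw [← map_inv ρ T, hTinv, ← map_inv]
      simp only [← map_mul, hgdef, mul_assoc]
    rw [this]
    exact mul_mem (Subgroup.mem_zpowers _) hn
  have hg1 : ρ g ≠ 1 := by
    intro hg
    have hcomm : Commute (ρ f) (ρ T) := by
      have : ρ f * ρ T * (ρ f)⁻¹ * ρ T = 1 := by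
        simpa only [hgdef, map_mul, map_inv] using hg
      rw [mul_eq_one_iff_eq_inv, inv_eq_of_mul_eq_one_right hρT, mul_inv_eq_iff_eq_mul] at this
      exact this
    have hi : (Subgroup.zpowers (ρ f)).index = 2 := by
      have := (Subgroup.zpowers (ρ f)).card_mul_index
      rw [Nat.card_zpowers, hρf, hQ] at this; omega
    have hall : ∀ q : G ⧸ H, Commute q (ρ T) := by
      intro q
      by_cases hq : q ∈ Subgroup.zpowers (ρ f)
      · obtain ⟨k, rfl⟩ := Subgroup.mem_zpowers_iff.1 hq
        exact hcomm.zpow_left k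
      · have hqT : q * ρ T ∈ Subgroup.zpowers (ρ f) :=
          (Subgroup.mul_mem_iff_of_index_two hi).2 ⟨fun h => absurd h hq, fun h => absurd h hTK⟩
        obtain ⟨k, hk⟩ := Subgroup.mem_zpowers_iff.1 hqT
        have : q = (ρ f) ^ k * ρ T := by rw [hk, mul_assoc, hρT, mul_one]
        rw [this]
        exact (hcomm.zpow_left k).mul_left (Commute.refl _)
    haveI hLn : (Subgroup.zpowers (ρ T)).Normal := ⟨fun n hn q => by
      obtain ⟨k, rfl⟩ := Subgroup.mem_zpowers_iff.1 hn
      rw [((hall q).zpow_right k).eq, mul_inv_cancel_right]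
      exact hn⟩
    have hpg : IsPGroup 2 ((Subgroup.zpowers (ρ T)).comap ρ) := by
      refine IsPGroup.comap_of_ker_isPGroup ?_ ρ (by rw [QuotientGroup.ker_mk']; exact hH2)
      exact IsPGroup.of_card (n := 1) (by
        rw [Nat.card_zpowers, pow_one]
        exact orderOf_eq_prime (by rw [sq, hρT]) fun h => hTH ((QuotientGroup.eq_one_iff T).1 h))
    exact hTH (CfsgLib.LocalP.le_pCore inferInstance hpg (Subgroup.mem_zpowers (ρ T)))
  obtain ⟨k, hkf⟩ : ∃ k : ℤ, ρ g ^ k = ρ f := by
    have htop : Subgroup.zpowers (ρ g) = Subgroup.zpowers (ρ f) := by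
      refine Subgroup.eq_of_le_of_card_ge (Subgroup.zpowers_le.2 hgK) ?_
      have hd := Subgroup.orderOf_dvd_natCard _ hgK
      rw [Nat.card_zpowers, hρf] at hd ⊢
      rw [Nat.card_zpowers]
      exact (((Nat.dvd_prime h5.out).1 hd).resolve_left fun h => hg1 (orderOf_eq_one_iff.1 h)).ge
    exact Subgroup.mem_zpowers_iff.1 (htop ▸ Subgroup.mem_zpowers (ρ f))
  -- the bound on `W T`
  have hWT : Nat.card (W T) ≤ 8 := by
    let T' := f * T * f⁻¹
    have hinter : W T' ⊓ W T ≤ Z := by
      intro h hh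
      obtain ⟨hhH, hc'⟩ := memW.1 hh.1
      obtain ⟨-, hc⟩ := memW.1 hh.2
      refine hWf (memW.2 ⟨hhH, ?_⟩)
      have hcg : Commute (π h) (π g) := by
        rw [show g = T' * T from rfl, map_mul]
        exact Commute.mul_right hc' hc
      have hh' : (g ^ k)⁻¹ * f ∈ H := by
        rw [← QuotientGroup.eq]
        change ρ (g ^ k) = ρ f
        rw [map_zpow, hkf]
      have hch : Commute (π h) (π ((g ^ k)⁻¹ * f)) := hπ h hhH _ hh'
      rw [show f = g ^ k * ((g ^ k)⁻¹ * f) by group, map_mul, map_zpow]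
      exact (hcg.zpow_right k).mul_right hch
    have hconj : Nat.card (W T) ≤ Nat.card (W T') := by
      refine Nat.card_le_card_of_injective (fun h => (⟨f * (h : G) * f⁻¹, ?_⟩ : W T')) ?_
      · obtain ⟨hhH, hc⟩ := memW.1 h.2
        refine memW.2 ⟨hHn.conj_mem _ hhH f, ?_⟩
        simp only [T', map_mul, map_inv]
        calc π f * π (h : G) * (π f)⁻¹ * (π f * π T * (π f)⁻¹)
            = π f * (π (h : G) * π T) * (π f)⁻¹ := by group
          _ = π f * (π T * π (h : G)) * (π f)⁻¹ := by rw [hc]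
          _ = π f * π T * (π f)⁻¹ * (π f * π (h : G) * (π f)⁻¹) := by group
      · intro a b hab
        simpa using congrArg Subtype.val hab
    have e1 := card_mul_relIndex_of_le (inf_le_right : W T' ⊓ W T ≤ W T)
    rw [Subgroup.inf_relIndex_right] at e1
    have e2 := card_mul_relIndex_of_le (inf_le_left : W T' ≤ H)
    rw [h32] at e2
    have e3 : (W T').relIndex (W T) ≤ (W T').relIndex H :=
      Subgroup.relIndex_le_of_le_right inf_le_left Subgroup.index_ne_zero_of_finite
    have e4 : Nat.card ↥(W T' ⊓ W T) ≤ 2 := (Subgroup.card_le_of_le hinter).trans hZ2.le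
    have e5 : Nat.card (W T) ≤ 2 * (W T').relIndex H := e1 ▸ Nat.mul_le_mul e4 e3
    nlinarith
  -- the centralizer itself
  set C : Subgroup G := H ⊓ Subgroup.centralizer ({T} : Set G) with hC
  have hVC : V ≤ C := hV
  suffices hC4 : Nat.card C ≤ 4 by
    have heq : V = C := Subgroup.eq_of_le_of_card_ge hVC (hV4.symm ▸ hC4)
    rw [← heq]
    exact ⟨hV4, hVe⟩
  by_contra hC4
  push Not at hC4
  have hCW : C ≤ W T := fun h hh => memW.2 ⟨hh.1, by
    rw [← map_mul, ← map_mul, Subgroup.mem_centralizer_singleton_iff.1 hh.2]⟩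
  have hC8 : Nat.card C = 8 := by
    obtain ⟨m, -, hm⟩ := (Nat.dvd_prime_pow Nat.prime_two (m := 5)).1
      (h32 ▸ Subgroup.card_dvd_of_le (inf_le_left : C ≤ H))
    have h8 := (Subgroup.card_le_of_le hCW).trans hWT
    rw [hm] at hC4 h8 ⊢
    rcases m with _ | _ | _ | _ | m <;> simp_all
    have : 16 ≤ 2 ^ (m + 1 + 1 + 1 + 1) := by
      rw [show m + 1 + 1 + 1 + 1 = m + 4 from rfl, pow_add]
      have := Nat.one_le_pow m 2 (by norm_num)
      omega
    omega
  have hCWeq : C = W T := Subgroup.eq_of_le_of_card_ge hCW (hC8 ▸ hWT)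
  have hdH : ∀ h ∈ H, h⁻¹ * (T * h * T) ∈ H := fun h hh =>
    H.mul_mem (H.inv_mem hh) (by simpa [hTinv] using hHn.conj_mem h hh T)
  have hdC : ∀ h ∈ H, h⁻¹ * (T * h * T) ∈ C := by
    intro h hh
    rw [hCWeq]
    refine memW.2 ⟨hdH h hh, ?_⟩
    have e : T * (h⁻¹ * (T * h * T)) * T = (h⁻¹ * (T * h * T))⁻¹ := by
      calc T * (h⁻¹ * (T * h * T)) * T = T * h⁻¹ * T * h * (T * T) := by group
        _ = T * h⁻¹ * T * h := by rw [hT2, mul_one]
        _ = (h⁻¹ * (T * h * T))⁻¹ := by rw [mul_inv_rev, mul_inv_rev, mul_inv_rev, inv_inv, hTinv]; group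
    have h1 := congrArg π e
    rw [map_mul, map_mul, map_inv, inv_eq_of_mul_eq_one_right (hsq _ (hdH h hh))] at h1
    have h2 : π T * π T = 1 := by rw [← map_mul, hT2, map_one]
    calc π (h⁻¹ * (T * h * T)) * π T
        = π T * π (h⁻¹ * (T * h * T)) * π T * π T := by rw [h1]
      _ = π T * π (h⁻¹ * (T * h * T)) := by rw [mul_assoc, h2, mul_one]
  let ψ : H →* G ⧸ Z :=
    { toFun := fun h => π ((h : G)⁻¹ * (T * h * T))
      map_one' := by simp [hT2]
      map_mul' := fun a b => by
        have hTT : π T * π T = 1 := by rw [← map_mul, hT2, map_one]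
        have e : ((a * b : H) : G)⁻¹ * (T * ((a * b : H) : G) * T) =
            (b : G)⁻¹ * ((a : G)⁻¹ * (T * a * T)) * (T * b * T) := by
          calc ((a * b : H) : G)⁻¹ * (T * ((a * b : H) : G) * T)
              = (b : G)⁻¹ * (a : G)⁻¹ * T * a * (1 : G) * b * T := by
                rw [Subgroup.coe_mul]; group
            _ = _ := by rw [← hT2]; group
        rw [e, map_mul, map_mul, hπ _ (H.inv_mem b.2) _ (hdH a a.2), map_mul π (b : G)⁻¹, mul_assoc] }
  have hker : Nat.card ψ.ker ≤ 8 := by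
    refine le_trans ?_ hWT
    refine Nat.card_le_card_of_injective (fun h => (⟨((h : H) : G), ?_⟩ : W T)) ?_
    · refine memW.2 ⟨(h : H).2, ?_⟩
      have h1 : π ((h : H) : G)⁻¹ * π (T * ((h : H) : G) * T) = 1 := by
        rw [← map_mul]; exact h.2
      rw [map_inv, inv_mul_eq_one, map_mul, map_mul] at h1
      have hTT : π T * π T = 1 := by rw [← map_mul, hT2, map_one]
      calc π ((h : H) : G) * π T
          = π T * π ((h : H) : G) * π T * π T := by rw [← h1]
        _ = π T * π ((h : H) : G) := by rw [mul_assoc, hTT, mul_one]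
    · intro a b hab
      exact Subtype.ext (Subtype.ext (congrArg (fun w : W T => (w : G)) hab))
  have hrange : ψ.range = C.map π := by
    refine Subgroup.eq_of_le_of_card_ge ?_ ?_
    · rintro _ ⟨h, rfl⟩
      exact ⟨_, hdC h h.2, rfl⟩
    · have e1 := ψ.ker.card_mul_index
      rw [Subgroup.index_ker, h32] at e1
      let φ : C →* G ⧸ Z := π.comp C.subtype
      have hrφ : φ.range = C.map π := by
        rw [MonoidHom.range_comp, Subgroup.range_subtype]
      have e2 := φ.ker.card_mul_index
      rw [Subgroup.index_ker, hC8, hrφ] at e2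
      have e3 : 2 ≤ Nat.card φ.ker := by
        rw [← hZ2]
        refine Nat.card_le_card_of_injective (fun z => (⟨⟨(z : G), hZH z.2,
          Subgroup.mem_centralizer_singleton_iff.2 (hZc z z.2 T).symm⟩,
          (QuotientGroup.eq_one_iff _).2 z.2⟩ : φ.ker)) ?_
        intro a b hab
        exact Subtype.ext (congrArg (fun w : φ.ker => ((w : C) : G)) hab)
      nlinarith
  have hCel : Cfsg.IsElementaryAbelian 2 C := by
    have hw : ∀ w ∈ C, w * w = 1 := by
      intro w hw
      obtain ⟨⟨h, hh⟩, hh2⟩ := hrange.ge (Subgroup.mem_map_of_mem π hw)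
      set d := h⁻¹ * (T * h * T) with hd
      have hdd : d * d = 1 := by
        have hc : d * T = T * d := Subgroup.mem_centralizer_singleton_iff.1 (hdC h hh).2
        have e : T * d * T = d⁻¹ := by
          calc T * d * T = T * h⁻¹ * T * h * (T * T) := by rw [hd]; group
            _ = T * h⁻¹ * T * h := by rw [hT2, mul_one]
            _ = d⁻¹ := by rw [hd, mul_inv_rev, mul_inv_rev, mul_inv_rev, inv_inv, hTinv]; group
        rw [← hc, mul_assoc, hT2, mul_one] at e
        nth_rw 1 [e]
        exact inv_mul_cancel d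
      have hz : d⁻¹ * w ∈ Z := QuotientGroup.eq.1 (hh2 : π d = π w)
      have e2 : w = d * (d⁻¹ * w) := by group
      rw [e2]
      calc d * (d⁻¹ * w) * (d * (d⁻¹ * w)) = d * ((d⁻¹ * w) * d) * (d⁻¹ * w) := by group
        _ = d * (d * (d⁻¹ * w)) * (d⁻¹ * w) := by rw [hZc _ hz d]
        _ = (d * d) * ((d⁻¹ * w) * (d⁻¹ * w)) := by group
        _ = 1 := by rw [hdd, hZsq _ hz, one_mul]
    refine ⟨⟨⟨fun a b => Subtype.ext ?_⟩⟩, fun a ha => by rw [sq]; exact hw a ha⟩
    have ha := inv_eq_of_mul_eq_one_right (hw a a.2)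
    have hb := inv_eq_of_mul_eq_one_right (hw b b.2)
    have hab := inv_eq_of_mul_eq_one_right (hw _ (C.mul_mem a.2 b.2))
    rw [mul_inv_rev, ha, hb] at hab
    exact hab.symm
  have := hminus C inf_le_left hCel
  omega

end Cfsg.Agent.S4405
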