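import Cfsg.Statements.S4419
import Cfsg.Agent.Eq.Def_Transfer
import Cfsg.Agent.Eq.Def_Local
import Cfsg.Agent.Eq.Def_OddOrderLocal
import Cfsg.Agent.Transfer.SmallRank
import Cfsg.Agent.Constrained.Basic

set_option autoImplicit false
open Cfsg

namespace Cfsg.Agent.S4419

section
variable {p : ℕ} [hp : Fact p.Prime]

theorem card_dvd_of_cyclic {V : Type*} [Group V] [Finite V] (hc : IsCyclic V) (h : ∀ v : V, v ^ p = 1) :
    Nat.card V ∣ p := by
  haveI := hc
  rw [← IsCyclic.exponent_eq_card]
  exact Monoid.exponent_dvd_of_forall_pow_eq_one h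

theorem frattini_index_of_metacyclic {R : Type*} [Group R] [Finite R] (hR : IsPGroup p R)
    (hm : Cfsg.IsMetacyclic R) (H : Subgroup R) : (frattini H).index ∣ p ^ 2 := by
  obtain ⟨N, hN, hNc, hQc⟩ := hm
  haveI := hN; haveI := hNc; haveI := hQc
  set π := QuotientGroup.mk' (frattini H) with hπ
  set N' := N.subgroupOf H with hN'
  have hN'c : IsCyclic N' := isCyclic_of_injective ((H.subtype.comp N'.subtype).codRestrict N
    (fun x => x.2)) (fun a b h => by
      apply Subtype.ext; apply Subtype.ext
      exact congrArg (fun x : N => (x : R)) h)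
  set C := N'.map π with hC
  haveI : C.Normal := Subgroup.Normal.map inferInstance _ (QuotientGroup.mk'_surjective _)
  have hpow := CfsgLib.PGroup.frattini_quotient_pow (hR.to_subgroup H)
  have h1 : Nat.card C ∣ p := by
    haveI := hN'c
    refine card_dvd_of_cyclic (isCyclic_of_surjective _ (MonoidHom.subgroupMap_surjective π N')) ?_
    exact fun v => Subtype.ext (hpow v)
  have h2 : C.index ∣ p := by
    rw [Subgroup.index_eq_card]
    have hcy : IsCyclic (↥H ⧸ N') := isCyclic_of_injective
      (QuotientGroup.map N' N H.subtype le_rfl) (by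
        rw [injective_iff_map_eq_one]
        intro x hx
        obtain ⟨y, rfl⟩ := QuotientGroup.mk'_surjective N' x
        exact (QuotientGroup.eq_one_iff y).mpr ((QuotientGroup.eq_one_iff (y : R)).mp hx))
    refine card_dvd_of_cyclic (isCyclic_of_surjective
      (QuotientGroup.map N' C π (Subgroup.le_comap_map π N')) ?_) fun v => ?_
    · intro x
      obtain ⟨y, rfl⟩ := QuotientGroup.mk'_surjective C x
      obtain ⟨z, rfl⟩ := QuotientGroup.mk'_surjective (frattini H) y
      exact ⟨QuotientGroup.mk' N' z, rfl⟩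
    · obtain ⟨y, rfl⟩ := QuotientGroup.mk'_surjective C v
      rw [← map_pow, hpow, map_one]
  rw [Subgroup.index_eq_card, ← C.card_mul_index, sq]
  exact Nat.mul_dvd_mul h1 h2

end


/-- Let p be a prime and G a finite group whose Sylow p-subgroups are metacyclic (a cyclic normal subgroup with cyclic quotient). Then G has a normal p-complement if and only if the order of G/O_{p′,p}(G) is coprime to p² − 1. -/
theorem result {G : Type*} [Group G] [Finite G] (p : ℕ) [Fact p.Prime] (S : Sylow p G) (hS : Cfsg.IsMetacyclic ↥(S : Subgroup G)) : Cfsg.HasNormalPComplement p G ↔ Nat.Coprime (Nat.card (G ⧸ Cfsg.pPrimePCore p G)) (p ^ 2 - 1) := by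
  haveI : (Cfsg.pPrimeCore p G).Normal := CfsgLib.Constrained.instNormalPPrimeCore p
  set K := Cfsg.pPrimeCore p G with hK
  set π := QuotientGroup.mk' K with hπ
  constructor
  · intro h
    obtain ⟨N, hN, hc, k, hk⟩ := CfsgLib.Transfer.hasNormalPComplement_iff_exists.mp h
    have hNK : N ≤ K := CfsgLib.Constrained.le_pPrimeCore hN hc
    have hp' : IsPGroup p (⊤ : Subgroup (G ⧸ K)) := by
      refine IsPGroup.of_card_dvd_pow (n := k) ?_
      rw [Subgroup.card_top, ← Subgroup.index_eq_card, ← hk]
      exact Subgroup.index_dvd_of_le hNK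
    have htop : Cfsg.pPrimePCore p G = ⊤ := by
      rw [Cfsg.pPrimePCore, top_le_iff.mp (CfsgLib.Constrained.le_pCore inferInstance hp'),
        Subgroup.comap_top]
    rw [← Subgroup.index_eq_card, htop, Subgroup.index_top]
    exact Nat.coprime_one_left _
  · intro hcop
    haveI : (Cfsg.pPrimePCore p G).Normal := by
      have : (Cfsg.pCore p (G ⧸ K)).Normal := inferInstance
      exact this.comap _
    refine CfsgLib.Transfer.hasNormalPComplement_of_pLocal_centralizes fun Q hQ g hg hgc => ?_
    refine CfsgLib.Transfer.mem_of_primePow_parts _ _ g rfl fun a ha q k hq hak => ?_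
    have haN := Subgroup.zpowers_le.mpr hg ha
    rcases Nat.eq_zero_or_pos k with rfl | hk0
    · rw [pow_zero, orderOf_eq_one_iff] at hak
      rw [hak]; exact one_mem _
    haveI := Fact.mk hq
    have hac : (orderOf a).Coprime p :=
      Nat.Coprime.coprime_dvd_left (orderOf_dvd_of_mem_zpowers ha) hgc
    have hqp : q ≠ p := by
      rintro rfl
      rw [hak, Nat.coprime_pow_left_iff hk0] at hac
      simp [hq.ne_one] at hac
    by_cases hdvd : q ∣ p ^ 2 - 1
    · -- then `a` lies in `O_{p',p}(G)`
      have haR : a ∈ Cfsg.pPrimePCore p G := by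
        rw [← QuotientGroup.eq_one_iff, ← orderOf_eq_one_iff]
        obtain ⟨j, -, hj⟩ := (Nat.dvd_prime_pow hq).mp
          (hak ▸ orderOf_map_dvd (QuotientGroup.mk' (Cfsg.pPrimePCore p G)) a)
        rcases Nat.eq_zero_or_pos j with rfl | hj0
        · simpa using hj
        · exfalso
          exact hq.ne_one (Nat.eq_one_of_dvd_coprimes hcop
            ((dvd_pow_self q hj0.ne').trans (hj ▸ orderOf_dvd_natCard _)) hdvd)
      have haK : a ∈ K := by
        rw [← QuotientGroup.eq_one_iff, ← orderOf_eq_one_iff]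
        obtain ⟨j, hj⟩ := IsPGroup.iff_orderOf.mp CfsgLib.Constrained.isPGroup_pCore
          (⟨π a, show π a ∈ Cfsg.pCore p (G ⧸ K) from haR⟩ : Cfsg.pCore p (G ⧸ K))
        rw [Subgroup.orderOf_mk] at hj
        exact CfsgLib.Transfer.eq_one_of_coprime_of_dvd_pow
          (Nat.Coprime.coprime_dvd_left (orderOf_map_dvd π a) hac) (dvd_of_eq hj)
      rw [Subgroup.mem_centralizer_iff]
      intro u hu
      have h1 : a * u * a⁻¹ * u⁻¹ ∈ K := by
        have := K.mul_mem haK ((inferInstance : K.Normal).conj_mem _ (K.inv_mem haK) u)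
        simpa [mul_assoc] using this
      have h2 : a * u * a⁻¹ * u⁻¹ = 1 :=
        CfsgLib.Transfer.eq_one_of_mem_pGroup_of_coprime hQ
          (Q.mul_mem ((Subgroup.mem_normalizer_iff.mp haN u).mp hu) (Q.inv_mem hu))
          (Nat.Coprime.coprime_dvd_left (Subgroup.orderOf_dvd_natCard K h1)
            (CfsgLib.Transfer.coprime_of_not_dvd CfsgLib.Constrained.pPrimeCore_not_dvd))
      exact (mul_inv_eq_iff_eq_mul.mp (mul_inv_eq_one.mp h2)).symm
    · obtain ⟨W, hW⟩ := hQ.exists_le_sylow
      obtain ⟨x, hx⟩ := MulAction.exists_smul_eq G W S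
      -- move `Q` into `S`
      have hle : Q.map (MulAut.conj x).toMonoidHom ≤ (S : Subgroup G) := by
        rintro _ ⟨u, hu, rfl⟩
        rw [← hx]
        exact CfsgLib.Transfer.mem_smul_sylow x (hW hu)
      set Q' := Q.map (MulAut.conj x).toMonoidHom with hQ'
      have hd : (frattini Q').index ∣ p ^ 2 := by
        have h1 := frattini_index_of_metacyclic S.2 hS (Q'.subgroupOf (S : Subgroup G))
        have hmap := CfsgLib.PGroup.map_frattini_eq (S.2.to_subgroup (Q'.subgroupOf (S : Subgroup G)))
          (Subgroup.subgroupOfEquivOfLe hle).toMonoidHom (Subgroup.subgroupOfEquivOfLe hle).surjective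
        rw [← hmap]
        exact (Subgroup.index_map_dvd _ (Subgroup.subgroupOfEquivOfLe hle).surjective).trans h1
      have ha' : MulAut.conj x a ∈ Subgroup.normalizer (Q' : Set G) := by
        refine Subgroup.mem_normalizer_fintype ?_
        rintro _ ⟨u, hu, rfl⟩
        exact ⟨a * u * a⁻¹, (Subgroup.mem_normalizer_iff.mp haN u).mp hu,
          by simp only [MulEquiv.coe_toMonoidHom, map_mul, map_inv]⟩
      have key := CfsgLib.Transfer.mem_centralizer_of_frattini_index (S.2.to_le hle) ha' hqp
        (k := k) (by rw [MulEquiv.orderOf_eq, hak]) hd (fun i hi1 hi2 hdv => hdvd ?_)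
      · rw [Subgroup.mem_centralizer_iff] at key ⊢
        intro u hu
        have h2 := key _ ⟨u, hu, rfl⟩
        simp only [MulEquiv.coe_toMonoidHom, ← map_mul] at h2
        exact (MulAut.conj x).injective h2
      · interval_cases i
        · rw [pow_one] at hdv
          refine hdv.trans ?_
          simpa using Nat.sub_dvd_pow_sub_pow p 1 2
        · exact hdv

end Cfsg.Agent.S4419
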