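import Cfsg.Statements.S4501
import Cfsg.Agent.HerzogThree.Three
import Cfsg.Agent.S0494
import Cfsg.Agent.S0992
-- import your own Cfsg.Agent.* helpers here

set_option autoImplicit false
set_option linter.style.haveILetI false
open Cfsg

namespace Cfsg.Agent.S4501

/-- Let G be a non-abelian finite simple group and p, q distinct primes. If the order of G is 4·p^a·q^b with a ≤ 2, then G is isomorphic to the alternating group of degree 5. If the order of G is 3·p^a·q^b with a ≤ 2, then G is isomorphic to the alternating group of degree 5 or to PSL(2,7). -/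
theorem result {G : Type*} [Group G] [Finite G] [IsSimpleGroup G] (hna : ∃ x y : G, x * y ≠ y * x) (p q a b : ℕ) (hp : p.Prime) (hq : q.Prime) (hpq : p ≠ q) (ha : a ≤ 2) : (Nat.card G = 4 * p ^ a * q ^ b → Nonempty (G ≃* alternatingGroup (Fin 5))) ∧ (Nat.card G = 3 * p ^ a * q ^ b → Nonempty (G ≃* alternatingGroup (Fin 5)) ∨ Nonempty (G ≃* Matrix.ProjectiveSpecialLinearGroup (Fin 2) (ZMod 7))) := by
  classical
  have hna' : ¬ IsMulCommutative G := fun h => by
    obtain ⟨x, y, hxy⟩ := hna
    exact hxy (h.is_comm.comm x y)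
  have hsolv := CfsgLib.HerzogThree.not_isSolvable hna'
  constructor
  · intro h
    by_cases hp2 : p = 2
    · subst hp2
      exact absurd (CfsgLib.Chars.Apps.isSolvable_of_card_eq_pow_mul_pow G Nat.prime_two hq
        (a := a + 2) (b := b) (by rw [h]; ring)) hsolv
    by_cases hq2 : q = 2
    · subst hq2
      exact absurd (CfsgLib.Chars.Apps.isSolvable_of_card_eq_pow_mul_pow G Nat.prime_two hp
        (a := b + 2) (b := a) (by rw [h]; ring)) hsolv
    exact Cfsg.Agent.S0494.result (CfsgLib.HerzogThree.card_eq_sixty hna' hp hq hp2 hq2 h)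
  · intro h
    by_cases hp3 : p = 3
    · subst hp3
      exact absurd (CfsgLib.Chars.Apps.isSolvable_of_card_eq_pow_mul_pow G Nat.prime_three hq
        (a := a + 1) (b := b) (by rw [h]; ring)) hsolv
    by_cases hq3 : q = 3
    · subst hq3
      exact absurd (CfsgLib.Chars.Apps.isSolvable_of_card_eq_pow_mul_pow G Nat.prime_three hp
        (a := b + 1) (b := a) (by rw [h]; ring)) hsolv
    by_cases hq2 : q = 2
    · subst hq2
      exact CfsgLib.HerzogThree.order_three hna' hp hpq ha h
    have hqo : Odd (q ^ b) := (hq.odd_of_ne_two hq2).pow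
    by_cases hp2 : p = 2
    · subst hp2
      rcases (show a = 0 ∨ a = 1 ∨ a = 2 by omega) with rfl | rfl | rfl
      · exact absurd (CfsgLib.Chars.Apps.isSolvable_of_card_eq_pow_mul_pow G Nat.prime_three hq
          (a := 1) (b := b) (by rw [h]; ring)) hsolv
      · exfalso
        haveI : Fact (Nat.Prime 2) := ⟨Nat.prime_two⟩
        obtain ⟨T⟩ := (inferInstance : Nonempty (Sylow 2 G))
        obtain ⟨k, hk⟩ := hqo
        have h6 : Nat.card G = 6 * q ^ b := by rw [h]; ring
        have h8 : ¬ 8 ∣ Nat.card G := fun h8 => by omega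
        obtain ⟨hT, -⟩ := Cfsg.Agent.S0992.result hna' ⟨3 * q ^ b, by omega⟩ h8 T
        have h4 := (T : Subgroup G).card_subgroup_dvd_card
        rw [hT.card_four] at h4
        omega
      · exact Or.inl (Cfsg.Agent.S0494.result (CfsgLib.HerzogThree.card_eq_sixty hna' Nat.prime_three hq
          (by norm_num) hq2 (a := 1) (b := b) (by rw [h]; ring)))
    exfalso
    haveI : Fact (Nat.Prime 3) := ⟨Nat.prime_three⟩
    have hodd : Odd (Nat.card G) := by
      rw [h]
      exact ((by decide : Odd 3).mul (hp.odd_of_ne_two hp2).pow).mul hqo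
    have hd3 : 3 ∣ Nat.card G := h ▸ dvd_mul_of_dvd_left (dvd_mul_right 3 _) _
    have hmin : (Nat.card G).minFac = 3 := by
      refine le_antisymm (Nat.minFac_le_of_dvd (by norm_num) hd3) ?_
      have hpr : (Nat.card G).minFac.Prime := Nat.minFac_prime (fun h1 => by
        rw [h1] at hd3
        exact absurd hd3 (by norm_num))
      have := hpr.two_le
      have hne : (Nat.card G).minFac ≠ 2 := fun h2 => hodd.not_two_dvd_nat ((Nat.minFac_eq_two_iff _).mp h2)
      omega
    have h3d : ¬ 3 ∣ p ^ a * q ^ b := by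
      intro h'
      rcases Nat.prime_three.dvd_mul.mp h' with h' | h'
      · exact hp3 ((Nat.prime_dvd_prime_iff_eq Nat.prime_three hp).mp (Nat.prime_three.dvd_of_dvd_pow h')).symm
      · exact hq3 ((Nat.prime_dvd_prime_iff_eq Nat.prime_three hq).mp (Nat.prime_three.dvd_of_dvd_pow h')).symm
    obtain ⟨-, -, hsyl⟩ := CfsgLib.SmallSimple.card_sylow_constraints 3 (p ^ a * q ^ b) (k := 1)
      (by rw [h, pow_one, mul_assoc]) h3d
    obtain ⟨T⟩ := (inferInstance : Nonempty (Sylow 3 G))
    exact CfsgLib.SmallSimple.sylow_minFac_not_isCyclic hna' hmin T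
      (isCyclic_of_prime_card (p := 3) (by simpa using (hsyl T).1))

end Cfsg.Agent.S4501
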