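import Cfsg.Statements.S4570
import Cfsg.Agent.Eq.Def_Blocks
import Cfsg.Agent.Eq.Def_BlockRank
import Cfsg.Agent.Blocks.AbelianSmallTwo.Main

set_option autoImplicit false
open Cfsg

namespace Cfsg.Agent.S4570

/-- Let G be a finite group with a commutative Sylow 2-subgroup P and M a maximal ideal of the algebraic integers containing 2, and suppose some involution x of G has the property that the principal 2-block of its centralizer has 2-regular rank one. If P has order 8 then the principal 2-block of G contains exactly 8 irreducible characters, and if P has order 16 it contains 8 or 16. -/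
theorem result {G : Type*} [Group G] [Finite G] (M : Ideal Cfsg.AlgInt) (hM : Cfsg.IsPModular 2 M) (P : Sylow 2 G) (hab : IsMulCommutative P) (x : G) (hx : orderOf x = 2) (hl : Cfsg.blockRank 2 (Cfsg.principalBlock M ↥(Subgroup.centralizer ({x} : Set G))) = 1) : (Nat.card P = 8 → Nat.card (Cfsg.principalBlock M G) = 8) ∧ (Nat.card P = 16 → Nat.card (Cfsg.principalBlock M G) = 8 ∨ Nat.card (Cfsg.principalBlock M G) = 16) := by
  haveI : Fact (Nat.Prime 2) := ⟨Nat.prime_two⟩
  obtain ⟨Q, hQ⟩ := (IsPGroup.of_card (n := 1) (by rw [Nat.card_zpowers, hx, pow_one]) :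
    IsPGroup 2 (Subgroup.zpowers x)).exists_le_sylow
  haveI := hab
  have hQab : IsMulCommutative (Q : Subgroup G) := ⟨⟨fun a b => (Sylow.equiv Q P).injective (by
    rw [map_mul, map_mul, hab.is_comm.comm])⟩⟩
  have hcard : Nat.card Q = Nat.card P := Nat.card_congr (Sylow.equiv Q P).toEquiv
  have hx1 : x ≠ 1 := fun h => by rw [h, orderOf_one] at hx; norm_num at hx
  refine ⟨fun h => ?_, fun h => ?_⟩
  · exact (CfsgLib.Blocks.AbelianSmallTwo.count_of_rank_one hM hQab (Or.inl (hcard.trans h))
      (hQ (Subgroup.mem_zpowers x)) hx1 hl).1 (hcard.trans h)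
  · exact (CfsgLib.Blocks.AbelianSmallTwo.count_of_rank_one hM hQab (Or.inr (hcard.trans h))
      (hQ (Subgroup.mem_zpowers x)) hx1 hl).2 (hcard.trans h)

end Cfsg.Agent.S4570
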