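import Cfsg.Statements.S4573
import Cfsg.Agent.MGroupWreath.Basic

set_option autoImplicit false
universe u
open Cfsg

namespace Cfsg.Agent.S4573

open CfsgLib.MGroupWreath

universe w

theorem exists_normal_prime {G : Type w} [Group G] [Finite G] [Group.IsSolvable G] [Nontrivial G] :
    ∃ N : Subgroup G, ∃ _ : N.Normal, (Nat.card (G ⧸ N)).Prime := by
  have hne : commutator G ≠ ⊤ := (Group.IsSolvable.commutator_lt_top_of_nontrivial G).ne
  obtain ⟨M, hM, hle⟩ := (eq_top_or_exists_le_coatom (commutator G)).resolve_left hne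
  have hn : M.Normal := ⟨fun m hm g => by
    have h1 : g * m * g⁻¹ * m⁻¹ ∈ M :=
      hle (Subgroup.commutator_mem_commutator (Subgroup.mem_top g) (Subgroup.mem_top m))
    have h2 := M.mul_mem h1 hm
    rwa [inv_mul_cancel_right] at h2⟩
  haveI := hn
  refine ⟨M, hn, ?_⟩
  haveI : Nontrivial (G ⧸ M) := by
    rw [← not_subsingleton_iff_nontrivial, QuotientGroup.subsingleton_iff]
    exact hM.1
  obtain ⟨q, hq, hqd⟩ := Nat.exists_prime_and_dvd (Finite.one_lt_card (α := G ⧸ M)).ne'
  haveI := Fact.mk hq
  obtain ⟨u, hu⟩ := exists_prime_orderOf_dvd_card' (G := G ⧸ M) q hqd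
  have hu1 : u ≠ 1 := fun h => hq.one_lt.ne (by rw [← hu, h, orderOf_one])
  have hlt : M < (Subgroup.zpowers u).comap (QuotientGroup.mk' M) := by
    refine lt_of_le_of_ne (fun k hk => ?_) fun h => ?_
    · rw [Subgroup.mem_comap, show QuotientGroup.mk' M k = 1 from (QuotientGroup.eq_one_iff k).2 hk]
      exact one_mem _
    · obtain ⟨g, rfl⟩ := QuotientGroup.mk'_surjective M u
      have hg : g ∈ (Subgroup.zpowers (QuotientGroup.mk' M g)).comap (QuotientGroup.mk' M) :=
        Subgroup.mem_zpowers _
      rw [← h] at hg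
      exact hu1 ((QuotientGroup.eq_one_iff g).2 hg)
  have htop := hM.2 _ hlt
  have h2 : Subgroup.zpowers u = ⊤ := eq_top_iff.2 fun x _ => by
    obtain ⟨g, rfl⟩ := QuotientGroup.mk'_surjective M x
    exact Subgroup.mem_comap.1 (htop ▸ Subgroup.mem_top g)
  rw [← Subgroup.card_top, ← h2, Nat.card_zpowers, hu]
  exact hq

theorem exists_mon_embedding : ∀ (n : ℕ) (G : Type w) [Group G] [Finite G], Group.IsSolvable G →
    Nat.card G = n → ∃ (M : Type w) (_ : Group M) (_ : Fintype M),
      IsMon M ∧ ∃ f : G →* M, Function.Injective f := by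
  intro n
  induction n using Nat.strong_induction_on with
  | _ n ih =>
    intro G _ _ hsolv hn
    haveI := hsolv
    cases subsingleton_or_nontrivial G with
    | inl hs =>
      haveI := Fintype.ofFinite G
      exact ⟨G, inferInstance, inferInstance,
        isMon_of_commutator_eq_bot (eq_bot_iff.2 fun x _ => Subsingleton.elim x 1 ▸ one_mem _),
        MonoidHom.id G, Function.injective_id⟩
    | inr hs =>
      obtain ⟨N, hN, hp⟩ := exists_normal_prime (G := G)
      have hlt : Nat.card N < n := by
        rw [← hn, ← Subgroup.card_mul_index N]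
        exact lt_mul_of_one_lt_right Nat.card_pos hp.one_lt
      obtain ⟨M, _, _, hM, f, hf⟩ := ih _ hlt N inferInstance rfl
      haveI := Fintype.ofFinite (G ⧸ N)
      haveI := Fintype.ofFinite (RegularWreathProduct M (G ⧸ N))
      exact ⟨RegularWreathProduct M (G ⧸ N), inferInstance, inferInstance, hM.wreath hp,
        kkHom N f, kkHom_injective N hf⟩

/-- Every finite solvable group is isomorphic to a subgroup of a finite M-group, a group each of whose irreducible characters is induced from a homomorphism of some subgroup into ℂˣ. -/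
theorem result {G : Type u} [Group G] [Finite G] (hsolv : Group.IsSolvable G) : ∃ (M : Type u) (_ : Group M) (_ : Fintype M), (∀ χ : M → ℂ, Cfsg.IsIrrCharacter M χ → (∃ (H : Subgroup M) (lam : ↥H →* ℂˣ), χ = Cfsg.indFun H (fun h => (lam h : ℂ)))) ∧ ∃ f : G →* M, Function.Injective f := by
  obtain ⟨M, hg, hfin, hM, f, hf⟩ := exists_mon_embedding _ G hsolv rfl
  exact ⟨M, hg, hfin, hM, f, hf⟩

end Cfsg.Agent.S4573
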