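import Cfsg.Statements.S4650
import Cfsg.Agent.Blocks.Defect.InducedIn
import Cfsg.Agent.Blocks.Defect.LocalBlocks
import Cfsg.Agent.Blocks.Basic.Residue
import Cfsg.Agent.Blocks.Orth.SecondMain
import Cfsg.Agent.Blocks.Orth.Subsection

set_option autoImplicit false
open Cfsg CfsgLib CfsgLib.Blocks
open scoped Pointwise

namespace Cfsg.Agent.S4650

/-- Let B be a block of the finite group G relative to a maximal ideal M of the algebraic integers containing the prime p, with a nontrivial commutative defect group P; let c be a block of C_G(P) inducing B and T the stabilizer of c in N_G(P). Then T/C_G(P) acts freely on the non-identity elements of P (an element of T fixing a non-identity element of P under conjugation lies in C_G(P)) if and only if, for every nontrivial subgroup Q of P, the block of C_G(Q) induced by c inside C_G(Q) is a nilpotent block of C_G(Q). -/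
theorem result {G : Type*} [Group G] [Finite G] (p : ℕ) [Fact p.Prime] (M : Ideal Cfsg.AlgInt) (hM : Cfsg.IsPModular p M) (B : Set (Cfsg.IrrCharacter G)) (hB : Cfsg.IsPBlock M B) (P : Subgroup G) (hPD : Cfsg.IsDefectGroup p M B P) (hPab : ∀ x ∈ P, ∀ y ∈ P, x * y = y * x) (hP1 : P ≠ ⊥) (c : Set (Cfsg.IrrCharacter (Subgroup.centralizer (P : Set G)))) (hc : Cfsg.IsInducedBlock M (Subgroup.centralizer (P : Set G)) c B) (T : Subgroup G) (hT : ∀ g : G, g ∈ T ↔ (g ∈ Subgroup.normalizer (P : Set G) ∧ Cfsg.StabilizesBlock (Subgroup.centralizer (P : Set G)) c g)) : (∀ g ∈ T, ∀ x ∈ P, x ≠ 1 → g * x * g⁻¹ = x → g ∈ Subgroup.centralizer (P : Set G)) ↔ ∀ Q : Subgroup G, Q ≤ P → Q ≠ ⊥ → ∀ f : Set (Cfsg.IrrCharacter (Subgroup.centralizer (Q : Set G))), Cfsg.IsInducedBlockIn M (Subgroup.centralizer (Q : Set G)) (Subgroup.centralizer (P : Set G)) c f → Cfsg.IsNilpotentBlock p M f := by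
  classical
  haveI : M.IsMaximal := hM.2.1
  haveI : CharP (kres M) p := charP_kres hM
  have hcb := hc.1
  have hE := isBlockIdem_topEl (M := M) hB
  have hD := (isDefectGroup_topEl_iff (M := M) hB P).1 hPD
  have hPp := hD.2.1
  have hPC : P ≤ Subgroup.centralizer (P : Set G) := fun x hx =>
    Subgroup.mem_centralizer_iff.mpr fun y hy => hPab y hy x hx
  have hCN : Subgroup.centralizer (P : Set G) ≤ Subgroup.normalizer (P : Set G) :=
    Subgroup.centralizer_le_normalizer _
  have hover := (isInducedBlock_iff_brOver hM hPp hPC le_rfl hCN hcb hB).1 hc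
  set cE := subEl M (Subgroup.centralizer (P : Set G)) c with hcE
  have hpair : IsPairIdem p ⊤ P cE := (isBrauerPair_iff hcb).mp ⟨hPp, hcb⟩
  have hmax : IsMaxPairIdem p ⊤ (topEl M B) P cE := by
    refine ⟨⟨hpair, hover⟩, fun R r hR hle => ?_⟩
    refine (Subgroup.eq_of_le_of_card_ge hle.le (hD.card_le le_top hR.1.1 fun h0 => ?_)).symm
    have h1 : brTrunc R (topEl M B) * r = r := hR.2
    rw [h0, zero_mul] at h1
    exact hR.1.2.2.ne_zero h1.symm
  have hTs : T = pairStab ⊤ P cE := eq_pairStab (M := M) hcb hT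
  have hnormP : ∀ {R : Subgroup G}, R ≤ P → P ≤ Subgroup.normalizer (R : Set G) := by
    intro R hR u hu
    refine mem_normalizer_of_map_conj_le ?_
    rintro _ ⟨q, hq, rfl⟩
    show u * q * u⁻¹ ∈ R
    rwa [hPab u hu q (hR hq), mul_inv_cancel_right]
  -- subpairs of `(P, c)` and induction
  have hsub : ∀ {Q : Subgroup G} (hQP : Q ≤ P)
      {f : Set (IrrCharacter (Subgroup.centralizer (Q : Set G)))}, IsPBlock M f →
      (IsInducedBlockIn M (Subgroup.centralizer (Q : Set G)) (Subgroup.centralizer (P : Set G)) c f ↔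
        IsNormalPairIdem p ⊤ Q (subEl M _ f) P cE) := by
    intro Q hQP f hf
    rw [isInducedBlockIn_iff_brOver hM hPp hPC (Subgroup.centralizer_le hQP) inf_le_right hCN hcb hf]
    have hpQ : IsPairIdem p ⊤ Q (subEl M _ f) :=
      (isBrauerPair_iff hf).mp ⟨hPp.to_le hQP, hf⟩
    refine ⟨fun h => ⟨hpQ, hpair, hQP, hnormP hQP, ?_, h⟩, fun h => h.2.2.2.2.2⟩
    refine (isBlockIdem_subEl hf).mem.2.mono fun u hu => ?_
    exact Subgroup.mem_centralizer_iff.mpr fun q hq => hPab q (hQP hq) u hu
  constructor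
  · intro hfree Q hQP hQ1 f hfind
    have hf := hfind.2.1
    have hn := (hsub hQP hf).mp hfind
    rw [isNilpotentBlock_subEl_iff hf]
    set fE := subEl M (Subgroup.centralizer (Q : Set G)) f with hfE
    have hfb : IsBlockIdem (Subgroup.centralizer (Q : Set G)) fE := isBlockIdem_subEl hf
    have hPQ : P ≤ Subgroup.centralizer (Q : Set G) := fun u hu =>
      Subgroup.mem_centralizer_iff.mpr fun q hq => hPab q (hQP hq) u hu
    have hinf : ∀ {S : Subgroup G}, Q ≤ S → Subgroup.centralizer (Q : Set G) ⊓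
        Subgroup.centralizer (S : Set G) = Subgroup.centralizer (S : Set G) := fun hS =>
      inf_eq_right.mpr (Subgroup.centralizer_le hS)
    have hmaxH : IsMaxPairIdem p (Subgroup.centralizer (Q : Set G)) fE P cE := by
      refine ⟨⟨⟨hPp, hPQ, by rw [hinf hQP]; exact isBlockIdem_subEl hcb⟩, hn.2.2.2.2.2⟩,
        fun R r hR hle => ?_⟩
      have hQR : Q ≤ R := hQP.trans hle.le
      have hRN : R ≤ Subgroup.normalizer (Q : Set G) :=
        hR.1.2.1.trans (Subgroup.centralizer_le_normalizer _)
      have hnR : IsNormalPairIdem p ⊤ Q fE R r :=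
        ⟨hn.1, ⟨hR.1.1, le_top, by rw [top_inf_eq, ← hinf hQR]; exact hR.1.2.2⟩, hQR, hRN,
          hfb.mem.2.mono hR.1.2.1, hR.2⟩
      have hRe := ((PairLE.single hnR).pairOf_iff hE hnR.2.1).mp
        (((PairLE.single hn).pairOf_iff hE hpair).mpr hmax.1)
      refine (Subgroup.eq_of_le_of_card_ge hle.le (hD.card_le le_top hR.1.1 fun h0 => ?_)).symm
      have h1 : brTrunc R (topEl M B) * r = r := hRe.2
      rw [h0, zero_mul] at h1
      exact hR.1.2.2.ne_zero h1.symm
    intro R r hR x hx hxN hxr _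
    obtain ⟨y, hy, hle⟩ := hR.exists_conj_le hfb hmaxH
    set R' := R.map (MulAut.conj y).toMonoidHom with hR'
    set r' := Blocks.conjA y r with hr'
    have hR'P : R' ≤ P := hle.le
    have hnH := hle.isNormal hmaxH.1.1 (hnormP hR'P)
    set S := R' ⊔ Q with hS
    have hSP : S ≤ P := sup_le hR'P hQP
    have hCS : Subgroup.centralizer (S : Set G) =
        Subgroup.centralizer (Q : Set G) ⊓ Subgroup.centralizer (R' : Set G) := by
      refine le_antisymm (le_inf (Subgroup.centralizer_le (le_sup_right : Q ≤ S))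
        (Subgroup.centralizer_le (le_sup_left : R' ≤ S))) fun z hz => ?_
      have h : S ≤ Subgroup.centralizer ({z} : Set G) :=
        sup_le (le_centralizer_singleton_of_mem hz.2) (le_centralizer_singleton_of_mem hz.1)
      exact mem_centralizer_of_le_centralizer_singleton h
    have hnS : IsNormalPairIdem p ⊤ S r' P cE :=
      ⟨⟨hPp.to_le hSP, le_top, by rw [top_inf_eq, hCS]; exact hnH.1.2.2⟩, hpair, hSP, hnormP hSP,
        hnH.2.2.2.2.1, hnH.2.2.2.2.2⟩
    set x' := y * x * y⁻¹ with hx'
    have hx'Q : x' ∈ Subgroup.centralizer (Q : Set G) :=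
      Subgroup.mul_mem _ (Subgroup.mul_mem _ hy hx) (Subgroup.inv_mem _ hy)
    have hx'R : R'.map (MulAut.conj x').toMonoidHom = R' := by
      rw [hR', map_conj_map_conj, hx', show y * x * y⁻¹ * y = y * x by group, ← map_conj_map_conj,
        map_conj_eq_self_of_mem_normalizer hxN]
    have hx'S : S.map (MulAut.conj x').toMonoidHom = S := by
      rw [hS, Subgroup.map_sup, hx'R,
        map_conj_eq_self_of_mem_normalizer (Subgroup.centralizer_le_normalizer _ hx'Q)]
    have hx'r : Blocks.conjA x' r' = r' := by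
      rw [hr', conjA_conjA, hx', show y * x * y⁻¹ * y = y * x by group, ← conjA_conjA, hxr]
    have hcar : Carries p P cE S x' :=
      ⟨r', PairLE.single hnS, by rw [hx'S, hx'r]; exact PairLE.single hnS⟩
    have hfn : IsDefectGroupIdem p
        (pairStab ⊤ (S.map (MulAut.conj x').toMonoidHom) (Blocks.conjA x' r')) (Blocks.conjA x' r')
        (P ⊓ Subgroup.normalizer ((S.map (MulAut.conj x').toMonoidHom : Subgroup G) : Set G)) := by
      rw [hx'S, hx'r]
      refine (isDefectGroupIdem_pairStab_iff hE hmax (PairLE.single hnS)).mp fun z _ => ?_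
      rw [inf_eq_left.mpr (hnormP hSP)]
      exact Subgroup.card_le_of_le inf_le_left
    have hPS : P ≤ Subgroup.centralizer (S : Set G) := fun u hu =>
      Subgroup.mem_centralizer_iff.mpr fun q hq => hPab q (hSP hq) u hu
    obtain ⟨c', hc', hcar'⟩ := Carries.extend hE hmax (PairLE.single hnS) hcar hfn hSP
      (le_inf le_rfl (hnormP hSP))
      ((Subgroup.map_mono hPS).trans (le_of_eq_of_le (map_conj_centralizer S x') le_sup_left))
    rw [hx'S] at hc'
    set t := c' * x' with ht
    have htP : P.map (MulAut.conj t).toMonoidHom = P :=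
      Subgroup.eq_of_le_of_card_ge hcar'.le.2 (card_map_conj P t).ge
    have htc : Blocks.conjA t cE = cE := by
      have h := hcar'.pairLE hpair (PairLE.refl ⊤ P cE)
      rw [htP] at h
      exact h.unique hpair (PairLE.refl ⊤ P cE)
    have htT : t ∈ T := by
      rw [hTs]
      exact mem_pairStab.mpr ⟨⟨trivial, mem_normalizer_of_map_conj_le htP.le⟩, htc⟩
    obtain ⟨⟨q, hq⟩, hq1⟩ := Subgroup.ne_bot_iff_exists_ne_one.mp hQ1
    have htQ : t ∈ Subgroup.centralizer (Q : Set G) :=
      Subgroup.mul_mem _ (Subgroup.centralizer_le (le_sup_right : Q ≤ S) hc') hx'Q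
    have htfix : t * q * t⁻¹ = q := by
      rw [← Subgroup.mem_centralizer_iff.mp htQ q hq, mul_inv_cancel_right]
    have htC := hfree t htT q (hQP hq) (fun h => hq1 (Subtype.ext h)) htfix
    have hx'C : x' ∈ Subgroup.centralizer (R' : Set G) := by
      have h1 : c'⁻¹ * t = x' := by rw [ht, inv_mul_cancel_left]
      rw [← h1]
      exact Subgroup.mul_mem _ (Subgroup.inv_mem _ (Subgroup.centralizer_le (le_sup_left : R' ≤ S) hc'))
        (Subgroup.centralizer_le hR'P htC)
    rw [hR', ← map_conj_centralizer] at hx'C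
    obtain ⟨z, hz, hzx⟩ := hx'C
    simp only [MulEquiv.coe_toMonoidHom, MulAut.conj_apply, hx'] at hzx
    have : z = x := mul_left_cancel (mul_right_cancel hzx)
    rwa [← this]
  · intro hnil g hg x hxP hx1 hgx
    set Q := Subgroup.zpowers x with hQ
    have hQP : Q ≤ P := Subgroup.zpowers_le.mpr hxP
    have hQ1 : Q ≠ ⊥ := fun h => hx1 (Subgroup.zpowers_eq_bot.mp h)
    obtain ⟨fI, hfI, -⟩ := hpair.existsUnique_le hQP
    have hn := hfI.isNormal hpair (hnormP hQP)
    have hbl := hn.1.2.2
    rw [top_inf_eq] at hbl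
    obtain ⟨f, hf, rfl⟩ := exists_subEl_eq (M := M) hbl
    have hnilf := hnil Q hQP hQ1 f ((hsub hQP hf).mpr hn)
    rw [isNilpotentBlock_subEl_iff hf] at hnilf
    have hPQ : P ≤ Subgroup.centralizer (Q : Set G) := fun u hu =>
      Subgroup.mem_centralizer_iff.mpr fun q hq => hPab q (hQP hq) u hu
    have hpairQ : IsPairOfIdem p (Subgroup.centralizer (Q : Set G)) (subEl M _ f) P cE :=
      ⟨⟨hPp, hPQ, by rw [inf_eq_right.mpr (Subgroup.centralizer_le hQP)]; exact isBlockIdem_subEl hcb⟩,
        hn.2.2.2.2.2⟩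
    have hgQ : g ∈ Subgroup.centralizer (Q : Set G) := by
      rw [Subgroup.mem_centralizer_iff]
      intro q hq
      obtain ⟨i, rfl⟩ := Subgroup.mem_zpowers_iff.mp hq
      have hcomm : Commute g x := by
        show g * x = x * g
        conv_rhs => rw [← hgx, inv_mul_cancel_right]
      exact (hcomm.zpow_right i).eq.symm
    obtain ⟨u, hu⟩ := exists_isPPart (p := p) hM.1 g
    obtain ⟨k, hk⟩ := exists_pow_eq_isPPart (G := G) hM.1
    have huk := hk g u hu
    obtain ⟨w, hw, hcomm, hup, hwr⟩ := hu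
    have huT : u ∈ T := huk ▸ T.pow_mem hg k
    have hwT : w ∈ T := by
      rw [show w = u⁻¹ * g by rw [← hw, inv_mul_cancel_left]]
      exact T.mul_mem (T.inv_mem huT) hg
    have huQ : u ∈ Subgroup.centralizer (Q : Set G) := huk ▸ Subgroup.pow_mem _ hgQ k
    have hwQ : w ∈ Subgroup.centralizer (Q : Set G) := by
      rw [show w = u⁻¹ * g by rw [← hw, inv_mul_cancel_left]]
      exact Subgroup.mul_mem _ (Subgroup.inv_mem _ huQ) hgQ
    have hwC : w ∈ Subgroup.centralizer (P : Set G) := by
      rw [hTs] at hwT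
      exact hnilf P cE hpairQ w hwQ hwT.1.2 (mem_pairStab.mp hwT).2 hwr
    have huC : u ∈ Subgroup.centralizer (P : Set G) := by
      have hCT : Subgroup.centralizer (P : Set G) ≤ T := by
        rw [hTs]; exact centralizer_le_pairStab hpair
      have hTN : T ≤ Subgroup.normalizer (P : Set G) := by
        rw [hTs]; exact pairStab_le_normalizer _ _ _
      have hDT := isDefectGroupIdem_pairStab_self hE hmax
      rw [inf_eq_left.mpr (Subgroup.le_normalizer (H := P))] at hDT
      have hidx := not_dvd_relIndex_sup_defectGroup hCT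
        (hTN.trans (normalizer_le_normalizer_centralizer P)) (isBlockIdem_subEl hcb)
        (hTs ▸ hpair.isBlockIdem_pairStab) (hTs ▸ hDT)
      rw [sup_eq_left.mpr hPC, Subgroup.relIndex] at hidx
      set K := (Subgroup.centralizer (P : Set G)).subgroupOf T with hK
      haveI : K.Normal := (Subgroup.normal_subgroupOf_iff_le_normalizer hCT).mpr
        (hTN.trans (normalizer_le_normalizer_centralizer P))
      have hmem : (⟨u, huT⟩ : T) ∈ K := by
        rw [← QuotientGroup.eq_one_iff (N := K), ← orderOf_eq_one_iff]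
        obtain ⟨i, hi⟩ := hup
        refine Nat.eq_one_of_dvd_coprimes (a := p ^ i) (b := K.index) ?_ ?_ ?_
        · exact (((Fact.out : p.Prime).coprime_iff_not_dvd).2 hidx).pow_left i
        · rw [← hi, ← Subgroup.orderOf_mk u huT]
          exact orderOf_map_dvd (QuotientGroup.mk' K) (⟨u, huT⟩ : T)
        · rw [Subgroup.index_eq_card]
          exact orderOf_dvd_natCard _
      exact hmem
    rw [← hw]
    exact Subgroup.mul_mem _ huC hwC

end Cfsg.Agent.S4650
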