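import Cfsg.Statements.S4645
import Cfsg.Agent.S4633
import Cfsg.Agent.S4650
import Cfsg.Agent.Blocks.CyclicInertia
import Cfsg.Agent.Eq.Def_Blocks
import Cfsg.Agent.Eq.Def_BlockRank
import Cfsg.Agent.Eq.Def_BlockLocal

set_option autoImplicit false
open Cfsg CfsgLib CfsgLib.Blocks

namespace Cfsg.Agent.S4645

/-- Let B be a block of the finite group G relative to a maximal ideal M of the algebraic integers containing the prime p, with a nontrivial cyclic defect group P; let c be a block of C_G(P) inducing B and T the stabilizer of c in N_G(P). Let Q be a nontrivial subgroup of P (so C_G(P) ≤ C_G(Q)), f the block of C_G(Q) induced by c inside C_G(Q), and T' the stabilizer of f in N_G(Q). Then T' = T·C_G(Q), the index of C_G(Q) in T' equals the index of C_G(P) in T, f has p-regular rank 1, and f is a nilpotent block of C_G(Q). -/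
theorem result {G : Type*} [Group G] [Finite G] (p : ℕ) [Fact p.Prime] (M : Ideal Cfsg.AlgInt) (hM : Cfsg.IsPModular p M) (B : Set (Cfsg.IrrCharacter G)) (hB : Cfsg.IsPBlock M B) (P : Subgroup G) (hPD : Cfsg.IsDefectGroup p M B P) (hP1 : P ≠ ⊥) (hcyc : IsCyclic P) (c : Set (Cfsg.IrrCharacter (Subgroup.centralizer (P : Set G)))) (hc : Cfsg.IsInducedBlock M (Subgroup.centralizer (P : Set G)) c B) (T : Subgroup G) (hT : ∀ g : G, g ∈ T ↔ (g ∈ Subgroup.normalizer (P : Set G) ∧ Cfsg.StabilizesBlock (Subgroup.centralizer (P : Set G)) c g)) (Q : Subgroup G) (hQP : Q ≤ P) (hQ1 : Q ≠ ⊥) (f : Set (Cfsg.IrrCharacter (Subgroup.centralizer (Q : Set G)))) (hf : Cfsg.IsInducedBlockIn M (Subgroup.centralizer (Q : Set G)) (Subgroup.centralizer (P : Set G)) c f) (T' : Subgroup G) (hT' : ∀ g : G, g ∈ T' ↔ (g ∈ Subgroup.normalizer (Q : Set G) ∧ Cfsg.StabilizesBlock (Subgroup.centralizer (Q : Set G)) f g)) : T' = T ⊔ Subgroup.centralizer (Q : Set G) ∧ (Subgroup.centralizer (Q : Set G)).relIndex T' = (Subgroup.centralizer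 (P : Set G)).relIndex T ∧ Cfsg.blockRank p f = 1 ∧ Cfsg.IsNilpotentBlock p M f := by
  classical
  have : M.IsMaximal := hM.2.1
  have : CharP (kres M) p := charP_kres hM
  have := Fintype.ofFinite G
  have hPab : ∀ a ∈ P, ∀ b ∈ P, a * b = b * a := fun a ha b hb => by
    let := IsCyclic.commGroup (α := P)
    exact congrArg Subtype.val (mul_comm (⟨a, ha⟩ : P) ⟨b, hb⟩)
  have hcb := hc.1
  have hE := isBlockIdem_topEl (M := M) hB
  have hD := (isDefectGroup_topEl_iff (M := M) hB P).1 hPD
  have hPp := hD.2.1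
  have hPC : P ≤ Subgroup.centralizer (P : Set G) := fun x hx =>
    Subgroup.mem_centralizer_iff.mpr fun y hy => hPab y hy x hx
  have hover := (isInducedBlock_iff_brOver hM hPp hPC le_rfl
    (Subgroup.centralizer_le_normalizer _) hcb hB).1 hc
  set cE := subEl M (Subgroup.centralizer (P : Set G)) c with hcE
  set fE := subEl M (Subgroup.centralizer (Q : Set G)) f with hfE
  have hpair : IsPairIdem p ⊤ P cE := (isBrauerPair_iff hcb).mp ⟨hPp, hcb⟩
  have hmax : IsMaxPairIdem p ⊤ (topEl M B) P cE := by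
    refine ⟨⟨hpair, hover⟩, fun R r hR hle => ?_⟩
    refine (Subgroup.eq_of_le_of_card_ge hle.le (hD.card_le le_top hR.1.1 fun h0 => ?_)).symm
    have h1 : brTrunc R (topEl M B) * r = r := hR.2
    rw [h0, zero_mul] at h1
    exact hR.1.2.2.ne_zero h1.symm
  have hTs : T = pairStab ⊤ P cE := eq_pairStab (M := M) hcb hT
  have hTs' : T' = pairStab ⊤ Q fE := eq_pairStab (M := M) hf.2.1 hT'
  have hnormP : ∀ {R : Subgroup G}, R ≤ P → P ≤ Subgroup.normalizer (R : Set G) := by
    intro R hR u hu
    refine mem_normalizer_of_map_conj_le ?_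
    rintro _ ⟨q, hq, rfl⟩
    show u * q * u⁻¹ ∈ R
    rwa [hPab u hu q (hR hq), mul_inv_cancel_right]
  have hPQ : P ≤ Subgroup.centralizer (Q : Set G) := fun u hu =>
    Subgroup.mem_centralizer_iff.mpr fun q hq => hPab q (hQP hq) u hu
  have hCPQ : Subgroup.centralizer (P : Set G) ≤ Subgroup.centralizer (Q : Set G) :=
    Subgroup.centralizer_le hQP
  have hpQ : IsPairIdem p ⊤ Q fE := (isBrauerPair_iff hf.2.1).mp ⟨hPp.to_le hQP, hf.2.1⟩
  have hfb : IsBlockIdem (Subgroup.centralizer (Q : Set G)) fE := isBlockIdem_subEl hf.2.1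
  have hover' : BrOver P cE fE := (isInducedBlockIn_iff_brOver hM hPp hPC hCPQ inf_le_right
    (Subgroup.centralizer_le_normalizer _) hcb hf.2.1).1 hf
  have hn : IsNormalPairIdem p ⊤ Q fE P cE :=
    ⟨hpQ, hpair, hQP, hnormP hQP, hfb.mem.2.mono hPQ, hover'⟩
  -- freeness of the inertial quotient
  have hCTle : Subgroup.centralizer (P : Set G) ≤ T := by
    rw [hTs]; exact centralizer_le_pairStab hpair
  have hTN : T ≤ Subgroup.normalizer (P : Set G) := by
    rw [hTs]; exact pairStab_le_normalizer _ _ _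
  have hnormal : ((Subgroup.centralizer (P : Set G)).subgroupOf T).Normal :=
    (Subgroup.normal_subgroupOf_iff_le_normalizer hCTle).mpr
      (hTN.trans (normalizer_le_normalizer_centralizer P))
  have hfree := (Cfsg.Agent.S4633.result p M hM B hB P hPD hP1 hcyc c hc T hT).2.2
  have hnil := (Cfsg.Agent.S4650.result p M hM B hB P hPD hPab hP1 c hc T hT).mp hfree Q hQP hQ1 f hf
  have hTC : ∀ t ∈ T, t ∈ Subgroup.centralizer (Q : Set G) →
      t ∈ Subgroup.centralizer (P : Set G) := by
    intro t ht htQ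
    obtain ⟨⟨q, hq⟩, hq1⟩ := Subgroup.ne_bot_iff_exists_ne_one.mp hQ1
    refine hfree t ht q (hQP hq) (fun h => hq1 (Subtype.ext h)) ?_
    rw [← Subgroup.mem_centralizer_iff.mp htQ q hq, mul_inv_cancel_right]
  -- subgroups of a cyclic group are determined by their orders
  have huniq : ∀ R : Subgroup G, R ≤ P → Nat.card R = Nat.card Q → R = Q := by
    intro R hR hcard
    have := Fintype.ofFinite P
    have hsub : ∀ S : Subgroup G, S ≤ P → Nat.card S = Nat.card Q →
        (Finset.univ.filter fun a : P => (a : G) ∈ S) =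
          Finset.univ.filter fun a : P => a ^ Nat.card Q = 1 := by
      intro S hS hSc
      refine Finset.eq_of_subset_of_card_le (fun a ha => ?_) ?_
      · simp only [Finset.mem_filter, Finset.mem_univ, true_and] at ha ⊢
        have h := pow_card_eq_one' (x := (⟨a, ha⟩ : S))
        rw [hSc] at h
        exact Subtype.ext (by simpa using congrArg Subtype.val h)
      · refine (IsCyclic.card_pow_eq_one_le Nat.card_pos).trans (le_of_eq ?_)
        rw [← hSc, Nat.card_eq_fintype_card, ← Finset.card_univ]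
        exact (Finset.card_bij (fun (a : P) (ha : a ∈ Finset.univ.filter fun a : P => (a : G) ∈ S) =>
          (⟨a, (Finset.mem_filter.mp ha).2⟩ : S)) (fun _ _ => Finset.mem_univ _)
          (fun a _ b _ h => Subtype.ext (congrArg (fun s : S => (s : G)) h))
          fun s _ => ⟨⟨s, hS s.2⟩, Finset.mem_filter.mpr ⟨Finset.mem_univ _, s.2⟩, rfl⟩).symm
    have h := (hsub R hR hcard).trans (hsub Q hQP rfl).symm
    ext g
    constructor
    · intro hg
      have := (Finset.ext_iff.mp h ⟨g, hR hg⟩).mp (Finset.mem_filter.mpr ⟨Finset.mem_univ _, hg⟩)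
      exact (Finset.mem_filter.mp this).2
    · intro hg
      have := (Finset.ext_iff.mp h ⟨g, hQP hg⟩).mpr (Finset.mem_filter.mpr ⟨Finset.mem_univ _, hg⟩)
      exact (Finset.mem_filter.mp this).2
  have hTQ : ∀ t ∈ T, t ∈ Subgroup.normalizer (Q : Set G) := fun t ht =>
    mem_normalizer_of_map_conj_le (huniq _ ((Subgroup.map_mono hQP).trans
      (map_conj_eq_self_of_mem_normalizer (hTN ht)).le) (card_map_conj Q t)).le
  have hTT' : T ≤ T' := by
    intro t ht
    rw [hTs']
    refine mem_pairStab.mpr ⟨⟨trivial, hTQ t ht⟩, ?_⟩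
    have h := (PairLE.single hn).conjA (x := t) trivial
    rw [map_conj_eq_self_of_mem_normalizer (hTQ t ht),
      map_conj_eq_self_of_mem_normalizer (hTN ht)] at h
    rw [hTs] at ht
    rw [(mem_pairStab.mp ht).2] at h
    exact h.unique hpair (PairLE.single hn)
  have hCT' : Subgroup.centralizer (Q : Set G) ≤ T' := by
    rw [hTs']; exact centralizer_le_pairStab hpQ
  have hT'eq : T' = T ⊔ Subgroup.centralizer (Q : Set G) := by
    refine le_antisymm (fun g hg => ?_) (sup_le hTT' hCT')
    rw [hTs'] at hg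
    obtain ⟨⟨-, hgN⟩, hgf⟩ := mem_pairStab.mp hg
    have hgQ := map_conj_eq_self_of_mem_normalizer hgN
    have hcar : Carries p P cE Q g :=
      ⟨fE, PairLE.single hn, by rw [hgQ, hgf]; exact PairLE.single hn⟩
    have hfn : IsDefectGroupIdem p
        (pairStab ⊤ (Q.map (MulAut.conj g).toMonoidHom) (Blocks.conjA g fE)) (Blocks.conjA g fE)
        (P ⊓ Subgroup.normalizer ((Q.map (MulAut.conj g).toMonoidHom : Subgroup G) : Set G)) := by
      rw [hgQ, hgf]
      refine (isDefectGroupIdem_pairStab_iff hE hmax (PairLE.single hn)).mp fun z _ => ?_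
      rw [inf_eq_left.mpr (hnormP hQP)]
      exact Subgroup.card_le_of_le inf_le_left
    obtain ⟨c', hc', hcar'⟩ := Carries.extend hE hmax (PairLE.single hn) hcar hfn hQP
      (le_inf le_rfl (hnormP hQP))
      ((Subgroup.map_mono hPQ).trans (le_of_eq_of_le (map_conj_centralizer Q g) le_sup_left))
    rw [hgQ] at hc'
    have htP : P.map (MulAut.conj (c' * g)).toMonoidHom = P :=
      Subgroup.eq_of_le_of_card_ge hcar'.le.2 (card_map_conj P _).ge
    have htc : Blocks.conjA (c' * g) cE = cE := by
      have h := hcar'.pairLE hpair (PairLE.refl ⊤ P cE)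
      rw [htP] at h
      exact h.unique hpair (PairLE.refl ⊤ P cE)
    have htT : c' * g ∈ T := by
      rw [hTs]
      exact mem_pairStab.mpr ⟨⟨trivial, mem_normalizer_of_map_conj_le htP.le⟩, htc⟩
    rw [show g = c'⁻¹ * (c' * g) by group]
    exact Subgroup.mul_mem _ (Subgroup.mem_sup_right (Subgroup.inv_mem _ hc'))
      (Subgroup.mem_sup_left htT)
  refine ⟨hT'eq, ?_, ?_, hnil⟩
  · rw [hT'eq]
    set C := Subgroup.centralizer (Q : Set G) with hC
    set J := T ⊔ C with hJ
    have : (C.subgroupOf J).Normal := (Subgroup.normal_subgroupOf_iff_le_normalizer le_sup_right).mpr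
      (sup_le (fun t ht => normalizer_le_normalizer_centralizer Q (hTQ t ht)) Subgroup.le_normalizer)
    have h1 : C.relIndex J = C.relIndex T := by
      rw [← Subgroup.relIndex_subgroupOf (H := C) (le_sup_left : T ≤ J), ← Subgroup.relIndex_sup_right
        (K := C.subgroupOf J) (H := T.subgroupOf J), ← Subgroup.subgroupOf_sup le_sup_left le_sup_right,
        Subgroup.subgroupOf_self, Subgroup.relIndex_top_right]
      rfl
    rw [h1, ← Subgroup.inf_relIndex_right]
    congr 1
    exact le_antisymm (fun t ht => hTC t ht.2 ht.1) (le_inf hCPQ hCTle)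
  · -- the rank, computed in the centralizer of `Q`
    have := Fintype.ofFinite (Subgroup.centralizer (Q : Set G))
    have hmaxH : IsMaxPairIdem p (Subgroup.centralizer (Q : Set G)) fE P cE := by
      refine ⟨⟨⟨hPp, hPQ, by rw [inf_eq_right.mpr hCPQ]; exact isBlockIdem_subEl hcb⟩, hover'⟩,
        fun R r hR hle => ?_⟩
      have hQR : Q ≤ R := hQP.trans hle.le
      have hblk := hR.1.2.2
      rw [inf_eq_right.mpr (Subgroup.centralizer_le hQR)] at hblk
      have hnR : IsNormalPairIdem p ⊤ Q fE R r :=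
        ⟨hpQ, ⟨hR.1.1, le_top, by rwa [top_inf_eq]⟩, hQR,
          hR.1.2.1.trans (Subgroup.centralizer_le_normalizer _), hfb.mem.2.mono hR.1.2.1, hR.2⟩
      have hRe := ((PairLE.single hnR).pairOf_iff hE hnR.2.1).mp
        (((PairLE.single hn).pairOf_iff hE hpair).mpr hmax.1)
      refine (Subgroup.eq_of_le_of_card_ge hle.le (hD.card_le le_top hR.1.1 fun h0 => ?_)).symm
      have h1 : brTrunc R (topEl M B) * r = r := hRe.2
      rw [h0, zero_mul] at h1
      exact hR.1.2.2.ne_zero h1.symm
    set P' := P.subgroupOf (Subgroup.centralizer (Q : Set G)) with hP'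
    have hPD' : IsDefectGroup p M f P' :=
      (isDefectGroup_subgroupOf_iff hPQ hf.2.1).mpr (hmaxH.isDefectGroupIdem hfb)
    have hcyc' : IsCyclic P' := isCyclic_of_surjective
      (Subgroup.subgroupOfEquivOfLe hPQ).symm.toMonoidHom (Subgroup.subgroupOfEquivOfLe hPQ).symm.surjective
    have hC' : (Subgroup.centralizer (P : Set G)).subgroupOf (Subgroup.centralizer (Q : Set G)) =
        Subgroup.centralizer (P' : Set (Subgroup.centralizer (Q : Set G))) := by
      ext y
      simp only [Subgroup.mem_subgroupOf, Subgroup.mem_centralizer_iff, SetLike.mem_coe, hP']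
      refine ⟨fun h q hq => Subtype.ext (h q hq), fun h q hq => ?_⟩
      exact congrArg Subtype.val (h ⟨q, hPQ hq⟩ hq)
    set φ : Subgroup.centralizer (P : Set G) ≃* (Subgroup.centralizer (P : Set G)).subgroupOf (Subgroup.centralizer (Q : Set G)) :=
      (Subgroup.subgroupOfEquivOfLe hCPQ).symm with hφ
    have hemb : cE = emb (kres M) (Subgroup.centralizer (Q : Set G)).subtype
        (subEl M ((Subgroup.centralizer (P : Set G)).subgroupOf (Subgroup.centralizer (Q : Set G))) (mapBlock φ c)) := by
      rw [hcE, subEl, subEl, ← blockEl_mapBlock (M := M)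
        (f := (Subgroup.centralizer (P : Set G)).subtype)
        (f' := (Subgroup.centralizer (Q : Set G)).subtype.comp ((Subgroup.centralizer (P : Set G)).subgroupOf (Subgroup.centralizer (Q : Set G))).subtype) φ
        (Subgroup.subtype_injective _) ((Subgroup.centralizer (Q : Set G)).subtype_injective.comp (Subgroup.subtype_injective _))
        (fun _ => rfl) c, blockEl, blockEl, ← emb_comp]
    refine CyclicInertia.blockRank_eq_one hM hf.2.1 hPD' hcyc' hC'
      ((isInducedBlockIn_iff_subgroupOf hCPQ hcb).mp hf) fun t htN htc => ?_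
    rw [← hC', Subgroup.mem_subgroupOf]
    refine hTC t ?_ t.2
    rw [hTs]
    refine mem_pairStab.mpr ⟨⟨trivial, ?_⟩, ?_⟩
    · rw [Subgroup.mem_normalizer_iff] at htN
      refine mem_normalizer_of_map_conj_le ?_
      rintro _ ⟨q, hq, rfl⟩
      exact (htN ⟨q, hPQ hq⟩).mp hq
    · rw [hemb, show ((t : (Subgroup.centralizer (Q : Set G))) : G) = (Subgroup.centralizer (Q : Set G)).subtype t from rfl, ← emb_conjA, htc]

end Cfsg.Agent.S4645
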