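import Cfsg.Statements.S4713
import Cfsg.Agent.Eq.Def_Characters
import Cfsg.Agent.Eq.Def_Local
import Cfsg.Agent.Chars.Basic
import Cfsg.Agent.Chars.Induced.Ito
import Cfsg.Agent.Constrained.PSolvable
import Cfsg.Agent.Glauberman.Sub

set_option autoImplicit false
open Cfsg CfsgLib.Chars CfsgLib.Chars.Induced CfsgLib.Glauberman CfsgLib.Constrained
open scoped commutatorElement

namespace Cfsg.Agent.S4713

universe u

/-- Jordan: a subgroup meeting every class is everything. -/
theorem eq_top_of_meets_classes {K : Type u} [Group K] [Finite K] (C : Subgroup K)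
    (h : ∀ x : K, ∃ c ∈ C, IsConj c x) : C = ⊤ := by
  classical
  have := Fintype.ofFinite K
  have : Fintype (K ⧸ C) := Fintype.ofFinite _
  have : Fintype (MulAction.orbitRel.Quotient K (K ⧸ C)) := Fintype.ofFinite _
  have h1 := MulAction.sum_card_fixedBy_eq_card_orbits_mul_card_group K (K ⧸ C)
  have horb : Fintype.card (MulAction.orbitRel.Quotient K (K ⧸ C)) = 1 :=
    le_antisymm (Fintype.card_le_one_iff_subsingleton.2
      (MulAction.pretransitive_iff_subsingleton_quotient K (K ⧸ C) |>.1 inferInstance))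
      (Fintype.card_pos_iff.2 ⟨Quotient.mk'' ((1 : K) : K ⧸ C)⟩)
  rw [horb, one_mul] at h1
  by_contra hC
  have hlt : ∑ _a : K, 1 < ∑ a : K, Fintype.card (MulAction.fixedBy (K ⧸ C) a) := by
    refine Finset.sum_lt_sum (fun a _ => Fintype.card_pos_iff.2 ?_) ⟨1, Finset.mem_univ _, ?_⟩
    · obtain ⟨c, hc, hca⟩ := h a
      obtain ⟨w, rfl⟩ := isConj_iff.1 hca
      refine ⟨⟨(w : K ⧸ C), ?_⟩⟩
      rw [MulAction.mem_fixedBy, MulAction.Quotient.smul_coe, smul_eq_mul, QuotientGroup.eq]
      have : (w * c * w⁻¹ * w)⁻¹ * w = c⁻¹ := by group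
      rw [this]
      exact C.inv_mem hc
    · rw [← Nat.card_eq_fintype_card, MulAction.fixedBy_one_eq_univ, Nat.card_congr (Equiv.Set.univ _),
        ← C.index_eq_card]
      exact lt_of_le_of_ne (Nat.one_le_iff_ne_zero.2 Subgroup.index_ne_zero_of_finite)
        fun h2 => hC (Subgroup.index_eq_one.1 h2.symm)
  rw [h1] at hlt
  simp at hlt

variable {G : Type u} [Group G] [Finite G]

/-- The ingredients of Clifford's theorem used below. -/
theorem exists_over [Fintype G] (N : Subgroup G) [N.Normal] [Fintype N] (θ : IrrCharacter N) :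
    ∃ χ : IrrCharacter G, (inertia N (θ : N → ℂ)).index * charDegree (θ : N → ℂ) ∣
      charDegree (χ : G → ℂ) := by
  obtain ⟨χ, hχ⟩ := exists_mult_ne_zero (isCharacter_indFun N (isCharacter_coe θ)) fun h => by
    have h1 := congrFun h 1
    rw [indFun_one_apply, Pi.zero_apply] at h1
    exact (mul_ne_zero (Nat.cast_ne_zero.2 Subgroup.index_ne_zero_of_finite)
      (map_one_ne_zero θ)) h1
  rw [mult_indFun_irr] at hχ
  refine ⟨χ, mult (fun n : N => (χ : G → ℂ) n) θ, charDegree_eq_of_map_one ?_⟩
  rw [clifford_one χ θ hχ]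
  push_cast
  rw [coe_charDegree]
  ring

/-- A subgroup of index prime to `p` contains a conjugate of every Sylow `p`-subgroup. -/
theorem exists_conj_mem {p : ℕ} [hp : Fact p.Prime] (T : Subgroup G) (hT : ¬ p ∣ T.index)
    (P : Sylow p G) : ∃ w : G, ∀ x ∈ (P : Subgroup G), w * x * w⁻¹ ∈ T := by
  obtain ⟨Q⟩ : Nonempty (Sylow p T) := inferInstance
  have hQ : IsPGroup p ((Q : Subgroup T).map T.subtype) := Q.isPGroup'.map _
  have hQi : ¬ p ∣ ((Q : Subgroup T).map T.subtype).index := by
    rw [Subgroup.index_map_subtype]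
    exact fun h => ((hp.out.dvd_mul).1 h).elim Q.not_dvd_index hT
  obtain ⟨w, hw⟩ := MulAction.exists_smul_eq G P (hQ.toSylow hQi)
  refine ⟨w, fun x hx => ?_⟩
  have h1 : w * x * w⁻¹ ∈ ((w • P : Sylow p G) : Subgroup G) := by
    rw [Sylow.coe_subgroup_smul]
    exact ⟨x, hx, by simp [MulAut.conj]⟩
  rw [hw] at h1
  exact Subgroup.map_subtype_le _ h1

/-- Degrees prime to `p` pass to quotients. -/
theorem not_dvd_quotient {p : ℕ} (N : Subgroup G) [N.Normal]
    (hdeg : ∀ χ : IrrCharacter G, ¬ p ∣ charDegree (χ : G → ℂ)) (ψ : IrrCharacter (G ⧸ N)) :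
    ¬ p ∣ charDegree (ψ : G ⧸ N → ℂ) := hdeg (inflate N ψ)

theorem card_quotient_lt (N : Subgroup G) [N.Normal] (hN : N ≠ ⊥) :
    Nat.card (G ⧸ N) < Nat.card G := by
  rw [Subgroup.card_eq_card_quotient_mul_card_subgroup N]
  exact lt_mul_of_one_lt_right Nat.card_pos (N.one_lt_card_iff_ne_bot.2 hN)

theorem main {p : ℕ} [hp : Fact p.Prime] (n : ℕ) :
    ∀ (G : Type u) [Group G] [Finite G], Nat.card G = n → IsPSolvable p G →
      (∀ χ : IrrCharacter G, ¬ p ∣ charDegree (χ : G → ℂ)) → ∀ P : Sylow p G,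
        (P : Subgroup G).Normal ∧ ∀ a ∈ (P : Subgroup G), ∀ b ∈ (P : Subgroup G), a * b = b * a := by
  induction n using Nat.strong_induction_on with
  | _ n ih =>
    intro G _ _ hcard hsolv hdeg P
    classical
    rcases subsingleton_or_nontrivial G with hs | hs
    · exact ⟨⟨fun a ha g => by rwa [Subsingleton.elim (g * a * g⁻¹) a]⟩,
        fun a _ b _ => Subsingleton.elim _ _⟩
    have := Fintype.ofFinite G
    have step : ∀ (N : Subgroup G) [N.Normal], N ≠ ⊥ →
        (((P : Subgroup G) ⊔ N).Normal ∧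
          ∀ a ∈ (P : Subgroup G), ∀ b ∈ (P : Subgroup G), ⁅a, b⁆ ∈ N) := by
      intro N _ hN
      obtain ⟨h1, h2⟩ := ih _ (hcard ▸ card_quotient_lt N hN) (G ⧸ N) rfl
        (IsPSolvable.quotient hsolv N) (not_dvd_quotient N hdeg)
        (P.mapSurjective (QuotientGroup.mk'_surjective N))
      rw [Sylow.coe_mapSurjective] at h1 h2
      refine ⟨?_, fun a ha b hb => ?_⟩
      · have h3 : ((P : Subgroup G) ⊔ N) =
            ((P : Subgroup G).map (QuotientGroup.mk' N)).comap (QuotientGroup.mk' N) := by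
          rw [Subgroup.comap_map_eq, QuotientGroup.ker_mk']
        rw [h3]
        exact h1.comap _
      · rw [← QuotientGroup.eq_one_iff]
        show QuotientGroup.mk' N ⁅a, b⁆ = 1
        rw [map_commutatorElement, commutatorElement_eq_one_iff_mul_comm]
        exact h2 _ (Subgroup.mem_map_of_mem _ ha) _ (Subgroup.mem_map_of_mem _ hb)
    rcases IsPSolvable.core_ne_bot (p := p) hsolv with hc | hc
    · -- a normal `p`-subgroup
      obtain ⟨hW, -⟩ := step (pCore p G) hc
      rw [sup_eq_left.2 (isPGroup_pCore.le_sylow_of_normal P)] at hW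
      refine ⟨hW, fun a ha b hb => ?_⟩
      have := hW
      have := Fintype.ofFinite (P : Subgroup G)
      have hlin : ∀ θ : IrrCharacter (P : Subgroup G),
          (θ : (↥(P : Subgroup G)) → ℂ) 1 = 1 := by
        intro θ
        obtain ⟨χ, hχ⟩ := exists_over (P : Subgroup G) θ
        rw [← charDegree_eq_one_iff]
        obtain ⟨j, hj⟩ := P.isPGroup'.exists_card_eq
        have h1 := charDegree_dvd_card θ
        rw [hj] at h1
        obtain ⟨i, -, hi⟩ := (Nat.dvd_prime_pow hp.out).1 h1
        rcases i with _ | i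
        · simpa using hi
        · refine absurd ?_ (hdeg χ)
          exact (hi ▸ dvd_pow_self p (Nat.succ_ne_zero i) :
            p ∣ charDegree (θ : (↥(P : Subgroup G)) → ℂ)).trans
              ((dvd_mul_left _ _).trans hχ)
      have h0 : ⁅(⟨a, ha⟩ : (P : Subgroup G)), (⟨b, hb⟩ : (P : Subgroup G))⁆ = 1 := eq_one_of_forall_eq fun θ =>
        map_eq_map_one_of_mem_charKer ((commutator_le_charKer_iff θ).2 (hlin θ)
          (Subgroup.commutator_mem_commutator (Subgroup.mem_top _) (Subgroup.mem_top _)))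
      exact congrArg Subtype.val (commutatorElement_eq_one_iff_mul_comm.1 h0)
    · -- a normal `p'`-subgroup
      have hNnd : ¬ p ∣ Nat.card (pPrimeCore p G) := pPrimeCore_not_dvd
      obtain ⟨N, hN, hNn, hNd⟩ :
          ∃ N : Subgroup G, N ≠ ⊥ ∧ N.Normal ∧ ¬ p ∣ Nat.card N :=
        ⟨pPrimeCore p G, hc, inferInstance, hNnd⟩
      obtain ⟨hW, hcomm⟩ := step N hN
      have := Fintype.ofFinite N
      have hfixθ : ∀ θ : IrrCharacter N, ∀ s ∈ (P : Subgroup G),
          conjFun N s (θ : N → ℂ) = θ := by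
        intro θ s hs
        obtain ⟨χ, hχ⟩ := exists_over N θ
        have hT : ¬ p ∣ (inertia N (θ : N → ℂ)).index := fun h =>
          hdeg χ ((h.trans (dvd_mul_right _ _)).trans hχ)
        obtain ⟨w, hw⟩ := exists_conj_mem _ hT P
        have h1 : w⁻¹ * s * w ∈ (P : Subgroup G) ⊔ N :=
          hW.conj_mem' s (le_sup_left (b := N) hs) w
        obtain ⟨a, ha, b, hb, hab⟩ := Subgroup.mem_sup_of_normal_right.1 h1
        have h2 : s = (w * a * w⁻¹) * (w * b * w⁻¹) := by
          rw [show (w * a * w⁻¹) * (w * b * w⁻¹) = w * (a * b) * w⁻¹ by group, hab]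
          group
        refine mem_inertia.1 ?_
        rw [h2]
        exact mul_mem (hw a ha) (le_inertia (isClassFunction_coe θ) (hNn.conj_mem b hb w))
      have hnorm : ∀ s ∈ (P : Subgroup G), ∀ x ∈ N, s * x * s⁻¹ ∈ N := fun s _ x hx =>
        hNn.conj_mem x hx s
      letI := conjSubAction N (P : Subgroup G) hnorm
      have hcop : (Nat.card N).Coprime (Nat.card (P : Subgroup G)) := by
        obtain ⟨j, hj⟩ := P.isPGroup'.exists_card_eq
        rw [hj]
        exact Nat.Coprime.pow_right j (hp.out.coprime_iff_not_dvd.2 hNd).symm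
      have hsol : Group.IsSolvable (P : Subgroup G) := by
        have := P.isPGroup'.isNilpotent
        infer_instance
      have h1 := card_fixed_irr_eq_card_fixed_classes (S := (P : Subgroup G)) (G := N) hcop
      have hall : MulAction.fixedPoints (P : Subgroup G) (IrrCharacter N) = Set.univ := by
        refine Set.eq_univ_of_forall fun θ => (invariant_iff hnorm θ).1 fun s hs x x' hx' => ?_
        have h2 := congrFun (hfixθ θ s⁻¹ ((P : Subgroup G).inv_mem hs)) x
        rw [conjFun_apply] at h2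
        rw [← h2]
        exact congrArg (θ : N → ℂ) (Subtype.ext (by rw [hx']; group))
      rw [hall, Nat.card_congr (Equiv.Set.univ _), card_irrCharacter, Nat.card_coe_set_eq] at h1
      have hKall : MulAction.fixedPoints (P : Subgroup G) (ConjClasses N) = Set.univ :=
        Set.eq_univ_iff_ncard _ |>.2 h1.symm
      have htop : FixedPoints.subgroup (P : Subgroup G) N = ⊤ := by
        refine eq_top_of_meets_classes _ fun x => ?_
        obtain ⟨K, hK⟩ := (toFixedClass_bijective P.isPGroup' hNd).2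
          ⟨ConjClasses.mk x, (mem_fixed_class_iff _).1 (hKall ▸ Set.mem_univ _)⟩
        obtain ⟨c, rfl⟩ := ConjClasses.mk_surjective K
        exact ⟨c, c.2, ConjClasses.mk_eq_mk_iff_isConj.1 (congrArg Subtype.val hK)⟩
      have hcent : ∀ s ∈ (P : Subgroup G), ∀ x ∈ N, s * x = x * s := fun s hs x hx =>
        Subgroup.mem_centralizer_iff.1 (Subgroup.mem_inf.1 ((fixed_iff_mem hnorm ⟨x, hx⟩).1
          (htop ▸ Subgroup.mem_top (⟨x, hx⟩ : N) :
            (⟨x, hx⟩ : N) ∈ FixedPoints.subgroup (P : Subgroup G) N))).2 s hs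
      have hdisj : ∀ x : G, x ∈ N → x ∈ (P : Subgroup G) → x = 1 := by
        intro x h1 h2
        have h3 : orderOf x ∣ 1 := by
          rw [← hcop]
          exact Nat.dvd_gcd (Subgroup.orderOf_dvd_natCard N h1) (Subgroup.orderOf_dvd_natCard _ h2)
        exact orderOf_eq_one_iff.1 (Nat.dvd_one.1 h3)
      refine ⟨⟨fun x hx g => ?_⟩, fun a ha b hb => ?_⟩
      · have h2 : g * x * g⁻¹ ∈ (P : Subgroup G) ⊔ N :=
          hW.conj_mem x (le_sup_left (b := N) hx) g
        obtain ⟨a, ha, b, hb, hab⟩ := Subgroup.mem_sup_of_normal_right.1 h2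
        have hb1 : b = 1 := by
          have h3 : b ^ Nat.card (P : Subgroup G) = 1 := by
            have h4 : (g * x * g⁻¹) ^ Nat.card (P : Subgroup G) = 1 := by
              rw [conj_pow, show x ^ Nat.card (P : Subgroup G) = 1 from
                congrArg Subtype.val (pow_card_eq_one' (x := (⟨x, hx⟩ : (P : Subgroup G))))]
              group
            rw [← hab, Commute.mul_pow (hcent a ha b hb), show a ^ Nat.card (P : Subgroup G) = 1 from
                congrArg Subtype.val (pow_card_eq_one' (x := (⟨a, ha⟩ : (P : Subgroup G)))),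
              one_mul] at h4
            exact h4
          have h5 : orderOf b ∣ 1 := by
            rw [← hcop]
            exact Nat.dvd_gcd (Subgroup.orderOf_dvd_natCard N hb) (orderOf_dvd_of_pow_eq_one h3)
          exact orderOf_eq_one_iff.1 (Nat.dvd_one.1 h5)
        rw [← hab, hb1, mul_one]
        exact ha
      · refine commutatorElement_eq_one_iff_mul_comm.1 (hdisj _ (hcomm a ha b hb) ?_)
        rw [commutatorElement_def]
        exact mul_mem (mul_mem (mul_mem ha hb) (inv_mem ha)) (inv_mem hb)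

/-- Let p be a prime and G a finite p-solvable group. Then G has a normal abelian Sylow p-subgroup if and only if the degree of every irreducible character of G is prime to p. -/
theorem result {G : Type*} [Group G] [Finite G] (p : ℕ) [Fact p.Prime] (hsolv : Cfsg.IsPSolvable p G) (P : Sylow p G) : ((P : Subgroup G).Normal ∧ IsMulCommutative P) ↔ ∀ χ : Cfsg.IrrCharacter G, ¬ p ∣ Cfsg.charDegree (χ : G → ℂ) := by
  constructor
  · rintro ⟨hn, hc⟩ χ h
    have := hn
    have : IsMulCommutative (P : Subgroup G) := hc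
    exact P.not_dvd_index (h.trans (ito (P : Subgroup G) χ))
  · intro h
    obtain ⟨h1, h2⟩ := main _ G rfl hsolv h P
    exact ⟨h1, ⟨⟨fun a b => Subtype.ext (h2 a.1 a.2 b.1 b.2)⟩⟩⟩

end Cfsg.Agent.S4713
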