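import Cfsg.Statements.S4758
import Cfsg.Agent.S4757
import Cfsg.Agent.Chars.ConstantFour.Kernel
import Cfsg.Agent.Chars.ConstantFour.Structure
import Cfsg.Agent.Dickson.MaxPoly
import Cfsg.Agent.Classical.Linear.Simple
-- import your own Cfsg.Agent.* helpers here

set_option autoImplicit false
open Cfsg

namespace Cfsg.Agent.S4758

open CfsgLib.ConstantFour CfsgLib.Chars

theorem card_psl_five :
    Nat.card (Matrix.ProjectiveSpecialLinearGroup (Fin 2) (ZMod 5)) = 60 := by
  haveI : Fact (Nat.Prime 5) := ⟨by norm_num⟩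
  have h := CfsgLib.Dickson.psl_card_mul_two (F := ZMod 5) (by rw [ZMod.card]; decide)
  rw [ZMod.card] at h
  omega

theorem iso_psl_five {Q : Type*} [Group Q] [Finite Q] [IsSimpleGroup Q] (hQ : Nat.card Q = 60) :
    Nonempty (Q ≃* Matrix.ProjectiveSpecialLinearGroup (Fin 2) (ZMod 5)) := by
  haveI : Fact (Nat.Prime 5) := ⟨by norm_num⟩
  haveI : IsSimpleGroup (Matrix.ProjectiveSpecialLinearGroup (Fin 2) (ZMod 5)) :=
    CfsgLib.Classical.Linear.isSimpleGroup_psl_fin le_rfl fun _ => by rw [Nat.card_zmod]; norm_num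
  obtain ⟨e₁⟩ := CfsgLib.SimpleSixty.nonempty_mulEquiv_alt_five hQ
  obtain ⟨e₂⟩ := CfsgLib.SimpleSixty.nonempty_mulEquiv_alt_five card_psl_five
  exact ⟨e₁.trans e₂.symm⟩

theorem ext_of_quotient {G : Type*} [Group G] [Finite G] {u : G} (hperf : commutator G = ⊤)
    (N : Subgroup G) [N.Normal] (h60 : Nat.card (G ⧸ N) = 60) [IsSimpleGroup (G ⧸ N)]
    (hu : u ∉ N) (hu2 : u ^ 2 ∈ N)
    (hC : Nat.card (Subgroup.centralizer ({u} : Set G)) =
      Nat.card (Subgroup.centralizer ({(u : G ⧸ N)} : Set (G ⧸ N)))) : Ext N u := by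
  classical
  haveI := Fintype.ofFinite (G ⧸ N)
  obtain ⟨ι⟩ := CfsgLib.SimpleSixty.nonempty_mulEquiv_alt_five h60
  let π := QuotientGroup.mk' N
  have hinv : π u * π u = 1 := by
    rw [← map_mul, ← sq]; exact (QuotientGroup.eq_one_iff _).2 hu2
  have hne : π u ≠ 1 := fun e => hu ((QuotientGroup.eq_one_iff _).1 e)
  have h4 : Nat.card (Subgroup.centralizer ({π u} : Set (G ⧸ N))) = 4 := by
    rw [← alt_five_centralizer (ι (π u)) (by rw [← map_mul, hinv, map_one])
      (fun e => hne (ι.injective (e.trans (map_one ι).symm))), ← Fintype.card_subtype,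
      ← Nat.card_eq_fintype_card]
    refine Nat.card_congr (ι.toEquiv.subtypeEquiv fun b => ?_)
    show b ∈ Subgroup.centralizer _ ↔ ι b * ι (π u) = ι (π u) * ι b
    rw [← map_mul, ← map_mul, ι.injective.eq_iff, Subgroup.mem_centralizer_singleton_iff]
  refine ⟨hperf, inferInstance, by rw [Subgroup.index_eq_card, h60], fun M hM hNM => ?_, hu, hu2,
    hC.trans h4, ?_, fun a ha => ?_, fun a ha ha2 => ?_⟩
  · rcases (hM.map π (QuotientGroup.mk'_surjective N)).eq_bot_or_eq_top with e | e
    · left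
      rw [Subgroup.map_eq_bot_iff, QuotientGroup.ker_mk'] at e
      exact le_antisymm e hNM
    · right
      have e' := congrArg (Subgroup.comap π) e
      rwa [Subgroup.comap_map_eq, Subgroup.comap_top, QuotientGroup.ker_mk', sup_eq_left.2 hNM] at e'
  · refine ⟨(Subgroup.centralizer ({π u} : Set (G ⧸ N))).comap π, fun w hw => ?_, fun w hw => ?_, ?_⟩
    · rw [Subgroup.mem_comap, Subgroup.mem_centralizer_singleton_iff, ← map_mul, ← map_mul,
        Subgroup.mem_centralizer_singleton_iff.1 hw]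
    · rw [Subgroup.mem_comap, Subgroup.mem_centralizer_singleton_iff] at hw
      rw [← QuotientGroup.eq_one_iff]
      show π _ = 1
      rw [map_mul, map_mul, map_mul, map_inv, map_inv, hw]
      group
    · have e1 := ((Subgroup.centralizer ({π u} : Set (G ⧸ N))).comap π).index_mul_card
      have e2 := (Subgroup.centralizer ({π u} : Set (G ⧸ N))).index_mul_card
      rw [Subgroup.index_comap_of_surjective _ (QuotientGroup.mk'_surjective N),
        N.card_eq_card_quotient_mul_card_subgroup, h60] at e1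
      rw [h4, h60] at e2
      have e3 : (Subgroup.centralizer ({π u} : Set (G ⧸ N))).index = 15 := by omega
      rw [e3] at e1
      omega
  · have h1 : ι (π a) * ι (π a) * (ι (π a) * ι (π a)) = 1 := by
      rw [← map_mul, ← map_mul, ← map_mul, ← map_mul,
        show a * a * (a * a) = a ^ 4 by simp [pow_succ, mul_assoc],
        show π (a ^ 4) = 1 from (QuotientGroup.eq_one_iff _).2 ha, map_one]
    have h2 := alt_five_no_four _ h1
    rw [← map_mul, ← map_mul, ← sq] at h2
    exact (QuotientGroup.eq_one_iff _).1 (ι.injective (h2.trans (map_one ι).symm))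
  · obtain ⟨c, hc⟩ := alt_five_conj (ι (π u)) (ι (π a)) (by rw [← map_mul, hinv, map_one])
      (fun e => hne (ι.injective (e.trans (map_one ι).symm)))
      (by rw [← map_mul, ← map_mul, ← sq,
        show π (a ^ 2) = 1 from (QuotientGroup.eq_one_iff _).2 ha2, map_one])
      (fun e => ha ((QuotientGroup.eq_one_iff _).1 (ι.injective (e.trans (map_one ι).symm))))
    obtain ⟨q, rfl⟩ := ι.surjective c
    obtain ⟨g, rfl⟩ := QuotientGroup.mk'_surjective N q
    replace hc : π g * π u = π a * π g := ι.injective (by rw [map_mul, map_mul]; exact hc)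
    refine ⟨g, ?_⟩
    rw [← QuotientGroup.eq]
    show π (g * u * g⁻¹) = π a
    rw [map_mul, map_mul, hc, mul_assoc, ← map_mul, mul_inv_cancel, map_one, mul_one]

/-- Let u ≠ 1 be an element of the finite group G such that every non-principal irreducible character χ satisfies χ(1) − χ(u) = 4 or χ(u) = 0. Then O(G), the largest normal subgroup of odd order, is abelian, and either G ⧸ O(G) ≅ PSL₂(5) and u is an involution, or G ⧸ O(G) ≅ SL₂(5) and u has order 4. -/
theorem result {G : Type*} [Group G] [Finite G] (u : G) (hu : u ≠ 1) (hyp : ∀ χ : Cfsg.IrrCharacter G, (χ : G → ℂ) ≠ (fun _ => (1 : ℂ)) → ((χ : G → ℂ) 1 - (χ : G → ℂ) u = 4 ∨ (χ : G → ℂ) u = 0)) : IsMulCommutative ↥(Cfsg.oddCore G) ∧ ((Nonempty (G ⧸ Cfsg.oddCore G ≃* Matrix.ProjectiveSpecialLinearGroup (Fin 2) (ZMod 5)) ∧ orderOf u = 2) ∨ (Nonempty (G ⧸ Cfsg.oddCore G ≃* Matrix.SpecialLinearGroup (Fin 2) (ZMod 5)) ∧ orderOf u = 4)) := by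
  classical
  haveI := Fintype.ofFinite G
  have hperf : commutator G = ⊤ := by
    by_contra hne
    have h := (Cfsg.Agent.S4757.result u hu 4 hyp).2.1 hne
    norm_num at h
  have hFour : Four u := by
    refine ⟨hperf, hu, fun χ hχ => ?_⟩
    rcases hyp χ (fun h => hχ ((eq_oneChar_iff χ).mpr h)) with h | h
    · exact Or.inr (by linear_combination -h)
    · exact Or.inl h
  obtain ⟨N, hN, h60, hs, huN, hu2, hC⟩ := hFour.exists_quotient
  have hE := ext_of_quotient hperf N h60 huN hu2 hC
  by_cases heven : 2 ∣ Nat.card N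
  · obtain ⟨h4, hab, hSL⟩ := hE.even_case heven
    exact ⟨hab, Or.inr ⟨hSL, h4⟩⟩
  · obtain ⟨hcore, h2, hab⟩ := hE.odd_case heven
    subst hcore
    exact ⟨hab, Or.inl ⟨iso_psl_five h60, h2⟩⟩

end Cfsg.Agent.S4758
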