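import Cfsg.Statements.S4759
import Cfsg.Agent.ExtraSplit59.Main
import Cfsg.Agent.PGroup.Extraspecial
import Cfsg.Agent.Eq.Def_Transfer
import Cfsg.Agent.S0867
import Cfsg.Agent.S0888
import Cfsg.Agent.Chars.Induced.Det
import Cfsg.Agent.CharExtend.Basic
import Cfsg.Agent.S0205
import Mathlib.GroupTheory.Complement

set_option autoImplicit false
open Cfsg
open scoped commutatorElement

namespace Cfsg.Agent.S4759

/-- Let G be a finite group that is the semidirect product of a normal extraspecial 2-subgroup E and a complement H acting faithfully on E (no non-identity element of H centralizes E), and suppose H has a normal subgroup K of odd order with [E, K] = E. Then every faithful irreducible character θ of E (there is exactly one) extends to G: some irreducible character of G restricts to θ on E. -/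
theorem result {G : Type*} [Group G] [Finite G] (E H : Subgroup G) [E.Normal] (hE : Cfsg.IsExtraspecial 2 ↥E) (hEH : E ⊓ H = ⊥) (hEHtop : E ⊔ H = ⊤) (hfaith : ∀ h ∈ H, (∀ e ∈ E, h * e = e * h) → h = 1) (K : Subgroup G) (hKH : K ≤ H) (hKn : ∀ h ∈ H, ∀ k ∈ K, h * k * h⁻¹ ∈ K) (hKodd : Odd (Nat.card ↥K)) (hEK : ⁅E, K⁆ = E) (θ : Cfsg.IrrCharacter ↥E) (hθ : ∀ e : ↥E, (θ : ↥E → ℂ) e = (θ : ↥E → ℂ) 1 → e = 1) : ∃ χ : Cfsg.IrrCharacter G, ∀ e : ↥E, (χ : G → ℂ) e = (θ : ↥E → ℂ) e := by
  classical
  haveI : Fact (Nat.Prime 2) := ⟨Nat.prime_two⟩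
  -- the centre
  obtain ⟨z, hz1, hzset⟩ : ∃ z : E, z ≠ 1 ∧ ∀ x : E, x ∈ Subgroup.center E ↔ x = 1 ∨ x = z := by
    obtain ⟨a, b, hab, huniv⟩ := Nat.card_eq_two_iff.1 hE.2
    have hall : ∀ c : Subgroup.center E, c = a ∨ c = b := fun c => by
      have : c ∈ ({a, b} : Set (Subgroup.center E)) := huniv ▸ Set.mem_univ c
      simpa using this
    obtain ⟨w, hw⟩ : ∃ w : Subgroup.center E, w ≠ 1 := by
      by_cases ha : a = 1
      · exact ⟨b, fun hb => hab (ha.trans hb.symm)⟩
      · exact ⟨a, ha⟩
    refine ⟨w, fun h => hw (Subtype.ext h), fun x => ⟨fun hx => ?_, ?_⟩⟩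
    · rcases hall 1 with h1 | h1 <;> rcases hall w with h2 | h2 <;> rcases hall ⟨x, hx⟩ with h3 | h3
      all_goals first
        | exact absurd (h2.trans h1.symm) hw
        | exact Or.inl (congrArg Subtype.val (h3.trans h1.symm))
        | exact Or.inr (congrArg Subtype.val (h3.trans h2.symm))
    · rintro (rfl | rfl)
      · exact Subgroup.one_mem _
      · exact w.2
  have hsqz : z * z = 1 := by
    have h1 : (⟨z, (hzset z).2 (Or.inr rfl)⟩ : Subgroup.center E) ^ Nat.card (Subgroup.center E) = 1 :=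
      pow_card_eq_one'
    rw [hE.2, pow_two] at h1
    exact congrArg Subtype.val h1
  have h : CfsgLib.ExtraSplit59.Ex E z := ⟨hz1, hsqz, hzset, fun x => by
    rw [← pow_two]; exact CfsgLib.PGroup.extraspecial_pow_mem hE x⟩
  -- the character
  have hθz : (θ : E → ℂ) z ≠ (θ : E → ℂ) 1 := fun h0 => hz1 (hθ z h0)
  obtain ⟨n, τ, hn, htr, hτ, hcard⟩ := CfsgLib.ExtraSplit59.irr_data h θ hθz
  have hinv : ∀ (g : G) (x : E), (θ : E → ℂ) (MulAut.conjNormal g x) = (θ : E → ℂ) x := by
    intro g x
    rw [← htr, ← htr, h.trace_eq τ hτ, h.trace_eq τ hτ]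
    set α : MulAut E := MulAut.conjNormal g
    have e1 : α x = 1 ↔ x = 1 := ⟨fun h1 => α.injective (h1.trans (map_one α).symm),
      fun h1 => by rw [h1, map_one]⟩
    have e2 : α x = z ↔ x = z := ⟨fun h1 => α.injective (h1.trans (h.aut_z α).symm),
      fun h1 => by rw [h1, h.aut_z]⟩
    simp only [e1, e2]
  have hθ1 : (θ : E → ℂ) 1 = (n : ℂ) := by
    rw [← htr, map_one, Matrix.trace_one, Fintype.card_fin]
  suffices hext : ∃ χ : G → ℂ, Cfsg.IsIrrCharacter G χ ∧ ∀ x : E, χ x = (θ : E → ℂ) x by
    obtain ⟨χ, h1, h2⟩ := hext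
    exact ⟨⟨χ, h1⟩, h2⟩
  refine Cfsg.Agent.S0888.result E (θ : E → ℂ) θ.2 (fun g x => ?_) fun p hp => ?_
  · exact (congrArg (θ : E → ℂ) (Subtype.ext (MulAut.conjNormal_apply g x).symm)).trans (hinv g x)
  haveI : Fact p.Prime := ⟨hp⟩
  obtain ⟨R0⟩ : Nonempty (Sylow p H) := inferInstance
  set R : Subgroup G := (R0 : Subgroup H).map H.subtype with hR
  have hRH : R ≤ H := Subgroup.map_subtype_le _
  let φ : R →* MulAut E := MulAut.conjNormal.comp R.subtype
  let f : E ⋊[φ] R →* G := SemidirectProduct.lift E.subtype R.subtype (fun r => MonoidHom.ext fun e =>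
    MulAut.conjNormal_apply (r : G) e)
  have hf : Function.Injective f := by
    rw [injective_iff_map_eq_one]
    intro g hg
    have h1 : (g.left : G) * (g.right : G) = 1 := hg
    have h2 : (g.left : G) ∈ E ⊓ H := by
      refine ⟨g.left.2, ?_⟩
      rw [eq_inv_of_mul_eq_one_left h1]
      exact H.inv_mem (hRH g.right.2)
    rw [hEH, Subgroup.mem_bot] at h2
    rw [h2, one_mul] at h1
    exact SemidirectProduct.ext (Subtype.ext h2) (Subtype.ext h1)
  have hEP : E ≤ f.range := fun x hx => ⟨SemidirectProduct.inl ⟨x, hx⟩, by simp [f]⟩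
  have hcompl : Subgroup.IsComplement' E H := by
    refine Subgroup.isComplement'_of_disjoint_and_mul_eq_univ (disjoint_iff.2 hEH) ?_
    rw [← Subgroup.normal_mul, hEHtop, Subgroup.coe_top]
  have hcardP : Nat.card f.range = Nat.card E * Nat.card R := by
    rw [← Nat.card_congr (MonoidHom.ofInjective hf).toEquiv, SemidirectProduct.card]
  have hRcard : Nat.card R = Nat.card (R0 : Subgroup H) :=
    (Nat.card_congr (Subgroup.equivMapOfInjective _ _ H.subtype_injective).toEquiv).symm
  obtain ⟨k, hk⟩ := R0.isPGroup'.exists_card_eq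
  have hk' : Nat.card R = p ^ k := hRcard.trans hk
  have hrel : E.relIndex f.range = p ^ k := by
    have h1 := (E.subgroupOf f.range).card_mul_index
    rw [Nat.card_congr (Subgroup.subgroupOfEquivOfLe hEP).toEquiv, hcardP, hk'] at h1
    exact Nat.eq_of_mul_eq_mul_left Nat.card_pos h1
  have hidx : Nat.Coprime f.range.index p := by
    have h1 := f.range.card_mul_index
    rw [← hcompl.card_mul, hcardP, ← (R0 : Subgroup H).card_mul_index, ← hRcard] at h1
    have h2 : f.range.index = (R0 : Subgroup H).index :=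
      Nat.eq_of_mul_eq_mul_left (Nat.mul_pos Nat.card_pos Nat.card_pos)
        (h1.trans (mul_assoc (Nat.card E) (Nat.card R) _).symm)
    rw [h2, Nat.coprime_comm, hp.coprime_iff_not_dvd]
    exact R0.not_dvd_index
  suffices hη : ∃ η : f.range → ℂ, Cfsg.IsIrrCharacter f.range η ∧
      ∀ x : E, η ⟨(x : G), hEP x.2⟩ = (θ : E → ℂ) x by
    obtain ⟨η, h1, h2⟩ := hη
    exact ⟨f.range, hEP, η, hidx, ⟨k, hrel⟩, h1, h2⟩
  by_cases hp2 : p = 2
  · -- the prime two
    subst hp2
    let Kimg : Subgroup (MulAut E) := K.map (MulAut.conjNormal : G →* MulAut E)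
    have hact : CfsgLib.ExtraSplit59.Acts Kimg φ.range := by
      refine ⟨(R0.isPGroup'.map H.subtype).of_surjective φ.rangeRestrict φ.rangeRestrict_surjective,
        hKodd.of_dvd_nat (K.card_map_dvd _), ?_, ?_⟩
      · rintro _ ⟨r, rfl⟩ _ ⟨x, hx, rfl⟩
        refine ⟨(r : G)⁻¹ * x * (r : G), ?_, by simp [φ]⟩
        simpa using hKn (r : G)⁻¹ (H.inv_mem (hRH r.2)) x hx
      · intro e he
        rw [Subgroup.mem_center_iff]
        have hcomm : ∀ x ∈ E, ∀ y ∈ K, (⁅x, y⁆ : G) * e = e * ⁅x, y⁆ := by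
          intro x hx y hy
          have hye : ∀ w : G, w ∈ K → w * (e : G) * w⁻¹ = e := fun w hw => by
            have := congrArg Subtype.val (he _ ⟨w, hw, rfl⟩)
            simpa using this
          let a : E := ⟨x, hx⟩
          let b : E := MulAut.conjNormal y a⁻¹
          have hb : ⁅b, e⁆ = ⁅a⁻¹, e⁆ := by
            have h1 : ⁅b, e⁆ = MulAut.conjNormal y ⁅a⁻¹, e⁆ := by
              have h2 : MulAut.conjNormal y e = e := Subtype.ext (by simpa using hye y hy)
              rw [map_commutatorElement, h2]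
            rw [h1, h.aut_center _ (h.comm_mem _ _)]
          have hab : (⁅x, y⁆ : G) = ((a * b : E) : G) := by
            simp [a, b, commutatorElement_def, mul_assoc]
          rw [hab, ← Subgroup.coe_mul, ← Subgroup.coe_mul]
          refine congrArg Subtype.val ?_
          have h1 : b * e = ⁅b, e⁆ * (e * b) := by simp [commutatorElement_def, mul_assoc]
          have h2 : a * e = ⁅a, e⁆ * (e * a) := by simp [commutatorElement_def, mul_assoc]
          have h3 : ⁅a, e⁆ * ⁅a⁻¹, e⁆ = 1 := by
            have hc := Subgroup.mem_center_iff.1 (h.comm_mem a⁻¹ e)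
            have h4 : ⁅a * a⁻¹, e⁆ = a * ⁅a⁻¹, e⁆ * a⁻¹ * ⁅a, e⁆ := by
              simp [commutatorElement_def, mul_assoc]
            rw [mul_inv_cancel, commutatorElement_one_left, hc a, mul_inv_cancel_right] at h4
            rw [hc ⁅a, e⁆]; exact h4.symm
          have hc : a * ⁅b, e⁆ = ⁅b, e⁆ * a := Subgroup.mem_center_iff.1 (h.comm_mem b e) a
          calc a * b * e = a * (b * e) := mul_assoc _ _ _
            _ = ⁅b, e⁆ * (a * e) * b := by rw [h1, ← mul_assoc, hc]; group
            _ = ⁅b, e⁆ * ⁅a, e⁆ * (e * (a * b)) := by rw [h2]; group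
            _ = e * (a * b) := by
              rw [hb, Subgroup.mem_center_iff.1 (h.comm_mem a e) ⁅a⁻¹, e⁆, h3, one_mul]
        have hle : ⁅E, K⁆ ≤ Subgroup.centralizer {(e : G)} := Subgroup.commutator_le.2
          fun x hx y hy => Subgroup.mem_centralizer_singleton_iff.2 (hcomm x hx y hy)
        intro g
        exact Subtype.ext (Subgroup.mem_centralizer_singleton_iff.1 (hle (hEK.symm ▸ g.2)))
    haveI : Finite (MulAut E) := Finite.of_injective _ DFunLike.coe_injective
    have hgood : CfsgLib.ExtraSplit59.Good z φ :=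
      (CfsgLib.ExtraSplit59.main (fun X _ _ hX => Cfsg.Agent.S0205.result hX) h Kimg φ.range
        hact).comp φ.rangeRestrict
    obtain ⟨ι, i1, i2, ρ, T, hne, hρz, hdim, heq⟩ := hgood
    let F : E ⋊[φ] R →* (Matrix ι ι ℂ)ˣ := SemidirectProduct.lift ρ.toHomUnits T.toHomUnits
      (fun r => MonoidHom.ext fun e => by
        apply Units.ext
        have h1 : (ρ (φ r e)) = T r * ρ e * T r⁻¹ := by
          rw [heq, mul_assoc, ← map_mul, mul_inv_cancel, map_one, mul_one]
        exact h1)
    let M : f.range →* Matrix ι ι ℂ :=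
      ((Units.coeHom _).comp F).comp (MonoidHom.ofInjective hf).symm.toMonoidHom
    refine ⟨fun x => (M x).trace, ?_, fun x => ?_⟩
    · have hchar := CfsgLib.ExtraSplit59.isCharacter_trace M
      obtain ⟨m, σ, hσ⟩ := hchar
      refine ⟨m, σ, ?_, hσ⟩
      obtain ⟨m', σ', hσ', hθσ⟩ := θ.2
      let g : E →* f.range := Subgroup.inclusion hEP
      have hval : ∀ x : E, σ.character (g x) = σ'.character x := by
        intro x
        rw [hθσ, hσ]
        have h1 : M (g x) = ρ x := by
          have : (MonoidHom.ofInjective hf).symm (g x) = SemidirectProduct.inl x := by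
            apply (MonoidHom.ofInjective hf).injective
            rw [MulEquiv.apply_symm_apply]
            exact Subtype.ext (by simp [g, f, MonoidHom.ofInjective_apply])
          simp [M, this, F]
        change (M (g x)).trace = _
        rw [h1]
        exact CfsgLib.ExtraSplit59.trace_eq_irr h θ hθz ρ hρz hdim x
      obtain ⟨hm, U, hU⟩ := CfsgLib.CharExtend.exists_conj_of_char_eq σ' hσ'
        (σ.comp g : Representation ℂ E (Fin m → ℂ)) (funext hval)
      subst hm
      rw [CfsgLib.Chars.isIrreducible_iff_forall]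
      have hσ'' := CfsgLib.Chars.isIrreducible_iff_forall.1 hσ'
      refine ⟨hσ''.1, fun q hq => ?_⟩
      rcases hσ''.2 (q.comap (Units.val U)) (fun x v hv => by
        rw [Submodule.mem_comap] at hv ⊢
        have h1 := LinearMap.congr_fun (hU x) v
        simp only [Module.End.mul_apply] at h1
        rw [h1]
        exact hq (g x) _ hv) with h2 | h2
      · left
        rw [eq_bot_iff]
        intro v hv
        have h3 : (Units.val (U⁻¹)) v ∈
            q.comap (Units.val U) := by
          rw [Submodule.mem_comap, ← Module.End.mul_apply, Units.mul_inv]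
          exact hv
        rw [h2, Submodule.mem_bot] at h3
        have h4 := congrArg (fun w => (Units.val U) w) h3
        rw [← Module.End.mul_apply, Units.mul_inv, map_zero] at h4
        exact h4
      · right
        rw [eq_top_iff]
        intro v _
        have h3 : (Units.val (U⁻¹)) v ∈
            q.comap (Units.val U) := h2 ▸ Submodule.mem_top
        rw [Submodule.mem_comap, ← Module.End.mul_apply, Units.mul_inv] at h3
        exact h3
    · have : (MonoidHom.ofInjective hf).symm ⟨(x : G), hEP x.2⟩ = SemidirectProduct.inl x := by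
        apply (MonoidHom.ofInjective hf).injective
        rw [MulEquiv.apply_symm_apply]
        exact Subtype.ext (by simp [f, MonoidHom.ofInjective_apply])
      simp only [M, MonoidHom.comp_apply, MulEquiv.coe_toMonoidHom, this]
      simpa [F] using CfsgLib.ExtraSplit59.trace_eq_irr h θ hθz ρ hρz hdim x
  · -- odd primes
    let N : Subgroup f.range := E.subgroupOf f.range
    let e : N ≃* E := Subgroup.subgroupOfEquivOfLe hEP
    let ϑ : N → ℂ := fun x => (θ : E → ℂ) (e x)
    have hϑ : Cfsg.IsIrrCharacter N ϑ :=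
      CfsgLib.Chars.isIrrCharacter_comp θ.2 e.toMonoidHom e.surjective
    obtain ⟨j, hj⟩ := hE.1.1.exists_card_eq
    have hnpow : ∃ i, n = 2 ^ i := by
      have h2 : n ∣ 2 ^ j := ⟨2 * n, by rw [← hj, ← hcard]; ring⟩
      obtain ⟨i, -, hi⟩ := (Nat.dvd_prime_pow Nat.prime_two).1 h2
      exact ⟨i, hi⟩
    have hcop : Nat.Coprime N.index (Cfsg.detOrder ϑ * n) := by
      have hNidx : N.index = p ^ k := hrel
      rw [hNidx]
      refine Nat.Coprime.pow_left k (Nat.Coprime.mul_right ?_ ?_)
      · refine Nat.Coprime.coprime_dvd_right (CfsgLib.Chars.Induced.detOrder_dvd_card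
          (CfsgLib.Chars.isCharacter_of_isIrrCharacter hϑ)) ?_
        rw [Nat.card_congr e.toEquiv, hj]
        exact ((Nat.coprime_primes hp Nat.prime_two).2 hp2).pow_right j
      · obtain ⟨i, rfl⟩ := hnpow
        exact ((Nat.coprime_primes hp Nat.prime_two).2 hp2).pow_right i
    have hinvϑ : ∀ (g : f.range) (x : N),
        ϑ ⟨g * x * g⁻¹, (inferInstance : N.Normal).conj_mem (x : f.range) x.2 g⟩ = ϑ x :=
      fun g x => (congrArg (θ : E → ℂ) (Subtype.ext rfl)).trans (hinv (g : G) (e x))
    obtain ⟨η, ⟨h1, h2, -⟩, -⟩ := Cfsg.Agent.S0867.result N ϑ hϑ hinvϑ n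
      (by simpa [ϑ] using hθ1) hcop
    · refine ⟨η, h1, fun x => ?_⟩
      have h3 := h2 (e.symm x)
      simp only [ϑ, MulEquiv.apply_symm_apply] at h3
      exact h3

end Cfsg.Agent.S4759
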