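import Cfsg.Statements.S4763
import Cfsg.Agent.Eq.Def_Characters
import Cfsg.Agent.Chars.Basic
import Cfsg.Agent.Chars.Induced.Extension
import Cfsg.Agent.Chars.Induced.Gallagher
import Cfsg.Agent.Chars.Induced.Ito
import Cfsg.Agent.Glauberman.Sub

set_option autoImplicit false
open Cfsg CfsgLib.Chars CfsgLib.Chars.Induced CfsgLib.Glauberman
open scoped commutatorElement

namespace Cfsg.Agent.S4763

universe u

section

variable {G : Type u} [Group G] [Finite G] {N : Subgroup G} [N.Normal] {p : ℕ} [hp : Fact p.Prime]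

/-- A character of `G` over a nontrivial character of `N` is nontrivial on `N`. -/
theorem not_le_charKer_of_mult [Fintype G] [Fintype N] {θ : IrrCharacter N}
    (hθ : θ ≠ oneChar N) {χ : IrrCharacter G} (h : mult (fun n : N => (χ : G → ℂ) n) θ ≠ 0) :
    ¬ N ≤ charKer (χ : G → ℂ) := by
  intro hle
  apply h
  have hres : (fun n : N => (χ : G → ℂ) n) = ((χ : G → ℂ) 1) • (oneChar N : N → ℂ) := by
    funext n
    rw [Pi.smul_apply, oneChar_apply, smul_eq_mul, mul_one,
      map_eq_map_one_of_mem_charKer (hle n.2)]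
  have h0 : classInner (fun n : N => (χ : G → ℂ) n) (θ : N → ℂ) = 0 := by
    rw [hres, Induced.classInner_smul_left, CfsgLib.Chars.classInner_of_ne (Ne.symm hθ), mul_zero]
  rw [classInner_eq_mult (isCharacter_restrict (isCharacter_coe χ) N)] at h0
  exact_mod_cast h0

theorem coprime_index_deg (hN : (Nat.card N).Coprime p) {k : ℕ} (hk : N.index = p ^ k)
    (θ : IrrCharacter N) :
    Nat.Coprime N.index (detOrder (θ : N → ℂ) * charDegree (θ : N → ℂ)) := by
  rw [hk]
  refine Nat.Coprime.pow_left k (Nat.Coprime.mul_right ?_ ?_)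
  · exact (hN.coprime_dvd_left (detOrder_dvd_card (isCharacter_coe θ))).symm
  · exact (hN.coprime_dvd_left (charDegree_dvd_card θ)).symm

theorem not_dvd_deg (hN : (Nat.card N).Coprime p) (θ : IrrCharacter N) :
    ¬ p ∣ charDegree (θ : N → ℂ) := fun h =>
  hp.out.not_dvd_one (hN.symm.eq_one_of_dvd (h.trans (charDegree_dvd_card θ)) ▸ dvd_refl p)

/-- If only one character degree is divisible by `p`, the quotient by the complement is abelian. -/
theorem map_one_quotient (hN : (Nat.card N).Coprime p) {k : ℕ} (hk : N.index = p ^ k)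
    (hNe : N ≠ ⊥)
    (hone : Nat.card {χ : IrrCharacter G // p ∣ charDegree (χ : G → ℂ)} = 1)
    (ψ : IrrCharacter (G ⧸ N)) : (ψ : G ⧸ N → ℂ) 1 = 1 := by
  classical
  have := Fintype.ofFinite G
  have := Fintype.ofFinite N
  by_contra hψ
  have hψp : p ∣ charDegree (ψ : G ⧸ N → ℂ) := by
    have h1 := charDegree_dvd_card ψ
    rw [← N.index_eq_card, hk] at h1
    obtain ⟨j, -, hj⟩ := (Nat.dvd_prime_pow hp.out).1 h1
    rcases j with _ | j
    · exact absurd ((charDegree_eq_one_iff ψ).1 (by simpa using hj)) hψ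
    · rw [hj]; exact dvd_pow_self p (Nat.succ_ne_zero j)
  have huniq : ∀ χ : IrrCharacter G, p ∣ charDegree (χ : G → ℂ) → χ = inflate N ψ := fun χ h =>
    congrArg Subtype.val ((Nat.card_eq_one_iff_unique.1 hone).1.elim ⟨χ, h⟩
      (⟨inflate N ψ, hψp⟩ : {χ : IrrCharacter G // p ∣ charDegree (χ : G → ℂ)}))
  have hnt : Nontrivial N := (Subgroup.nontrivial_iff_ne_bot N).2 hNe
  obtain ⟨θ, hθ⟩ := exists_not_le_charKer (G := N) (N := ⊤) (top_ne_bot)
  have hθ1 : θ ≠ oneChar N := by
    rintro rfl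
    exact hθ fun x _ y => by rw [oneChar_apply, oneChar_apply]
  by_cases hinv : ∀ g : G, conjFun N g (θ : N → ℂ) = θ
  · obtain ⟨χ, hχ, -, -⟩ := exists_canonical_extension θ hinv (coe_charDegree θ).symm
      (coprime_index_deg hN hk θ)
    let ξ : IrrCharacter G := ⟨_, gallagher_isIrrCharacter χ θ hχ ψ⟩
    have hξd : charDegree (ξ : G → ℂ) = charDegree (θ : N → ℂ) * charDegree (ψ : G ⧸ N → ℂ) := by
      refine charDegree_eq_of_map_one ?_
      show (χ : G → ℂ) 1 * (ψ : G ⧸ N → ℂ) ((1 : G) : G ⧸ N) = _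
      rw [QuotientGroup.mk_one, Nat.cast_mul, coe_charDegree, coe_charDegree]
      have := hχ 1
      rw [OneMemClass.coe_one] at this
      rw [this]
    have hξ := huniq ξ (hξd ▸ Dvd.dvd.mul_left hψp _)
    apply hθ
    rw [le_charKer_iff (isCharacter_coe θ)]
    intro n _
    have h2 : ∀ m : N, (θ : N → ℂ) m * (ψ : G ⧸ N → ℂ) 1 = (ψ : G ⧸ N → ℂ) 1 := by
      intro m
      have := congrFun (congrArg Subtype.val hξ) (m : G)
      rw [inflate_apply, (QuotientGroup.eq_one_iff (m : G)).2 m.2] at this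
      refine Eq.trans ?_ this
      show _ = (χ : G → ℂ) m * (ψ : G ⧸ N → ℂ) ((m : G) : G ⧸ N)
      rw [(QuotientGroup.eq_one_iff (m : G)).2 m.2, hχ m]
    have h3 := (h2 n).trans (h2 1).symm
    exact mul_right_cancel₀ (map_one_ne_zero ψ) h3
  · obtain ⟨χ, hχ⟩ := exists_mult_ne_zero (isCharacter_indFun N (isCharacter_coe θ)) fun h => by
      have := congrFun h 1
      rw [indFun_one_apply, Pi.zero_apply] at this
      exact (mul_ne_zero (Nat.cast_ne_zero.2 Subgroup.index_ne_zero_of_finite)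
        (map_one_ne_zero θ)) this
    rw [mult_indFun_irr] at hχ
    have hker := not_le_charKer_of_mult hθ1 hχ
    have hd : charDegree (χ : G → ℂ) = mult (fun n : N => (χ : G → ℂ) n) θ *
        (inertia N (θ : N → ℂ)).index * charDegree (θ : N → ℂ) := by
      refine charDegree_eq_of_map_one ?_
      rw [clifford_one χ θ hχ]
      push_cast
      rw [coe_charDegree]
    have hT : inertia N (θ : N → ℂ) ≠ ⊤ := fun h => hinv fun g =>
      mem_inertia.1 (h ▸ Subgroup.mem_top g)
    have hTdvd : (inertia N (θ : N → ℂ)).index ∣ p ^ k :=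
      hk ▸ Subgroup.index_dvd_of_le (le_inertia (isClassFunction_coe θ))
    obtain ⟨j, -, hj⟩ := (Nat.dvd_prime_pow hp.out).1 hTdvd
    have hpd : p ∣ charDegree (χ : G → ℂ) := by
      rcases j with _ | j
      · exact absurd (Subgroup.index_eq_one.1 (by simpa using hj)) hT
      · rw [hd, hj]
        exact Dvd.dvd.mul_right (Dvd.dvd.mul_left (dvd_pow_self p (Nat.succ_ne_zero j)) _) _
    exact hker (huniq χ hpd ▸ le_charKer_inflate N ψ)

/-- Characters of degree prime to `p`. -/
theorem card_not_dvd (hN : (Nat.card N).Coprime p) {k : ℕ} (hk : N.index = p ^ k)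
    (hab : ∀ ψ : IrrCharacter (G ⧸ N), (ψ : G ⧸ N → ℂ) 1 = 1) :
    Nat.card {χ : IrrCharacter G // ¬ p ∣ charDegree (χ : G → ℂ)} =
      Nat.card {θ : IrrCharacter N // ∀ g : G, conjFun N g (θ : N → ℂ) = θ} * p ^ k := by
  classical
  have := Fintype.ofFinite G
  have := Fintype.ofFinite N
  have hq : Nat.card (IrrCharacter (G ⧸ N)) = p ^ k := by
    have h := sum_charDegree_sq (G := G ⧸ N)
    rw [Finset.sum_congr rfl (g := fun _ => 1) (fun ψ _ => by
      rw [(charDegree_eq_one_iff ψ).2 (hab ψ), one_pow]), ← N.index_eq_card, hk] at h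
    rw [← h, Finset.sum_const, smul_eq_mul, mul_one, Finset.card_univ, Nat.card_eq_fintype_card]
  rw [← hq, ← Nat.card_prod]
  have hex : ∀ θ : {θ : IrrCharacter N // ∀ g : G, conjFun N g (θ : N → ℂ) = θ},
      ∃ χ : IrrCharacter G, ∀ n : N, (χ : G → ℂ) n = (θ.1 : N → ℂ) n := fun θ => by
    obtain ⟨χ, hχ, -, -⟩ := exists_canonical_extension θ.1 θ.2 (coe_charDegree θ.1).symm
      (coprime_index_deg hN hk θ.1)
    exact ⟨χ, hχ⟩
  choose ext hext using hex
  let f : {θ : IrrCharacter N // ∀ g : G, conjFun N g (θ : N → ℂ) = θ} × IrrCharacter (G ⧸ N) →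
      {χ : IrrCharacter G // ¬ p ∣ charDegree (χ : G → ℂ)} := fun x =>
    ⟨⟨_, gallagher_isIrrCharacter (ext x.1) x.1.1 (hext x.1) x.2⟩, by
      rw [charDegree_eq_of_map_one (n := charDegree (x.1.1 : N → ℂ))]
      · exact not_dvd_deg hN x.1.1
      · show (ext x.1 : G → ℂ) 1 * (x.2 : G ⧸ N → ℂ) ((1 : G) : G ⧸ N) = _
        have h1 := hext x.1 1
        rw [OneMemClass.coe_one] at h1
        rw [QuotientGroup.mk_one, hab, mul_one, h1, coe_charDegree]⟩
  refine (Nat.card_congr (Equiv.ofBijective f ⟨?_, ?_⟩)).symm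
  · rintro ⟨θ, β⟩ ⟨θ', β'⟩ h
    have h1 := congrArg (fun χ => (χ.1 : G → ℂ)) h
    have hres : θ = θ' := by
      refine Subtype.ext (Subtype.ext (funext fun n => ?_))
      have h2 : (ext θ : G → ℂ) n * (β : G ⧸ N → ℂ) ((n : G) : G ⧸ N) =
          (ext θ' : G → ℂ) n * (β' : G ⧸ N → ℂ) ((n : G) : G ⧸ N) := congrFun h1 (n : G)
      rw [(QuotientGroup.eq_one_iff (n : G)).2 n.2, hab, hab, mul_one, mul_one, hext, hext] at h2
      exact h2
    subst hres
    rw [gallagher_injective (ext θ) θ.1 (hext θ) β β' (congrFun h1)]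
  · rintro ⟨χ, hχ⟩
    obtain ⟨θ, hθ⟩ := exists_mult_restrict_ne_zero (N := N) χ
    have hd : charDegree (χ : G → ℂ) = mult (fun n : N => (χ : G → ℂ) n) θ *
        (inertia N (θ : N → ℂ)).index * charDegree (θ : N → ℂ) := by
      refine charDegree_eq_of_map_one ?_
      rw [clifford_one χ θ hθ]
      push_cast
      rw [coe_charDegree]
    obtain ⟨j, -, hj⟩ := (Nat.dvd_prime_pow hp.out).1
      (hk ▸ Subgroup.index_dvd_of_le (le_inertia (isClassFunction_coe θ)) :
        (inertia N (θ : N → ℂ)).index ∣ p ^ k)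
    have hT : inertia N (θ : N → ℂ) = ⊤ := by
      rcases j with _ | j
      · exact Subgroup.index_eq_one.1 (by simpa using hj)
      · refine absurd ?_ hχ
        rw [hd, hj]
        exact Dvd.dvd.mul_right (Dvd.dvd.mul_left (dvd_pow_self p (Nat.succ_ne_zero j)) _) _
    have hinv : ∀ g : G, conjFun N g (θ : N → ℂ) = θ := fun g =>
      mem_inertia.1 (hT ▸ Subgroup.mem_top g)
    obtain ⟨β, hβ⟩ := gallagher_exists (ext ⟨θ, hinv⟩) θ (hext ⟨θ, hinv⟩) χ hθ
    exact ⟨(⟨θ, hinv⟩, β), Subtype.ext (Subtype.ext hβ.symm)⟩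

/-- Classes of size prime to `p`, and the count of invariant characters of `N`. -/
theorem card_classes_not_dvd (hN : (Nat.card N).Coprime p) {k : ℕ} (hk : N.index = p ^ k)
    (hcomm : commutator G ≤ N) :
    Nat.card {C : ConjClasses G // ¬ p ∣ Nat.card C.carrier} =
      Nat.card {θ : IrrCharacter N // ∀ g : G, conjFun N g (θ : N → ℂ) = θ} * p ^ k := by
  classical
  obtain ⟨P⟩ : Nonempty (Sylow p G) := inferInstance
  obtain ⟨S, hS⟩ : ∃ S : Subgroup G, S = (P : Subgroup G) := ⟨_, rfl⟩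
  have hSp : IsPGroup p S := hS ▸ P.isPGroup'
  obtain ⟨j, hj⟩ := hSp.exists_card_eq
  have hmul : Nat.card N * N.index = Nat.card G := N.card_mul_index
  have hSk : Nat.card S = p ^ k := by
    apply Nat.dvd_antisymm
    · rw [← hk]
      refine Nat.Coprime.dvd_of_dvd_mul_left ?_ (hmul ▸ Subgroup.card_subgroup_dvd_card S)
      rw [hj]
      exact Nat.Coprime.pow_left j hN.symm
    · have hd : p ^ k ∣ Nat.card S * S.index := by
        rw [S.card_mul_index, ← hmul, hk]
        exact dvd_mul_left _ _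
      refine Nat.Coprime.dvd_of_dvd_mul_right (Nat.Coprime.pow_left k ?_) hd
      exact hp.out.coprime_iff_not_dvd.2 (hS ▸ P.not_dvd_index)
  have hcomp : Subgroup.IsComplement' N S := Subgroup.isComplement'_of_coprime
    (by rw [hSk, ← hk, hmul]) (by rw [hSk]; exact hN.pow_right k)
  have hdisj : ∀ x : G, x ∈ N → x ∈ S → x = 1 := fun x h1 h2 =>
    Subgroup.mem_bot.1 (hcomp.disjoint.le_bot ⟨h1, h2⟩)
  have hdec : ∀ g : G, ∃ n ∈ N, ∃ s ∈ S, g = n * s := fun g => by
    obtain ⟨x, hx, -⟩ := hcomp.existsUnique g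
    exact ⟨x.1, x.1.2, x.2, x.2.2, hx.symm⟩
  have hScomm : ∀ a ∈ S, ∀ b ∈ S, a * b = b * a := fun a ha b hb => by
    have h1 : ⁅a, b⁆ = 1 := hdisj _ (hcomm (Subgroup.commutator_mem_commutator
      (Subgroup.mem_top a) (Subgroup.mem_top b)))
      (S.mul_mem (S.mul_mem (S.mul_mem ha hb) (S.inv_mem ha)) (S.inv_mem hb))
    exact commutatorElement_eq_one_iff_mul_comm.1 h1
  have hnorm : ∀ s ∈ S, ∀ n ∈ N, s * n * s⁻¹ ∈ N := fun s _ n hn =>
    ‹N.Normal›.conj_mem n hn s
  letI := conjSubAction N S hnorm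
  have hpN : ¬ p ∣ Nat.card N := fun h => hp.out.not_dvd_one (hN.symm.eq_one_of_dvd h ▸ dvd_refl p)
  have hsol : Group.IsSolvable S := by
    have := hSp.isNilpotent
    infer_instance
  have hF : Nat.card {θ : IrrCharacter N // ∀ g : G, conjFun N g (θ : N → ℂ) = θ} =
      Nat.card (ConjClasses (FixedPoints.subgroup S N)) := by
    rw [← Nat.card_congr (classEquiv hSp hpN), ← card_fixed_irr_eq_card_fixed_classes
      (by rw [hSk]; exact hN.pow_right k)]
    refine Nat.card_congr (Equiv.subtypeEquivRight fun θ => ?_)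
    rw [← invariant_iff hnorm θ]
    constructor
    · intro h s _ n n' hn'
      have h1 := congrFun (h s⁻¹) n
      rw [conjFun_apply] at h1
      rw [← h1]
      exact congrArg (θ : N → ℂ) (Subtype.ext (by rw [hn']; group))
    · intro h g
      obtain ⟨n, hn, s, hs, rfl⟩ := hdec g
      have hs' : conjFun N s (θ : N → ℂ) = θ := by
        funext m
        rw [conjFun_apply]
        exact h s⁻¹ (S.inv_mem hs) m _ (by simp)
      rw [conjFun_mul, hs', conjFun_of_mem (isClassFunction_coe θ) hn]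
  rw [hF, ← hSk, mul_comm, ← Nat.card_prod]
  -- the bijection
  have hfix : ∀ (c : FixedPoints.subgroup S N) (s : G), s ∈ S →
      s * ((c : N) : G) = ((c : N) : G) * s := fun c s hs =>
    Subgroup.mem_centralizer_iff.1
      (Subgroup.mem_inf.1 ((fixed_iff_mem hnorm (c : N)).1 c.2)).2 s hs
  let rep : ConjClasses (FixedPoints.subgroup S N) → FixedPoints.subgroup S N :=
    Function.surjInv ConjClasses.mk_surjective
  have hrep : ∀ K, ConjClasses.mk (rep K) = K := Function.surjInv_eq ConjClasses.mk_surjective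
  let f : S × ConjClasses (FixedPoints.subgroup S N) →
      {C : ConjClasses G // ¬ p ∣ Nat.card C.carrier} := fun x =>
    ⟨ConjClasses.mk ((x.1 : G) * ((rep x.2 : N) : G)), by
      rw [CfsgLib.Chars.card_carrier_eq_index]
      intro h
      refine (hS ▸ P.not_dvd_index) (h.trans (Subgroup.index_dvd_of_le fun s hs => ?_))
      rw [Subgroup.mem_centralizer_singleton_iff, mul_assoc, ← hfix _ s hs, ← mul_assoc,
        hScomm s hs _ x.1.2, mul_assoc]⟩
  refine (Nat.card_congr (Equiv.ofBijective f ⟨?_, ?_⟩)).symm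
  · rintro ⟨u, K⟩ ⟨u', K'⟩ h
    obtain ⟨w, hw⟩ := isConj_iff.1 (ConjClasses.mk_eq_mk_iff_isConj.1 (congrArg Subtype.val h))
    dsimp only at hw
    have hmem : ∀ a b : G, ⁅a, b⁆ ∈ N := fun a b => hcomm (Subgroup.commutator_mem_commutator
      (Subgroup.mem_top a) (Subgroup.mem_top b))
    have huu : (u : G) = u' := by
      have h1 : ⁅w, (u : G) * ((rep K : N) : G)⁆ * (u : G) * ((rep K : N) : G) =
          (u' : G) * ((rep K' : N) : G) := by
        rw [← hw, commutatorElement_def]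
        group
      have h2 : (u' : G)⁻¹ * u ∈ N := by
        have h3 : (u' : G)⁻¹ * u = ((u' : G)⁻¹ * ⁅w, (u : G) * ((rep K : N) : G)⁆ * u')⁻¹ *
            ((rep K' : N) : G) * ((rep K : N) : G)⁻¹ := by
          calc (u' : G)⁻¹ * u
              = ((u' : G)⁻¹ * ⁅w, (u : G) * ((rep K : N) : G)⁆ * u')⁻¹ * ((u' : G)⁻¹ *
                  (⁅w, (u : G) * ((rep K : N) : G)⁆ * (u : G) * ((rep K : N) : G))) *
                  ((rep K : N) : G)⁻¹ := by group
            _ = ((u' : G)⁻¹ * ⁅w, (u : G) * ((rep K : N) : G)⁆ * u')⁻¹ *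
                  ((rep K' : N) : G) * ((rep K : N) : G)⁻¹ := by rw [h1]; group
        rw [h3]
        refine N.mul_mem (N.mul_mem (N.inv_mem ?_) (rep K' : N).2) (N.inv_mem (rep K : N).2)
        exact ‹N.Normal›.conj_mem' _ (hmem _ _) _
      exact (inv_mul_eq_one.1 (hdisj _ h2 (S.mul_mem (S.inv_mem u'.2) u.2))).symm
    obtain rfl : u = u' := Subtype.ext huu
    obtain ⟨n, hn, v, hv, rfl⟩ := hdec w
    have hv1 : n * ((u : G) * ((rep K : N) : G)) * n⁻¹ = (u : G) * ((rep K' : N) : G) := by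
      rw [← hw]
      have hc : v * ((u : G) * ((rep K : N) : G)) * v⁻¹ = (u : G) * ((rep K : N) : G) := by
        rw [← mul_assoc, hScomm v hv _ u.2, mul_assoc (u : G), hfix _ v hv]
        group
      calc n * ((u : G) * ((rep K : N) : G)) * n⁻¹
          = n * (v * ((u : G) * ((rep K : N) : G)) * v⁻¹) * n⁻¹ := by rw [hc]
        _ = n * v * ((u : G) * ((rep K : N) : G)) * (n * v)⁻¹ := by group
    have hu : (u : G) ^ (p ^ k) = 1 := by
      have h1 : u ^ (p ^ k) = 1 := hSk ▸ pow_card_eq_one'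
      simpa using congrArg Subtype.val h1
    have hcop : (Nat.card N).Coprime (p ^ k) := hN.pow_right k
    have hnc : (⟨n, hn⟩ : N) * (rep K : N) * (⟨n, hn⟩ : N)⁻¹ = (rep K' : N) := by
      refine (powCoprime hcop).injective ?_
      apply Subtype.ext
      show (n * ((rep K : N) : G) * n⁻¹) ^ (p ^ k) = ((rep K' : N) : G) ^ (p ^ k)
      have h1 : (n * ((u : G) * ((rep K : N) : G)) * n⁻¹) ^ (p ^ k) =
          ((u : G) * ((rep K' : N) : G)) ^ (p ^ k) := congrArg (· ^ (p ^ k)) hv1
      rw [conj_pow, Commute.mul_pow (hfix _ _ u.2), Commute.mul_pow (hfix _ _ u.2), hu, one_mul,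
        one_mul] at h1
      rw [conj_pow, h1]
    have hK : toFixedClass (A := S) (G := N) K = toFixedClass K' := by
      refine Subtype.ext ?_
      rw [← hrep K, ← hrep K']
      exact ConjClasses.mk_eq_mk_iff_isConj.2 (isConj_iff.2 ⟨⟨n, hn⟩, hnc⟩)
    exact Prod.ext rfl ((toFixedClass_bijective hSp hpN).1 hK)
  · rintro ⟨C, hC⟩
    obtain ⟨g, rfl⟩ := ConjClasses.mk_surjective C
    rw [CfsgLib.Chars.card_carrier_eq_index] at hC
    obtain ⟨Q⟩ : Nonempty (Sylow p (Subgroup.centralizer ({g} : Set G))) := inferInstance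
    have hQ : IsPGroup p ((Q : Subgroup (Subgroup.centralizer ({g} : Set G))).map
        (Subgroup.centralizer ({g} : Set G)).subtype) := Q.isPGroup'.map _
    have hQi : ¬ p ∣ ((Q : Subgroup (Subgroup.centralizer ({g} : Set G))).map
        (Subgroup.centralizer ({g} : Set G)).subtype).index := by
      rw [Subgroup.index_map_subtype]
      exact fun h => ((hp.out.dvd_mul).1 h).elim Q.not_dvd_index hC
    obtain ⟨w, hw⟩ := MulAction.exists_smul_eq G (hQ.toSylow hQi) P
    have hcent : ∀ s ∈ S, s * (w * g * w⁻¹) = (w * g * w⁻¹) * s := by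
      intro s hs
      have h1 : w⁻¹ * s * w ∈ (Q : Subgroup (Subgroup.centralizer ({g} : Set G))).map
          (Subgroup.centralizer ({g} : Set G)).subtype := by
        have h2 : s ∈ ((w • hQ.toSylow hQi : Sylow p G) : Subgroup G) := hw ▸ hS ▸ hs
        rw [Sylow.coe_subgroup_smul] at h2
        obtain ⟨x, hx, rfl⟩ := Subgroup.mem_map.1 h2
        simpa [MulAut.conj, mul_assoc] using hx
      obtain ⟨x, -, hx⟩ := Subgroup.mem_map.1 h1
      have h3 := Subgroup.mem_centralizer_singleton_iff.1 x.2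
      have h4 : w⁻¹ * s * w * g = g * (w⁻¹ * s * w) := by
        rw [← hx]
        exact h3
      calc s * (w * g * w⁻¹) = w * (w⁻¹ * s * w * g) * w⁻¹ := by group
        _ = w * g * w⁻¹ * s := by rw [h4]; group
    obtain ⟨n, hn, u, hu, hnu⟩ := hdec (w * g * w⁻¹)
    have hnfix : ∀ s ∈ S, s * n = n * s := by
      intro s hs
      have hn' : n = w * g * w⁻¹ * u⁻¹ := by rw [hnu]; group
      rw [hn', ← mul_assoc, hcent s hs, mul_assoc, hScomm s hs _ (S.inv_mem hu), ← mul_assoc]
    have hcmem : (⟨n, hn⟩ : N) ∈ FixedPoints.subgroup S N :=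
      (fixed_iff_mem hnorm ⟨n, hn⟩).2
        (Subgroup.mem_inf.2 ⟨hn, Subgroup.mem_centralizer_iff.2 fun s hs => hnfix s hs⟩)
    refine ⟨(⟨u, hu⟩, ConjClasses.mk ⟨⟨n, hn⟩, hcmem⟩), Subtype.ext ?_⟩
    show ConjClasses.mk (u * ((rep _ : N) : G)) = ConjClasses.mk g
    obtain ⟨c, hc⟩ := isConj_iff.1 (ConjClasses.mk_eq_mk_iff_isConj.1
      (hrep (ConjClasses.mk (⟨⟨n, hn⟩, hcmem⟩ : FixedPoints.subgroup S N))))
    have hc' : ((c : N) : G) * ((rep _ : N) : G) * ((c : N) : G)⁻¹ = n :=
      congrArg (fun x : FixedPoints.subgroup S N => ((x : N) : G)) hc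
    refine ConjClasses.mk_eq_mk_iff_isConj.2 (isConj_iff.2 ⟨w⁻¹ * ((c : N) : G), ?_⟩)
    have h5 : g = w⁻¹ * (u * n) * w := by rw [hnfix u hu, ← hnu]; group
    have h6 := hfix c u hu
    set r := ((rep (ConjClasses.mk ⟨⟨n, hn⟩, hcmem⟩) : N) : G)
    calc w⁻¹ * ((c : N) : G) * (u * r) * (w⁻¹ * ((c : N) : G))⁻¹
        = w⁻¹ * (((c : N) : G) * u) * r * ((c : N) : G)⁻¹ * w := by group
      _ = w⁻¹ * (u * (((c : N) : G) * r * ((c : N) : G)⁻¹)) * w := by
          rw [← h6]; group
      _ = g := (congrArg (fun y => w⁻¹ * (u * y) * w) hc').trans h5.symm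

end

/-- Let p be a prime and G a finite group that is not nilpotent and has a normal p-complement (a normal subgroup of order prime to p and index a power of p). If G has exactly one irreducible complex character of degree divisible by p, then G has exactly one conjugacy class whose size is divisible by p. -/
theorem result {G : Type*} [Group G] [Finite G] (p : ℕ) [Fact p.Prime] (hnil : ¬ Group.IsNilpotent G) (N : Subgroup G) [N.Normal] (hN : (Nat.card N).Coprime p) (hidx : ∃ k : ℕ, N.index = p ^ k) (hone : Nat.card {χ : Cfsg.IrrCharacter G // p ∣ Cfsg.charDegree (χ : G → ℂ)} = 1) : Nat.card {C : ConjClasses G // p ∣ Nat.card C.carrier} = 1 := by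
  classical
  obtain ⟨k, hk⟩ := hidx
  have hNe : N ≠ ⊥ := by
    rintro rfl
    rw [Subgroup.index_bot] at hk
    exact hnil (IsPGroup.of_card hk).isNilpotent
  have hab := map_one_quotient hN hk hNe hone
  have hcomm : commutator G ≤ N := by
    intro g hg
    rw [← QuotientGroup.eq_one_iff]
    refine eq_one_of_forall_eq fun ψ => ?_
    have h1 : (inflate N ψ : G → ℂ) 1 = 1 := by rw [inflate_apply, QuotientGroup.mk_one, hab]
    have h2 := map_eq_map_one_of_mem_charKer ((commutator_le_charKer_iff (inflate N ψ)).2 h1 hg)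
    rw [inflate_apply, inflate_apply, QuotientGroup.mk_one] at h2
    exact h2
  have h1 : Nat.card (IrrCharacter G) =
      Nat.card {χ : IrrCharacter G // p ∣ charDegree (χ : G → ℂ)} +
        Nat.card {χ : IrrCharacter G // ¬ p ∣ charDegree (χ : G → ℂ)} := by
    rw [← Nat.card_sum]
    exact (Nat.card_congr (Equiv.sumCompl _)).symm
  have h2 : Nat.card (ConjClasses G) =
      Nat.card {C : ConjClasses G // p ∣ Nat.card C.carrier} +
        Nat.card {C : ConjClasses G // ¬ p ∣ Nat.card C.carrier} := by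
    rw [← Nat.card_sum]
    exact (Nat.card_congr (Equiv.sumCompl _)).symm
  rw [card_irrCharacter, h2, hone, card_not_dvd hN hk hab, card_classes_not_dvd hN hk hcomm] at h1
  omega

end Cfsg.Agent.S4763
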