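import Cfsg.Statements.S4768
import Cfsg.Agent.S4713
import Cfsg.Agent.S4763
import Cfsg.Agent.Chars.Induced.Gallagher

set_option autoImplicit false
open Cfsg CfsgLib.Chars CfsgLib.Chars.Induced CfsgLib.Constrained
open scoped commutatorElement

namespace Cfsg.Agent.S4768

universe u

/-- A commutative kernel adds at most one step to the derived series. -/
theorem derived_step {P H : Type*} [Group P] [Group H] (f : P →* H)
    (hk : ∀ a b, f a = 1 → f b = 1 → a * b = b * a) {m : ℕ} (h : derivedSeries H m = ⊥) :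
    derivedSeries P (m + 1) = ⊥ := by
  rw [derivedSeries_succ, Subgroup.commutator_eq_bot_iff_le_centralizer]
  have hmem : ∀ a ∈ derivedSeries P m, f a = 1 := fun a ha => by
    have h1 := map_derivedSeries_le_derivedSeries f m (Subgroup.mem_map_of_mem f ha)
    rwa [h, Subgroup.mem_bot] at h1
  intro a ha
  rw [Subgroup.mem_centralizer_iff]
  intro b hb
  exact hk b a (hmem b hb) (hmem a ha)

theorem derived_inj {P H : Type*} [Group P] [Group H] (f : P →* H) (hf : Function.Injective f)
    {m : ℕ} (h : derivedSeries H m = ⊥) : derivedSeries P m = ⊥ := by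
  have h1 := map_derivedSeries_le_derivedSeries f m
  rw [h, le_bot_iff] at h1
  exact (Subgroup.map_eq_bot_iff_of_injective _ hf).1 h1

theorem derived_mono {P : Type*} [Group P] {m l : ℕ} (hml : m ≤ l) (h : derivedSeries P m = ⊥) :
    derivedSeries P l = ⊥ :=
  le_bot_iff.1 (h ▸ derivedSeries_antitone P hml)

/-- The number of irreducible characters of degree divisible by `p`. -/
noncomputable def singularCount (p : ℕ) (G : Type u) [Group G] : ℕ :=
  Nat.card {χ : IrrCharacter G // p ∣ charDegree (χ : G → ℂ)}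

variable {G : Type u} [Group G] [Finite G]

theorem singularCount_quotient_le (p : ℕ) (N : Subgroup G) [N.Normal] :
    singularCount p (G ⧸ N) ≤ singularCount p G :=
  Nat.card_le_card_of_injective (fun ψ => ⟨inflate N ψ.1, ψ.2⟩)
    fun _ _ h => Subtype.ext (inflate_injective N (congrArg Subtype.val h))

theorem singularCount_quotient_lt (p : ℕ) (N : Subgroup G) [N.Normal] {χ : IrrCharacter G}
    (hχ : p ∣ charDegree (χ : G → ℂ)) (hker : ¬ N ≤ charKer (χ : G → ℂ)) :
    singularCount p (G ⧸ N) + 1 ≤ singularCount p G := by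
  classical
  have := Fintype.ofFinite G
  have : Fintype {χ : IrrCharacter G // p ∣ charDegree (χ : G → ℂ)} := Fintype.ofFinite _
  have : Fintype {χ : IrrCharacter (G ⧸ N) // p ∣ charDegree (χ : G ⧸ N → ℂ)} := Fintype.ofFinite _
  rw [singularCount, singularCount, Nat.card_eq_fintype_card, Nat.card_eq_fintype_card]
  refine Fintype.card_lt_of_injective_of_notMem
    (fun ψ => (⟨inflate N ψ.1, ψ.2⟩ : {χ : IrrCharacter G // p ∣ charDegree (χ : G → ℂ)}))
    (fun _ _ h => Subtype.ext (inflate_injective N (congrArg Subtype.val h))) (b := ⟨χ, hχ⟩) ?_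
  rintro ⟨ψ, hψ⟩
  have h1 : inflate N ψ.1 = χ := congrArg Subtype.val hψ
  exact hker (h1 ▸ le_charKer_inflate N ψ.1)

/-- A linear character whose multiple is a restriction of coprime degree extends. -/
theorem exists_linear_ext {T : Type u} [Group T] [Finite T] (M : Subgroup T) (l : M →* ℂˣ)
    {ψ : T → ℂ} (hψ : IsCharacter T ψ) {e : ℕ} (he : e.Coprime (Nat.card M))
    (hres : ∀ m : M, ψ m = (e : ℂ) * l m) : ∃ μ : T →* ℂˣ, μ.comp M.subtype = l := by
  obtain ⟨d, ρ, hρ⟩ := id hψ
  have hfin : (d : ℂ) = e := by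
    have h1 := hres 1
    rw [map_one, Units.val_one, mul_one, OneMemClass.coe_one, ← hρ, Representation.char_one,
      Module.finrank_fin_fun] at h1
    exact h1
  let σ : Representation ℂ M (Fin d → ℂ) :=
    { toFun := fun x => ((l x)⁻¹ : ℂˣ).val • ρ (x : T)
      map_one' := by simp
      map_mul' := fun x y => by
        rw [map_mul, mul_inv, Units.val_mul, Subgroup.coe_mul, map_mul, smul_mul_smul_comm] }
  have hσ : ∀ x : M, σ x = 1 := by
    intro x
    refine rep_eq_one_of_character_eq σ ?_
    have h1 : ∀ y : M, σ.character y = e := fun y => by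
      show LinearMap.trace ℂ _ (((l y)⁻¹ : ℂˣ).val • ρ (y : T)) = (e : ℂ)
      rw [map_smul, smul_eq_mul]
      have h2 : LinearMap.trace ℂ _ (ρ (y : T)) = (e : ℂ) * l y := by
        rw [← hres, ← hρ]
        rfl
      rw [h2, mul_left_comm, Units.inv_mul, mul_one]
    rw [h1, h1]
  have hdet : (repDet ρ).comp M.subtype = l ^ e := by
    refine MonoidHom.ext fun x => Units.ext ?_
    show LinearMap.det (ρ (x : T)) = ((l x ^ e : ℂˣ) : ℂ)
    have h3 : ρ (x : T) = (l x : ℂ) • (1 : Module.End ℂ (Fin d → ℂ)) := by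
      have h4 := hσ x
      rw [show σ x = ((l x)⁻¹ : ℂˣ).val • ρ (x : T) from rfl] at h4
      rw [← h4, smul_smul, Units.mul_inv, one_smul]
    rw [h3, LinearMap.det_smul, map_one, mul_one, Units.val_pow_eq_pow_val, Module.finrank_fin_fun]
    rw [show d = e from by exact_mod_cast hfin]
  have hord : e.Coprime (orderOf l) := by
    refine he.coprime_dvd_right (orderOf_dvd_of_pow_eq_one ?_)
    refine MonoidHom.ext fun x => ?_
    rw [MonoidHom.pow_apply, ← map_pow, pow_card_eq_one', map_one, MonoidHom.one_apply]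
  obtain ⟨a, ha⟩ := exists_pow_eq_self_of_coprime hord
  refine ⟨repDet ρ ^ a, ?_⟩
  rw [← ha, ← hdet]
  rfl

/-- If no character nontrivial on the abelian normal `p`-subgroup `N` has degree divisible by
`p`, then some Sylow subgroup has derived length at most two. -/
theorem exists_sylow_two {p : ℕ} [hp : Fact p.Prime] (hsolv : IsPSolvable p G) (N : Subgroup G)
    [N.Normal] (hN : N ≠ ⊥) (hNp : IsPGroup p N) [IsMulCommutative N]
    (hall : ∀ χ : IrrCharacter G, ¬ N ≤ charKer (χ : G → ℂ) → ¬ p ∣ charDegree (χ : G → ℂ)) :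
    ∃ Q : Sylow p G, derivedSeries (Q : Subgroup G) 2 = ⊥ := by
  classical
  have := Fintype.ofFinite G
  have := Fintype.ofFinite N
  have hnt : Nontrivial N := (Subgroup.nontrivial_iff_ne_bot N).2 hN
  obtain ⟨θ, hθ⟩ := exists_not_le_charKer (G := N) (N := ⊤) top_ne_bot
  have hθ1 : θ ≠ oneChar N := by
    rintro rfl
    exact hθ fun x _ y => by rw [oneChar_apply, oneChar_apply]
  obtain ⟨χ, hχ⟩ := exists_mult_ne_zero (isCharacter_indFun N (isCharacter_coe θ)) fun h => by
    have h1 := congrFun h 1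
    rw [indFun_one_apply, Pi.zero_apply] at h1
    exact (mul_ne_zero (Nat.cast_ne_zero.2 Subgroup.index_ne_zero_of_finite)
      (map_one_ne_zero θ)) h1
  rw [mult_indFun_irr] at hχ
  have hχp := hall χ (S4763.not_le_charKer_of_mult hθ1 hχ)
  obtain ⟨T, hTdef⟩ : ∃ T : Subgroup G, T = inertia N (θ : N → ℂ) := ⟨_, rfl⟩
  have hNT : N ≤ T := hTdef ▸ le_inertia (isClassFunction_coe θ)
  have := Fintype.ofFinite T
  obtain ⟨ψ, hψ, hψχ⟩ := exists_indFun_eq hTdef hNT χ hχ
  obtain ⟨l, hl⟩ := exists_linChar_eq θ (map_one_eq_one_of_isMulCommutative θ)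
  obtain ⟨e, he⟩ : ∃ e, e = mult (fun n : N => (ψ : T → ℂ) (Subgroup.inclusion hNT n)) θ :=
    ⟨_, rfl⟩
  have hres := restrict_eq_smul_of_le_inertia hNT hTdef.le ψ hψ
  have hres' : ∀ n : N, (ψ : T → ℂ) (Subgroup.inclusion hNT n) = (e : ℂ) * l n := fun n => by
    have h1 := congrFun hres n
    rw [← he] at h1
    rw [h1, ← hl]
    rfl
  have hψ1 : (ψ : T → ℂ) 1 = e := by
    have h1 := hres' 1
    rwa [map_one, map_one, Units.val_one, mul_one] at h1
  have hχdeg : charDegree (χ : G → ℂ) = T.index * e := by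
    refine charDegree_eq_of_map_one ?_
    rw [← hψχ, indFun_one_apply, hψ1, Nat.cast_mul]
  have hTp : ¬ p ∣ T.index := fun h => hχp (hχdeg ▸ h.trans (dvd_mul_right _ _))
  have hep : ¬ p ∣ e := fun h => hχp (hχdeg ▸ h.trans (dvd_mul_left _ _))
  let M : Subgroup T := N.subgroupOf T
  let eq : M ≃* N := Subgroup.subgroupOfEquivOfLe hNT
  obtain ⟨j, hj⟩ := hNp.exists_card_eq
  obtain ⟨μ, hμ⟩ := exists_linear_ext M (l.comp eq.toMonoidHom) (isCharacter_coe ψ) (e := e)
    (by
      rw [Nat.card_congr eq.toEquiv, hj]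
      exact Nat.Coprime.pow_right j (hp.out.coprime_iff_not_dvd.2 hep).symm)
    (fun m => hres' (eq m))
  have hμN : ∀ n : N, μ (Subgroup.inclusion hNT n) = l n := fun n => by
    have h1 := DFunLike.congr_fun hμ (eq.symm n)
    rw [MonoidHom.comp_apply, MonoidHom.comp_apply, MulEquiv.toMonoidHom_eq_coe,
      MonoidHom.coe_coe, eq.apply_symm_apply] at h1
    exact h1
  have := Fintype.ofFinite M
  have hdeg : ∀ β : IrrCharacter (T ⧸ M), ¬ p ∣ charDegree (β : T ⧸ M → ℂ) := by
    intro β hβ
    let ψ' : IrrCharacter T := ⟨_, gallagher_isIrrCharacter (linChar μ)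
      (linChar (μ.comp M.subtype)) (fun _ => rfl) β⟩
    have hres2 : (fun n : N => (ψ' : T → ℂ) (Subgroup.inclusion hNT n)) =
        (β : T ⧸ M → ℂ) 1 • (θ : N → ℂ) := by
      funext n
      show (linChar μ : T → ℂ) (Subgroup.inclusion hNT n) *
        (β : T ⧸ M → ℂ) ((Subgroup.inclusion hNT n : T) : T ⧸ M) = _
      rw [(QuotientGroup.eq_one_iff (Subgroup.inclusion hNT n : T)).2
          (show Subgroup.inclusion hNT n ∈ N.subgroupOf T from n.2),
        linChar_apply, hμN, Pi.smul_apply, smul_eq_mul, ← hl, linChar_apply, mul_comm]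
    have hψ' : mult (fun n : N => (ψ' : T → ℂ) (Subgroup.inclusion hNT n)) θ ≠ 0 := by
      intro h0
      have h1 := classInner_eq_mult
        (isCharacter_comp (isCharacter_coe ψ') (Subgroup.inclusion hNT)) θ
      rw [h0, hres2, Induced.classInner_smul_left, classInner_irr_self, mul_one, Nat.cast_zero] at h1
      exact map_one_ne_zero β h1
    let χ' : IrrCharacter G := ⟨_, isIrrCharacter_indFun_inertia hTdef hNT ψ' hψ'⟩
    have hm : mult (indFun T (ψ' : T → ℂ)) χ' ≠ 0 := by
      rw [show indFun T (ψ' : T → ℂ) = (χ' : G → ℂ) from rfl, mult_irr, if_pos rfl]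
      exact one_ne_zero
    have h2 := (indFun_eq_of_mult_ne_zero hTdef hNT ψ' hψ' χ' hm).2
    refine hall χ' (S4763.not_le_charKer_of_mult hθ1 (h2 ▸ hψ')) ?_
    have h3 : charDegree (χ' : G → ℂ) = T.index * charDegree (β : T ⧸ M → ℂ) := by
      refine charDegree_eq_of_map_one ?_
      show indFun T (ψ' : T → ℂ) 1 = _
      rw [indFun_one_apply, Nat.cast_mul, coe_charDegree]
      show _ * ((linChar μ : T → ℂ) 1 * (β : T ⧸ M → ℂ) ((1 : T) : T ⧸ M)) = _
      rw [linChar_map_one, one_mul, QuotientGroup.mk_one]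
    exact h3 ▸ hβ.trans (dvd_mul_left _ _)
  obtain ⟨R⟩ : Nonempty (Sylow p T) := inferInstance
  have hab := (S4713.main _ (T ⧸ M) rfl
    (IsPSolvable.quotient (IsPSolvable.subgroup hsolv T) M) hdeg
    (R.mapSurjective (QuotientGroup.mk'_surjective M))).2
  rw [Sylow.coe_mapSurjective] at hab
  have hQp : IsPGroup p ((R : Subgroup T).map T.subtype) := R.isPGroup'.map _
  have hQi : ¬ p ∣ ((R : Subgroup T).map T.subtype).index := by
    rw [Subgroup.index_map_subtype]
    exact fun h => ((hp.out.dvd_mul).1 h).elim R.not_dvd_index hTp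
  refine ⟨hQp.toSylow hQi, derived_inj (P := ((hQp.toSylow hQi : Sylow p G) : Subgroup G))
    ((R : Subgroup T).equivMapOfInjective T.subtype T.subtype_injective).symm.toMonoidHom
    (MulEquiv.injective _) ?_⟩
  refine derived_step ((QuotientGroup.mk' M).subgroupMap (R : Subgroup T)) ?_ (m := 1) ?_
  · intro a b ha hb
    have ha' : ((a : T) : G) ∈ N := Subgroup.mem_subgroupOf.1
      ((QuotientGroup.eq_one_iff (a : T)).1 (congrArg Subtype.val ha))
    have hb' : ((b : T) : G) ∈ N := Subgroup.mem_subgroupOf.1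
      ((QuotientGroup.eq_one_iff (b : T)).1 (congrArg Subtype.val hb))
    exact Subtype.ext (Subtype.ext
      ((congrArg Subtype.val (mul_comm' (⟨_, ha'⟩ : N) (⟨_, hb'⟩ : N))) :
        ((a : T) : G) * ((b : T) : G) = ((b : T) : G) * ((a : T) : G)))
  · rw [derivedSeries_one, commutator_def, Subgroup.commutator_eq_bot_iff_le_centralizer]
    intro a _
    rw [Subgroup.mem_centralizer_iff]
    exact fun b _ => Subtype.ext (hab b.1 b.2 a.1 a.2)

theorem main {p : ℕ} [hp : Fact p.Prime] (n : ℕ) :
    ∀ (G : Type u) [Group G] [Finite G], Nat.card G = n → IsPSolvable p G → ∀ P : Sylow p G,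
      derivedSeries (P : Subgroup G) (singularCount p G + 1) = ⊥ := by
  induction n using Nat.strong_induction_on with
  | _ n ih =>
    intro G _ _ hcard hsolv P
    classical
    rcases subsingleton_or_nontrivial G with hs | hs
    · exact Subgroup.eq_bot_of_subsingleton _
    have key : ∀ (N : Subgroup G) [N.Normal], N ≠ ⊥ →
        derivedSeries ((P.mapSurjective (QuotientGroup.mk'_surjective N) : Sylow p (G ⧸ N)) :
          Subgroup (G ⧸ N)) (singularCount p (G ⧸ N) + 1) = ⊥ := fun N _ hN =>
      ih _ (hcard ▸ S4713.card_quotient_lt N hN) (G ⧸ N) rfl (IsPSolvable.quotient hsolv N) _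
    by_cases hc : pPrimeCore p G = ⊥
    · have hc' : pCore p G ≠ ⊥ :=
        (IsPSolvable.core_ne_bot hsolv).resolve_right (fun h => h hc)
      have : Nontrivial (pCore p G) := (Subgroup.nontrivial_iff_ne_bot _).2 hc'
      have hcen : Nontrivial (Subgroup.center (pCore p G)) :=
        IsPGroup.center_nontrivial isPGroup_pCore
      obtain ⟨N, hNdef⟩ : ∃ N : Subgroup G,
          N = (Subgroup.center (pCore p G)).map (pCore p G).subtype := ⟨_, rfl⟩
      have : N.Normal := hNdef ▸ inferInstance
      have hN : N ≠ ⊥ := by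
        rw [hNdef, Ne, Subgroup.map_eq_bot_iff_of_injective _ (pCore p G).subtype_injective]
        exact (Subgroup.nontrivial_iff_ne_bot _).1 hcen
      have hNp : IsPGroup p N := hNdef ▸ (isPGroup_pCore.to_subgroup _).map _
      have hNc : ∀ a ∈ N, ∀ b ∈ N, a * b = b * a := by
        rw [hNdef]
        rintro _ ⟨x, hx, rfl⟩ _ ⟨y, hy, rfl⟩
        rw [← map_mul, ← map_mul, Subgroup.mem_center_iff.1 hx y]
      have : IsMulCommutative N := ⟨⟨fun a b => Subtype.ext (hNc a.1 a.2 b.1 b.2)⟩⟩
      by_cases hex : ∃ χ : IrrCharacter G, p ∣ charDegree (χ : G → ℂ) ∧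
          ¬ N ≤ charKer (χ : G → ℂ)
      · obtain ⟨χ, hχ, hker⟩ := hex
        have h1 := key N hN
        rw [Sylow.coe_mapSurjective] at h1
        refine derived_mono (Nat.add_le_add_right (singularCount_quotient_lt p N hχ hker) 1) ?_
        refine derived_step ((QuotientGroup.mk' N).subgroupMap (P : Subgroup G)) ?_ h1
        intro a b ha hb
        exact Subtype.ext (hNc _ ((QuotientGroup.eq_one_iff _).1 (congrArg Subtype.val ha)) _
          ((QuotientGroup.eq_one_iff _).1 (congrArg Subtype.val hb)))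
      · push_neg at hex
        rcases Nat.eq_zero_or_pos (singularCount p G) with h0 | hpos
        · have hdeg : ∀ χ : IrrCharacter G, ¬ p ∣ charDegree (χ : G → ℂ) := fun χ h =>
            (Nat.card_pos_iff.2 ⟨⟨(⟨χ, h⟩ :
              {χ : IrrCharacter G // p ∣ charDegree (χ : G → ℂ)})⟩, inferInstance⟩).ne' h0
          have h2 := (S4713.main _ G rfl hsolv hdeg P).2
          rw [h0, zero_add, derivedSeries_one, commutator_def,
            Subgroup.commutator_eq_bot_iff_le_centralizer]
          intro a _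
          rw [Subgroup.mem_centralizer_iff]
          exact fun b _ => Subtype.ext (h2 b.1 b.2 a.1 a.2)
        · obtain ⟨Q, hQ⟩ := exists_sylow_two hsolv N hN hNp
            fun χ hker hd => hker (hex χ hd)
          exact derived_mono (by omega)
            (derived_inj (P.equiv Q).toMonoidHom (MulEquiv.injective _) hQ)
    · have h1 := key (pPrimeCore p G) hc
      rw [Sylow.coe_mapSurjective] at h1
      refine derived_mono (Nat.add_le_add_right (singularCount_quotient_le p (pPrimeCore p G)) 1) ?_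
      refine derived_inj ((QuotientGroup.mk' (pPrimeCore p G)).subgroupMap (P : Subgroup G)) ?_ h1
      rw [injective_iff_map_eq_one]
      intro a ha
      have h2 : (a : G) ∈ pPrimeCore p G :=
        (QuotientGroup.eq_one_iff _).1 (congrArg Subtype.val ha)
      obtain ⟨j, hj⟩ := P.isPGroup'.exists_card_eq
      have h3 : orderOf (a : G) ∣ 1 := by
        rw [← (Nat.Coprime.pow_right j (hp.out.coprime_iff_not_dvd.2
          (pPrimeCore_not_dvd (G := G) (p := p))).symm), ← hj]
        exact Nat.dvd_gcd (Subgroup.orderOf_dvd_natCard _ h2) (Subgroup.orderOf_dvd_natCard _ a.2)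
      exact Subtype.ext (orderOf_eq_one_iff.1 (Nat.dvd_one.1 h3))

/-- Let p be a prime, G a finite p-solvable group and P a Sylow p-subgroup of G. If n is the number of irreducible complex characters of G whose degree is divisible by p, then the (n+1)-st term of the derived series of P is trivial. (The p-solvable case has a direct inductive proof.) -/
theorem result {G : Type*} [Group G] [Finite G] (p : ℕ) [Fact p.Prime] (hG : Cfsg.IsPSolvable p G) (P : Sylow p G) : derivedSeries ↥(P : Subgroup G) (Nat.card {χ : Cfsg.IrrCharacter G // p ∣ Cfsg.charDegree (χ : G → ℂ)} + 1) = ⊥ :=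
  main _ G rfl hG P

end Cfsg.Agent.S4768
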