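import Cfsg.Statements.S4776
import Cfsg.Agent.RelDegree.Linking
import Mathlib

set_option autoImplicit false
open Cfsg

namespace Cfsg.Agent.S4776

universe u in
open CfsgLib.RelDegree in
/-- Linear characters of every prime order dividing `|N : N'|`. -/
theorem exists_lin {G : Type u} [Group G] [Finite G] (N : Subgroup G) {r : ℕ} (hr : r.Prime)
    (h : r ∣ ⁅N, N⁆.relIndex N) : ∃ x : Lin N, orderOf x = r := by
  haveI := Fact.mk hr
  have h1 : ⁅N, N⁆.subgroupOf N = commutator N := by
    rw [← Subgroup.map_subtype_commutator N, Subgroup.subgroupOf,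
      Subgroup.comap_map_eq_self_of_injective N.subtype_injective]
  have h2 : Nat.card (Lin N) = ⁅N, N⁆.relIndex N := by
    show Nat.card (N →* ℂˣ) = _
    rw [Subgroup.relIndex, h1, Nat.card_congr (Abelianization.lift (G := N) (A := ℂˣ)),
      CommGroup.card_monoidHom_of_hasEnoughRootsOfUnity (Abelianization N) ℂ,
      Subgroup.index_eq_card]
    rfl
  exact exists_prime_orderOf_dvd_card' (G := Lin N) r (h2.symm ▸ h)

/-- Let N be a normal subgroup of the finite group G that is not perfect and is contained in the derived subgroup of G. Consider the common-divisor graph on the relative degree set cd(G|N) (the degrees of the irreducible complex characters of G whose kernel does not contain N; two distinct degrees adjacent when they have a common divisor greater than one). Then this graph has at most two connected components; and if a, b ∈ cd(G|N) lie in different components, then one of a, b is coprime to the index m of the derived subgroup of N in N while the other is divisible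 by every prime divisor of m. -/
theorem result {G : Type*} [Group G] [Finite G] (N : Subgroup G) [N.Normal] (hN : ⁅N, N⁆ < N) (hNG : N ≤ commutator G) : Nat.card (Cfsg.commonDivisorGraph.induce (Cfsg.relCharDegrees N)).ConnectedComponent ≤ 2 ∧ ∀ (a b : ℕ) (ha : a ∈ Cfsg.relCharDegrees N) (hb : b ∈ Cfsg.relCharDegrees N), ¬ (Cfsg.commonDivisorGraph.induce (Cfsg.relCharDegrees N)).Reachable ⟨a, ha⟩ ⟨b, hb⟩ → (Nat.Coprime a (⁅N, N⁆.relIndex N) ∧ ∀ r : ℕ, r.Prime → r ∣ ⁅N, N⁆.relIndex N → r ∣ b) ∨ (Nat.Coprime b (⁅N, N⁆.relIndex N) ∧ ∀ r : ℕ, r.Prime → r ∣ ⁅N, N⁆.relIndex N → r ∣ a) := by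
  classical
  letI := Fintype.ofFinite G
  letI := Fintype.ofFinite N
  set m := ⁅N, N⁆.relIndex N with hm
  obtain ⟨r₀, hr₀, hr₀m⟩ : ∃ r : ℕ, r.Prime ∧ r ∣ m := Nat.exists_prime_and_dvd fun h =>
    hN.not_ge (Subgroup.relIndex_eq_one.1 h)
  -- the two kinds of degrees
  let Full : ℕ → Prop := fun a => ∀ r : ℕ, r.Prime → r ∣ m → r ∣ a
  have main : ∀ (a b : ℕ) (ha : a ∈ Cfsg.relCharDegrees N) (hb : b ∈ Cfsg.relCharDegrees N),
      ¬ (Cfsg.commonDivisorGraph.induce (Cfsg.relCharDegrees N)).Reachable ⟨a, ha⟩ ⟨b, hb⟩ →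
      (Nat.Coprime a m ∧ Full b) ∨ (Nat.Coprime b m ∧ Full a) := by
    intro a b ha hb hab
    have share : ∀ p : ℕ, p.Prime → p ∣ a → p ∣ b → False := fun p hp h1 h2 =>
      hab (CfsgLib.RelDegree.reach_of_dvd ha hb hp h1 h2).2.2
    by_cases hfb : Full b
    · refine Or.inl ⟨Nat.coprime_of_dvd fun p hp hpa hpm => share p hp hpa (hfb p hp hpm), hfb⟩
    by_cases hfa : Full a
    · refine Or.inr ⟨Nat.coprime_of_dvd fun p hp hpb hpm => share p hp (hfa p hp hpm) hpb, hfa⟩
    exfalso
    simp only [Full, not_forall] at hfa hfb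
    obtain ⟨r, hr, hrm, hra⟩ := hfa
    obtain ⟨s, hs, hsm, hsb⟩ := hfb
    haveI := Fact.mk hr
    haveI := Fact.mk hs
    obtain ⟨x, hx⟩ := exists_lin N hr hrm
    obtain ⟨x', hx'⟩ := exists_lin N hs hsm
    exact hab (CfsgLib.RelDegree.reach_of_lacking hNG ha hb hra hsb x x' hx hx').2.2
  refine ⟨?_, main⟩
  have notboth : ∀ a : ℕ, Nat.Coprime a m → Full a → False := fun a h1 h2 =>
    hr₀.ne_one (Nat.eq_one_of_dvd_coprimes h1 (h2 r₀ hr₀ hr₀m) hr₀m)
  set Γ := Cfsg.commonDivisorGraph.induce (Cfsg.relCharDegrees N)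
  by_contra hlt
  have hfin : Finite Γ.ConnectedComponent :=
    Nat.finite_of_card_ne_zero (show Nat.card Γ.ConnectedComponent ≠ 0 by omega)
  letI := Fintype.ofFinite Γ.ConnectedComponent
  rw [Nat.card_eq_fintype_card, not_le, Fintype.two_lt_card_iff] at hlt
  obtain ⟨A, B, C, hAB, hAC, hBC⟩ := hlt
  obtain ⟨⟨a, ha⟩, rfl⟩ := A.exists_rep
  obtain ⟨⟨b, hb⟩, rfl⟩ := B.exists_rep
  obtain ⟨⟨c, hc⟩, rfl⟩ := C.exists_rep
  have hab := main a b ha hb fun h => hAB (SimpleGraph.ConnectedComponent.sound h)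
  have hac := main a c ha hc fun h => hAC (SimpleGraph.ConnectedComponent.sound h)
  have hbc := main b c hb hc fun h => hBC (SimpleGraph.ConnectedComponent.sound h)
  rcases hab with ⟨h1, h2⟩ | ⟨h1, h2⟩ <;> rcases hac with ⟨h3, h4⟩ | ⟨h3, h4⟩ <;>
    rcases hbc with ⟨h5, h6⟩ | ⟨h5, h6⟩ <;>
    first
    | exact notboth a h1 h4 | exact notboth a h3 h2 | exact notboth b h5 h2 | exact notboth b h1 h6
    | exact notboth c h5 h4 | exact notboth c h3 h6 | exact notboth a h1 h2 | exact notboth a h3 h4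

end Cfsg.Agent.S4776
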