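import Cfsg.Statements.S4779
import Cfsg.Agent.RelDegree.Coprime

set_option autoImplicit false
open Cfsg

namespace Cfsg.Agent.S4779

/-- Let N be a solvable normal subgroup of the finite group G contained in the derived subgroup of G, and consider the common-divisor graph on the relative degree set cd(G|N) (degrees of irreducible complex characters of G whose kernel does not contain N, two distinct degrees adjacent when not coprime). If this graph has two vertices that are not joined by any path, then there is a vertex a₀ such that any two distinct vertices in the component of a₀ are adjacent, and any two distinct vertices outside that component are adjacent or have a common neighbour (one component is complete, the other has diameter at most 2). -/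
theorem result {G : Type*} [Group G] [Finite G] (N : Subgroup G) [N.Normal] [Group.IsSolvable N] (hNG : N ≤ commutator G) (hdisc : ¬ (Cfsg.commonDivisorGraph.induce (Cfsg.relCharDegrees N)).Preconnected) : ∃ a₀ : ↥(Cfsg.relCharDegrees N), (∀ b c : ↥(Cfsg.relCharDegrees N), (Cfsg.commonDivisorGraph.induce (Cfsg.relCharDegrees N)).Reachable a₀ b → (Cfsg.commonDivisorGraph.induce (Cfsg.relCharDegrees N)).Reachable a₀ c → b ≠ c → (Cfsg.commonDivisorGraph.induce (Cfsg.relCharDegrees N)).Adj b c) ∧ (∀ b c : ↥(Cfsg.relCharDegrees N), ¬ (Cfsg.commonDivisorGraph.induce (Cfsg.relCharDegrees N)).Reachable a₀ b → ¬ (Cfsg.commonDivisorGraph.induce (Cfsg.relCharDegrees N)).Reachable a₀ c → b ≠ c → (Cfsg.commonDivisorGraph.induce (Cfsg.relCharDegrees N)).Adj b c ∨ ∃ d : ↥(Cfsg.relCharDegrees N), (Cfsg.commonDivisorGraph.induce (Cfsg.relCharDegrees N)).Adj b d ∧ (Cfsg.commonDivisorGraph.induce (Cfsg.relCharDegrees N)).Adj d c) := by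
  classical
  letI := Fintype.ofFinite G
  letI := Fintype.ofFinite N
  set m := (commutator N).index with hm
  set Γ := Cfsg.commonDivisorGraph.induce (Cfsg.relCharDegrees N) with hΓ
  obtain ⟨v, w, hvw⟩ : ∃ v w, ¬ Γ.Reachable v w := by
    by_contra h
    push Not at h
    exact hdisc h
  have hm1 : m ≠ 1 := by
    intro h
    obtain ⟨χ, ⟨x, hx, hne⟩, -⟩ := v.2
    haveI : Nontrivial N := by
      by_contra hN
      rw [not_nontrivial_iff_subsingleton] at hN
      exact hne (by rw [show x = 1 from congrArg Subtype.val (Subsingleton.elim (⟨x, hx⟩ : N) 1)])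
    exact (Group.IsSolvable.commutator_lt_top_of_nontrivial N).ne (Subgroup.index_eq_one.1 h)
  obtain ⟨r₀, hr₀, hr₀m⟩ := Nat.exists_prime_and_dvd hm1
  haveI := Fact.mk hr₀
  have lin : ∀ r : ℕ, r.Prime → r ∣ m → ∃ x : CfsgLib.RelDegree.Lin N, orderOf x = r :=
    fun r hr h => by
      haveI := Fact.mk hr
      exact exists_prime_orderOf_dvd_card' r ((CfsgLib.RelDegree.card_lin (K := N)).symm ▸ h)
  let Full : ↥(Cfsg.relCharDegrees N) → Prop := fun a => ∀ r : ℕ, r.Prime → r ∣ m → r ∣ (a : ℕ)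
  have hreach : ∀ a b : ↥(Cfsg.relCharDegrees N),
      CfsgLib.RelDegree.Reach N a b → Γ.Reachable a b := fun a b h => h.2.2
  have hshare : ∀ (a b : ↥(Cfsg.relCharDegrees N)) (p : ℕ), p.Prime → p ∣ (a : ℕ) →
      p ∣ (b : ℕ) → Γ.Reachable a b := fun a b p hp h1 h2 =>
    hreach a b (CfsgLib.RelDegree.reach_of_dvd a.2 b.2 hp h1 h2)
  have hlack : ∀ a b, ¬ Full a → ¬ Full b → Γ.Reachable a b := by
    intro a b ha hb
    simp only [Full, not_forall] at ha hb
    obtain ⟨r, hr, hrm, hra⟩ := ha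
    obtain ⟨s, hs, hsm, hsb⟩ := hb
    haveI := Fact.mk hr
    haveI := Fact.mk hs
    obtain ⟨x, hx⟩ := lin r hr hrm
    obtain ⟨x', hx'⟩ := lin s hs hsm
    exact hreach a b (CfsgLib.RelDegree.reach_of_lacking hNG a.2 b.2 hra hsb x x' hx hx')
  have hfull : ∀ a b, Full a → Full b → Γ.Reachable a b := fun a b ha hb =>
    hshare a b r₀ hr₀ (ha r₀ hr₀ hr₀m) (hb r₀ hr₀ hr₀m)
  have hsepc : ∀ a b, Full a → ¬ Full b → ¬ Γ.Reachable a b := by
    intro a b ha hb h
    refine hvw ?_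
    have key : ∀ u, Γ.Reachable a u := fun u => by
      by_cases hu : Full u
      · exact hfull a u ha hu
      · exact h.trans (hlack b u hb hu)
    exact (key v).symm.trans (key w)
  obtain ⟨a₀, ha₀⟩ : ∃ a, Full a := by
    by_contra h
    push Not at h
    exact hvw (hlack v w (h v) (h w))
  have hco : ∀ b, ¬ Full b → Nat.Coprime (b : ℕ) m := fun b hb =>
    Nat.coprime_of_dvd fun p hp hpb hpm => hsepc a₀ b ha₀ hb (hshare a₀ b p hp (ha₀ p hp hpm) hpb)
  refine ⟨a₀, fun b c hb hc hne => ?_, fun b c hb hc hne => ?_⟩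
  · have fb : Full b := by_contra fun h => hsepc a₀ b ha₀ h hb
    have fc : Full c := by_contra fun h => hsepc a₀ c ha₀ h hc
    rw [hΓ, SimpleGraph.induce_adj]
    refine ⟨fun h => hne (Subtype.ext h), ?_⟩
    have hd := Nat.dvd_gcd (fb r₀ hr₀ hr₀m) (fc r₀ hr₀ hr₀m)
    obtain ⟨χ, -, hχ⟩ := b.2
    exact lt_of_lt_of_le hr₀.one_lt (Nat.le_of_dvd (Nat.gcd_pos_of_pos_left _
      (hχ ▸ CfsgLib.Chars.charDegree_pos χ)) hd)
  · have nb : ¬ Full b := fun h => hb (hfull a₀ b ha₀ h)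
    have nc : ¬ Full c := fun h => hc (hfull a₀ c ha₀ h)
    have hadj : ∀ u v : ↥(Cfsg.relCharDegrees N), u ≠ v → ¬ Nat.Coprime (u : ℕ) v → Γ.Adj u v := by
      intro u v huv h
      rw [hΓ, SimpleGraph.induce_adj]
      obtain ⟨χ, -, hχ⟩ := u.2
      have h0 : 0 < Nat.gcd (u : ℕ) v :=
        Nat.gcd_pos_of_pos_left _ (hχ ▸ CfsgLib.Chars.charDegree_pos χ)
      have h1 : Nat.gcd (u : ℕ) v ≠ 1 := h
      exact ⟨fun e => huv (Subtype.ext e), show 1 < Nat.gcd (u : ℕ) v by omega⟩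
    by_cases hbc : Nat.Coprime (b : ℕ) c
    swap
    · exact Or.inl (hadj b c hne hbc)
    obtain ⟨χ, ⟨x, hx, hxne⟩, hχ⟩ := b.2
    obtain ⟨χ', ⟨x', hx', hxne'⟩, hχ'⟩ := c.2
    have constituent : ∀ (ξ : Cfsg.IrrCharacter G) (z : G), z ∈ N →
        (ξ : G → ℂ) z ≠ (ξ : G → ℂ) 1 → ∃ θ : Cfsg.IrrCharacter N,
          CfsgLib.Chars.Induced.mult (fun a : N => (ξ : G → ℂ) a) θ ≠ 0 ∧
            θ ≠ CfsgLib.Chars.oneChar N := by
      intro ξ z hz hzne
      obtain ⟨θ, hθ⟩ := CfsgLib.Chars.Induced.exists_mult_restrict_ne_zero (N := N) ξ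
      refine ⟨θ, hθ, fun hone => hzne ?_⟩
      subst hone
      have e1 := congrFun (CfsgLib.Chars.Induced.clifford ξ _ hθ) ⟨z, hz⟩
      have e2 := congrFun (CfsgLib.Chars.Induced.clifford ξ _ hθ) 1
      simp only [Pi.smul_apply, Finset.sum_apply, OneMemClass.coe_one] at e1 e2
      rw [e1, e2]
      congr 1
      refine Finset.sum_congr rfl fun η hη => ?_
      obtain ⟨g, rfl⟩ := (Set.Finite.mem_toFinset _).1 hη
      rw [CfsgLib.Chars.Induced.conjIrr_coe, CfsgLib.Chars.Induced.conjFun_apply,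
        CfsgLib.Chars.Induced.conjFun_apply, CfsgLib.Chars.oneChar_apply,
        CfsgLib.Chars.oneChar_apply]
    obtain ⟨θ, hθ, hθ1⟩ := constituent χ x hx hxne
    obtain ⟨θ', hθ', hθ1'⟩ := constituent χ' x' hx' hxne'
    have hsep : ∀ d ∈ Cfsg.relCharDegrees N, ∀ e ∈ Cfsg.relCharDegrees N, Nat.Coprime d m →
        ¬ Nat.Coprime e m → Nat.Coprime d e := by
      intro d hd e he hdm hem
      refine Nat.coprime_of_dvd fun p hp hpd hpe => hsepc ⟨e, he⟩ ⟨d, hd⟩ ?_ ?_
        (hshare _ _ p hp hpe hpd)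
      · by_contra h
        exact hem (hco ⟨e, he⟩ h)
      · exact fun h => hr₀.ne_one (Nat.eq_one_of_dvd_coprimes hdm (h r₀ hr₀ hr₀m) hr₀m)
    obtain ⟨e, he, heb, hec⟩ := CfsgLib.RelDegree.exists_common_neighbour hNG m hsep
      (Nat.card N) N rfl le_rfl inferInstance (fun q _ h => h) χ χ' θ θ' hθ hθ' hθ1 hθ1'
      (hχ.symm ▸ hco b nb) (hχ'.symm ▸ hco c nc) (by rw [hχ, hχ']; exact hbc)
    rw [hχ] at heb
    rw [hχ'] at hec
    by_cases he1 : (⟨e, he⟩ : ↥(Cfsg.relCharDegrees N)) = b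
    · exact absurd hbc (by rw [← he1]; exact hec)
    by_cases he2 : (⟨e, he⟩ : ↥(Cfsg.relCharDegrees N)) = c
    · exact absurd hbc (by rw [Nat.coprime_comm, ← he2]; exact heb)
    exact Or.inr ⟨⟨e, he⟩, hadj b ⟨e, he⟩ (fun h => he1 h.symm) (fun h => heb h.symm),
      hadj ⟨e, he⟩ c he2 hec⟩


end Cfsg.Agent.S4779
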