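import Cfsg.Statements.S4781
import Cfsg.Agent.NoDiv.Core
import Cfsg.Agent.NoDiv.Quotient
import Cfsg.Agent.Chars.Apps.ThompsonComplement
import Cfsg.Agent.Eq.Def_DegreeGraph

set_option autoImplicit false
set_option linter.style.haveILetI false
open Cfsg
open CfsgLib CfsgLib.Chars CfsgLib.Chars.Induced

namespace Cfsg.Agent.S4781

/-- A subgroup containing every power of prime power order of `g` contains `g`. -/
theorem mem_of_prime_power_parts {G : Type*} [Group G] [Finite G] (U : Subgroup G)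
    (h : ∀ x : G, ∀ r a : ℕ, r.Prime → orderOf x = r ^ a → x ∈ U) (g : G) : g ∈ U := by
  have key : ∀ n, ∀ x : G, orderOf x = n → x ∈ U := by
    intro n
    induction n using Nat.recOnPrimeCoprime with
    | zero => intro x hx; exact absurd hx (orderOf_pos x).ne'
    | prime_pow r a hr => intro x hx; exact h x r a hr hx
    | coprime a b ha hb hab iha ihb =>
      intro x hx
      have hA : orderOf (x ^ b) = a := by
        rw [orderOf_pow' x (by omega : b ≠ 0), hx, Nat.gcd_mul_left_left,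
          Nat.mul_div_cancel a (by omega : 0 < b)]
      have hB : orderOf (x ^ a) = b := by
        rw [orderOf_pow' x (by omega : a ≠ 0), hx, Nat.gcd_mul_right_left,
          Nat.mul_div_cancel_left b (by omega : 0 < a)]
      have h1 := iha _ hA
      have h2 := ihb _ hB
      have h3 : x = (x ^ a) ^ (a.gcdA b) * (x ^ b) ^ (a.gcdB b) := by
        rw [← zpow_natCast, ← zpow_natCast, ← zpow_mul, ← zpow_mul, ← zpow_add, ← Nat.gcd_eq_gcd_ab,
          hab.gcd_eq_one, Nat.cast_one, zpow_one]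
      rw [h3]
      exact U.mul_mem (U.zpow_mem h2 _) (U.zpow_mem h1 _)
  exact key _ g rfl

/-- Let G be a finite solvable group in which no irreducible complex character degree a with 1 < a divides a larger irreducible character degree, and suppose the character degree graph of G (primes dividing some degree, distinct primes adjacent when their product divides a degree) has exactly two connected components. Then G has exactly three distinct irreducible character degrees. -/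
theorem result {G : Type*} [Group G] [Finite G] [Group.IsSolvable G] (hnd : ∀ a ∈ Cfsg.charDegrees G, ∀ b ∈ Cfsg.charDegrees G, 1 < a → a < b → ¬ a ∣ b) (htwo : Nat.card ((Cfsg.degreeGraph G).induce (Cfsg.degreePrimes G)).ConnectedComponent = 2) : Nat.card ↥(Cfsg.charDegrees G) = 3 := by
  classical
  have := Fintype.ofFinite G
  set Γ := (Cfsg.degreeGraph G).induce (Cfsg.degreePrimes G) with hΓ
  haveI : Finite (Cfsg.degreePrimes G) := by
    refine Set.Finite.to_subtype ((Set.finite_le_nat (Nat.card G)).subset ?_)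
    rintro r ⟨-, d, ⟨χ, rfl⟩, hrd⟩
    exact Nat.le_of_dvd Nat.card_pos (hrd.trans (charDegree_dvd_card χ))
  have hlink : ∀ u v : Cfsg.degreePrimes G, ∀ d ∈ Cfsg.charDegrees G, (u : ℕ) ∣ d → (v : ℕ) ∣ d →
      Γ.Reachable u v := by
    intro u v d hd hu hv
    by_cases huv : u = v
    · rw [huv]
    · refine SimpleGraph.Adj.reachable ?_
      rw [hΓ, SimpleGraph.induce_adj]
      exact ⟨fun h => huv (Subtype.ext h), u.2.1, v.2.1, d, hd,
        ((Nat.coprime_primes u.2.1 v.2.1).2 fun h => huv (Subtype.ext h)).mul_dvd_of_dvd_of_dvd hu hv⟩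
  have hsingle : ∀ u : ℕ, (∀ v : Cfsg.degreePrimes G, ∃ hu : u ∈ Cfsg.degreePrimes G,
      Γ.Reachable ⟨u, hu⟩ v) → False := by
    intro u h
    haveI : Subsingleton Γ.ConnectedComponent := ⟨fun c c' => by
      induction c using SimpleGraph.ConnectedComponent.ind with
      | _ v =>
        induction c' using SimpleGraph.ConnectedComponent.ind with
        | _ w =>
          obtain ⟨_, hv⟩ := h v
          obtain ⟨_, hw⟩ := h w
          exact SimpleGraph.ConnectedComponent.eq.2 (hv.symm.trans hw)⟩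
    have h1 : Nat.card Γ.ConnectedComponent ≤ 1 := Finite.card_le_one_iff_subsingleton.2 inferInstance
    omega
  have hnd' : ∀ χ χ' : IrrCharacter G, charDegree (χ : G → ℂ) ≠ 1 →
      charDegree (χ : G → ℂ) ∣ charDegree (χ' : G → ℂ) →
        charDegree (χ : G → ℂ) = charDegree (χ' : G → ℂ) := by
    intro χ χ' h1 hd
    rcases (Nat.le_of_dvd (charDegree_pos χ') hd).eq_or_lt with h | h
    · exact h
    · exact absurd hd (hnd _ ⟨χ, rfl⟩ _ ⟨χ', rfl⟩ (by have := charDegree_pos χ; omega) h)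
  by_cases hab : ∀ a b : G, a * b = b * a
  · exfalso
    haveI : IsMulCommutative G := ⟨⟨hab⟩⟩
    refine hsingle 0 fun v => ?_
    obtain ⟨d, ⟨χ, rfl⟩, hrd⟩ := v.2.2
    rw [charDegree_eq_of_map_one (n := 1)
      (by rw [map_one_eq_one_of_isMulCommutative χ, Nat.cast_one])] at hrd
    exact absurd (Nat.dvd_one.1 hrd) v.2.1.ne_one
  rcases CfsgLib.ManzComponents.exists_quotient hab with
    ⟨p, K, hKn, hp, hpg, hna⟩ | ⟨q, N, hNn, lam, hq, hcomm, hNtop, hlam, hlq, hfpf⟩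
  · -- a non-abelian `p`-quotient: one component
    exfalso
    haveI := Fact.mk hp
    haveI := Fintype.ofFinite (G ⧸ K)
    haveI := Fintype.ofFinite K
    obtain ⟨a, b, hab'⟩ : ∃ a b : G ⧸ K, a * b ≠ b * a := by
      push Not at hna
      exact hna
    obtain ⟨β, -, hβ⟩ := CfsgLib.GaloisDegree.exists_nonlinear (P := G ⧸ K)
      (g := a * b * a⁻¹ * b⁻¹)
      (Subgroup.commutator_mem_commutator (Subgroup.mem_top a) (Subgroup.mem_top b))
      (fun h => hab' (mul_inv_eq_iff_eq_mul.1 (mul_inv_eq_one.1 h)))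
    obtain ⟨k, hk⟩ := IsPGroup.iff_card.1 hpg
    have hpβ : p ∣ Cfsg.charDegree (β : G ⧸ K → ℂ) := by
      obtain ⟨i, -, hi⟩ := (Nat.dvd_prime_pow hp).1 (hk ▸ charDegree_dvd_card β)
      rcases Nat.eq_zero_or_pos i with rfl | hi0
      · exact absurd hi hβ
      · rw [hi]; exact dvd_pow_self p hi0.ne'
    refine hsingle p fun v => ⟨⟨hp, _, ⟨inflate K β, rfl⟩, by rw [charDegree_inflate]; exact hpβ⟩, ?_⟩
    obtain ⟨d, ⟨χ, rfl⟩, hvd⟩ := v.2.2
    refine hlink _ _ _ ⟨χ, rfl⟩ ?_ hvd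
    by_contra hpd
    obtain ⟨θ, hθ⟩ := CfsgLib.ManzComponents.exists_restrict_eq (N := K) hp
      (k := k) (by rw [K.index_eq_card, hk]) χ hpd
    let ξ : Cfsg.IrrCharacter G := ⟨_, gallagher_isIrrCharacter χ θ hθ β⟩
    have hξ : Cfsg.charDegree (ξ : G → ℂ) =
        Cfsg.charDegree (χ : G → ℂ) * Cfsg.charDegree (β : G ⧸ K → ℂ) := by
      apply Nat.cast_injective (R := ℂ)
      push_cast
      rw [coe_charDegree, coe_charDegree, coe_charDegree]
      rfl
    have hχ1 : Cfsg.charDegree (χ : G → ℂ) ≠ 1 := fun h => v.2.1.ne_one (Nat.dvd_one.1 (h ▸ hvd))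
    have h := hnd' χ ξ hχ1 (hξ ▸ dvd_mul_right _ _)
    rw [hξ] at h
    exact hβ ((mul_eq_left₀ (charDegree_pos χ).ne').1 h.symm)
  haveI := Fintype.ofFinite N
  haveI := Fact.mk hq
  have hidx : N.index ≠ 1 := fun h => hNtop (Subgroup.index_eq_one.1 h)
  set f := N.index with hf
  have hone : ¬ q ∣ Cfsg.charDegree ((oneChar N : IrrCharacter N) : N → ℂ) := by
    rw [charDegree_eq_of_map_one (n := 1) (by simp [oneChar_apply])]
    exact hq.not_dvd_one
  obtain ⟨χ₀, hχ₀⟩ := CfsgLib.ManzComponents.exists_degree_index_mul hcomm hq lam hlam hlq hfpf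
    (oneChar N) hone
  rw [charDegree_eq_of_map_one (χ := ((oneChar N : IrrCharacter N) : N → ℂ)) (n := 1)
    (by simp [oneChar_apply]), mul_one] at hχ₀
  have hfd : Cfsg.charDegree (χ₀ : G → ℂ) ≠ 1 := fun h => hidx (hχ₀.symm.trans h)
  have hdvdθ : ∀ θ : IrrCharacter N, Cfsg.charDegree (θ : N → ℂ) ≠ 1 → q ∣ Cfsg.charDegree (θ : N → ℂ) := by
    intro θ hθ
    by_contra hqθ
    obtain ⟨χ₁, hχ₁⟩ := CfsgLib.ManzComponents.exists_degree_index_mul hcomm hq lam hlam hlq hfpf θ hqθ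
    have h := hnd' χ₀ χ₁ hfd (by rw [hχ₀, hχ₁]; exact dvd_mul_right _ _)
    rw [hχ₀, hχ₁] at h
    exact hθ ((mul_eq_left₀ Subgroup.index_ne_zero_of_finite).1 h.symm)
  have hup : ∀ (χ : IrrCharacter G) (θ : IrrCharacter N),
      mult (fun n : N => (χ : G → ℂ) n) θ ≠ 0 →
        Cfsg.charDegree (θ : N → ℂ) ∣ Cfsg.charDegree (χ : G → ℂ) := fun χ θ h =>
    (dvd_mul_left _ _).trans (CfsgLib.NoDiv.index_mul_dvd θ χ h)
  have hqd : ∀ χ : IrrCharacter G, Cfsg.charDegree (χ : G → ℂ) ≠ 1 →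
      Cfsg.charDegree (χ : G → ℂ) ≠ f → q ∣ Cfsg.charDegree (χ : G → ℂ) := by
    intro χ h1 hf'
    obtain ⟨θ, hθ⟩ := exists_mult_restrict_ne_zero (N := N) χ
    by_cases hθ1 : Cfsg.charDegree (θ : N → ℂ) = 1
    · have h := charDegree_dvd_mul_index χ θ hθ
      rw [hθ1, one_mul] at h
      exact absurd ((hnd' χ χ₀ h1 (hχ₀ ▸ h)).trans hχ₀) hf'
    · exact (hdvdθ θ hθ1).trans (hup χ θ hθ)
  obtain ⟨r, hr, hrf⟩ := Nat.exists_prime_and_dvd hidx
  have hrV : r ∈ Cfsg.degreePrimes G := ⟨hr, _, ⟨χ₀, rfl⟩, hχ₀ ▸ hrf⟩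
  -- the degrees other than `f` are prime to `f`
  have hcopf : ∀ χ : IrrCharacter G, Cfsg.charDegree (χ : G → ℂ) ≠ 1 →
      Cfsg.charDegree (χ : G → ℂ) ≠ f → (Cfsg.charDegree (χ : G → ℂ)).Coprime f := by
    intro χ h1 hf'
    by_contra hnc
    obtain ⟨t, ht, htd⟩ := Nat.exists_prime_and_dvd hnc
    have htV : t ∈ Cfsg.degreePrimes G := ⟨ht, _, ⟨χ₀, rfl⟩, hχ₀ ▸ htd.trans (Nat.gcd_dvd_right _ _)⟩
    have hqV : q ∈ Cfsg.degreePrimes G := ⟨hq, _, ⟨χ, rfl⟩, hqd χ h1 hf'⟩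
    refine hsingle q fun v => ⟨hqV, ?_⟩
    obtain ⟨d, ⟨χ', rfl⟩, hvd⟩ := v.2.2
    by_cases hχ' : Cfsg.charDegree (χ' : G → ℂ) = f
    · exact (hlink ⟨q, hqV⟩ ⟨t, htV⟩ _ ⟨χ, rfl⟩ (hqd χ h1 hf') (htd.trans (Nat.gcd_dvd_left _ _))).trans
        (hlink ⟨t, htV⟩ v _ ⟨χ₀, rfl⟩ (hχ₀ ▸ htd.trans (Nat.gcd_dvd_right _ _))
          (hvd.trans (hχ'.trans hχ₀.symm).dvd))
    · exact hlink _ _ _ ⟨χ', rfl⟩
        (hqd χ' (fun h => v.2.1.ne_one (Nat.dvd_one.1 (h ▸ hvd))) hχ') hvd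
  obtain ⟨χe, he1, hef⟩ : ∃ χ : IrrCharacter G, Cfsg.charDegree (χ : G → ℂ) ≠ 1 ∧
      Cfsg.charDegree (χ : G → ℂ) ≠ f := by
    by_contra hne
    push Not at hne
    refine hsingle r fun v => ⟨hrV, ?_⟩
    obtain ⟨d, ⟨χ', rfl⟩, hvd⟩ := v.2.2
    exact hlink _ _ _ ⟨χ₀, rfl⟩ (hχ₀ ▸ hrf)
      (hvd.trans ((hne χ' (fun h => v.2.1.ne_one (Nat.dvd_one.1 (h ▸ hvd)))).trans hχ₀.symm).dvd)
  have hqf : ¬ q ∣ f := fun h => hq.ne_one (Nat.dvd_one.1
    ((hcopf χe he1 hef) ▸ Nat.dvd_gcd (hqd χe he1 hef) h))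
  -- a character of degree other than `1`, `f` restricts irreducibly
  have hres : ∀ (χ : IrrCharacter G) (θ : IrrCharacter N),
      mult (fun n : N => (χ : G → ℂ) n) θ ≠ 0 → Cfsg.charDegree (θ : N → ℂ) ≠ 1 →
        Cfsg.charDegree (χ : G → ℂ) = Cfsg.charDegree (θ : N → ℂ) ∧
          ∀ g : G, g ∈ inertia N (θ : N → ℂ) := by
    intro χ θ h hθ
    have hq' : q ∣ Cfsg.charDegree (χ : G → ℂ) := (hdvdθ θ hθ).trans (hup χ θ h)
    have hc := hcopf χ (fun e => hq.ne_one (Nat.dvd_one.1 (e ▸ hq'))) (fun e => hqf (e ▸ hq'))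
    have h1 : Cfsg.charDegree (χ : G → ℂ) ∣ Cfsg.charDegree (θ : N → ℂ) :=
      hc.dvd_of_dvd_mul_right (charDegree_dvd_mul_index χ θ h)
    have heq := Nat.dvd_antisymm h1 (hup χ θ h)
    refine ⟨heq, fun g => ?_⟩
    have hT : (inertia N (θ : N → ℂ)).index = 1 := by
      have h2 := CfsgLib.NoDiv.index_mul_dvd θ χ h
      rw [heq] at h2
      exact Nat.dvd_one.1 (Nat.dvd_of_mul_dvd_mul_right (charDegree_pos θ) (by rwa [one_mul]))
    rw [Subgroup.index_eq_one.1 hT]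
    exact Subgroup.mem_top g
  have hover : ∀ θ : IrrCharacter N, Cfsg.charDegree (θ : N → ℂ) ≠ 1 →
      ∃ χ : IrrCharacter G, Cfsg.charDegree (χ : G → ℂ) = Cfsg.charDegree (θ : N → ℂ) ∧
        ∀ g : G, g ∈ inertia N (θ : N → ℂ) := by
    intro θ hθ
    obtain ⟨χ, hχ⟩ := CfsgLib.NoDiv.exists_over θ
    exact ⟨χ, hres χ θ hχ hθ⟩
  have hne1 : ∀ θ : IrrCharacter N, (θ : N → ℂ) 1 ≠ 1 ↔ Cfsg.charDegree (θ : N → ℂ) ≠ 1 := fun θ =>
    not_congr (charDegree_eq_one_iff θ).symm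
  have hndN : ∀ θ θ' : IrrCharacter N, (θ : N → ℂ) 1 ≠ 1 → (θ' : N → ℂ) 1 ≠ 1 →
      Cfsg.charDegree (θ : N → ℂ) ∣ Cfsg.charDegree (θ' : N → ℂ) →
        Cfsg.charDegree (θ : N → ℂ) = Cfsg.charDegree (θ' : N → ℂ) := by
    intro θ θ' h1 h1' hd
    rw [hne1] at h1 h1'
    obtain ⟨χ, hχ, -⟩ := hover θ h1
    obtain ⟨χ', hχ', -⟩ := hover θ' h1'
    rw [← hχ, ← hχ'] at hd ⊢
    exact hnd' χ χ' (hχ ▸ h1) hd
  -- the non-linear degrees of `N` agree
  have hkey : ∀ θ θ' : IrrCharacter N, (θ : N → ℂ) 1 ≠ 1 → (θ' : N → ℂ) 1 ≠ 1 →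
      Cfsg.charDegree (θ : N → ℂ) = Cfsg.charDegree (θ' : N → ℂ) := by
    intro θ θ' h1 h1'
    obtain ⟨M, hMn, hMcop, k, hMidx⟩ :=
      CfsgLib.Chars.Apps.exists_normal_complement_of_dvd (G := N) (p := q) hdvdθ
    haveI := Fintype.ofFinite M
    by_cases hMab : ∀ φ : IrrCharacter M, (φ : M → ℂ) 1 = 1
    · have hpow : ∀ η : IrrCharacter N, ∃ i, Cfsg.charDegree (η : N → ℂ) = q ^ i := by
        intro η
        obtain ⟨φ, hφ⟩ := exists_mult_restrict_ne_zero (N := M) η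
        have h := charDegree_dvd_mul_index η φ hφ
        rw [(charDegree_eq_one_iff φ).2 (hMab φ), one_mul, hMidx] at h
        obtain ⟨i, -, hi⟩ := (Nat.dvd_prime_pow hq).1 h
        exact ⟨i, hi⟩
      obtain ⟨i, hi⟩ := hpow θ
      obtain ⟨j, hj⟩ := hpow θ'
      rcases le_total i j with hij | hij
      · exact hndN θ θ' h1 h1' (hi ▸ hj ▸ pow_dvd_pow q hij)
      · exact (hndN θ' θ h1' h1 (hi ▸ hj ▸ pow_dvd_pow q hij)).symm
    push Not at hMab
    obtain ⟨φ, hφ⟩ := hMab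
    have hMc := CfsgLib.NoDiv.quotient_comm hq M hMcop hMidx hndN φ hφ
    have hlamM : ∀ m : N, m ∈ M → lam m = 1 := fun m hm =>
      CfsgLib.NoDiv.eq_one_of_coprime_pow hMcop
        (by rw [← map_pow, orderOf_dvd_iff_pow_eq_one.1 (Subgroup.orderOf_dvd_natCard M hm), map_one])
        (hlq m)
    have hchar : ∀ (σ : MulAut N) (x : N), x ∈ M → σ x ∈ M := by
      intro σ x hx
      rw [← QuotientGroup.eq_one_iff]
      refine CfsgLib.NoDiv.eq_one_of_coprime_pow (Nat.Coprime.pow_right k hMcop) ?_ ?_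
      · rw [← QuotientGroup.mk_pow, QuotientGroup.eq_one_iff, ← map_pow,
          orderOf_dvd_iff_pow_eq_one.1 (Subgroup.orderOf_dvd_natCard M hx), map_one]
        exact M.one_mem
      · rw [← QuotientGroup.mk_pow, QuotientGroup.eq_one_iff, ← hMidx]
        exact M.pow_index_mem _
    let cn : G →* MulAut N := MulAut.conjNormal
    let U : Subgroup G :=
      { carrier := {g | ∀ n : N, cn g n * n⁻¹ ∈ M}
        one_mem' := fun n => by rw [map_one, MulAut.one_apply, mul_inv_cancel]; exact M.one_mem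
        mul_mem' := fun {g g'} hg hg' n => by
          have := M.mul_mem (hg (cn g' n)) (hg' n)
          rwa [mul_assoc, inv_mul_cancel_left, ← MulAut.mul_apply, ← map_mul] at this
        inv_mem' := fun {g} hg n => by
          have h := M.inv_mem (hg (cn g⁻¹ n))
          rwa [← MulAut.mul_apply, ← map_mul, mul_inv_cancel, map_one, MulAut.one_apply,
            mul_inv_rev, inv_inv] at h }
    obtain ⟨g, r₀, a, hr₀, hord, hgU⟩ : ∃ (g : G) (r₀ a : ℕ), r₀.Prime ∧ orderOf g = r₀ ^ a ∧ g ∉ U := by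
      by_contra hne
      push Not at hne
      obtain ⟨x, hx⟩ : ∃ x : G, x ∉ N := by
        by_contra hall
        push Not at hall
        exact hNtop (eq_top_iff.2 fun x _ => hall x)
      have hxU : x ∈ U := mem_of_prime_power_parts U (fun z s b hs hz => hne z s b hs hz) x
      refine hlam (hfpf x hx lam (fun n hn _ => hn) fun n => ?_)
      have h := hlamM _ (hxU n)
      rw [map_mul, map_inv, mul_inv_eq_one] at h
      exact (congrArg lam (Subtype.ext (MulAut.conjNormal_apply x n).symm)).trans h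
    have hgN : g ∉ N := fun hgN => hgU fun n => by
      have h := hMc (⟨g, hgN⟩ : N) n
      convert h using 1
      exact Subtype.ext (by simp [cn])
    haveI := Fact.mk hr₀
    have hr₀f : r₀ ∣ f := by
      by_contra hnd₀
      have h1 : g ^ f ∈ N := N.pow_index_mem g
      have hc : (orderOf g).Coprime f := hord ▸ ((hr₀.coprime_iff_not_dvd).2 hnd₀).pow_left a
      obtain ⟨t, ht⟩ := exists_pow_eq_self_of_coprime (n := f) hc.symm
      exact hgN (ht ▸ N.pow_mem h1 t)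
    have hr₀q : r₀ ≠ q := fun h => hqf (h ▸ hr₀f)
    have hα : cn g ^ r₀ ^ a = 1 := by rw [← map_pow, ← hord, pow_orderOf_eq_one, map_one]
    have hne' : ∃ n : N, cn g n * n⁻¹ ∉ M := by
      by_contra hall
      push Not at hall
      exact hgU hall
    obtain ⟨y, hyq, hy⟩ := CfsgLib.NoDiv.exists_moved_of_order hq M hMcop hMidx hMc (cn g) hα
      (((Nat.coprime_primes hr₀ hq).2 hr₀q).pow_left a) hne'
    have hLM : commutator N ≤ M := by
      rw [commutator_def, Subgroup.commutator_le]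
      intro x _ z _
      exact hMc x z
    refine CfsgLib.NoDiv.degree_unique hq (Nat.Coprime.coprime_dvd_left (Subgroup.card_dvd_of_le hLM) hMcop)
      hr₀q (cn g) hα (fun η hη n => ?_) (fun η hη hd => ?_) hndN hyq (fun h => hy (hLM h)) θ θ' h1 h1'
    · obtain ⟨_, -, hG⟩ := hover η ((hne1 η).1 hη)
      exact mem_inertia_iff_forall.1 (hG g) n (cn g n) (MulAut.conjNormal_apply g n)
    · obtain ⟨χ, hχ, -⟩ := hover η ((hne1 η).1 hη)
      have hq' : q ∣ Cfsg.charDegree (χ : G → ℂ) := hχ ▸ hdvdθ η ((hne1 η).1 hη)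
      have hc := hcopf χ (hχ ▸ (hne1 η).1 hη) (fun e => hqf (e ▸ hq'))
      exact hr₀.ne_one (Nat.dvd_one.1 (hc ▸ Nat.dvd_gcd (hχ ▸ hd) hr₀f))
  -- three degrees
  have hθof : ∀ χ : IrrCharacter G, Cfsg.charDegree (χ : G → ℂ) ≠ 1 →
      Cfsg.charDegree (χ : G → ℂ) ≠ f → ∃ θ : IrrCharacter N, (θ : N → ℂ) 1 ≠ 1 ∧
        Cfsg.charDegree (χ : G → ℂ) = Cfsg.charDegree (θ : N → ℂ) := by
    intro χ h1 hf'
    obtain ⟨θ, hθ⟩ := exists_mult_restrict_ne_zero (N := N) χ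
    by_cases hθ1 : Cfsg.charDegree (θ : N → ℂ) = 1
    · have h := charDegree_dvd_mul_index χ θ hθ
      rw [hθ1, one_mul] at h
      exact absurd ((hnd' χ χ₀ h1 (hχ₀ ▸ h)).trans hχ₀) hf'
    · exact ⟨θ, (hne1 θ).2 hθ1, (hres χ θ hθ hθ1).1⟩
  have hset : Cfsg.charDegrees G = {1, f, Cfsg.charDegree (χe : G → ℂ)} := by
    ext d
    simp only [Set.mem_insert_iff, Set.mem_singleton_iff]
    constructor
    · rintro ⟨χ, rfl⟩
      by_cases h1 : Cfsg.charDegree (χ : G → ℂ) = 1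
      · exact Or.inl h1
      by_cases hf' : Cfsg.charDegree (χ : G → ℂ) = f
      · exact Or.inr (Or.inl hf')
      obtain ⟨θ, hθ, hd⟩ := hθof χ h1 hf'
      obtain ⟨θ', hθ', hd'⟩ := hθof χe he1 hef
      exact Or.inr (Or.inr (by rw [hd, hd', hkey θ θ' hθ hθ']))
    · rintro (rfl | rfl | rfl)
      · exact ⟨oneChar G, charDegree_eq_of_map_one (by simp [oneChar_apply])⟩
      · exact ⟨χ₀, hχ₀⟩
      · exact ⟨χe, rfl⟩
  rw [hset, Nat.card_coe_set_eq, Set.ncard_eq_three]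
  exact ⟨1, f, _, hidx.symm, he1.symm, hef.symm, rfl⟩

end Cfsg.Agent.S4781
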