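import Cfsg.Statements.S4811
import Cfsg.Agent.ManzComponents.Main
-- import your own Cfsg.Agent.* helpers here

set_option autoImplicit false
open Cfsg

namespace Cfsg.Agent.S4811

/-- For every finite solvable group G the character degree graph of G (vertices: the primes dividing some irreducible complex character degree; edges: distinct primes whose product divides some degree) has at most two connected components. -/
theorem result {G : Type*} [Group G] [Finite G] [Group.IsSolvable G] : Nat.card ((Cfsg.degreeGraph G).induce (Cfsg.degreePrimes G)).ConnectedComponent ≤ 2 := by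
  
  classical
  have := Fintype.ofFinite G
  haveI : Finite (Cfsg.degreePrimes G) := by
    refine Set.Finite.to_subtype ((Set.finite_le_nat (Nat.card G)).subset ?_)
    rintro r ⟨-, d, ⟨χ, rfl⟩, hrd⟩
    exact Nat.le_of_dvd Nat.card_pos (hrd.trans (CfsgLib.Chars.charDegree_dvd_card χ))
  set Γ := (Cfsg.degreeGraph G).induce (Cfsg.degreePrimes G) with hΓ
  by_cases hab : ∀ a b : G, a * b = b * a
  · haveI : IsMulCommutative G := ⟨⟨hab⟩⟩
    haveI : IsEmpty (Cfsg.degreePrimes G) := ⟨fun ⟨r, hr, d, ⟨χ, hχ⟩, hrd⟩ => by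
      rw [← hχ, CfsgLib.Chars.charDegree_eq_of_map_one (n := 1)
        (by rw [CfsgLib.Chars.map_one_eq_one_of_isMulCommutative χ, Nat.cast_one])] at hrd
      exact hr.ne_one (Nat.dvd_one.1 hrd)⟩
    haveI : IsEmpty Γ.ConnectedComponent := ⟨fun c => c.ind fun v => isEmptyElim v⟩
    simp
  -- reachability from one or two vertices suffices
  have hkey : ∀ u w : Cfsg.degreePrimes G, (∀ v, Γ.Reachable u v ∨ Γ.Reachable w v) →
      Nat.card Γ.ConnectedComponent ≤ 2 := by
    intro u w h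
    refine (Nat.card_le_card_of_surjective
      (fun b : Bool => if b then Γ.connectedComponentMk u else Γ.connectedComponentMk w) ?_).trans
      (by simp)
    intro c
    induction c using SimpleGraph.ConnectedComponent.ind with
    | _ v =>
      rcases h v with h | h
      · exact ⟨true, SimpleGraph.ConnectedComponent.eq.2 h⟩
      · exact ⟨false, SimpleGraph.ConnectedComponent.eq.2 h⟩
  -- two primes dividing one degree are linked
  have hlink : ∀ u v : Cfsg.degreePrimes G, ∀ d ∈ Cfsg.charDegrees G, (u : ℕ) ∣ d → (v : ℕ) ∣ d →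
      Γ.Reachable u v := by
    intro u v d hd hu hv
    by_cases huv : u = v
    · rw [huv]
    · refine SimpleGraph.Adj.reachable ?_
      rw [hΓ, SimpleGraph.induce_adj]
      exact ⟨fun h => huv (Subtype.ext h), u.2.1, v.2.1, d, hd,
        ((Nat.coprime_primes u.2.1 v.2.1).2 fun h => huv (Subtype.ext h)).mul_dvd_of_dvd_of_dvd hu hv⟩
  rcases CfsgLib.ManzComponents.exists_quotient hab with
    ⟨p, K, hKn, hp, hpg, hna⟩ | ⟨q, N, hNn, lam, hq, hcomm, hNtop, hlam, hlq, hfpf⟩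
  · haveI := Fact.mk hp
    haveI := Fintype.ofFinite (G ⧸ K)
    haveI := Fintype.ofFinite K
    obtain ⟨a, b, hab'⟩ : ∃ a b : G ⧸ K, a * b ≠ b * a := by
      push Not at hna
      exact hna
    obtain ⟨β, -, hβ⟩ := CfsgLib.GaloisDegree.exists_nonlinear (P := G ⧸ K)
      (g := a * b * a⁻¹ * b⁻¹)
      (Subgroup.commutator_mem_commutator (Subgroup.mem_top a) (Subgroup.mem_top b))
      (fun h => hab' (mul_inv_eq_iff_eq_mul.1 (mul_inv_eq_one.1 h)))
    obtain ⟨k, hk⟩ := IsPGroup.iff_card.1 hpg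
    have hpβ : p ∣ Cfsg.charDegree (β : G ⧸ K → ℂ) := by
      obtain ⟨i, -, hi⟩ := (Nat.dvd_prime_pow hp).1
        (hk ▸ CfsgLib.Chars.charDegree_dvd_card β)
      rcases Nat.eq_zero_or_pos i with rfl | hi0
      · exact absurd hi hβ
      · rw [hi]; exact dvd_pow_self p hi0.ne'
    have hpV : p ∈ Cfsg.degreePrimes G := ⟨hp, _, ⟨CfsgLib.Chars.inflate K β, rfl⟩, by
      rw [CfsgLib.Chars.charDegree_inflate]; exact hpβ⟩
    refine hkey ⟨p, hpV⟩ ⟨p, hpV⟩ fun v => Or.inl ?_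
    obtain ⟨d, ⟨χ, rfl⟩, hvd⟩ := v.2.2
    by_cases hpd : p ∣ Cfsg.charDegree (χ : G → ℂ)
    · exact hlink _ _ _ ⟨χ, rfl⟩ hpd hvd
    · obtain ⟨θ, hθ⟩ := CfsgLib.ManzComponents.exists_restrict_eq (N := K) hp
        (k := k) (by rw [K.index_eq_card, hk]) χ hpd
      let ξ : Cfsg.IrrCharacter G := ⟨_, CfsgLib.Chars.Induced.gallagher_isIrrCharacter χ θ hθ β⟩
      have hξ : Cfsg.charDegree (ξ : G → ℂ) =
          Cfsg.charDegree (χ : G → ℂ) * Cfsg.charDegree (β : G ⧸ K → ℂ) := by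
        apply Nat.cast_injective (R := ℂ)
        push_cast
        rw [CfsgLib.Chars.coe_charDegree, CfsgLib.Chars.coe_charDegree,
          CfsgLib.Chars.coe_charDegree]
        rfl
      exact hlink _ _ _ ⟨ξ, rfl⟩ (hξ ▸ hpβ.mul_left _) (hξ ▸ hvd.mul_right _)
  · haveI := Fintype.ofFinite N
    have hidx : N.index ≠ 1 := fun h => hNtop (Subgroup.index_eq_one.1 h)
    obtain ⟨r, hr, hrf⟩ := Nat.exists_prime_and_dvd hidx
    obtain ⟨χ₀, hχ₀⟩ := CfsgLib.ManzComponents.exists_degree_index_mul hcomm hq lam hlam hlq hfpf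
      (CfsgLib.Chars.oneChar N) (by
        rw [CfsgLib.Chars.charDegree_eq_of_map_one (n := 1) (by simp [CfsgLib.Chars.oneChar_apply])]
        exact hq.not_dvd_one)
    have hrV : r ∈ Cfsg.degreePrimes G := ⟨hr, _, ⟨χ₀, rfl⟩, hχ₀ ▸ hrf.mul_right _⟩
    set R : Cfsg.degreePrimes G := ⟨r, hrV⟩ with hR
    have hover : ∀ v : Cfsg.degreePrimes G, Γ.Reachable R v ∨
        ∃ d ∈ Cfsg.charDegrees G, q ∣ d ∧ (v : ℕ) ∣ d := by
      intro v
      obtain ⟨d, ⟨χ, rfl⟩, hvd⟩ := v.2.2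
      obtain ⟨ψ, hψ⟩ := CfsgLib.Chars.Induced.exists_mult_restrict_ne_zero (N := N) χ
      by_cases hvf : (v : ℕ) ∣ N.index
      · exact Or.inl (hlink _ _ _ ⟨χ₀, rfl⟩ (hχ₀ ▸ hrf.mul_right _) (hχ₀ ▸ hvf.mul_right _))
      have hvψ : (v : ℕ) ∣ Cfsg.charDegree (ψ : N → ℂ) :=
        (v.2.1.dvd_mul.1 (hvd.trans (CfsgLib.Chars.Induced.charDegree_dvd_mul_index χ ψ hψ))).resolve_right hvf
      by_cases hqψ : q ∣ Cfsg.charDegree (ψ : N → ℂ)
      · refine Or.inr ⟨_, ⟨χ, rfl⟩, hqψ.trans ?_, hvd⟩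
        refine ⟨CfsgLib.Chars.Induced.mult (fun n : N => (χ : G → ℂ) n) ψ *
          (CfsgLib.Chars.Induced.inertia N (ψ : N → ℂ)).index, ?_⟩
        apply Nat.cast_injective (R := ℂ)
        push_cast
        rw [CfsgLib.Chars.coe_charDegree, CfsgLib.Chars.coe_charDegree,
          CfsgLib.Chars.Induced.clifford_one χ ψ hψ, mul_comm]
      · obtain ⟨χ₁, hχ₁⟩ :=
          CfsgLib.ManzComponents.exists_degree_index_mul hcomm hq lam hlam hlq hfpf ψ hqψ
        exact Or.inl (hlink _ _ _ ⟨χ₁, rfl⟩ (hχ₁ ▸ hrf.mul_right _) (hχ₁ ▸ hvψ.mul_left _))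
    by_cases hqV : q ∈ Cfsg.degreePrimes G
    · refine hkey R ⟨q, hqV⟩ fun v => (hover v).imp id ?_
      rintro ⟨d, hd, hqd, hvd⟩
      exact hlink _ _ d hd hqd hvd
    · refine hkey R R fun v => Or.inl ((hover v).resolve_right ?_)
      rintro ⟨d, hd, hqd, -⟩
      exact hqV ⟨hq, d, hd, hqd⟩

end Cfsg.Agent.S4811
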