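import Cfsg.Statements.S4813
import Cfsg.Agent.S4466
import Cfsg.Agent.S4811

set_option autoImplicit false
open Cfsg

namespace Cfsg.Agent.S4813

/-- If every irreducible complex character of the finite group G of degree greater than one has prime degree, then G has at most three distinct irreducible character degrees. -/
theorem result {G : Type*} [Group G] [Finite G] (hprime : ∀ d ∈ Cfsg.charDegrees G, d = 1 ∨ d.Prime) : Nat.card ↥(Cfsg.charDegrees G) ≤ 3 := by
  classical
  haveI := Fintype.ofFinite G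
  haveI : Group.IsSolvable G := Cfsg.Agent.S4466.result fun χ hχ =>
    (hprime _ ⟨χ, rfl⟩).resolve_left hχ
  set Γ := (Cfsg.degreeGraph G).induce (Cfsg.degreePrimes G) with hΓ
  have hno : ∀ u v : Cfsg.degreePrimes G, ¬ Γ.Adj u v := by
    intro u v huv
    rw [hΓ, SimpleGraph.induce_adj] at huv
    obtain ⟨hne, hu, hv, d, hd, hdvd⟩ := huv
    rcases hprime d hd with rfl | hdp
    · exact hu.not_dvd_one ((Dvd.intro _ rfl).trans hdvd)
    · rcases (Nat.dvd_prime hdp).1 hdvd with h | h
      · exact hu.ne_one (Nat.eq_one_of_mul_eq_one_right h)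
      · have h1 := (Nat.prime_dvd_prime_iff_eq hu hdp).1 ((Dvd.intro _ rfl).trans hdvd)
        have h2 := (Nat.prime_dvd_prime_iff_eq hv hdp).1 ((Dvd.intro_left _ rfl).trans hdvd)
        exact hne (h1.trans h2.symm)
  have hreach : ∀ u v : Cfsg.degreePrimes G, Γ.Reachable u v → u = v := by
    rintro u v ⟨w⟩
    cases w with
    | nil => rfl
    | cons h _ => exact absurd h (hno _ _)
  haveI : Finite (Cfsg.degreePrimes G) := by
    refine Set.Finite.to_subtype ((Set.finite_le_nat (Nat.card G)).subset ?_)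
    rintro r ⟨-, d, ⟨χ, rfl⟩, hrd⟩
    exact Nat.le_of_dvd Nat.card_pos (hrd.trans (CfsgLib.Chars.charDegree_dvd_card χ))
  have hle : Nat.card (Cfsg.degreePrimes G) ≤ Nat.card Γ.ConnectedComponent :=
    Nat.card_le_card_of_injective Γ.connectedComponentMk fun u v h =>
      hreach u v (SimpleGraph.ConnectedComponent.eq.1 h)
  have h2 : Nat.card Γ.ConnectedComponent ≤ 2 := Cfsg.Agent.S4811.result
  have hfin : (Cfsg.degreePrimes G).Finite := Set.toFinite _
  have hsub : Cfsg.charDegrees G ⊆ insert 1 (Cfsg.degreePrimes G) := by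
    intro d hd
    rcases hprime d hd with rfl | hdp
    · exact Set.mem_insert 1 _
    · exact Set.mem_insert_of_mem _ ⟨hdp, d, hd, dvd_rfl⟩
  rw [Nat.card_coe_set_eq] at hle ⊢
  have h3 := Set.ncard_le_ncard hsub (hfin.insert 1)
  have h4 := Set.ncard_insert_le 1 (Cfsg.degreePrimes G)
  omega


end Cfsg.Agent.S4813
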