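import Cfsg.Statements.S4840
import Cfsg.Agent.GagolaChar.PCoreQuotient57

set_option autoImplicit false
open Cfsg

namespace Cfsg.Agent.S4840

/-- Let G be a finite solvable group of order greater than 2 with an irreducible character nonzero on exactly two conjugacy classes. Then there is exactly one prime p with O_p(G) ≠ 1, and the quotient G/O_p(G) has a normal p-complement and commutative Sylow p-subgroups. -/
theorem result {G : Type*} [Group G] [Finite G] [hs : Group.IsSolvable G] (hG : 2 < Nat.card G) (χ : Cfsg.IrrCharacter G) (hχ : Nat.card {C : ConjClasses G // ∃ g ∈ C.carrier, (χ : G → ℂ) g ≠ 0} = 2) :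
    ∃ p : ℕ, p.Prime ∧ (∀ q : ℕ, q.Prime → (Cfsg.pCore q G ≠ ⊥ ↔ q = p)) ∧
      Cfsg.HasNormalPComplement p (G ⧸ Cfsg.pCore p G) ∧ ∀ Q : Sylow p (G ⧸ Cfsg.pCore p G), IsMulCommutative (Q : Subgroup (G ⧸ Cfsg.pCore p G)) := by
  obtain ⟨x, hx⟩ := CfsgLib.GagolaChar.exists_isTwoSupport χ hχ
  obtain ⟨p, hp, hel⟩ := CfsgLib.GagolaChar.exists_isElementaryAbelian hG hx
  haveI : Fact p.Prime := ⟨hp⟩
  have hNp : IsPGroup p (CfsgLib.GagolaChar.supp χ) := fun n => ⟨1, by
    rw [pow_one]; exact Subtype.ext (hel.2 n n.2)⟩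
  obtain ⟨h1, h2⟩ := CfsgLib.GagolaChar.Trans57.complement_of_commutator _ p
    (CfsgLib.GagolaChar.quotient_pCore_commutator hG hx hel)
  exact ⟨p, hp, fun q hq => CfsgLib.GagolaChar.pCore_unique hG hx hNp q hq, h1, h2⟩

end Cfsg.Agent.S4840
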