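import Cfsg.Statements.S4848
import Cfsg.Agent.VanishPPower.Basic

set_option autoImplicit false
open Cfsg

namespace Cfsg.Agent.S4848

open CfsgLib.Chars CfsgLib.Chars.Induced CfsgLib.VanishPPower

/-- Let p be a prime and G a finite non-commutative group in which every vanishing element (an element at which some irreducible character is zero) has order a positive power of p. Then either G is a p-group, or the centre of G equals O_p(G) and G/Z(G) is a Frobenius group with a Frobenius complement of p-power order. -/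
theorem result {G : Type*} [Group G] [Finite G] (hna : ¬ IsMulCommutative G) (p : ℕ) [Fact p.Prime] (hvan : ∀ g : G, (∃ χ : Cfsg.IrrCharacter G, (χ : G → ℂ) g = 0) → ∃ m : ℕ, 1 ≤ m ∧ orderOf g = p ^ m) :
    IsPGroup p G ∨ (Subgroup.center G = Cfsg.pCore p G ∧ ∃ H : Subgroup (G ⧸ Subgroup.center G), Cfsg.IsFrobeniusComplement H ∧ IsPGroup p H) := by
  classical
  haveI : Fintype G := Fintype.ofFinite G
  have hp : p.Prime := Fact.out
  -- nonlinear characters have a zero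
  have hzero : ∀ χ : IrrCharacter G, charDegree (χ : G → ℂ) ≠ 1 →
      ∃ g : G, (χ : G → ℂ) g = 0 := by
    intro χ hχ
    obtain ⟨n, ρ, hρ, he⟩ := χ.2
    haveI := hρ
    have h1 : charDegree (χ : G → ℂ) = n := charDegree_eq_of_map_one (by
      rw [← he, Representation.char_one, Module.finrank_fin_fun])
    have hpos := charDegree_pos χ
    obtain ⟨g, hg⟩ := Cfsg.Agent.S0191.result ρ (by rw [Module.finrank_fin_fun]; omega)
    exact ⟨g, he ▸ hg⟩
  have hdeg : ∀ χ : IrrCharacter G, charDegree (χ : G → ℂ) ≠ 1 →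
      p ∣ charDegree (χ : G → ℂ) := by
    intro χ hχ
    obtain ⟨g, hg⟩ := hzero χ hχ
    obtain ⟨m, -, hm⟩ := hvan g ⟨χ, hg⟩
    exact Cfsg.Agent.S4558.result p χ (isCharacter_coe χ) g ⟨m, hm⟩ hg
  obtain ⟨N, hNn, hNcop, k, hk⟩ := Apps.exists_normal_complement_of_dvd hdeg
  haveI := hNn
  obtain ⟨P⟩ : Nonempty (Sylow p G) := inferInstance
  have hPpow : ∀ x ∈ (P : Subgroup G), ∃ j : ℕ, orderOf x = p ^ j := by
    intro x hx
    obtain ⟨j, hj⟩ := P.isPGroup' ⟨x, hx⟩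
    have h1 : x ^ p ^ j = 1 := congrArg Subtype.val hj
    obtain ⟨i, -, hi⟩ := (Nat.dvd_prime_pow hp).1 (orderOf_dvd_of_pow_eq_one h1)
    exact ⟨i, hi⟩
  have hdisj : ∀ x, x ∈ N → x ∈ (P : Subgroup G) → x = 1 := by
    intro x hxN hxP
    obtain ⟨j, hj⟩ := hPpow x hxP
    exact orderOf_eq_one_iff.1 (Nat.eq_one_of_dvd_coprimes
      (Nat.Coprime.pow_right j hNcop) (Subgroup.orderOf_dvd_natCard N hxN) hj.dvd)
  have hcompl : Subgroup.IsComplement' N (P : Subgroup G) := by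
    apply Subgroup.isComplement'_of_card_mul_and_disjoint
    · have h2 : Nat.card (P : Subgroup G) = p ^ k := by
        rw [P.card_eq_multiplicity, ← N.card_mul_index, hk,
          Nat.factorization_mul Nat.card_pos.ne' (pow_ne_zero _ hp.pos.ne'),
          Finsupp.add_apply, Nat.factorization_eq_zero_of_not_dvd
          (hp.coprime_iff_not_dvd.1 hNcop.symm), Nat.Prime.factorization_pow hp,
          Finsupp.single_eq_same, zero_add]
      rw [h2, ← hk, N.card_mul_index]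
    · rw [Subgroup.disjoint_def]
      exact fun {x} h1 h2 => hdisj x h1 h2
  have hdec : ∀ g : G, ∃ n ∈ N, ∃ s ∈ (P : Subgroup G), g = n * s := by
    intro g
    obtain ⟨⟨n, s⟩, h⟩ := hcompl.2 g
    exact ⟨n, n.2, s, s.2, h.symm⟩
  have hQ : IsPGroup p (G ⧸ N) := IsPGroup.of_card ((Subgroup.index_eq_card N).symm.trans hk)
  haveI := hQ.isNilpotent
  -- mixed elements are nonvanishing
  have hmixed : ∀ y ∈ (P : Subgroup G), ∀ c ∈ N, c ≠ 1 → Commute y c →
      ∀ χ : IrrCharacter G, (χ : G → ℂ) (y * c) ≠ 0 := by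
    intro y hy c hc hc1 hcomm χ h0
    obtain ⟨m, -, hm⟩ := hvan _ ⟨χ, h0⟩
    obtain ⟨j, hj⟩ := hPpow y hy
    have hcop : Nat.Coprime (orderOf c) p :=
      Nat.Coprime.coprime_dvd_left (Subgroup.orderOf_dvd_natCard N hc) hNcop
    rw [hcomm.orderOf_mul_eq_mul_orderOf_of_coprime
      (hj ▸ (hcop.symm.pow_left j))] at hm
    exact hc1 (orderOf_eq_one_iff.1 (Nat.eq_one_of_dvd_coprimes
      (hcop.pow_right m) dvd_rfl (hm ▸ dvd_mul_left _ _)))
  have hmod : ∀ y ∈ (P : Subgroup G), ∀ c ∈ N, c ≠ 1 → Commute y c →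
      ∀ x : G, x⁻¹ * y * x * y⁻¹ ∈ N := by
    intro y hy c hc hc1 hcomm x
    have hz : (y : G ⧸ N) ∈ Subgroup.center (G ⧸ N) := by
      by_contra hn
      obtain ⟨φ, hφ⟩ := exists_zero_of_notMem_center inferInstance _ hn
      refine hmixed y hy c hc hc1 hcomm (inflate N φ) ?_
      rw [inflate_apply, QuotientGroup.mk_mul, (QuotientGroup.eq_one_iff c).2 hc, mul_one]
      exact hφ
    rw [← QuotientGroup.eq_one_iff]
    simp only [QuotientGroup.mk_mul, QuotientGroup.mk_inv]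
    rw [mul_assoc (x : G ⧸ N)⁻¹ (y : G ⧸ N), ← Subgroup.mem_center_iff.1 hz,
      inv_mul_cancel_left, mul_inv_cancel]
  have hcentN : ∀ y ∈ (P : Subgroup G), ∀ c ∈ N, c ≠ 1 → Commute y c →
      ∀ n ∈ N, n * y = y * n := fun y hy c hc hc1 hcomm =>
    commute_of_forall_fixed hNcop (hPpow y hy) fun θ =>
      mem_inertia_of_forall_ne_zero hc (hmod y hy c hc hc1 hcomm)
        (hmixed y hy c hc hc1 hcomm) θ
  by_cases hN1 : N = ⊥
  · subst hN1
    left
    refine IsPGroup.of_card (n := k) ?_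
    rw [← hk, Subgroup.index_bot]
  right
  obtain ⟨c₀, hc₀, hc₀1⟩ := N.bot_or_exists_ne_one.resolve_left hN1
  let A : Subgroup G := (P : Subgroup G) ⊓ Subgroup.centralizer (N : Set G)
  have hA : ∀ a, a ∈ A ↔ a ∈ (P : Subgroup G) ∧ ∀ n ∈ N, n * a = a * n := fun a => by
    simp [A, Subgroup.mem_centralizer_iff]
  have hfree : ∀ y ∈ (P : Subgroup G), y ∉ A → ∀ c ∈ N, Commute y c → c = 1 := by
    intro y hy hyA c hc hcomm
    by_contra hc1
    exact hyA ((hA y).2 ⟨hy, hcentN y hy c hc hc1 hcomm⟩)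
  have hAn : A.Normal := by
    constructor
    intro a ha g
    obtain ⟨n, hn, s, hs, rfl⟩ := hdec g
    have h1 : s * a * s⁻¹ ∈ A := by
      rw [hA]
      refine ⟨mul_mem (mul_mem hs ((hA a).1 ha).1) (inv_mem hs), fun m hm => ?_⟩
      have h2 := ((hA a).1 ha).2 (s⁻¹ * m * s) (by simpa using hNn.conj_mem m hm s⁻¹)
      calc m * (s * a * s⁻¹) = s * ((s⁻¹ * m * s) * a) * s⁻¹ := by group
        _ = s * (a * (s⁻¹ * m * s)) * s⁻¹ := by rw [h2]
        _ = s * a * s⁻¹ * m := by group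
    have h3 : n * s * a * (n * s)⁻¹ = s * a * s⁻¹ := by
      have h4 := ((hA _).1 h1).2 n hn
      calc n * s * a * (n * s)⁻¹ = (n * (s * a * s⁻¹)) * n⁻¹ := by group
        _ = (s * a * s⁻¹) * n * n⁻¹ := by rw [h4]
        _ = _ := mul_inv_cancel_right _ _
    rwa [h3]
  haveI := hAn
  have hAK : A = Cfsg.pCore p G := by
    refine le_antisymm (CfsgLib.LocalP.le_pCore hAn (P.isPGroup'.to_le inf_le_left)) ?_
    have hK : IsPGroup p (Cfsg.pCore p G) := CfsgLib.LocalP.isPGroup_pCore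
    haveI hKn : (Cfsg.pCore p G).Normal := Cfsg.pCore_normal p G
    have hKP : Cfsg.pCore p G ≤ (P : Subgroup G) := by
      obtain ⟨Q, hQ⟩ := hK.exists_le_sylow
      obtain ⟨g, rfl⟩ := MulAction.exists_smul_eq G P Q
      intro x hx
      have h1 := hQ (hKn.conj_mem x hx g)
      rw [Sylow.coe_subgroup_smul, Subgroup.mem_pointwise_smul_iff_inv_smul_mem] at h1
      simpa [MulAut.smul_def, mul_assoc] using h1
    refine fun x hx => (hA x).2 ⟨hKP hx, fun n hn => ?_⟩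
    refine (Subgroup.commute_of_normal_of_disjoint N (Cfsg.pCore p G) hNn hKn ?_ n x hn hx).eq
    rw [Subgroup.disjoint_def]
    exact fun {z} h1 h2 => hdisj z h1 (hKP h2)
  have hKZ : ∀ a ∈ A, a ∈ Subgroup.center G := by
    intro a ha
    rw [Subgroup.mem_center_iff]
    intro x
    have h1 := hmod a ((hA a).1 ha).1 c₀ hc₀ hc₀1 (((hA a).1 ha).2 c₀ hc₀).symm x
    have h2 : x⁻¹ * a * x * a⁻¹ ∈ A :=
      mul_mem (by simpa using hAn.conj_mem a ha x⁻¹) (inv_mem ha)
    have h3 := hdisj _ h1 h2.1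
    rw [mul_inv_eq_one] at h3
    calc x * a = x * (x⁻¹ * a * x) := by rw [h3]
      _ = a * x := by group
  have hPA : ¬ (P : Subgroup G) ≤ A := by
    intro hle
    have hab : ∀ x y : G, y ∈ (P : Subgroup G) → x * y = y * x := fun x y hy =>
      Subgroup.mem_center_iff.1 (hKZ y (hle hy)) x
    have hnon : ∃ χ : IrrCharacter G, charDegree (χ : G → ℂ) ≠ 1 := by
      by_contra! h
      refine hna ⟨⟨fun a b => ?_⟩⟩
      have h1 : commutator G = ⊥ :=
        commutator_eq_bot_iff.2 fun χ => (charDegree_eq_one_iff χ).1 (h χ)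
      have h2 : a * b * a⁻¹ * b⁻¹ = 1 := by
        rw [← Subgroup.mem_bot, ← h1]
        exact Subgroup.commutator_mem_commutator (Subgroup.mem_top a) (Subgroup.mem_top b)
      rwa [mul_inv_eq_one, mul_inv_eq_iff_eq_mul] at h2
    obtain ⟨χ, hχ⟩ := hnon
    obtain ⟨g, hg⟩ := hzero χ hχ
    obtain ⟨m, -, hm⟩ := hvan g ⟨χ, hg⟩
    obtain ⟨n, hn, s, hs, rfl⟩ := hdec g
    obtain ⟨j, hj⟩ := hPpow s hs
    have hcop : Nat.Coprime (orderOf n) p :=
      Nat.Coprime.coprime_dvd_left (Subgroup.orderOf_dvd_natCard N hn) hNcop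
    rw [Commute.orderOf_mul_eq_mul_orderOf_of_coprime (hab n s hs)
      (hj ▸ hcop.pow_right j)] at hm
    have hn1 : n = 1 := orderOf_eq_one_iff.1 (Nat.eq_one_of_dvd_coprimes
      (hcop.pow_right m) dvd_rfl (hm ▸ dvd_mul_right _ _))
    rw [hn1, one_mul] at hg
    have h4 := norm_map_of_mem_center χ (hKZ s (hle hs))
    rw [hg, norm_zero, eq_comm, norm_eq_zero] at h4
    exact map_one_ne_zero χ h4
  obtain ⟨y₀, hy₀, hy₀A⟩ := SetLike.not_le_iff_exists.1 hPA
  have hZ : Subgroup.center G = Cfsg.pCore p G := by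
    refine le_antisymm (fun z hz => ?_) (fun z hz => hKZ z (hAK ▸ hz))
    obtain ⟨n, hn, s, hs, rfl⟩ := hdec z
    have h1 := Subgroup.mem_center_iff.1 hz y₀
    have h2 : y₀ * n * y₀⁻¹ * n⁻¹ = 1 := by
      refine hdisj _ (mul_mem (hNn.conj_mem n hn y₀) (inv_mem hn)) ?_
      have h3 : y₀ * n * y₀⁻¹ * n⁻¹ = n * (s * y₀ * s⁻¹ * y₀⁻¹) * n⁻¹ := by
        calc y₀ * n * y₀⁻¹ * n⁻¹ = (y₀ * (n * s)) * s⁻¹ * y₀⁻¹ * n⁻¹ := by group
          _ = ((n * s) * y₀) * s⁻¹ * y₀⁻¹ * n⁻¹ := by rw [h1]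
          _ = _ := by group
      have h4 : s * y₀ * s⁻¹ * y₀⁻¹ ∈ N := by
        have h5 : s * y₀ * s⁻¹ * y₀⁻¹ = n⁻¹ * (y₀ * n * y₀⁻¹ * n⁻¹) * n := by rw [h3]; group
        rw [h5]
        exact mul_mem (mul_mem (inv_mem hn)
          (mul_mem (hNn.conj_mem n hn y₀) (inv_mem hn))) hn
      rw [h3, hdisj _ h4 (mul_mem (mul_mem (mul_mem hs hy₀) (inv_mem hs)) (inv_mem hy₀))]
      simp
    rw [mul_inv_eq_one, mul_inv_eq_iff_eq_mul] at h2
    have hn1 : n = 1 := hfree y₀ hy₀ hy₀A n hn h2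
    subst hn1
    rw [one_mul] at hz ⊢
    exact hAK ▸ (hA s).2 ⟨hs, fun m _ => Subgroup.mem_center_iff.1 hz m⟩
  refine ⟨hZ, (P : Subgroup G).map (QuotientGroup.mk' (Subgroup.center G)), ?_,
    P.isPGroup'.map _⟩
  have hZP : Subgroup.center G ≤ (P : Subgroup G) := by rw [hZ, ← hAK]; exact inf_le_left
  have hmemH : ∀ g : G, (g : G ⧸ Subgroup.center G) ∈
      (P : Subgroup G).map (QuotientGroup.mk' (Subgroup.center G)) → g ∈ (P : Subgroup G) := by
    rintro g ⟨s, hs, he⟩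
    rw [QuotientGroup.mk'_apply, QuotientGroup.eq] at he
    simpa using mul_mem hs (hZP he)
  refine ⟨fun h => ?_, fun h => ?_, fun x hx => ?_⟩
  · have h1 : (y₀ : G ⧸ Subgroup.center G) ∈ (⊥ : Subgroup (G ⧸ Subgroup.center G)) :=
      h ▸ ⟨y₀, hy₀, rfl⟩
    rw [Subgroup.mem_bot, QuotientGroup.eq_one_iff, hZ, ← hAK] at h1
    exact hy₀A h1
  · exact hc₀1 (hdisj _ hc₀ (hmemH c₀ (h ▸ Subgroup.mem_top _)))
  · induction x using QuotientGroup.induction_on with
    | H g =>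
    obtain ⟨n, hn, s, hs, rfl⟩ := hdec g
    have hn1 : n ≠ 1 := fun e => hx ⟨s, hs, by simp [e]⟩
    rw [eq_bot_iff]
    intro z hz
    obtain ⟨⟨a, ha, rfl⟩, hz2⟩ := hz
    rw [SetLike.mem_coe, Subgroup.mem_toSubmonoid, Subgroup.mem_pointwise_smul_iff_inv_smul_mem] at hz2
    have hb : (n * s)⁻¹ * a * (n * s) ∈ (P : Subgroup G) := hmemH _ (by
      simpa [MulAut.smul_def, mul_assoc] using hz2)
    have hb' : n⁻¹ * a * n ∈ (P : Subgroup G) := by
      have h6 := mul_mem (mul_mem hs hb) (inv_mem hs)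
      convert h6 using 1
      group
    have h3 : n⁻¹ * a * n * a⁻¹ = 1 := hdisj _
      (by
        rw [show n⁻¹ * a * n * a⁻¹ = n⁻¹ * (a * n * a⁻¹) by group]
        exact mul_mem (inv_mem hn) (hNn.conj_mem n hn a))
      (mul_mem hb' (inv_mem ha))
    have hcomm : Commute a n := by
      rw [mul_inv_eq_one] at h3
      calc a * n = n * (n⁻¹ * a * n) := by group
        _ = n * a := by rw [h3]
    have haA : a ∈ A := by
      by_contra h
      exact hn1 (hfree a ha h n hn hcomm)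
    rw [Subgroup.mem_bot, QuotientGroup.mk'_apply, QuotientGroup.eq_one_iff]
    exact hKZ a haA

end Cfsg.Agent.S4848
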