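import Cfsg.Statements.S4997
import Cfsg.Agent.MovedVector.Vanishing

set_option autoImplicit false
open Cfsg

namespace Cfsg.Agent.S4997


set_option linter.style.haveILetI false
open CfsgLib.MovedVector

universe u

theorem card_sylow_le {G : Type u} [Group G] [Finite G] {p : ℕ} [hp : Fact p.Prime] (P : Sylow p G)
    (hG : Group.IsSolvable G)
    (hone : ∀ g g' : G, (∃ x ∈ Subgroup.zpowers g, (∃ j, x ^ p ^ j = 1) ∧ x ∉ Cfsg.pCore p G) →
      (∃ x ∈ Subgroup.zpowers g', (∃ j, x ^ p ^ j = 1) ∧ x ∉ Cfsg.pCore p G) → IsConj g g') :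
    Nat.card ↥(P : Subgroup G) ≤ p * Nat.card ↥(Cfsg.pCore p G) := by
  classical
  set O := Cfsg.pCore p G with hO
  have hOP : O ≤ (P : Subgroup G) := by
    obtain ⟨S, hS⟩ := (CfsgLib.Constrained.isPGroup_pCore (p := p) (G := G)).exists_le_sylow
    obtain ⟨t, ht⟩ := MulAction.exists_smul_eq G S P
    intro y hy
    rw [← ht, Sylow.coe_subgroup_smul]
    exact Subgroup.mem_pointwise_smul_iff_inv_smul_mem.2 (hS ((inferInstance : O.Normal).conj_mem' y hy t))
  set π := QuotientGroup.mk' O with hπ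
  set P' : Subgroup (G ⧸ O) := (P : Subgroup G).map π with hP'
  have hcard : Nat.card (P : Subgroup G) = Nat.card P' * Nat.card O := by
    have h1 := Subgroup.card_mul_index (O.subgroupOf (P : Subgroup G))
    rw [Nat.card_congr (Subgroup.subgroupOfEquivOfLe hOP).toEquiv] at h1
    have h2 : (O.subgroupOf (P : Subgroup G)).index = Nat.card P' := by
      rw [hP', ← Nat.card_congr (QuotientGroup.quotientKerEquivRange (π.comp (P : Subgroup G).subtype)).toEquiv |>.trans
        (Nat.card_congr (MulEquiv.subgroupCongr (by rw [MonoidHom.range_comp, Subgroup.range_subtype])).toEquiv)]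
      rw [← Subgroup.index_eq_card]
      congr 1
      ext y
      rw [MonoidHom.mem_ker, Subgroup.mem_subgroupOf]
      exact (QuotientGroup.eq_one_iff (y : G)).symm
    rw [← h1, h2, mul_comm]
  rw [hcard]
  refine Nat.mul_le_mul_right _ ?_
  -- the Sylow group modulo `O` has exponent `p`
  have hexp : ∀ y ∈ P', y ^ p = 1 := by
    rintro _ ⟨x, hx, rfl⟩
    rw [← map_pow]
    refine (QuotientGroup.eq_one_iff _).mpr ?_
    by_contra hxp
    obtain ⟨j, hj⟩ := P.isPGroup' ⟨x, hx⟩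
    have hxj : x ^ p ^ j = 1 := congrArg Subtype.val hj
    have hxO : x ∉ O := fun h => hxp (pow_mem h p)
    have hc := hone x (x ^ p) ⟨x, Subgroup.mem_zpowers x, ⟨j, hxj⟩, hxO⟩
      ⟨x ^ p, Subgroup.mem_zpowers _, ⟨j, by rw [← pow_mul, mul_comm, pow_mul, hxj, one_pow]⟩, hxp⟩
    obtain ⟨t, ht⟩ := isConj_iff.mp hc
    have ho : orderOf x = orderOf (x ^ p) := by
      rw [← ht]
      exact ((MulAut.conj t).orderOf_eq x).symm
    obtain ⟨i, hi⟩ := IsPGroup.iff_orderOf.mp P.isPGroup' ⟨x, hx⟩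
    rw [Subgroup.orderOf_mk] at hi
    have hi0 : i ≠ 0 := fun h => hxO (by
          rw [orderOf_eq_one_iff.mp (show orderOf x = 1 by rw [hi, h, pow_zero])]; exact one_mem _)
    rw [orderOf_pow' x hp.out.ne_zero, hi, Nat.gcd_eq_right (dvd_pow_self p hi0)] at ho
    have := Nat.div_lt_self (pow_pos hp.out.pos i) hp.out.one_lt
    omega
  by_contra hbig
  push Not at hbig
  -- two commuting elements
  have hP'p : IsPGroup p P' := P.isPGroup'.map π
  obtain ⟨b, c, hb, hc, hbc, hne⟩ : ∃ b c : G ⧸ O, b ∈ P' ∧ c ∈ P' ∧ b * c = c * b ∧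
      (c ≠ 1 ∧ b ∉ Subgroup.zpowers c) := by
    haveI : Nontrivial P' := Finite.one_lt_card_iff_nontrivial.mp (lt_of_le_of_lt hp.out.one_lt.le hbig)
    haveI := hP'p.center_nontrivial
    obtain ⟨⟨c, hc⟩, hc1⟩ := exists_ne (1 : Subgroup.center P')
    have hc1' : (c : G ⧸ O) ≠ 1 := fun h => hc1 (Subtype.ext (Subtype.ext h))
    by_contra hcon
    push Not at hcon
    have hle : P' ≤ Subgroup.zpowers (c : G ⧸ O) := fun b hb =>
      hcon b c hb c.2 (congrArg Subtype.val (Subgroup.mem_center_iff.mp hc ⟨b, hb⟩)) hc1'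
    have := Nat.le_of_dvd Nat.card_pos (Subgroup.card_dvd_of_le hle)
    rw [Nat.card_zpowers, orderOf_eq_prime (hexp _ c.2) hc1'] at this
    omega
  obtain ⟨hc1, hbne⟩ := hne
  have hb1 : b ≠ 1 := fun h => hbne (h ▸ one_mem _)
  haveI : Nontrivial (G ⧸ O) := ⟨⟨b, 1, hb1⟩⟩
  haveI := hG
  obtain ⟨M, q, k, hMn, hM1, -, hMc, hq, -, hMcard, hMe⟩ :=
    CfsgLib.Solvable.exists_minimal_normal_of_solvable (G := G ⧸ O)
  haveI := hMn
  haveI := Fact.mk hq
  have hpq : p ≠ q := fun e => hM1 (le_bot_iff.mp (CfsgLib.Constrained.pCore_quotient_pCore (p := p) (G := G) ▸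
    CfsgLib.Constrained.le_pCore hMn (IsPGroup.of_card (n := k) (e ▸ hMcard))))
  -- fixed-point-free
  have hfpf : ∀ y ∈ P', y ≠ 1 → ∀ v ∈ M, y * v = v * y → v = 1 := by
    intro y hy hy1 v hv hyv
    by_contra hv1
    obtain ⟨x₀, hx₀, rfl⟩ := hy
    obtain ⟨g, hg⟩ := QuotientGroup.mk'_surjective O (π x₀ * v)
    obtain ⟨a, m, hm, ham⟩ := Nat.exists_eq_pow_mul_and_not_dvd (orderOf_pos g).ne' p hp.out.ne_one
    have hord : orderOf (π x₀ * v) = p * q := by
      have h1 : orderOf (π x₀) = p := orderOf_eq_prime (hexp _ ⟨x₀, hx₀, rfl⟩) hy1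
      have h2 : orderOf v = q := orderOf_eq_prime (hMe v hv) hv1
      rw [(show Commute (π x₀) v from hyv).orderOf_mul_eq_mul_orderOf_of_coprime
        (by rw [h1, h2]; exact (Nat.coprime_primes hp.out hq).mpr hpq), h1, h2]
    have hdvd : p * q ∣ orderOf g := hord ▸ hg ▸ orderOf_map_dvd π g
    have hqm : q ∣ m := by
      have h := dvd_trans (dvd_mul_left q p) hdvd
      rw [ham] at h
      exact (hq.dvd_mul.mp h).resolve_left fun h =>
        hpq ((Nat.prime_dvd_prime_iff_eq hq hp.out).mp (hq.dvd_of_dvd_pow h)).symm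
    have hxO : g ^ m ∉ O := by
      intro h
      have h1 : (π x₀ * v) ^ m = 1 := by rw [← hg, ← map_pow]; exact (QuotientGroup.eq_one_iff _).mpr h
      rw [← orderOf_dvd_iff_pow_eq_one, hord] at h1
      exact hm (dvd_trans (dvd_mul_right p q) h1)
    have hx0O : x₀ ∉ O := fun h => hy1 ((QuotientGroup.eq_one_iff _).mpr h)
    obtain ⟨j, hj⟩ := P.isPGroup' ⟨x₀, hx₀⟩
    have hc := hone g x₀ ⟨g ^ m, Subgroup.pow_mem _ (Subgroup.mem_zpowers g) m,
        ⟨a, by rw [← pow_mul, mul_comm, ← ham, pow_orderOf_eq_one]⟩, hxO⟩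
      ⟨x₀, Subgroup.mem_zpowers x₀, ⟨j, congrArg Subtype.val hj⟩, hx0O⟩
    obtain ⟨t, ht⟩ := isConj_iff.mp hc
    obtain ⟨i, hi⟩ := IsPGroup.iff_orderOf.mp P.isPGroup' ⟨x₀, hx₀⟩
    rw [Subgroup.orderOf_mk] at hi
    have ho : orderOf g = p ^ i := by rw [← hi, ← ht]; exact ((MulAut.conj t).orderOf_eq g).symm
    rw [ho] at hdvd
    exact hpq ((Nat.prime_dvd_prime_iff_eq hq hp.out).mp (hq.dvd_of_dvd_pow ((dvd_mul_left q p).trans hdvd))).symm
  letI : CommGroup M := { (inferInstance : Group M) with mul_comm := hMc.is_comm.comm }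
  letI : Module (ZMod q) (Additive M) :=
    AddCommGroup.zmodModule (n := q) (fun v : Additive M => Additive.toMul.injective
      (show (Additive.toMul v) ^ q = 1 from Subtype.ext (hMe _ (Additive.toMul v).2)))
  let ρ : G ⧸ O →* Module.End (ZMod q) (Additive M) := (autEnd q M).comp (MulAut.conjNormal (H := M))
  have hbot : ∀ v : Additive M, v = 0 := by
    refine eq_zero_of_fpf_pair (p := p) (fun h => hpq (((Nat.prime_dvd_prime_iff_eq hq hp.out).mp
      ((ZMod.natCast_eq_zero_iff p q).mp h)).symm)) ρ hbc (orderOf_eq_prime (hexp b hb) hb1)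
      (orderOf_eq_prime (hexp c hc) hc1) hbne ?_
    intro y hy hy1 v hv
    have hyP : y ∈ P' := (Subgroup.closure_le _).mpr (by
      intro z hz
      rcases hz with rfl | rfl
      · exact hb
      · exact hc) hy
    refine Additive.toMul.injective (Subtype.ext (hfpf y hyP hy1 _ (Additive.toMul v).2 ?_))
    have h : y * ((Additive.toMul v : M) : G ⧸ O) * y⁻¹ = (Additive.toMul v : M) :=
      congrArg (fun w : Additive M => ((Additive.toMul w : M) : G ⧸ O)) hv
    exact mul_inv_eq_iff_eq_mul.mp h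
  refine hM1 ((Subgroup.eq_bot_iff_forall M).mpr fun v hv => ?_)
  exact congrArg (fun w : Additive M => ((Additive.toMul w : M) : G ⧸ O)) (hbot (Additive.ofMul ⟨v, hv⟩))


/-- Let p be an odd prime and G a finite solvable group with exactly one conjugacy class consisting of vanishing elements (elements at which some irreducible complex character is zero) of order divisible by p. Let P be a Sylow p-subgroup of G. Then the order of P is at most p times the order of the largest normal p-subgroup of G. -/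
theorem result {G : Type*} [Group G] [Finite G] (hsolv : Group.IsSolvable G) (p : ℕ) [Fact p.Prime] (hp : p ≠ 2) (h1 : Set.ncard {C : ConjClasses G | (∀ g ∈ C.carrier, ∃ χ : Cfsg.IrrCharacter G, (χ : G → ℂ) g = 0) ∧ ∃ g ∈ C.carrier, p ∣ orderOf g} = 1) (P : Sylow p G) : Nat.card ↥(P : Subgroup G) ≤ p * Nat.card ↥(Cfsg.pCore p G) := by
  classical
  haveI := hsolv
  refine card_sylow_le P hsolv ?_
  obtain ⟨C₀, hC₀⟩ := Set.ncard_eq_one.mp h1
  intro g g' hg hg'
  have key : ∀ y : G, (∃ x ∈ Subgroup.zpowers y, (∃ j, x ^ p ^ j = 1) ∧ x ∉ Cfsg.pCore p G) →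
      ConjClasses.mk y = C₀ := by
    intro y ⟨x, hxy, hx, hxO⟩
    obtain ⟨χ, hχ⟩ := CfsgLib.MovedVector.exists_zero hp hsolv hxy hx hxO
    have hmem : ConjClasses.mk y ∈ ({C₀} : Set (ConjClasses G)) := by
      rw [← hC₀]
      refine ⟨fun z hz => ⟨χ, ?_⟩, y, ConjClasses.mem_carrier_mk, ?_⟩
      · obtain ⟨t, rfl⟩ := isConj_iff.mp (ConjClasses.mk_eq_mk_iff_isConj.mp (ConjClasses.mem_carrier_iff_mk_eq.mp hz).symm)
        rw [CfsgLib.Chars.isClassFunction_coe χ y t]
        exact hχ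
      · obtain ⟨j, hj⟩ := hx
        obtain ⟨i, -, hi⟩ := (Nat.dvd_prime_pow (Fact.out : p.Prime)).1 (orderOf_dvd_of_pow_eq_one hj)
        have hi0 : i ≠ 0 := fun h => hxO (by
          rw [orderOf_eq_one_iff.mp (show orderOf x = 1 by rw [hi, h, pow_zero])]; exact one_mem _)
        obtain ⟨n, rfl⟩ := hxy
        exact (dvd_pow_self p hi0).trans (hi ▸ orderOf_dvd_of_mem_zpowers (Subgroup.zpow_mem _ (Subgroup.mem_zpowers y) n))
    exact hmem
  exact ConjClasses.mk_eq_mk_iff_isConj.mp ((key g hg).trans (key g' hg').symm)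

end Cfsg.Agent.S4997
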