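import Cfsg.Statements.S5052
import Cfsg.Agent.RootInvolutions.NoSuzuki99.RootGroup

set_option autoImplicit false
open Cfsg

namespace Cfsg.Agent.S5052

/-- Let G be a finite group with O₂(G) = 1 and trivial centre, generated by a class D of odd transpositions whose commuting graph is connected, with some product of two different commuting members again in D. Then for each d ∈ D the members of D with the same commuting members as d, together with 1, form a subgroup E(d); and for every x ∈ D with dx of odd order greater than 1, the subgroup generated by E(d) and x is isomorphic to L₂(q) where q is the order of E(d). -/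
theorem result {G : Type*} [Group G] [Finite G] {D : Set G} (hD : Cfsg.IsOddTranspositionSet D) (hcl : Cfsg.IsRootInvolutionClass D)
    (hO : Cfsg.pCore 2 G = ⊥) (hZ : Subgroup.center G = ⊥) (hDD : (D ∩ Cfsg.commutingProducts D).Nonempty)
    (hc : Cfsg.IsConnectedSet (Cfsg.CommAdj D) D) {d : G} (hd : d ∈ D) :
    (Cfsg.sameCommutingSubgroup D d : Set G) = Cfsg.sameCommutingClass D d ∪ {1} ∧
    ∀ x ∈ Cfsg.oddPartners D d, ∃ (F : Type) (_ : Field F) (_ : Fintype F),
      Fintype.card F = Nat.card ↥(Cfsg.sameCommutingSubgroup D d) ∧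
      Nonempty (↥(Subgroup.closure (Cfsg.sameCommutingClass D d ∪ {x})) ≃* Matrix.ProjectiveSpecialLinearGroup (Fin 2) F) := by
  obtain ⟨p, hp, a, ha, b, hb, -, -, rfl⟩ := hDD
  have hl : CfsgLib.RootInv.Line D a b := ⟨ha, hb, hp⟩
  have hcx : CfsgLib.RootInv99.Cx D := ⟨hD, hcl.2.2, ⟨a, b, hl⟩, hc,
    CfsgLib.RootInv99.simple_of_core_center hD hcl.2.2 hl hO hZ, CfsgLib.RootInv99.ind_all _⟩
  refine ⟨?_, fun x hx => ?_⟩
  · obtain ⟨x, hx⟩ := hcx.exists_partner hd
    ext e
    constructor
    · intro he
      by_cases he1 : e = 1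
      · exact Or.inr he1
      · exact Or.inl (CfsgLib.RootInv99.mem_twins_of_mem_closure hD hcl.2.2 hl hd hx hO he he1)
    · rintro (he | he)
      · exact Subgroup.subset_closure he
      · rw [Set.mem_singleton_iff.1 he]; exact one_mem _
  · exact CfsgLib.RootInv99.span_iso hcx hd hx
      (CfsgLib.RootInv99.ind_all (Nat.card G + 1) G (Nat.lt_succ_self _) D hD hcl.2.2 ⟨a, b, hl⟩ hc d
        hd x hx)

end Cfsg.Agent.S5052
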