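import Cfsg.Statements.S5124
import Cfsg.Agent.Fus.Focal

set_option autoImplicit false
open Cfsg

namespace Cfsg.Agent.S5124


/-- In a saturated fusion system over a finite p-group S the hyperfocal subgroup is strongly closed in the system. -/
theorem result {Ω : Type*} [Group Ω] {S : Subgroup Ω} [Finite S] (p : ℕ) [Fact p.Prime] (hS : IsPGroup p S) (F : Cfsg.FusionSystem S) (hF : F.IsSaturated p) : F.StronglyClosed (F.hyperfocalSubgroup p) := by
  set H := F.hyperfocalSubgroup p with hH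
  have hHS : H ≤ S := CfsgLib.Fus.hyperfocalSubgroup_le_S F
  have hN : S ≤ Subgroup.normalizer (H : Set Ω) := CfsgLib.Fus.le_normalizer_hyperfocal F
  refine ⟨hHS, fun P hP φ hφ x => ?_⟩
  refine (CfsgLib.Fusion.Alperin.hom_induction hS hF
    (C := fun P φ => ∀ x : P, (x : Ω) ∈ H ↔ φ x ∈ H) ?_ (fun hPQ ψ _ h x => h (Subgroup.inclusion hPQ x))
    ?_ ?_ hφ x).1 (hP x.2)
  · intro R hR α hα
    have hRS := hR.fullyNormalized.1
    have := CfsgLib.Fus.finite_of_le hRS
    have := CfsgLib.Fus.finite_mulAut R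
    let D : Subgroup (F.autGroup R) :=
      { carrier := {β | ∀ x : R, (x : Ω) ∈ H ↔ (((β : MulAut R) x : R) : Ω) ∈ H}
        one_mem' := fun x => Iff.rfl
        mul_mem' := fun {a b} ha hb x => (hb x).trans (ha ((b : MulAut R) x))
        inv_mem' := fun {a} ha x => by
          have h := (ha ((a : MulAut R)⁻¹ x)).symm
          rw [MulAut.inv_apply, MulEquiv.apply_symm_apply] at h
          exact h }
    suffices D = ⊤ from (this.symm ▸ Subgroup.mem_top (⟨α, hα⟩ : F.autGroup R) :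
      (⟨α, hα⟩ : F.autGroup R) ∈ D)
    obtain ⟨-, T, hT⟩ := (CfsgLib.Fus.fullyNormalized_props hS hF hR.fullyNormalized).1
    rw [← top_le_iff, ← CfsgLib.LocalCharP.pResidual_sup_sylow T]
    refine sup_le (fun β hβ y => ?_) (fun β hβ y => ?_)
    · have hy : (y : Ω)⁻¹ * (((β : MulAut R) y : R) : Ω) ∈ H :=
        Subgroup.subset_closure ⟨R, β, y, hRS, hβ, rfl⟩
      constructor
      · intro h
        simpa using H.mul_mem h hy
      · intro h
        simpa using H.mul_mem h (H.inv_mem hy)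
    · rw [hT] at hβ
      obtain ⟨g, hg, hgx⟩ := CfsgLib.Fus.mem_autInducedBy_iff.1 (hβ : (β : MulAut R) ∈ _)
      rw [hgx]
      exact Subgroup.mem_normalizer_iff.1 (hN hg) y
  · intro P Q φ ψ _ _ h hφ hψ x
    exact (hφ x).trans (hψ ⟨φ x, h x⟩)
  · intro P Q φ ψ _ _ hr hψφ h y
    obtain ⟨x, hx⟩ : (y : Ω) ∈ φ.range := by rw [hr]; exact y.2
    have e : y = ⟨φ x, hx.symm ▸ y.2⟩ := Subtype.ext hx.symm
    rw [e, hψφ]
    exact (h x).symm

end Cfsg.Agent.S5124
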