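import Cfsg.Statements.S5178
import Cfsg.Agent.Fus.DerivedPrime.Centre
import Cfsg.Agent.PGroup.Extraspecial

set_option autoImplicit false
universe u
open Cfsg

namespace Cfsg.Agent.S5178

open scoped commutatorElement

/-- Let p be an odd prime, S a finite p-group containing an extraspecial subgroup Q of index p, and F a saturated fusion system over S whose largest subgroup normal in F is trivial. Then the centre of S equals the centre of Q. -/
theorem result {Ω : Type u} [Group Ω] {S : Subgroup Ω} [Finite S] (p : ℕ) [Fact p.Prime] (hp : Odd p) (hS : IsPGroup p S)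
    (Q : Subgroup Ω) (hQS : Q ≤ S) (hQ : Cfsg.IsExtraspecial p ↥Q) (hQi : (Q.subgroupOf S).index = p)
    (F : Cfsg.FusionSystem S) (hF : F.IsSaturated p) (hO : F.core = ⊥) :
    S ⊓ Subgroup.centralizer (S : Set Ω) = Q ⊓ Subgroup.centralizer (Q : Set Ω) := by
  classical
  have hp2 : p ≠ 2 := fun h => by subst h; exact absurd hp (by decide)
  haveI : Finite Q := Finite.of_injective _ (Subgroup.inclusion_injective hQS)
  obtain ⟨⟨c, hc0⟩, hc1'⟩ : ∃ c : Subgroup.center Q, c ≠ 1 := by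
    haveI : Nontrivial (Subgroup.center Q) := Finite.one_lt_card_iff_nontrivial.1 (by
      rw [hQ.2]; exact (Fact.out : p.Prime).one_lt)
    exact exists_ne 1
  have hc1 : c ≠ 1 := fun h => hc1' (Subtype.ext h)
  have hzc : Subgroup.zpowers c = Subgroup.center Q := by
    refine Subgroup.eq_of_le_of_card_ge (Subgroup.zpowers_le.2 hc0) ?_
    rw [hQ.2, Nat.card_zpowers]
    have h := Subgroup.orderOf_dvd_natCard _ hc0
    rw [hQ.2] at h
    rcases (Nat.dvd_prime Fact.out).1 h with h | h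
    · exact absurd (orderOf_eq_one_iff.1 h) hc1
    · exact h.ge
  have hcp : c ^ p = 1 := by
    have h := Subgroup.orderOf_dvd_natCard _ hc0
    rw [hQ.2] at h
    exact orderOf_dvd_iff_pow_eq_one.1 h
  have hQc : Q ⊓ Subgroup.centralizer (Q : Set Ω) = Subgroup.zpowers (c : Ω) := by
    ext x
    constructor
    · rintro ⟨hx, hxc⟩
      have h : (⟨x, hx⟩ : Q) ∈ Subgroup.zpowers c := hzc ▸ Subgroup.mem_center_iff.2 fun y =>
        Subtype.ext (Subgroup.mem_centralizer_iff.1 hxc y y.2)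
      obtain ⟨i, hi⟩ := h
      exact ⟨i, by simpa using congrArg Subtype.val hi⟩
    · rintro ⟨i, rfl⟩
      show (c : Ω) ^ i ∈ _
      have h : c ^ i ∈ Subgroup.center Q := hzc ▸ Subgroup.zpow_mem_zpowers c i
      exact ⟨by simpa using (c ^ i).2, Subgroup.mem_centralizer_iff.2 fun y hy => by
        simpa using congrArg Subtype.val (Subgroup.mem_center_iff.1 h ⟨y, hy⟩)⟩
  -- `Q` is normal in `S`, so its centre is central in `S`
  have hQm : IsCoatom (Q.subgroupOf S) := CfsgLib.PGroup.isCoatom_of_index_eq hQi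
  haveI hQn : (Q.subgroupOf S).Normal := CfsgLib.PGroup.normal_of_coatom hS hQm
  have hcS : ∀ g ∈ S, g * (c : Ω) = (c : Ω) * g := by
    haveI : Finite (Q.subgroupOf S) := inferInstance
    have hN : (Subgroup.center (Q.subgroupOf S)).map (Q.subgroupOf S).subtype ≤ Subgroup.center S := by
      haveI : ((Subgroup.center (Q.subgroupOf S)).map (Q.subgroupOf S).subtype).Normal :=
        ConjAct.normal_of_characteristic_of_normal
      refine CfsgLib.PGroup.le_center_of_card_eq hS _ ?_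
      rw [Subgroup.card_map_of_injective (Q.subgroupOf S).subtype_injective,
        Nat.card_congr (Subgroup.centerCongr (Subgroup.subgroupOfEquivOfLe hQS)).toEquiv, hQ.2]
    intro g hg
    have h := hN ⟨(Subgroup.subgroupOfEquivOfLe hQS).symm c, Subgroup.mem_center_iff.2 fun y => by
      apply (Subgroup.subgroupOfEquivOfLe hQS).injective
      rw [map_mul, map_mul, MulEquiv.apply_symm_apply]
      exact Subgroup.mem_center_iff.1 hc0 _, rfl⟩
    exact congrArg Subtype.val (Subgroup.mem_center_iff.1 h ⟨g, hg⟩)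
  rw [hQc]
  refine le_antisymm ?_ ?_
  · intro x hx
    by_cases hxQ : x ∈ Q
    · rw [← hQc]
      exact ⟨hxQ, Subgroup.centralizer_le hQS hx.2⟩
    have hxc : ∀ g ∈ S, g * x = x * g := fun g hg => Subgroup.mem_centralizer_iff.1 hx.2 g hg
    have htop : Q.subgroupOf S ⊔ Subgroup.zpowers (⟨x, hx.1⟩ : S) = ⊤ := by
      refine (hQm.le_iff.1 le_sup_left).resolve_right fun h => hxQ ?_
      exact (h ▸ Subgroup.mem_sup_right (Subgroup.mem_zpowers _) : (⟨x, hx.1⟩ : S) ∈ Q.subgroupOf S)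
    have hdec : ∀ g ∈ S, ∃ q ∈ Q, ∃ i : ℤ, g = q * x ^ i := by
      intro g hg
      obtain ⟨q, hq, _, ⟨i, rfl⟩, e⟩ := Subgroup.mem_sup_of_normal_left.1
        (htop.symm ▸ Subgroup.mem_top (⟨g, hg⟩ : S) :
          (⟨g, hg⟩ : S) ∈ Q.subgroupOf S ⊔ Subgroup.zpowers (⟨x, hx.1⟩ : S))
      exact ⟨q, hq, i, by simpa using (congrArg Subtype.val e).symm⟩
    have hS1 : S ≠ ⊥ := fun h => hc1 (Subtype.ext (Subgroup.mem_bot.1 (h ▸ hQS c.2)))
    refine CfsgLib.Fus.DerivedPrime.centre_le_zpowers hS hF hp2 hS1 hO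
      (CfsgLib.CenterIndexSq.mem_centre.2 ⟨hQS c.2, hcS⟩) (fun h => hc1 (Subtype.ext h))
      (by simpa using congrArg Subtype.val hcp) (fun g hg y hy => ?_)
      (CfsgLib.CenterIndexSq.mem_centre.2 ⟨hx.1, hxc⟩)
    obtain ⟨q, hq, i, rfl⟩ := hdec g hg
    obtain ⟨r, hr, j, rfl⟩ := hdec y hy
    have hcm : ∀ {a : Ω}, a ∈ S → ∀ k : ℤ, Commute a (x ^ k) := fun ha k =>
      (show Commute _ x from hxc _ ha).zpow_right k
    have e : ⁅q * x ^ i, r * x ^ j⁆ = ⁅q, r⁆ := by
      have h1 := hcm (hQS hr) i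
      have h2 := hcm (hQS hq) j
      have h3 := hcm (hQS hr) j
      have h4 := hcm (hQS hq) i
      rw [commutatorElement_def, commutatorElement_def, mul_inv_rev, mul_inv_rev]
      calc q * x ^ i * (r * x ^ j) * ((x ^ i)⁻¹ * q⁻¹) * ((x ^ j)⁻¹ * r⁻¹)
          = q * (x ^ i * r) * x ^ j * (x ^ i)⁻¹ * (q⁻¹ * (x ^ j)⁻¹) * r⁻¹ := by group
        _ = q * (r * x ^ i) * x ^ j * (x ^ i)⁻¹ * ((x ^ j)⁻¹ * q⁻¹) * r⁻¹ := by
            rw [h1.eq, (h2.inv_inv).eq]
        _ = _ := by group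
    rw [e]
    have h : ⁅(⟨q, hq⟩ : Q), ⟨r, hr⟩⁆ ∈ Subgroup.zpowers c :=
      hzc ▸ CfsgLib.PGroup.extraspecial_comm_mem hQ _ _
    obtain ⟨k, hk⟩ := h
    exact ⟨k, by simpa [commutatorElement_def] using congrArg Subtype.val hk⟩
  · rw [Subgroup.zpowers_le]
    exact ⟨hQS c.2, Subgroup.mem_centralizer_iff.2 hcS⟩

end Cfsg.Agent.S5178
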