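import Cfsg.Statements.S5179
import Cfsg.Agent.Fus.DerivedPrime.Centre
import Cfsg.Agent.PGroup.Extraspecial

set_option autoImplicit false
universe u
open Cfsg

namespace Cfsg.Agent.S5179

open scoped commutatorElement

/-- Let p be an odd prime, S a finite p-group of order at least p⁶ containing an extraspecial subgroup Q of index p, and F a saturated fusion system over S whose largest subgroup normal in F is trivial. Then no proper subgroup of Q is essential in F: an essential subgroup of F contained in Q equals Q. -/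
theorem result {Ω : Type u} [Group Ω] {S : Subgroup Ω} [Finite S] (p : ℕ) [Fact p.Prime] (hp : Odd p) (hS : IsPGroup p S)
    (Q : Subgroup Ω) (hQS : Q ≤ S) (hQ : Cfsg.IsExtraspecial p ↥Q) (hQi : (Q.subgroupOf S).index = p)
    (h6 : p ^ 6 ≤ Nat.card S)
    (F : Cfsg.FusionSystem S) (hF : F.IsSaturated p) (hO : F.core = ⊥)
    (E : Subgroup Ω) (hEQ : E ≤ Q) (hE : F.IsEssential p E) : E = Q := by
  classical
  haveI : Finite Q := Finite.of_injective _ (Subgroup.inclusion_injective hQS)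
  obtain ⟨⟨c, hc0⟩, hc1'⟩ : ∃ c : Subgroup.center Q, c ≠ 1 := by
    haveI : Nontrivial (Subgroup.center Q) := Finite.one_lt_card_iff_nontrivial.1 (by
      rw [hQ.2]; exact (Fact.out : p.Prime).one_lt)
    exact exists_ne 1
  have hc1 : c ≠ 1 := fun h => hc1' (Subtype.ext h)
  have hzc : Subgroup.zpowers c = Subgroup.center Q := by
    refine Subgroup.eq_of_le_of_card_ge (Subgroup.zpowers_le.2 hc0) ?_
    rw [hQ.2, Nat.card_zpowers]
    have h := Subgroup.orderOf_dvd_natCard _ hc0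
    rw [hQ.2] at h
    rcases (Nat.dvd_prime Fact.out).1 h with h | h
    · exact absurd (orderOf_eq_one_iff.1 h) hc1
    · exact h.ge
  have hcp : c ^ p = 1 := by
    have h := Subgroup.orderOf_dvd_natCard _ hc0
    rw [hQ.2] at h
    exact orderOf_dvd_iff_pow_eq_one.1 h
  have hQc : Q ⊓ Subgroup.centralizer (Q : Set Ω) = Subgroup.zpowers (c : Ω) := by
    ext x
    constructor
    · rintro ⟨hx, hxc⟩
      have h : (⟨x, hx⟩ : Q) ∈ Subgroup.zpowers c := hzc ▸ Subgroup.mem_center_iff.2 fun y =>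
        Subtype.ext (Subgroup.mem_centralizer_iff.1 hxc y y.2)
      obtain ⟨i, hi⟩ := h
      exact ⟨i, by simpa using congrArg Subtype.val hi⟩
    · rintro ⟨i, rfl⟩
      show (c : Ω) ^ i ∈ _
      have h : c ^ i ∈ Subgroup.center Q := hzc ▸ Subgroup.zpow_mem_zpowers c i
      exact ⟨by simpa using (c ^ i).2, Subgroup.mem_centralizer_iff.2 fun y hy => by
        simpa using congrArg Subtype.val (Subgroup.mem_center_iff.1 h ⟨y, hy⟩)⟩
  -- `Q` is normal in `S`, so its centre is central in `S`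
  have hQm : IsCoatom (Q.subgroupOf S) := CfsgLib.PGroup.isCoatom_of_index_eq hQi
  haveI hQn : (Q.subgroupOf S).Normal := CfsgLib.PGroup.normal_of_coatom hS hQm
  have hcS : ∀ g ∈ S, g * (c : Ω) = (c : Ω) * g := by
    haveI : Finite (Q.subgroupOf S) := inferInstance
    have hN : (Subgroup.center (Q.subgroupOf S)).map (Q.subgroupOf S).subtype ≤ Subgroup.center S := by
      haveI : ((Subgroup.center (Q.subgroupOf S)).map (Q.subgroupOf S).subtype).Normal :=
        ConjAct.normal_of_characteristic_of_normal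
      refine CfsgLib.PGroup.le_center_of_card_eq hS _ ?_
      rw [Subgroup.card_map_of_injective (Q.subgroupOf S).subtype_injective,
        Nat.card_congr (Subgroup.centerCongr (Subgroup.subgroupOfEquivOfLe hQS)).toEquiv, hQ.2]
    intro g hg
    have h := hN ⟨(Subgroup.subgroupOfEquivOfLe hQS).symm c, Subgroup.mem_center_iff.2 fun y => by
      apply (Subgroup.subgroupOfEquivOfLe hQS).injective
      rw [map_mul, map_mul, MulEquiv.apply_symm_apply]
      exact Subgroup.mem_center_iff.1 hc0 _, rfl⟩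
    exact congrArg Subtype.val (Subgroup.mem_center_iff.1 h ⟨g, hg⟩)
  have hQp : IsPGroup p Q := hS.to_le hQS
  obtain ⟨hEc, -, -⟩ := id hE
  have hES := hEc.1
  have hne : E ≠ S := fun h => by
    have h2 : (Q.subgroupOf S).index = 1 :=
      Subgroup.index_eq_one.2 (Subgroup.subgroupOf_eq_top.2 (h ▸ hEQ))
    rw [hQi] at h2
    exact (Fact.out : p.Prime).one_lt.ne' h2
  haveI : Finite E := Finite.of_injective _ (Subgroup.inclusion_injective hES)
  have hrad : F.IsRadical p E := by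
    exact CfsgLib.Fus.DerivedPrime.isRadical_of_essential hS hF hE
  have hcE : (c : Ω) ∈ E := CfsgLib.Fus.centralizerIn_le_of_centric hEc
    ⟨hQS c.2, fun y hy => hcS y (hES hy)⟩
  have hQQ : ∀ a ∈ Q, ∀ b ∈ Q, ⁅a, b⁆ ∈ Subgroup.zpowers (c : Ω) := by
    intro a ha b hb
    have h : ⁅(⟨a, ha⟩ : Q), ⟨b, hb⟩⁆ ∈ Subgroup.zpowers c :=
      hzc ▸ CfsgLib.PGroup.extraspecial_comm_mem hQ _ _
    obtain ⟨k, hk⟩ := h
    exact ⟨k, by simpa [commutatorElement_def] using congrArg Subtype.val hk⟩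
  have hcpΩ : (c : Ω) ^ p = 1 := by simpa using congrArg Subtype.val hcp
  have hshift : ∀ g ∈ Q, ∀ x ∈ E, x⁻¹ * (g * x * g⁻¹) ∈ Subgroup.zpowers (c : Ω) := fun g hg x hx => by
    rw [show x⁻¹ * (g * x * g⁻¹) = ⁅x⁻¹, g⁆ by rw [commutatorElement_def]; group]
    exact hQQ _ (Q.inv_mem (hEQ hx)) g hg
  have hnorm : ∀ g ∈ Q, g ∈ Cfsg.FusionSystem.normalizerIn S E := by
    have key : ∀ g ∈ Q, ∀ x ∈ E, g * x * g⁻¹ ∈ E := fun g hg x hx => by
      simpa using E.mul_mem hx ((Subgroup.zpowers_le.2 hcE) (hshift g hg x hx))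
    intro g hg
    refine ⟨hQS hg, Subgroup.mem_normalizer_iff.2 fun x => ⟨key g hg x, fun hx => ?_⟩⟩
    simpa [mul_assoc] using key g⁻¹ (Q.inv_mem hg) _ hx
  by_contra hEne
  obtain ⟨g, hg, hgE⟩ : ∃ g ∈ Q, g ∉ E := by
    by_contra h
    push Not at h
    exact hEne (le_antisymm hEQ h)
  have hcom : ∀ a b : E, a * b = b * a := by
    intro a b
    by_contra hab
    exact hgE (CfsgLib.Fus.DerivedPrime.mem_of_noncomm hS hEc hrad hcpΩ
      (fun a ha b hb => hQQ a (hEQ ha) b (hEQ hb)) hab (hnorm g hg) (hcS g (hQS hg)) (hshift g hg))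
  -- `Aut_Q(E)` is a group of transvections
  have hT : Nat.card (Cfsg.autInducedBy Q E) ≤ p := by
    refine CfsgLib.Fus.DerivedPrime.card_transvection_le hS hF hE hcom (c := ⟨c, hcE⟩)
      (Subtype.ext hcpΩ) ?_ (fun u hu => ?_) fun u hu k => ?_
    · intro u hu
      obtain ⟨x, hx, hxu⟩ := CfsgLib.Fus.mem_autInducedBy_iff.1 hu
      exact CfsgLib.Fus.mem_autInducedBy_iff.2 ⟨x, hQS hx, hxu⟩
    · obtain ⟨x, hx, hxu⟩ := CfsgLib.Fus.mem_autInducedBy_iff.1 hu
      refine Subtype.ext ?_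
      rw [hxu, hcS x (hQS hx), mul_inv_cancel_right]
    · obtain ⟨x, hx, hxu⟩ := CfsgLib.Fus.mem_autInducedBy_iff.1 hu
      obtain ⟨i, hi⟩ := hshift x hx k k.2
      refine ⟨i, Subtype.ext ?_⟩
      show (c : Ω) ^ i = (k : Ω)⁻¹ * ((u k : E) : Ω)
      rw [hxu]
      exact hi
  let f : Q →* Cfsg.autInducedBy Q E :=
    { toFun := fun x => ⟨CfsgLib.Fus.conjAut (hnorm x x.2).2, CfsgLib.Fus.conjAut_mem_autInducedBy _ x.2⟩
      map_one' := Subtype.ext (MulEquiv.ext fun k => Subtype.ext (by simp [CfsgLib.Fus.conjAut_apply]))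
      map_mul' := fun x y => Subtype.ext (MulEquiv.ext fun k => Subtype.ext (by
        simp only [Subgroup.coe_mul, MulAut.mul_apply, CfsgLib.Fus.conjAut_apply]; group)) }
  have hker : f.ker ≤ E.subgroupOf Q := fun x hx => by
    refine CfsgLib.Fus.centralizerIn_le_of_centric hEc ⟨hQS x.2, fun k hk => ?_⟩
    have h : (((f x : MulAut E) ⟨k, hk⟩ : E) : Ω) = k := by rw [MonoidHom.mem_ker.1 hx]; rfl
    rw [show (((f x : MulAut E) ⟨k, hk⟩ : E) : Ω) = (x : Ω) * k * (x : Ω)⁻¹ from rfl,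
      mul_inv_eq_iff_eq_mul] at h
    exact h.symm
  have hidx : (E.subgroupOf Q).index ≤ p := by
    refine le_trans (Nat.le_of_dvd (Nat.pos_of_ne_zero Subgroup.index_ne_zero_of_finite)
      (Subgroup.index_dvd_of_le hker)) ?_
    rw [Subgroup.index_ker]
    exact (Nat.card_le_card_of_injective _ Subtype.val_injective).trans hT
  -- so `Q` has order at most `p ^ 3`
  set g' : Q := ⟨g, hg⟩
  have hm : IsCoatom (E.subgroupOf Q) := by
    refine CfsgLib.PGroup.isCoatom_of_index_eq (p := p) ?_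
    obtain ⟨a, ha⟩ := hQp.index (E.subgroupOf Q)
    rw [ha] at hidx ⊢
    rcases Nat.eq_zero_or_pos a with rfl | h
    · exact absurd (show g' ∈ E.subgroupOf Q from (Subgroup.index_eq_one.1 (by rw [ha, pow_zero]) ▸
        Subgroup.mem_top g')) hgE
    · have : a ≤ 1 := (Nat.pow_le_pow_iff_right (Fact.out : p.Prime).one_lt).1 (hidx.trans (pow_one p).ge)
      rw [show a = 1 by omega, pow_one]
  have hK : E.subgroupOf Q ⊔ Subgroup.zpowers g' = ⊤ :=
    (hm.le_iff.1 le_sup_left).resolve_right fun h => hgE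
      (h ▸ Subgroup.mem_sup_right (Subgroup.mem_zpowers _) : g' ∈ E.subgroupOf Q)
  let d : E.subgroupOf Q →* Subgroup.center Q :=
    { toFun := fun k => ⟨⁅g', (k : Q)⁆, CfsgLib.PGroup.extraspecial_comm_mem hQ _ _⟩
      map_one' := Subtype.ext (commutatorElement_one_right g')
      map_mul' := fun a b => Subtype.ext (by
        show ⁅g', (a : Q) * (b : Q)⁆ = ⁅g', (a : Q)⁆ * ⁅g', (b : Q)⁆
        have h2 : Commute (a : Q) ⁅g', (b : Q)⁆ :=
          Subgroup.mem_center_iff.1 (CfsgLib.PGroup.extraspecial_comm_mem hQ _ _) _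
        calc ⁅g', (a : Q) * (b : Q)⁆
            = ⁅g', (a : Q)⁆ * ((a : Q) * ⁅g', (b : Q)⁆ * (a : Q)⁻¹) := by
              simp only [commutatorElement_def]; group
          _ = _ := by rw [h2.eq, mul_inv_cancel_right]) }
  have hdker : d.ker.map (E.subgroupOf Q).subtype ≤ Subgroup.center Q := by
    rintro _ ⟨k, hk, rfl⟩
    have hkg : g' * (k : Q) = (k : Q) * g' :=
      commutatorElement_eq_one_iff_mul_comm.1 (congrArg Subtype.val hk)
    refine Subgroup.mem_center_iff.2 fun x => ?_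
    have hle : (⊤ : Subgroup Q) ≤ Subgroup.centralizer {(k : Q)} := by
      rw [← hK]
      refine sup_le (fun w hw => Subgroup.mem_centralizer_singleton_iff.2 ?_)
        (Subgroup.zpowers_le.2 (Subgroup.mem_centralizer_singleton_iff.2 hkg))
      have e := congrArg (fun t : E => (t : Ω)) (hcom ⟨(w : Ω), hw⟩ ⟨((k : Q) : Ω), k.2⟩)
      exact Subtype.ext e
    exact Subgroup.mem_centralizer_singleton_iff.1 (hle (Subgroup.mem_top x))
  have hQ3 : Nat.card Q ≤ p * p * p := by
    rw [← Subgroup.card_mul_index (Subgroup.center Q), hQ.2, mul_assoc]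
    refine Nat.mul_le_mul_left _ (le_trans (Nat.le_of_dvd (Nat.pos_of_ne_zero
      Subgroup.index_ne_zero_of_finite) (Subgroup.index_dvd_of_le hdker)) ?_)
    rw [Subgroup.index_map_subtype]
    refine Nat.mul_le_mul ?_ hidx
    rw [Subgroup.index_ker, ← hQ.2]
    exact Nat.card_le_card_of_injective _ Subtype.val_injective
  have hScard : Nat.card S ≤ p ^ 4 := by
    rw [← Subgroup.card_mul_index (Q.subgroupOf S), hQi,
      Nat.card_congr (Subgroup.subgroupOfEquivOfLe hQS).toEquiv, show p ^ 4 = p * p * p * p by ring]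
    exact Nat.mul_le_mul_right _ hQ3
  have := (h6.trans hScard)
  rw [Nat.pow_le_pow_iff_right (Fact.out : p.Prime).one_lt] at this
  omega

end Cfsg.Agent.S5179
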