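import Cfsg.Statements.S5188
import Cfsg.Agent.Eq.Def_FusionSystem
import Cfsg.Agent.Eq.Def_Transfer
import Cfsg.Agent.Fus.Basic
import Cfsg.Agent.LocalCharP.StronglyEmbedded
import Cfsg.Agent.CharP.FrattiniElem

set_option autoImplicit false
set_option maxHeartbeats 400000
open Cfsg
universe u

namespace Cfsg.Agent.S5188
open scoped commutatorElement

variable {p : ℕ} [hp : Fact p.Prime] {H : Type*} [Group H]

/-- What an essential subgroup gives: `A` has no normal `p`-subgroup outside the inner automorphisms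
and some element of `p`-power order outside them. -/
def Good (p : ℕ) (A : Subgroup (MulAut H)) : Prop :=
  (∀ N : Subgroup A, N.Normal → IsPGroup p N → ∀ α ∈ N, (α : MulAut H) ∈ Cfsg.Inn H) ∧
    ∃ α : A, (∃ k, α ^ p ^ k = 1) ∧ (α : MulAut H) ∉ Cfsg.Inn H

theorem good_of_strongly {A : Subgroup (MulAut H)} [Finite A]
    [hn : ((Cfsg.Inn H).subgroupOf A).Normal]
    {E : Subgroup (A ⧸ (Cfsg.Inn H).subgroupOf A)} (hE : Cfsg.IsStronglyPEmbedded p E) :
    Good p A := by
  set π := QuotientGroup.mk' ((Cfsg.Inn H).subgroupOf A) with hπ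
  have hsurj := QuotientGroup.mk'_surjective ((Cfsg.Inn H).subgroupOf A)
  obtain ⟨P, -, hloc⟩ := CfsgLib.LocalCharP.exists_sylow_le hE
  obtain ⟨hdvd, hne, -⟩ := hE
  refine ⟨fun N hN hNp α hα => ?_, ?_⟩
  · set R := N.map π
    have hRn : R.Normal := hN.map π hsurj
    have hRp : IsPGroup p R := hNp.map π
    have hRP : R ≤ (P : Subgroup _) := by
      have := P.3 (IsPGroup.to_sup_of_normal_left hRp P.2) le_sup_right
      exact this ▸ le_sup_left
    have hR : R = ⊥ := by
      by_contra hR
      have hle := hloc R hRP hR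
      rw [Subgroup.normalizer_eq_top] at hle
      exact hne (top_le_iff.mp hle)
    have hm : π α ∈ R := ⟨α, hα, rfl⟩
    rw [hR, Subgroup.mem_bot] at hm
    exact (QuotientGroup.eq_one_iff α).mp hm
  · obtain ⟨q, hq⟩ := exists_prime_orderOf_dvd_card' (G := A ⧸ (Cfsg.Inn H).subgroupOf A) p hdvd
    obtain ⟨a, rfl⟩ := hsurj q
    obtain ⟨k, m, hm, hk⟩ := Nat.exists_eq_pow_mul_and_not_dvd (orderOf_pos a).ne' p hp.out.ne_one
    refine ⟨a ^ m, ⟨k, by rw [← pow_mul, mul_comm, ← hk, pow_orderOf_eq_one]⟩, fun h => hm ?_⟩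
    rw [← hq]
    refine orderOf_dvd_of_pow_eq_one ?_
    rw [← map_pow]
    exact (QuotientGroup.eq_one_iff _).mpr h

theorem frattini_mem [Finite H] (hH : IsPGroup p H) :
    (∀ x : H, x ^ p ∈ frattini H) ∧ ∀ x y : H, ⁅x, y⁆ ∈ frattini H := by
  have key : ∀ M : Subgroup H, IsCoatom M → (∀ x : H, x ^ p ∈ M) ∧ ∀ x y : H, ⁅x, y⁆ ∈ M := by
    intro M hM
    have hnil : Group.IsNilpotent H := hH.isNilpotent
    have hn : M.Normal :=
      ((Group.isNilpotent_of_finite_tfae (G := H)).out 0 2 rfl rfl).1 hnil M hM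
    have : Nontrivial (H ⧸ M) := QuotientGroup.nontrivial_iff.2 hM.1
    have hZ : Nontrivial (Subgroup.center (H ⧸ M)) := (hH.to_quotient M).center_nontrivial
    obtain ⟨n, hn0, hcard⟩ :=
      (((hH.to_quotient M).to_subgroup (Subgroup.center (H ⧸ M))).nontrivial_iff_card).mp hZ
    obtain ⟨z, hz⟩ :=
      exists_prime_orderOf_dvd_card' (G := Subgroup.center (H ⧸ M)) p (hcard ▸ dvd_pow_self p hn0.ne')
    have hzo : orderOf (z : H ⧸ M) = p := by rw [Subgroup.orderOf_coe, hz]
    have htop : (Subgroup.zpowers (z : H ⧸ M)).comap (QuotientGroup.mk' M) = ⊤ := by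
      refine hM.2 _ (lt_of_le_of_ne ?_ fun e => ?_)
      · intro x hx
        rw [Subgroup.mem_comap, QuotientGroup.mk'_apply, (QuotientGroup.eq_one_iff x).mpr hx]
        exact one_mem _
      · obtain ⟨g, hg⟩ := QuotientGroup.mk'_surjective M (z : H ⧸ M)
        have hgM : g ∈ M := by rw [e]; simp [hg]
        have : (z : H ⧸ M) = 1 := by rw [← hg]; exact (QuotientGroup.eq_one_iff g).mpr hgM
        rw [this, orderOf_one] at hzo
        exact hp.out.one_lt.ne hzo
    have hmem : ∀ x : H, ∃ i : ℤ, (x : H ⧸ M) = (z : H ⧸ M) ^ i := fun x => by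
      obtain ⟨i, hi⟩ := Subgroup.mem_zpowers_iff.mp (show (x : H ⧸ M) ∈ Subgroup.zpowers (z : H ⧸ M) from
        htop.ge (Subgroup.mem_top x))
      exact ⟨i, hi.symm⟩
    refine ⟨fun x => ?_, fun x y => ?_⟩
    · obtain ⟨i, hi⟩ := hmem x
      have h1 : (z : H ⧸ M) ^ (p : ℤ) = 1 := by rw [zpow_natCast, ← hzo, pow_orderOf_eq_one]
      rw [← QuotientGroup.eq_one_iff, QuotientGroup.mk_pow, hi, ← zpow_natCast, ← zpow_mul,
        mul_comm, zpow_mul, h1, one_zpow]
    · obtain ⟨i, hi⟩ := hmem x
      obtain ⟨j, hj⟩ := hmem y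
      rw [← QuotientGroup.eq_one_iff, ← QuotientGroup.mk'_apply, map_commutatorElement,
        commutatorElement_eq_one_iff_commute, QuotientGroup.mk'_apply, QuotientGroup.mk'_apply, hi, hj]
      exact (Commute.refl _).zpow_zpow i j
  constructor
  · intro x
    simp only [frattini, Order.radical, Subgroup.mem_iInf]
    exact fun M hM => (key M hM).1 x
  · intro x y
    simp only [frattini, Order.radical, Subgroup.mem_iInf]
    exact fun M hM => (key M hM).2 x y

theorem frattini_le [Finite H] (N : Subgroup H) [N.Normal] (hpow : ∀ x : H, x ^ p ∈ N)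
    (hcomm : ∀ x y : H, ⁅x, y⁆ ∈ N) : frattini H ≤ N := by
  have h := CfsgLib.CharP.frattini_le_ker_of_elementary (QuotientGroup.mk' N) (fun a b => by
    rw [← commutatorElement_eq_one_iff_commute, ← map_commutatorElement]
    exact (QuotientGroup.eq_one_iff _).mpr (hcomm a b)) (fun a => by
    rw [← map_pow]; exact (QuotientGroup.eq_one_iff _).mpr (hpow a))
  rwa [QuotientGroup.ker_mk'] at h

theorem map_mem_frattini (α : MulAut H) {x : H} (hx : x ∈ frattini H) : α x ∈ frattini H := by
  have h := Subgroup.characteristic_iff_map_le.mp (frattini_characteristic (G := H)) α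
  exact h ⟨x, hx, rfl⟩

theorem card_sup_zpowers [Finite H] (N : Subgroup H) [N.Normal] {g : H} (hg : g ∉ N)
    (hgp : g ^ p ∈ N) : Nat.card ↥(N ⊔ Subgroup.zpowers g) = p * Nat.card N := by
  set π := QuotientGroup.mk' N
  have hK : N ⊔ Subgroup.zpowers g = (Subgroup.zpowers (π g)).comap π := by
    rw [← MonoidHom.map_zpowers, Subgroup.comap_map_eq, QuotientGroup.ker_mk', sup_comm]
  have ho : orderOf (π g) = p :=
    orderOf_eq_prime (by rw [← map_pow]; exact (QuotientGroup.eq_one_iff _).mpr hgp)
      (fun h => hg ((QuotientGroup.eq_one_iff _).mp h))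
  have h1 := Subgroup.card_mul_index (N ⊔ Subgroup.zpowers g)
  rw [show (N ⊔ Subgroup.zpowers g).index = (Subgroup.zpowers (π g)).index by
    rw [hK, Subgroup.index_comap_of_surjective _ (QuotientGroup.mk'_surjective N)]] at h1
  have h2 := Subgroup.card_mul_index (Subgroup.zpowers (π g))
  rw [Nat.card_zpowers, ho] at h2
  have h3 := Subgroup.card_eq_card_quotient_mul_card_subgroup N
  rw [← h1, ← h2] at h3
  have hpos : 0 < (Subgroup.zpowers (π g)).index := Nat.pos_of_ne_zero Subgroup.index_ne_zero_of_finite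
  exact Nat.eq_of_mul_eq_mul_right hpos (h3.trans (mul_right_comm _ _ _))

/-- A strict inclusion with index exactly `p` is filled by any element outside. -/
theorem eq_sup_zpowers [Finite H] {N M : Subgroup H} [N.Normal] (hNM : N ≤ M)
    (hcard : Nat.card M = p * Nat.card N) {g : H} (hgM : g ∈ M) (hg : g ∉ N) :
    g ^ p ∈ N ∧ M = N ⊔ Subgroup.zpowers g := by
  have hgp : g ^ p ∈ N := by
    have hq : Nat.card (↥M ⧸ N.subgroupOf M) = p := by
      have h := Subgroup.card_eq_card_quotient_mul_card_subgroup (N.subgroupOf M)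
      rw [Nat.card_congr (Subgroup.subgroupOfEquivOfLe hNM).toEquiv, hcard] at h
      exact (Nat.eq_of_mul_eq_mul_right Nat.card_pos h).symm
    have h1 : ((⟨g, hgM⟩ : M) : ↥M ⧸ N.subgroupOf M) ^ p = 1 := by
      conv_lhs => rw [← hq]
      exact pow_card_eq_one'
    rw [← QuotientGroup.mk_pow, QuotientGroup.eq_one_iff] at h1
    exact Subgroup.mem_subgroupOf.mp h1
  refine ⟨hgp, (Subgroup.eq_of_le_of_card_ge ?_ ?_).symm⟩
  · exact sup_le hNM (Subgroup.zpowers_le.mpr hgM)
  · rw [card_sup_zpowers N hg hgp, hcard]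

/-- `p`-elements fix every factor of order `p`. -/
theorem factor_fixed [Finite H] {N M : Subgroup H} [N.Normal] (hNM : N ≤ M)
    (hcard : Nat.card M ∣ p * Nat.card N) (α : MulAut H) (hM : ∀ x ∈ M, α x ∈ M)
    (hN : ∀ x ∈ N, α x ∈ N) {k : ℕ} (hk : α ^ p ^ k = 1) : ∀ x ∈ M, x⁻¹ * α x ∈ N := by
  intro x hx
  by_cases hxN : x ∈ N
  · exact N.mul_mem (N.inv_mem hxN) (hN x hxN)
  have hge : p * Nat.card N ≤ Nat.card M := by
    obtain ⟨d, hd⟩ := Subgroup.card_dvd_of_le hNM
    rw [hd, mul_comm p] at hcard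
    have hdp := Nat.dvd_of_mul_dvd_mul_left Nat.card_pos hcard
    rcases (Nat.dvd_prime hp.out).mp hdp with rfl | rfl
    · rw [mul_one] at hd
      exact absurd ((Subgroup.eq_of_le_of_card_ge hNM hd.le) ▸ hx) hxN
    · rw [hd, mul_comm]
  have hcard' : Nat.card M = p * Nat.card N :=
    le_antisymm (Nat.le_of_dvd (Nat.mul_pos hp.out.pos Nat.card_pos) hcard) hge
  obtain ⟨hxp, hMeq⟩ := eq_sup_zpowers hNM hcard' hx hxN
  set π := QuotientGroup.mk' N
  have hxo : orderOf (π x) = p :=
    orderOf_eq_prime (by rw [← map_pow]; exact (QuotientGroup.eq_one_iff _).mpr hxp)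
      (fun h => hxN ((QuotientGroup.eq_one_iff _).mp h))
  have hwell : ∀ y y' : H, π y = π y' → π (α y) = π (α y') := by
    intro y y' h
    refine (QuotientGroup.eq (s := N)).mpr ?_
    rw [← map_inv, ← map_mul]
    exact hN _ ((QuotientGroup.eq (s := N)).mp h)
  obtain ⟨r, hr⟩ : ∃ r : ℤ, π (α x) = π x ^ r := by
    have h1 := hM x hx
    rw [hMeq, Subgroup.mem_sup_of_normal_left] at h1
    obtain ⟨n, hn, w, ⟨r, rfl⟩, hw⟩ := h1
    refine ⟨r, ?_⟩
    rw [← hw, map_mul, map_zpow, show π n = 1 from (QuotientGroup.eq_one_iff n).mpr hn, one_mul]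
  have hit : ∀ j : ℕ, π ((α ^ j) x) = π x ^ (r ^ j) := by
    intro j
    induction j with
    | zero => simp
    | succ j ih =>
      rw [pow_succ', MulAut.mul_apply, hwell ((α ^ j) x) (x ^ (r ^ j)) (by rw [ih, map_zpow]),
        map_zpow, map_zpow, hr, ← zpow_mul, pow_succ']
  have h1 : π x ^ (r ^ p ^ k - 1) = 1 := by
    rw [zpow_sub_one, ← hit, hk, MulAut.one_apply, mul_inv_cancel]
  have h2 : (p : ℤ) ∣ r ^ p ^ k - 1 := by
    have h := orderOf_dvd_iff_zpow_eq_one.mpr h1
    rwa [hxo] at h
  have h3 : (p : ℤ) ∣ r - 1 := by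
    rw [← ZMod.intCast_zmod_eq_zero_iff_dvd] at h2 ⊢
    push_cast [ZMod.pow_card_pow] at h2 ⊢
    exact h2
  have h4 : π x ^ r = π x := by
    obtain ⟨c, hc⟩ := h3
    rw [show r = (p : ℤ) * c + 1 by omega, zpow_add_one, zpow_mul, zpow_natCast, ← hxo,
      pow_orderOf_eq_one, one_zpow, one_mul]
  rw [← QuotientGroup.eq]
  exact (hr.trans h4).symm

/-- Automorphisms in `A` acting trivially on `M/N`. -/
def stab (A : Subgroup (MulAut H)) (M N : Subgroup H) (hM : ∀ α ∈ A, ∀ x ∈ M, α x ∈ M) :
    Subgroup A where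
  carrier := {α | ∀ x ∈ M, x⁻¹ * (α : MulAut H) x ∈ N}
  one_mem' := by simp
  mul_mem' := by
    intro a b ha hb x hx
    have h := N.mul_mem (hb x hx) (ha _ (hM _ b.2 x hx))
    simpa [mul_assoc] using h
  inv_mem' := by
    intro a ha x hx
    have h := N.inv_mem (ha _ (hM _ (A.inv_mem a.2) x hx))
    simpa [MulAut.inv_def] using h

theorem stab_normal {A : Subgroup (MulAut H)} {M N : Subgroup H}
    (hM : ∀ α ∈ A, ∀ x ∈ M, α x ∈ M) (hN : ∀ α ∈ A, ∀ x ∈ N, α x ∈ N) :
    (stab A M N hM).Normal := by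
  refine ⟨fun a ha g x hx => ?_⟩
  have h := hN _ g.2 _ (ha _ (hM _ (A.inv_mem g.2) x hx))
  simpa [MulAut.inv_def] using h

theorem exists_fixed_in_coset [Finite H] {q : ℕ} [Fact q.Prime] (hH : IsPGroup p H) (hpq : q ≠ p)
    {α : MulAut H} (hα : α ^ q = 1) (N : Subgroup H) (hN : ∀ x ∈ N, α x ∈ N) {x : H}
    (hx : x⁻¹ * α x ∈ N) : ∃ y : H, x⁻¹ * y ∈ N ∧ α y = y := by
  classical
  have hiff : ∀ y : H, x⁻¹ * y ∈ N ↔ x⁻¹ * α y ∈ N := by
    intro y
    have hf : ∀ y : H, x⁻¹ * y ∈ N → x⁻¹ * α y ∈ N := fun y hy => by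
      have := N.mul_mem hx (hN _ hy)
      rw [map_mul, map_inv, mul_assoc, mul_inv_cancel_left] at this
      exact this
    refine ⟨hf y, fun h => ?_⟩
    have : ∀ n, x⁻¹ * (α ^ (n + 1)) y ∈ N := by
      intro n
      induction n with
      | zero => simpa using h
      | succ n ih => rw [pow_succ', MulAut.mul_apply]; exact hf _ ih
    have h2 := this (q - 1)
    rwa [Nat.sub_add_cancel (Fact.out (p := q.Prime)).one_le, hα, MulAut.one_apply] at h2
  let σ : Equiv.Perm {y : H // x⁻¹ * y ∈ N} := Equiv.subtypeEquiv α.toEquiv hiff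
  have hσ : ∀ n : ℕ, ∀ y, (((σ ^ n) y : {y : H // x⁻¹ * y ∈ N}) : H) = (α ^ n) (y : H) := by
    intro n
    induction n with
    | zero => simp
    | succ n ih =>
      intro y
      rw [pow_succ', pow_succ', Equiv.Perm.mul_apply, MulAut.mul_apply, ← ih]
      rfl
  have : Fintype {y : H // x⁻¹ * y ∈ N} := Fintype.ofFinite _
  have hcard : Nat.card {y : H // x⁻¹ * y ∈ N} = Nat.card N :=
    Nat.card_congr (Equiv.subtypeEquiv (Equiv.mulLeft x⁻¹) fun y => Iff.rfl)
  obtain ⟨j, hj⟩ := IsPGroup.iff_card.mp (hH.to_subgroup N)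
  have hndvd : ¬ q ∣ Fintype.card {y : H // x⁻¹ * y ∈ N} := by
    rw [← Nat.card_eq_fintype_card, hcard, hj]
    intro h
    exact hpq ((Nat.prime_dvd_prime_iff_eq Fact.out hp.out).mp
      ((Fact.out (p := q.Prime)).dvd_of_dvd_pow h))
  obtain ⟨y, hy⟩ := Equiv.Perm.exists_fixed_point_of_prime (p := q) (n := 1) hndvd (σ := σ)
    (Equiv.ext fun y => Subtype.ext (by rw [pow_one, hσ, hα]; rfl))
  exact ⟨y, y.2, congrArg Subtype.val hy⟩

/-- The stabilizer of a three step chain down to the Frattini subgroup is a `p`-group. -/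
theorem isPGroup_stab [Finite H] (hH : IsPGroup p H) {A : Subgroup (MulAut H)} {Z M : Subgroup H}
    (hfZ : frattini H ≤ Z) (hZM : Z ≤ M)
    (hZ : ∀ α ∈ A, ∀ x ∈ Z, α x ∈ Z) (hM : ∀ α ∈ A, ∀ x ∈ M, α x ∈ M) :
    IsPGroup p ↥(stab A ⊤ M (fun _ _ _ _ => trivial) ⊓ stab A M Z hM ⊓ stab A Z (frattini H) hZ) := by
  have : Finite (MulAut H) := Finite.of_injective _ (DFunLike.coe_injective (F := MulAut H))
  set L := stab A ⊤ M (fun _ _ _ _ => trivial) ⊓ stab A M Z hM ⊓ stab A Z (frattini H) hZ
  refine IsPGroup.of_card (n := (Nat.card L).primeFactorsList.length)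
    (Nat.eq_prime_pow_of_unique_prime_dvd Nat.card_pos.ne' ?_)
  intro q hq hqd
  by_contra hqp
  have := Fact.mk hq
  obtain ⟨⟨⟨α, hαA⟩, hα⟩, hord⟩ := exists_prime_orderOf_dvd_card' (G := L) q hqd
  have hαq : α ^ q = 1 := by
    have h := pow_orderOf_eq_one (⟨⟨α, hαA⟩, hα⟩ : L)
    rw [hord] at h
    exact congrArg (fun a : L => ((a : A) : MulAut H)) h
  let C : Subgroup H := α.toMonoidHom.eqLocus (MonoidHom.id H)
  have step : ∀ (U T : Subgroup H), frattini H ≤ T → T ≤ C ⊔ frattini H →
      (∀ x ∈ T, α x ∈ T) → (∀ x ∈ U, x⁻¹ * α x ∈ T) → U ≤ C ⊔ frattini H := by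
    intro U T _ hTC hT hU x hx
    obtain ⟨y, hxy, hy⟩ := exists_fixed_in_coset hH hqp hαq T hT (hU x hx)
    have hxy' : x = y * (x⁻¹ * y)⁻¹ := by group
    rw [hxy']
    exact mul_mem (Subgroup.mem_sup_left hy) (inv_mem (hTC hxy))
  have h1 := step Z (frattini H) le_rfl le_sup_right (fun x hx => map_mem_frattini α hx) hα.2
  have h2 := step M Z hfZ h1 (hZ α hαA) hα.1.2
  have h3 := step ⊤ M (hfZ.trans hZM) h2 (hM α hαA) hα.1.1
  have hC : C = ⊤ := frattini_nongenerating (top_le_iff.mp h3)
  have hα1 : α = 1 := MulEquiv.ext fun x => (hC.ge (Subgroup.mem_top x) : α x = x)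
  subst hα1
  rw [show (⟨⟨1, hαA⟩, hα⟩ : L) = 1 from rfl, orderOf_one] at hord
  exact hq.one_lt.ne hord

/-- An invariant chain down to the Frattini subgroup with factors of order at most `p` is impossible. -/
theorem no_chain [Finite H] (hH : IsPGroup p H) {A : Subgroup (MulAut H)} (hA : Good p A)
    {Z M : Subgroup H} (hfZ : frattini H ≤ Z) (hZM : Z ≤ M)
    (hZ : ∀ α ∈ A, ∀ x ∈ Z, α x ∈ Z) (hM : ∀ α ∈ A, ∀ x ∈ M, α x ∈ M)
    (h1 : Nat.card Z ∣ p * Nat.card (frattini H)) (h2 : Nat.card M ∣ p * Nat.card Z)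
    (h3 : Nat.card H ∣ p * Nat.card M) : False := by
  obtain ⟨hN, ⟨α, hαA⟩, ⟨k, hk⟩, hα⟩ := hA
  have hk' : α ^ p ^ k = 1 := congrArg Subtype.val hk
  set L := stab A ⊤ M (fun _ _ _ _ => trivial) ⊓ stab A M Z hM ⊓ stab A Z (frattini H) hZ with hL
  have hLn : L.Normal := by
    have n1 := stab_normal (N := M) (M := ⊤) (fun _ _ _ _ => trivial) hM
    have n2 := stab_normal hM hZ
    have n3 := stab_normal hZ (fun α _ x hx => map_mem_frattini α hx)
    infer_instance
  have hnorm : ∀ T : Subgroup H, frattini H ≤ T → T.Normal := fun T hT => ⟨fun n hn g => by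
    have h := T.mul_mem (hT ((frattini_mem hH).2 g n)) hn
    simpa [commutatorElement_def, mul_assoc] using h⟩
  have := hnorm Z hfZ
  have := hnorm M (hfZ.trans hZM)
  have hc3 : Nat.card (⊤ : Subgroup H) ∣ p * Nat.card M := by rw [Subgroup.card_top]; exact h3
  have hαL : (⟨α, hαA⟩ : A) ∈ L := ⟨⟨
    factor_fixed le_top hc3 α (fun _ _ => trivial) (hM α hαA) hk',
    factor_fixed hZM h2 α (hM α hαA) (hZ α hαA) hk'⟩,
    factor_fixed hfZ h1 α (hZ α hαA) (fun x hx => map_mem_frattini α hx) hk'⟩
  exact hα (hN L hLn (isPGroup_stab hH hfZ hZM hZ hM) _ hαL)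

theorem mem_sup_zpowers_two (N : Subgroup H) [N.Normal] {g : H} (hg : g * g ∈ N) {x : H}
    (hx : x ∈ N ⊔ Subgroup.zpowers g) : x ∈ N ∨ ∃ n ∈ N, x = n * g := by
  obtain ⟨n, hn, _, ⟨i, rfl⟩, rfl⟩ := Subgroup.mem_sup_of_normal_left.mp hx
  rcases Int.even_or_odd i with ⟨j, rfl⟩ | ⟨j, rfl⟩
  · left
    refine N.mul_mem hn ?_
    show g ^ (j + j) ∈ N
    rw [zpow_add, ← (Commute.refl g).mul_zpow]
    exact N.zpow_mem hg j
  · right
    refine ⟨n * g ^ (2 * j), N.mul_mem hn ?_, ?_⟩
    · rw [zpow_mul, zpow_two]; exact N.zpow_mem hg j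
    · show n * g ^ (2 * j + 1) = _
      rw [zpow_add_one, mul_assoc]

/-- A normal subgroup of order `p` of a finite `p`-group is central, relative form. -/
theorem commutator_mem_of_factor [Finite H] (hH : IsPGroup p H) {N M : Subgroup H} [N.Normal]
    [M.Normal] (hNM : N ≤ M) (hcard : Nat.card M ∣ p * Nat.card N) (g : H) {x : H} (hx : x ∈ M) :
    ⁅g, x⁆ ∈ N := by
  obtain ⟨k, hk⟩ := hH g
  have h := factor_fixed hNM hcard (MulAut.conj g) (fun y hy => Subgroup.Normal.conj_mem ‹_› y hy g)
    (fun y hy => Subgroup.Normal.conj_mem ‹_› y hy g) (k := k) (by rw [← map_pow, hk, map_one]) x hx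
  rw [MulAut.conj_apply] at h
  have h' := (inferInstance : N.Normal).conj_mem _ h x
  convert h' using 1
  rw [commutatorElement_def]
  group

theorem card_centralizer [Finite H] (hcardH : Nat.card H = p ^ 4) (hH : IsPGroup p H)
    {K : Subgroup H} (hK : K ≤ Subgroup.center H) (hKc : Nat.card K = p) {a : H}
    (ha : a ∉ Subgroup.center H) (hcomm : ∀ y : H, ⁅a, y⁆ ∈ K) :
    Nat.card (Subgroup.centralizer {a}) = p ^ 3 := by
  let f : H →* K :=
    { toFun := fun y => ⟨⁅a, y⁆, hcomm y⟩
      map_one' := Subtype.ext (by simp)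
      map_mul' := fun y z => Subtype.ext (by
        have hc : ∀ u : H, u * ⁅a, z⁆ = ⁅a, z⁆ * u := fun u =>
          Subgroup.mem_center_iff.mp (hK (hcomm z)) u
        show ⁅a, y * z⁆ = ⁅a, y⁆ * ⁅a, z⁆
        have e : ⁅a, y * z⁆ = ⁅a, y⁆ * (y * ⁅a, z⁆ * y⁻¹) := by
          simp only [commutatorElement_def]; group
        rw [e, hc y, mul_inv_cancel_right]) }
  have hker : f.ker = Subgroup.centralizer {a} := by
    ext y
    rw [MonoidHom.mem_ker, Subgroup.mem_centralizer_singleton_iff, ← Subtype.coe_inj]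
    show ⁅a, y⁆ = 1 ↔ _
    rw [commutatorElement_eq_one_iff_commute]
    exact ⟨fun h => h.symm, fun h => h.symm⟩
  have hne : Subgroup.centralizer {a} ≠ (⊤ : Subgroup H) := fun h => ha (by
    rw [Subgroup.mem_center_iff]
    intro y
    exact Subgroup.mem_centralizer_singleton_iff.mp (h.ge (Subgroup.mem_top y)))
  have hidx : f.ker.index ∣ p := by
    rw [Subgroup.index_ker, ← hKc]
    exact f.range.card_subgroup_dvd_card
  rw [hker] at hidx
  have hi : (Subgroup.centralizer {a}).index = p :=
    ((Nat.dvd_prime hp.out).mp hidx).resolve_left (fun h => hne (Subgroup.index_eq_one.mp h))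
  have h := Subgroup.card_mul_index (Subgroup.centralizer ({a} : Set H))
  rw [hi, hcardH, pow_succ] at h
  exact Nat.eq_of_mul_eq_mul_right hp.out.pos h

/-- Power formula in a group of class two. -/
theorem mul_pow_class_two {x y c : H} (hc : ∀ z : H, Commute c z) (hyx : y * x = c * (x * y)) :
    ∀ n : ℕ, (x * y) ^ n = c ^ n.choose 2 * (x ^ n * y ^ n) := by
  have hyn : ∀ n : ℕ, y ^ n * x = c ^ n * (x * y ^ n) := by
    intro n
    induction n with
    | zero => simp
    | succ n ih =>
      rw [pow_succ' y, mul_assoc, ih, ← mul_assoc y, ← ((hc y).pow_left n).eq, mul_assoc,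
        ← mul_assoc y x, hyx, pow_succ c]
      simp only [mul_assoc]
  intro n
  induction n with
  | zero => simp
  | succ n ih =>
    rw [pow_succ, ih]
    have e : c ^ n.choose 2 * (x ^ n * y ^ n) * (x * y) =
        c ^ n.choose 2 * (x ^ n * ((y ^ n * x) * y)) := by simp only [mul_assoc]
    rw [e, hyn, mul_assoc (c ^ n), ← mul_assoc (x ^ n), ← ((hc (x ^ n)).pow_left n).eq,
      Nat.choose_succ_succ, Nat.choose_one_right, add_comm n, pow_add c, pow_succ x, pow_succ y]
    simp only [mul_assoc]

/-- The homomorphism from `ℤ/n` sending `1` to an element killed by `n`. -/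
def zhom (n : ℕ) (g : H) (hg : g ^ n = 1) : Multiplicative (ZMod n) →* H :=
  AddMonoidHom.toMultiplicativeLeft (ZMod.lift n ⟨zmultiplesHom (Additive H) (Additive.ofMul g),
    (natCast_zsmul _ _).trans (congrArg Additive.ofMul hg)⟩)

theorem zhom_cast (n : ℕ) (g : H) (hg : g ^ n = 1) (i : ℤ) :
    zhom n g hg (Multiplicative.ofAdd (i : ZMod n)) = g ^ i := by
  simp [zhom]

theorem zhom_range (n : ℕ) (g : H) (hg : g ^ n = 1) : g ∈ (zhom n g hg).range :=
  ⟨Multiplicative.ofAdd ((1 : ℤ) : ZMod n), by rw [zhom_cast, zpow_one]⟩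

theorem commute_zhom (n : ℕ) (g : H) (hg : g ^ n = 1) {z : H} (h : Commute z g)
    (i : Multiplicative (ZMod n)) : Commute z (zhom n g hg i) := by
  obtain ⟨j, hj⟩ := ZMod.intCast_surjective (Multiplicative.toAdd i)
  rw [show i = Multiplicative.ofAdd (j : ZMod n) by rw [hj]; rfl, zhom_cast]
  exact h.zpow_right j
/-- Case `|Φ(H)| = p` with `H` abelian. -/
theorem d3_abelian [Finite H] (hH : IsPGroup p H) (hcard : Nat.card H = p ^ 4)
    (hphi : Nat.card (frattini H) = p) (hab : IsMulCommutative H) :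
    Nonempty (H ≃* Multiplicative (ZMod (p ^ 2) × ZMod p × ZMod p)) := by
  classical
  obtain ⟨hpow, -⟩ := frattini_mem hH
  have hcomm : ∀ a b : H, Commute a b := fun a b => hab.is_comm.comm a b
  have hnorm : ∀ T : Subgroup H, T.Normal := fun T =>
    ⟨fun n hn g => by rw [(hcomm g n).eq, mul_inv_cancel_right]; exact hn⟩
  let P : H →* H :=
    { toFun := fun x => x ^ p, map_one' := one_pow p, map_mul' := fun a b => (hcomm a b).mul_pow p }
  have := hnorm P.range
  have hrange : P.range = frattini H := by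
    refine le_antisymm (by rintro _ ⟨x, rfl⟩; exact hpow x) (frattini_le P.range (fun x => ⟨x, rfl⟩) ?_)
    intro a b
    rw [commutatorElement_eq_one_iff_commute.mpr (hcomm a b)]
    exact one_mem _
  have hker : Nat.card P.ker = p ^ 3 := by
    have h := Subgroup.card_mul_index P.ker
    rw [Subgroup.index_ker, hrange, hphi, hcard, pow_succ] at h
    exact Nat.eq_of_mul_eq_mul_right hp.out.pos h
  have hphip : ∀ w ∈ frattini H, w ^ p = 1 := fun w hw => by
    have := congrArg Subtype.val (pow_card_eq_one' (x := (⟨w, hw⟩ : frattini H)))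
    rwa [hphi] at this
  obtain ⟨x, hx⟩ : ∃ x, x ∉ P.ker := by
    by_contra h
    push Not at h
    have : P.ker = ⊤ := (Subgroup.eq_top_iff' _).mpr fun x => h x
    rw [this, Subgroup.card_top, hcard] at hker
    exact absurd ((Nat.pow_right_injective hp.out.two_le) hker) (by norm_num)
  have hxp : x ^ p ≠ 1 := hx
  have hFle : frattini H ≤ P.ker := fun w hw => hphip w hw
  have hex : ∀ T : Subgroup H, Nat.card T ≤ p ^ 2 → ∃ y ∈ P.ker, y ∉ T := fun T hT => by
    by_contra h
    push Not at h
    have := (Subgroup.card_le_of_le (show P.ker ≤ T from h)).trans hT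
    rw [hker] at this
    exact absurd ((Nat.pow_le_pow_iff_right hp.out.one_lt).mp this) (by norm_num)
  obtain ⟨y, hy, hyF⟩ := hex (frattini H) (by rw [hphi]; exact Nat.le_self_pow two_ne_zero p)
  have hT1 := card_sup_zpowers (frattini H) hyF (hpow y)
  rw [hphi, ← pow_two] at hT1
  obtain ⟨z, hz, hzT⟩ := hex (frattini H ⊔ Subgroup.zpowers y) hT1.le
  have := hnorm (frattini H ⊔ Subgroup.zpowers y)
  have hT2 := card_sup_zpowers (frattini H ⊔ Subgroup.zpowers y) hzT (Subgroup.mem_sup_left (hpow z))
  rw [hT1] at hT2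
  set T2 := frattini H ⊔ Subgroup.zpowers y ⊔ Subgroup.zpowers z
  have := hnorm T2
  have hxT : x ∉ T2 := fun h => hx ((sup_le (sup_le hFle (Subgroup.zpowers_le.mpr hy))
    (Subgroup.zpowers_le.mpr hz) : T2 ≤ P.ker) h)
  have hT3 := card_sup_zpowers T2 hxT (Subgroup.mem_sup_left (Subgroup.mem_sup_left (hpow x)))
  rw [hT2] at hT3
  have htop : T2 ⊔ Subgroup.zpowers x = ⊤ := by
    apply Subgroup.eq_top_of_card_eq
    rw [hT3, hcard]; ring
  have hx2 : x ^ (p ^ 2) = 1 := by rw [pow_two, pow_mul]; exact hphip _ (hpow x)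
  let fa : Multiplicative (ZMod (p ^ 2)) →* H := zhom (p ^ 2) x hx2
  let fb : Multiplicative (ZMod p) →* H := zhom p y hy
  let fc : Multiplicative (ZMod p) →* H := zhom p z hz
  let fbc := fb.noncommCoprod fc (fun _ _ => hcomm _ _)
  let fabc := fa.noncommCoprod fbc (fun _ _ => hcomm _ _)
  have hxR : x ∈ fabc.range := by
    obtain ⟨i, hi⟩ := zhom_range (p ^ 2) x hx2
    exact ⟨(i, 1), by simp [fabc, fbc, fa, hi]⟩
  have hyR : y ∈ fabc.range := by
    obtain ⟨i, hi⟩ := zhom_range p y hy
    exact ⟨(1, (i, 1)), by simp [fabc, fbc, fb, hi]⟩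
  have hzR : z ∈ fabc.range := by
    obtain ⟨i, hi⟩ := zhom_range p z hz
    exact ⟨(1, (1, i)), by simp [fabc, fbc, fc, hi]⟩
  have hsurj : fabc.range = ⊤ := by
    refine frattini_nongenerating (top_le_iff.mp ?_)
    rw [← htop]
    exact sup_le (sup_le (sup_le le_sup_right (Subgroup.zpowers_le.mpr (Subgroup.mem_sup_left hyR)))
      (Subgroup.zpowers_le.mpr (Subgroup.mem_sup_left hzR)))
      (Subgroup.zpowers_le.mpr (Subgroup.mem_sup_left hxR))
  have : NeZero (p ^ 2) := ⟨pow_ne_zero 2 hp.out.ne_zero⟩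
  have : NeZero p := ⟨hp.out.ne_zero⟩
  have hbij : Function.Bijective fabc := by
    rw [Nat.bijective_iff_surjective_and_card]
    refine ⟨MonoidHom.range_eq_top.mp hsurj, ?_⟩
    simp only [Nat.card_prod, Nat.card_congr Multiplicative.toAdd, Nat.card_zmod, hcard]
    ring
  let e1 : Multiplicative (ZMod (p ^ 2) × ZMod p × ZMod p) ≃*
      Multiplicative (ZMod (p ^ 2)) × (Multiplicative (ZMod p) × Multiplicative (ZMod p)) :=
    { toFun := fun t => (Multiplicative.ofAdd (Multiplicative.toAdd t).1,
        Multiplicative.ofAdd (Multiplicative.toAdd t).2.1, Multiplicative.ofAdd (Multiplicative.toAdd t).2.2)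
      invFun := fun t => Multiplicative.ofAdd
        (Multiplicative.toAdd t.1, Multiplicative.toAdd t.2.1, Multiplicative.toAdd t.2.2)
      left_inv := fun _ => rfl
      right_inv := fun _ => rfl
      map_mul' := fun _ _ => rfl }
  exact ⟨(e1.trans (MulEquiv.ofBijective fabc hbij)).symm⟩

/-- Case `|Φ(H)| = p²`: an invariant subgroup strictly between is impossible. -/
theorem d2_no_between [Finite H] (hH : IsPGroup p H) (hcard : Nat.card H = p ^ 4)
    (hphi : Nat.card (frattini H) = p ^ 2) {A : Subgroup (MulAut H)} (hA : Good p A) (M : Subgroup H)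
    (hinv : ∀ α ∈ A, ∀ x ∈ M, α x ∈ M) (hle : frattini H ≤ M) (h1 : M ≠ frattini H) (h2 : M ≠ ⊤) :
    False := by
  obtain ⟨j, hj⟩ := IsPGroup.iff_card.mp (hH.to_subgroup M)
  have hlt1 : Nat.card (frattini H) < Nat.card M :=
    lt_of_le_of_ne (Subgroup.card_le_of_le hle)
      (fun e => h1 (Subgroup.eq_of_le_of_card_ge hle e.ge).symm)
  have hlt2 : Nat.card M < Nat.card H :=
    lt_of_le_of_ne (Subgroup.card_le_card_group M) (fun e => h2 (Subgroup.eq_top_of_card_eq M e))
  rw [hphi, hj] at hlt1
  rw [hcard, hj] at hlt2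
  obtain rfl : j = 3 := by
    have := (Nat.pow_lt_pow_iff_right hp.out.one_lt).mp hlt1
    have := (Nat.pow_lt_pow_iff_right hp.out.one_lt).mp hlt2
    omega
  refine no_chain hH hA (le_refl _) hle (fun α _ x hx => map_mem_frattini α hx) hinv ?_ ?_ ?_
  · exact Dvd.intro_left p rfl
  · rw [hj, hphi]; exact dvd_of_eq (by ring)
  · rw [hj, hcard]; exact dvd_of_eq (by ring)

/-- Case `|Φ(H)| = p²` with `H` nonabelian: impossible. -/
theorem d2_nonabelian [Finite H] (hH : IsPGroup p H) (hcard : Nat.card H = p ^ 4)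
    (hphi : Nat.card (frattini H) = p ^ 2) {A : Subgroup (MulAut H)} (hA : Good p A)
    (hab : ¬ IsMulCommutative H) : False := by
  obtain ⟨hpow, hco⟩ := frattini_mem hH
  set Z := Subgroup.center H with hZdef
  have hZtop : Z ≠ ⊤ := fun h => hab ⟨⟨fun a b =>
    (Subgroup.mem_center_iff.mp (h.ge (Subgroup.mem_top a)) b).symm⟩⟩
  have hcent : ∀ (α : MulAut H), ∀ x ∈ Z, α x ∈ Z := by
    intro α x hx
    rw [Subgroup.mem_center_iff] at hx ⊢
    intro g
    obtain ⟨g', rfl⟩ := α.surjective g
    rw [← map_mul, hx, map_mul]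
  have hcZ : Z ≤ frattini H := by
    by_contra hnle
    refine d2_no_between hH hcard hphi hA (frattini H ⊔ Z) ?_ le_sup_left
      (fun e => hnle (e ▸ le_sup_right)) (fun e => hZtop (frattini_nongenerating (by rwa [sup_comm])))
    intro α _ x hx
    have hle : frattini H ⊔ Z ≤ (frattini H ⊔ Z).comap α.toMonoidHom :=
      sup_le (fun y hy => Subgroup.mem_sup_left (map_mem_frattini α hy))
        (fun y hy => Subgroup.mem_sup_right (hcent α y hy))
    exact hle hx
  have : Nontrivial H := Finite.one_lt_card_iff_nontrivial.mp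
    (hcard ▸ Nat.one_lt_pow (by norm_num) hp.out.one_lt)
  obtain ⟨n, hn0, hn⟩ := ((hH.to_subgroup Z).nontrivial_iff_card).mp hH.center_nontrivial
  have hn2 : n ≤ 2 := by
    have h := Subgroup.card_le_of_le hcZ
    rw [hphi, hn] at h
    exact (Nat.pow_le_pow_iff_right hp.out.one_lt).mp h
  rcases (by omega : n = 1 ∨ n = 2) with rfl | rfl
  · rw [pow_one] at hn
    obtain ⟨f, hf, hfZ⟩ : ∃ f ∈ frattini H, f ∉ Z := by
      by_contra h
      push Not at h
      have := Subgroup.card_le_of_le (show frattini H ≤ Z from h)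
      rw [hphi, hn] at this
      nlinarith [hp.out.two_le]
    have hdvd : Nat.card (frattini H) ∣ p * Nat.card Z := by rw [hphi, hn, pow_two]
    have hcf : ∀ y : H, ⁅f, y⁆ ∈ Z := fun y => by
      have h := Z.inv_mem (commutator_mem_of_factor hH hcZ hdvd y hf)
      rwa [commutatorElement_inv] at h
    have hC := card_centralizer hcard hH le_rfl hn hfZ hcf
    obtain ⟨-, hFeq⟩ := eq_sup_zpowers hcZ (by rw [hphi, hn, pow_two]) hf hfZ
    have hFC : Subgroup.centralizer (frattini H : Set H) = Subgroup.centralizer {f} := by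
      refine le_antisymm (Subgroup.centralizer_le (Set.singleton_subset_iff.mpr hf)) ?_
      rw [Subgroup.le_centralizer_iff, hFeq]
      refine sup_le (fun z hz => Subgroup.mem_centralizer_iff.mpr fun w _ => ?_) ?_
      · exact Subgroup.mem_center_iff.mp hz w
      · rw [Subgroup.zpowers_le, Subgroup.mem_centralizer_iff]
        intro w hw
        exact Subgroup.mem_centralizer_singleton_iff.mp hw
    refine d2_no_between hH hcard hphi hA (Subgroup.centralizer (frattini H : Set H)) ?_ ?_ ?_ ?_
    · intro α _ x hx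
      rw [Subgroup.mem_centralizer_iff] at hx ⊢
      intro w hw
      obtain ⟨w', rfl⟩ := α.surjective w
      have hw' : w' ∈ frattini H := by simpa using map_mem_frattini α⁻¹ hw
      rw [← map_mul, hx w' hw', map_mul]
    · rw [hFC]
      intro w hw
      rw [hFeq, Subgroup.mem_sup_of_normal_left] at hw
      obtain ⟨z, hz, _, ⟨i, rfl⟩, rfl⟩ := hw
      rw [Subgroup.mem_centralizer_singleton_iff]
      have h1 : Commute f z := Subgroup.mem_center_iff.mp hz f
      exact ((h1.mul_right ((Commute.refl f).zpow_right i)).eq).symm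
    · intro e
      rw [hFC] at e
      rw [e, hphi] at hC
      exact absurd ((Nat.pow_right_injective hp.out.two_le) hC) (by norm_num)
    · intro e
      rw [hFC] at e
      rw [e, Subgroup.card_top, hcard] at hC
      exact absurd ((Nat.pow_right_injective hp.out.two_le) hC) (by norm_num)
  · have hZF : Z = frattini H := Subgroup.eq_of_le_of_card_ge hcZ (by rw [hn, hphi])
    obtain ⟨a, ha⟩ : ∃ a, a ∉ frattini H := by
      by_contra h
      push Not at h
      exact hZtop (hZF.trans ((Subgroup.eq_top_iff' _).mpr h))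
    have hT := card_sup_zpowers (frattini H) ha (hpow a)
    have hTn : (frattini H ⊔ Subgroup.zpowers a).Normal := ⟨fun n hn g => by
      have h := mul_mem (Subgroup.mem_sup_left (T := Subgroup.zpowers a) (hco g n)) hn
      simpa [commutatorElement_def, mul_assoc] using h⟩
    obtain ⟨b, hb⟩ : ∃ b, b ∉ frattini H ⊔ Subgroup.zpowers a := by
      by_contra h
      push Not at h
      rw [(Subgroup.eq_top_iff' _).mpr h, Subgroup.card_top, hcard, hphi, ← pow_succ'] at hT
      exact absurd ((Nat.pow_right_injective hp.out.two_le) hT) (by norm_num)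
    have htop : frattini H ⊔ Subgroup.zpowers a ⊔ Subgroup.zpowers b = ⊤ := by
      apply Subgroup.eq_top_of_card_eq
      rw [card_sup_zpowers _ hb (Subgroup.mem_sup_left (hpow b)), hT, hphi, hcard]; ring
    set c := ⁅a, b⁆ with hc
    have hcz : ∀ z : H, Commute c z := fun z =>
      (Subgroup.mem_center_iff.mp (show c ∈ Z from hZF ▸ hco a b) z).symm
    have hcp : c ^ p = 1 := by
      have h2 : ∀ m : ℕ, a ^ m * b = c ^ m * (b * a ^ m) := by
        intro m
        induction m with
        | zero => simp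
        | succ m ih =>
          have e1 : a * b = c * (b * a) := by rw [hc, commutatorElement_def]; group
          rw [pow_succ' a, mul_assoc, ih, ← mul_assoc a, ← ((hcz a).pow_left m).eq, mul_assoc,
            ← mul_assoc a b, e1, pow_succ c]
          simp only [mul_assoc]
      have hap : a ^ p * b = b * a ^ p :=
        (Subgroup.mem_center_iff.mp (show a ^ p ∈ Z from hZF ▸ hpow a) b).symm
      have := h2 p
      rw [hap] at this
      exact (mul_eq_right.mp this.symm)
    set K := Subgroup.zpowers c with hK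
    have hKn : K.Normal := ⟨fun n ⟨i, hi⟩ g => by
      subst hi
      rw [((hcz g).zpow_left i).symm.eq, mul_inv_cancel_right]
      exact ⟨i, rfl⟩⟩
    set π := QuotientGroup.mk' K
    have hallcomm : ∀ x y : H, Commute (π x) (π y) := by
      have hz : ∀ y : H, frattini H ⊔ Subgroup.zpowers a ⊔ Subgroup.zpowers b ≤
          (Subgroup.centralizer {π y}).comap π →
          ∀ x, Commute (π x) (π y) := by
        intro y hy x
        rw [htop] at hy
        exact Subgroup.mem_centralizer_singleton_iff.mp (hy (Subgroup.mem_top x))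
      have hF : ∀ y, frattini H ≤ (Subgroup.centralizer {π y}).comap π := by
        intro y w hw
        rw [Subgroup.mem_comap, Subgroup.mem_centralizer_singleton_iff, ← map_mul, ← map_mul,
          (Subgroup.mem_center_iff.mp (show w ∈ Z from hZF ▸ hw) y)]
      have hab' : Commute (π a) (π b) := by
        rw [← commutatorElement_eq_one_iff_commute, ← map_commutatorElement]
        exact (QuotientGroup.eq_one_iff _).mpr (Subgroup.mem_zpowers c)
      have mem : ∀ {u v : H}, Commute (π u) (π v) →
          Subgroup.zpowers u ≤ (Subgroup.centralizer {π v}).comap π := fun h =>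
        Subgroup.zpowers_le.mpr (Subgroup.mem_centralizer_singleton_iff.mpr h.eq)
      have hca := hz a (sup_le (sup_le (hF a) (mem (Commute.refl _))) (mem hab'.symm))
      have hcb := hz b (sup_le (sup_le (hF b) (mem hab')) (mem (Commute.refl _)))
      intro x y
      refine hz y (sup_le (sup_le (hF y) (mem ?_)) (mem ?_)) x
      · exact (hca y).symm
      · exact (hcb y).symm
    have hKcomm : ∀ x y : H, ⁅x, y⁆ ∈ K := fun x y => (QuotientGroup.eq_one_iff _).mp
      (by rw [← QuotientGroup.mk'_apply, map_commutatorElement,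
        commutatorElement_eq_one_iff_commute.mpr (hallcomm x y)])
    have hc1 : c ≠ 1 := by
      intro h
      refine hab ⟨⟨fun x y => ?_⟩⟩
      have hh := hKcomm x y
      rw [hK, h, Subgroup.zpowers_one_eq_bot, Subgroup.mem_bot,
        commutatorElement_eq_one_iff_commute] at hh
      exact hh
    have hKcard : Nat.card K = p := by rw [Nat.card_zpowers, orderOf_eq_prime hcp hc1]
    have hKF : K ≤ frattini H := Subgroup.zpowers_le.mpr (hco a b)
    have hFK : Nat.card (frattini H) = p * Nat.card K := by rw [hphi, hKcard, pow_two]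
    let P : H →* H ⧸ K :=
      { toFun := fun x => π x ^ p
        map_one' := by simp
        map_mul' := fun x y => by rw [map_mul, (hallcomm x y).mul_pow] }
    have hPmem : ∀ x : H, x ∈ P.ker ↔ x ^ p ∈ K := fun x => by
      rw [MonoidHom.mem_ker, ← QuotientGroup.eq_one_iff (N := K)]
      rfl
    refine d2_no_between hH hcard hphi hA P.ker ?_ ?_ ?_ ?_
    · intro α _ x hx
      rw [hPmem] at hx ⊢
      rw [← map_pow]
      have hle : K ≤ K.comap α.toMonoidHom := Subgroup.zpowers_le.mpr (by
        show α c ∈ K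
        rw [hc, map_commutatorElement]
        exact hKcomm _ _)
      exact hle hx
    · intro w hw
      rw [hPmem]
      by_cases hwK : w ∈ K
      · exact pow_mem hwK p
      · exact (eq_sup_zpowers hKF hFK hw hwK).1
    · intro e
      have hrange : P.range ≤ (frattini H).map π := by
        rintro _ ⟨x, rfl⟩
        exact ⟨x ^ p, hpow x, map_pow π x p⟩
      have hd := Subgroup.card_dvd_of_le hrange
      have hmap : Nat.card ((frattini H).map π) = p := by
        rw [← Subgroup.relIndex_ker (frattini H) π, QuotientGroup.ker_mk']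
        have h := Subgroup.card_eq_card_quotient_mul_card_subgroup (K.subgroupOf (frattini H))
        rw [Nat.card_congr (Subgroup.subgroupOfEquivOfLe hKF).toEquiv, hFK] at h
        exact (Nat.eq_of_mul_eq_mul_right Nat.card_pos h).symm
      rw [hmap, ← Subgroup.index_ker, e] at hd
      have h := Subgroup.card_mul_index (frattini H)
      rw [hphi, hcard] at h
      rcases (Nat.dvd_prime hp.out).mp hd with h' | h' <;> rw [h'] at h <;> nlinarith [hp.out.two_le]
    · intro e
      have hsq : ∀ x : H, x ^ p ∈ K := fun x => (hPmem x).mp (e.ge (Subgroup.mem_top x))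
      have := Subgroup.card_le_of_le (frattini_le K hsq hKcomm)
      rw [hphi, hKcard] at this
      nlinarith [hp.out.two_le]

theorem key_alg {G : Type*} [CommMonoid G] (x a b c : G) (n m l : ℕ) :
    x * a * (a * b) ^ n * (b * c) ^ m * c ^ l = x * a ^ (n + 1) * b ^ (n + m) * c ^ (m + l) := by
  simp only [mul_pow, pow_add, pow_one]
  ac_rfl

/-- Case `|Φ(H)| = p²` with `H` abelian. -/
theorem d2_abelian [Finite H] (hH : IsPGroup p H) (hcard : Nat.card H = p ^ 4)
    (hphi : Nat.card (frattini H) = p ^ 2) {A : Subgroup (MulAut H)} (hA : Good p A)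
    (hab : IsMulCommutative H) :
    (p = 2 ∨ p = 3) ∧ Nonempty (H ≃* Multiplicative (ZMod (p ^ 2) × ZMod (p ^ 2))) := by
  classical
  obtain ⟨hpow, -⟩ := frattini_mem hH
  have hcomm : ∀ a b : H, Commute a b := fun a b => hab.is_comm.comm a b
  have hnorm : ∀ T : Subgroup H, T.Normal := fun T =>
    ⟨fun n hn g => by rw [(hcomm g n).eq, mul_inv_cancel_right]; exact hn⟩
  let P : H →* H :=
    { toFun := fun x => x ^ p, map_one' := one_pow p, map_mul' := fun a b => (hcomm a b).mul_pow p }
  have := hnorm P.range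
  have hrange : P.range = frattini H := by
    refine le_antisymm (by rintro _ ⟨x, rfl⟩; exact hpow x) (frattini_le P.range (fun x => ⟨x, rfl⟩) ?_)
    intro a b
    rw [commutatorElement_eq_one_iff_commute.mpr (hcomm a b)]
    exact one_mem _
  have hker : Nat.card P.ker = p ^ 2 := by
    have h := Subgroup.card_mul_index P.ker
    rw [Subgroup.index_ker, hrange, hphi, hcard, show p ^ 4 = p ^ 2 * p ^ 2 by ring] at h
    exact Nat.eq_of_mul_eq_mul_right (pow_pos hp.out.pos 2) h
  have hkerF : P.ker = frattini H := by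
    by_contra hne
    refine d2_no_between hH hcard hphi hA (frattini H ⊔ P.ker) ?_ le_sup_left ?_ ?_
    · intro α _ x hx
      have hle : frattini H ⊔ P.ker ≤ (frattini H ⊔ P.ker).comap α.toMonoidHom :=
        sup_le (fun y hy => Subgroup.mem_sup_left (map_mem_frattini α hy))
          (fun y hy => Subgroup.mem_sup_right (by
            show α y ^ p = 1
            rw [← map_pow, show y ^ p = 1 from hy, map_one]))
      exact hle hx
    · intro e
      exact hne (Subgroup.eq_of_le_of_card_ge (e ▸ le_sup_right) (by rw [hker, hphi]))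
    · intro e
      have hk : P.ker = ⊤ := frattini_nongenerating (by rwa [sup_comm])
      rw [hk, Subgroup.card_top, hcard] at hker
      exact absurd ((Nat.pow_right_injective hp.out.two_le) hker) (by norm_num)
  have hFp : ∀ w ∈ frattini H, w ^ p = 1 := fun w hw => hkerF.ge hw
  have hexp : ∀ x : H, x ^ (p ^ 2) = 1 := fun x => by rw [pow_two, pow_mul]; exact hFp _ (hpow x)
  constructor
  · by_contra hp23
    push Not at hp23
    have hp5 : 5 ≤ p := by
      have := hp.out.two_le
      rcases (by omega : p = 4 ∨ 5 ≤ p) with h | h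
      · exfalso; exact absurd (h ▸ hp.out) (by norm_num)
      · exact h
    obtain ⟨hN, ⟨α, hαA⟩, ⟨k, hk⟩, hα⟩ := hA
    have hk' : α ^ p ^ k = 1 := congrArg Subtype.val hk
    have hA' : Good p A := ⟨hN, ⟨α, hαA⟩, ⟨k, hk⟩, hα⟩
    set π := QuotientGroup.mk' (frattini H)
    let σ : Equiv.Perm (H ⧸ frattini H) := (QuotientGroup.congr (frattini H) (frattini H) α
      (Subgroup.characteristic_iff_map_eq.mp (frattini_characteristic (G := H)) α)).toEquiv
    have hσ : ∀ (n : ℕ) (x : H), (σ ^ n) (π x) = π ((α ^ n) x) := by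
      intro n
      induction n with
      | zero => simp
      | succ n ih => intro x; rw [pow_succ', Equiv.Perm.mul_apply, ih, pow_succ', MulAut.mul_apply]; rfl
    have : Fintype (H ⧸ frattini H) := Fintype.ofFinite _
    have hVcard : p ∣ Fintype.card (H ⧸ frattini H) := by
      rw [← Nat.card_eq_fintype_card]
      refine ⟨p, ?_⟩
      have h := Subgroup.card_eq_card_quotient_mul_card_subgroup (frattini H)
      rw [hphi, hcard, show p ^ 4 = p * p * p ^ 2 by ring] at h
      exact (Nat.eq_of_mul_eq_mul_right (pow_pos hp.out.pos 2) h).symm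
    have hσk : σ ^ p ^ k = 1 := Equiv.ext fun v => by
      obtain ⟨x, rfl⟩ := QuotientGroup.mk'_surjective _ v
      rw [hσ, hk']
      rfl
    obtain ⟨v, hv, hv1⟩ := Equiv.Perm.exists_fixed_point_of_prime' hVcard hσk (a := π 1) (by
      have := hσ 1 1
      rw [pow_one, pow_one, map_one α] at this
      exact this)
    obtain ⟨g, rfl⟩ := QuotientGroup.mk'_surjective _ v
    have hgF : g ∉ frattini H := fun h => hv1 (by
      rw [map_one]; exact (QuotientGroup.eq_one_iff g).mpr h)
    have hgD : g⁻¹ * α g ∈ frattini H := by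
      have h := hσ 1 g
      rw [pow_one, pow_one, hv] at h
      exact (QuotientGroup.eq (s := frattini H)).mp h
    set M := frattini H ⊔ Subgroup.zpowers g with hMdef
    have hMcard := card_sup_zpowers (frattini H) hgF (hpow g)
    have hMinv : ∀ x ∈ M, α x ∈ M := by
      have hle : M ≤ M.comap α.toMonoidHom := by
        refine sup_le (fun y hy => Subgroup.mem_sup_left (map_mem_frattini α hy)) ?_
        rw [Subgroup.zpowers_le]
        have := M.mul_mem (Subgroup.mem_sup_right (Subgroup.mem_zpowers g))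
          (Subgroup.mem_sup_left hgD)
        rwa [mul_inv_cancel_left] at this
      exact fun x hx => hle hx
    let D : H →* H :=
      { toFun := fun x => x⁻¹ * α x
        map_one' := by simp
        map_mul' := fun x y => by
          rw [mul_inv_rev, map_mul, (hcomm y⁻¹ x⁻¹).eq, mul_assoc, ← mul_assoc y⁻¹,
            (hcomm y⁻¹ (α x)).eq]
          group }
    have := hnorm M
    have hD1 : ∀ x, D x ∈ M := fun x => factor_fixed (le_top : M ≤ ⊤) (by
      rw [Subgroup.card_top, hcard, hMcard, hphi]; exact dvd_of_eq (by ring)) α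
      (fun _ _ => trivial) hMinv hk' x (Subgroup.mem_top x)
    have hD2 : ∀ x ∈ M, D x ∈ frattini H := fun x hx => factor_fixed (le_sup_left : frattini H ≤ M)
      hMcard.dvd α hMinv (fun x hx => map_mem_frattini α hx) hk' x hx
    have hD4 : ∀ x, D (D (D (D x))) = 1 := by
      intro x
      obtain ⟨h, hh⟩ : D (D x) ∈ P.range := hrange ▸ hD2 _ (hD1 x)
      have hh' : h ^ p = D (D x) := hh
      rw [← hh', map_pow, map_pow]
      exact hFp _ (hD2 _ (hD1 h))
    have hαD : ∀ x, α x = x * D x := fun x => (mul_inv_cancel_left x (α x)).symm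
    have key : ∀ (n : ℕ) (x : H), (α ^ n) x =
        x * D x ^ n * D (D x) ^ n.choose 2 * D (D (D x)) ^ n.choose 3 := by
      intro n
      induction n with
      | zero => simp
      | succ n ih =>
        intro x
        rw [pow_succ', MulAut.mul_apply, ih, map_mul, map_mul, map_mul, map_pow, map_pow, map_pow,
          hαD x, hαD (D x), hαD (D (D x)), hαD (D (D (D x))), hD4, mul_one,
          Nat.choose_succ_succ n 1, Nat.choose_succ_succ n 2, Nat.choose_one_right]
        letI : CommMonoid H := { (inferInstance : Monoid H) with mul_comm := fun a b => (hcomm a b).eq }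
        exact key_alg x (D x) (D (D x)) (D (D (D x))) n _ _
    have hdiv : ∀ i, 0 < i → i < p → ∀ w ∈ frattini H, w ^ p.choose i = 1 := fun i hi hip w hw => by
      obtain ⟨d, hd⟩ := hp.out.dvd_choose_self hi.ne' hip
      rw [hd, pow_mul, hFp w hw, one_pow]
    have hαp : ∀ x, (α ^ p) x = x * D x ^ p := fun x => by
      rw [key, hdiv 2 two_pos (by omega) _ (hD2 _ (hD1 x)),
        hdiv 3 (by norm_num) (by omega) _ (hD2 _ (Subgroup.mem_sup_left (hD2 _ (hD1 x)))),
        mul_one, mul_one]
    let K0 := stab A ⊤ ⊤ (fun _ _ _ _ => trivial) ⊓ stab A ⊤ (frattini H) (fun _ _ _ _ => trivial) ⊓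
      stab A (frattini H) (frattini H) (fun α _ x hx => map_mem_frattini α hx)
    have hK0n : K0.Normal := by
      have n1 := stab_normal (A := A) (N := (⊤ : Subgroup H)) (M := ⊤) (fun _ _ _ _ => trivial)
        (fun _ _ _ _ => trivial)
      have n2 := stab_normal (A := A) (M := (⊤ : Subgroup H)) (fun _ _ _ _ => trivial)
        (fun α _ x hx => map_mem_frattini (H := H) α hx)
      have n3 := stab_normal (A := A) (M := frattini H) (fun α _ x hx => map_mem_frattini α hx)
        (fun α _ x hx => map_mem_frattini (H := H) α hx)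
      infer_instance
    have hK0p : IsPGroup p K0 :=
      isPGroup_stab hH le_rfl le_top (fun α _ x hx => map_mem_frattini α hx) (fun _ _ _ _ => trivial)
    have hK0 : ∀ β : A, (∀ x, x⁻¹ * (β : MulAut H) x ∈ frattini H) → (β : MulAut H) = 1 := by
      intro β hβ
      obtain ⟨h, hh⟩ := hN K0 hK0n hK0p β
        ⟨⟨fun x _ => trivial, fun x _ => hβ x⟩, fun x _ => hβ x⟩
      rw [← hh]
      ext x
      rw [MulAut.conj_apply, (hcomm h x).eq, mul_inv_cancel_right]
      rfl
    have hp1 : ((⟨α, hαA⟩ : A) ^ p : A).val = 1 := hK0 _ fun x => by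
      rw [SubgroupClass.coe_pow, hαp, inv_mul_cancel_left]
      exact hpow _
    have hDF : ∀ x, D x ∈ frattini H := fun x => by
      rw [← hkerF]
      show D x ^ p = 1
      have := hαp x
      rw [SubgroupClass.coe_pow] at hp1
      rw [hp1, MulAut.one_apply] at this
      exact (left_eq_mul.mp this)
    exact hα (by rw [hK0 ⟨α, hαA⟩ hDF]; exact one_mem _)
  · have hlt : ∀ {q : ℕ} (T : Subgroup H), Nat.card T = q → q < p ^ 4 → ∃ a, a ∉ T := by
      intro q T hT hq
      by_contra h
      push Not at h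
      rw [(Subgroup.eq_top_iff' _).mpr h, Subgroup.card_top, hcard] at hT
      omega
    obtain ⟨a, ha⟩ := hlt (frattini H) hphi (Nat.pow_lt_pow_right hp.out.one_lt (by norm_num))
    have hT := card_sup_zpowers (frattini H) ha (hpow a)
    rw [hphi, ← pow_succ'] at hT
    obtain ⟨b, hb⟩ := hlt _ hT (Nat.pow_lt_pow_right hp.out.one_lt (by norm_num))
    have := hnorm (frattini H ⊔ Subgroup.zpowers a)
    have htop : frattini H ⊔ Subgroup.zpowers a ⊔ Subgroup.zpowers b = ⊤ := by
      apply Subgroup.eq_top_of_card_eq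
      rw [card_sup_zpowers _ hb (Subgroup.mem_sup_left (hpow b)), hT, hcard]; ring
    let fa : Multiplicative (ZMod (p ^ 2)) →* H := zhom (p ^ 2) a (hexp a)
    let fb : Multiplicative (ZMod (p ^ 2)) →* H := zhom (p ^ 2) b (hexp b)
    let fab := fa.noncommCoprod fb (fun _ _ => hcomm _ _)
    have haR : a ∈ fab.range := by
      obtain ⟨i, hi⟩ := zhom_range (p ^ 2) a (hexp a)
      exact ⟨(i, 1), by simp [fab, fa, hi]⟩
    have hbR : b ∈ fab.range := by
      obtain ⟨i, hi⟩ := zhom_range (p ^ 2) b (hexp b)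
      exact ⟨(1, i), by simp [fab, fb, hi]⟩
    have hsurj : fab.range = ⊤ := by
      refine frattini_nongenerating (top_le_iff.mp ?_)
      rw [← htop]
      exact sup_le (sup_le le_sup_right (Subgroup.zpowers_le.mpr (Subgroup.mem_sup_left haR)))
        (Subgroup.zpowers_le.mpr (Subgroup.mem_sup_left hbR))
    have : NeZero (p ^ 2) := ⟨pow_ne_zero 2 hp.out.ne_zero⟩
    have hbij : Function.Bijective fab := by
      rw [Nat.bijective_iff_surjective_and_card]
      refine ⟨MonoidHom.range_eq_top.mp hsurj, ?_⟩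
      simp only [Nat.card_prod, Nat.card_congr Multiplicative.toAdd, Nat.card_zmod, hcard]
      ring
    exact ⟨((MulEquiv.prodMultiplicative _ _).trans (MulEquiv.ofBijective fab hbij)).symm⟩

/-- A type in the bottom universe without algebraic structure. -/
def Carrier (n : ℕ) : Type := Fin n

/-- A nonabelian group of order `p³` is extraspecial. -/
theorem extraspecial_of_card_cube {E : Type*} [Group E] [Finite E] (hE : Nat.card E = p ^ 3)
    {a b : E} (hab : ¬ Commute a b) : Cfsg.IsExtraspecial p E := by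
  have hpg : IsPGroup p E := IsPGroup.of_card hE
  obtain ⟨hpow, hco⟩ := frattini_mem hpg
  have : Nontrivial E := ⟨⟨a, 1, fun h => hab (h ▸ Commute.one_left b)⟩⟩
  set Z := Subgroup.center E
  obtain ⟨n, hn0, hn⟩ := ((hpg.to_subgroup Z).nontrivial_iff_card).mp hpg.center_nontrivial
  have hZt : Z ≠ ⊤ := fun h => hab (Subgroup.mem_center_iff.mp (h.ge (Subgroup.mem_top b)) a)
  have hidx : Nat.card (E ⧸ Z) * p ^ n = p ^ 3 := by
    rw [← hn, ← Subgroup.card_eq_card_quotient_mul_card_subgroup, hE]
  obtain rfl : n = 1 := by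
    have hn3 : n < 3 := by
      have h := lt_of_le_of_ne (Subgroup.card_le_card_group Z)
        (fun e => hZt (Subgroup.eq_top_of_card_eq Z e))
      rw [hn, hE] at h
      exact (Nat.pow_lt_pow_iff_right hp.out.one_lt).mp h
    by_contra hne
    obtain rfl : n = 2 := by omega
    rw [show p ^ 3 = p * p ^ 2 by ring] at hidx
    have hq := Nat.eq_of_mul_eq_mul_right (pow_pos hp.out.pos 2) hidx
    have : IsCyclic (E ⧸ Z) := isCyclic_of_prime_card hq
    let : CommGroup E := commGroupOfCyclicCenterQuotient (QuotientGroup.mk' Z) (QuotientGroup.ker_mk' Z).le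
    exact hab (Commute.all a b)
  rw [pow_one] at hn hidx
  have hq : Nat.card (E ⧸ Z) = p ^ 2 :=
    Nat.eq_of_mul_eq_mul_right hp.out.pos (hidx.trans (pow_succ p 2))
  have hcommQ : ∀ x y : E, ⁅x, y⁆ ∈ Z := fun x y => by
    rw [← QuotientGroup.eq_one_iff, ← QuotientGroup.mk'_apply, map_commutatorElement,
      commutatorElement_eq_one_iff_commute]
    exact IsPGroup.commutative_of_card_eq_prime_sq hq _ _
  have hab1 : ⁅a, b⁆ ≠ 1 := fun h => hab (commutatorElement_eq_one_iff_commute.mp h)
  have hge : ∀ T : Subgroup E, T ≤ Z → ⁅a, b⁆ ∈ T → T = Z := fun T hT hm => by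
    have hd := Subgroup.card_dvd_of_le hT
    rw [hn] at hd
    rcases (Nat.dvd_prime hp.out).mp hd with h | h
    · rw [Subgroup.card_eq_one] at h
      rw [h, Subgroup.mem_bot] at hm
      exact absurd hm hab1
    · exact Subgroup.eq_of_le_of_card_ge hT (by rw [h, hn])
  have hC : commutator E = Z := by
    refine hge _ ?_ (Subgroup.commutator_mem_commutator (Subgroup.mem_top a) (Subgroup.mem_top b))
    rw [commutator_def, Subgroup.commutator_le]
    exact fun x _ y _ => hcommQ x y
  refine ⟨⟨hpg, hge _ (frattini_le (p := p) Z (fun x => ?_) hcommQ) (hco a b), hC⟩, hn⟩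
  by_contra hx
  have hxc : x ^ p ∉ Z := hx
  have hord : ∀ y : E ⧸ Z, y ^ (p * p) = 1 := fun y => by
    rw [← pow_two, ← hq]; exact pow_card_eq_one'
  -- an element of order `p ^ 2` modulo the centre would make the quotient cyclic
  have hox : orderOf (x : E ⧸ Z) = p ^ 2 := by
    refine orderOf_eq_prime_pow (n := 1) ?_ (by rw [show p ^ (1 + 1) = p * p by ring]; exact hord _)
    rw [pow_one, ← QuotientGroup.mk_pow, QuotientGroup.eq_one_iff]
    exact hxc
  have : IsCyclic (E ⧸ Z) := isCyclic_of_orderOf_eq_card _ (hox.trans hq.symm)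
  let : CommGroup E := commGroupOfCyclicCenterQuotient (QuotientGroup.mk' Z) (QuotientGroup.ker_mk' Z).le
  exact hab (Commute.all a b)

/-- Case `|Φ(H)| = p` with `H` nonabelian: the centre and the centralizers of a noncommuting pair. -/
theorem d3_pair [Finite H] (hH : IsPGroup p H) (hcard : Nat.card H = p ^ 4)
    (hphi : Nat.card (frattini H) = p) {a b : H} (hab : ¬ Commute a b) :
    frattini H ≤ Subgroup.center H ∧ Nat.card (Subgroup.center H) = p ^ 2 ∧
      Nat.card (Subgroup.centralizer {a}) = p ^ 3 ∧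
      Subgroup.centralizer {a} = Subgroup.center H ⊔ Subgroup.zpowers a ∧
      Subgroup.centralizer {a} ⊔ Subgroup.zpowers b = (⊤ : Subgroup H) := by
  obtain ⟨hpow, hco⟩ := frattini_mem hH
  have hFZ : frattini H ≤ Subgroup.center H := fun x hx => Subgroup.mem_center_iff.mpr fun g => by
    have h := commutator_mem_of_factor hH (bot_le : (⊥ : Subgroup H) ≤ frattini H)
      (by rw [hphi, Subgroup.card_bot, mul_one]) g hx
    rw [Subgroup.mem_bot, commutatorElement_eq_one_iff_commute] at h
    exact h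
  have hnorm : ∀ T : Subgroup H, frattini H ≤ T → T.Normal := fun T hT => ⟨fun n hn g => by
    have h := T.mul_mem (hT (hco g n)) hn
    simpa [commutatorElement_def, mul_assoc] using h⟩
  have hCc : ∀ u v : H, ¬ Commute u v → Nat.card (Subgroup.centralizer {u}) = p ^ 3 := fun u v h =>
    card_centralizer hcard hH hFZ hphi (fun hu => h (Subgroup.mem_center_iff.mp hu v).symm)
      (fun y => hco u y)
  have hFC : ∀ u : H, frattini H ≤ Subgroup.centralizer {u} := fun u w hw =>
    Subgroup.mem_centralizer_singleton_iff.mpr (Subgroup.mem_center_iff.mp (hFZ hw) u).symm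
  have hCa := hCc a b hab
  have hCb := hCc b a (fun h => hab h.symm)
  have haa : a ∈ Subgroup.centralizer ({a} : Set H) := Subgroup.mem_centralizer_singleton_iff.mpr rfl
  set W := Subgroup.centralizer ({a} : Set H) ⊓ Subgroup.centralizer ({b} : Set H) with hW
  have haW : a ∉ W := fun h => hab (Subgroup.mem_centralizer_singleton_iff.mp h.2)
  have hidx : ∀ u : H, Nat.card (Subgroup.centralizer ({u} : Set H)) = p ^ 3 →
      (Subgroup.centralizer ({u} : Set H)).index = p := fun u hu => by
    have h := Subgroup.card_mul_index (Subgroup.centralizer ({u} : Set H))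
    rw [hu, hcard, pow_succ p 3] at h
    exact Nat.eq_of_mul_eq_mul_left (pow_pos hp.out.pos 3) h
  obtain ⟨j, hj⟩ := IsPGroup.iff_card.mp (hH.to_subgroup W)
  obtain rfl : j = 2 := by
    have h1 := Subgroup.index_inf_le (H := Subgroup.centralizer ({a} : Set H))
      (K := Subgroup.centralizer ({b} : Set H))
    rw [← hW, hidx a hCa, hidx b hCb] at h1
    have h2 := Subgroup.card_mul_index W
    rw [hj, hcard] at h2
    have h3 : p ^ 4 ≤ p ^ (j + 2) := by
      rw [← h2, pow_add, pow_two]; exact Nat.mul_le_mul_left _ h1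
    have h4 := (Nat.pow_le_pow_iff_right hp.out.one_lt).mp h3
    have h5 : Nat.card W < p ^ 3 := by
      rw [← hCa]
      exact lt_of_le_of_ne (Subgroup.card_le_of_le inf_le_left)
        (fun e => haW ((Subgroup.eq_of_le_of_card_ge inf_le_left e.ge).ge haa))
    rw [hj] at h5
    have h6 := (Nat.pow_lt_pow_iff_right hp.out.one_lt).mp h5
    omega
  have := hnorm W (le_inf (hFC a) (hFC b))
  obtain ⟨-, hCeq⟩ := eq_sup_zpowers (N := W) inf_le_left (by rw [hCa, hj]; ring) haa haW
  have := hnorm _ (hFC a)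
  obtain ⟨-, htop⟩ := eq_sup_zpowers (N := Subgroup.centralizer ({a} : Set H)) le_top
    (by rw [Subgroup.card_top, hCa, hcard]; ring) (Subgroup.mem_top b)
    (fun h => hab (Subgroup.mem_centralizer_singleton_iff.mp h).symm)
  have hWZ : W ≤ Subgroup.center H := fun w hw => by
    have hle : Subgroup.centralizer ({a} : Set H) ⊔ Subgroup.zpowers b ≤ Subgroup.centralizer {w} := by
      rw [hCeq]
      refine sup_le (sup_le (fun v hv => ?_) ?_) ?_
      · rw [Subgroup.mem_centralizer_singleton_iff]
        exact congrArg Subtype.val (IsPGroup.commutative_of_card_eq_prime_sq hj ⟨v, hv⟩ ⟨w, hw⟩)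
      · exact Subgroup.zpowers_le.mpr (Subgroup.mem_centralizer_singleton_iff.mpr
          (Subgroup.mem_centralizer_singleton_iff.mp hw.1).symm)
      · exact Subgroup.zpowers_le.mpr (Subgroup.mem_centralizer_singleton_iff.mpr
          (Subgroup.mem_centralizer_singleton_iff.mp hw.2).symm)
    rw [← htop] at hle
    exact Subgroup.mem_center_iff.mpr fun g =>
      Subgroup.mem_centralizer_singleton_iff.mp (hle (Subgroup.mem_top g))
  have hZW : Subgroup.center H = W := le_antisymm (fun z hz => ⟨
    Subgroup.mem_centralizer_singleton_iff.mpr (Subgroup.mem_center_iff.mp hz a).symm,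
    Subgroup.mem_centralizer_singleton_iff.mpr (Subgroup.mem_center_iff.mp hz b).symm⟩) hWZ
  exact ⟨hFZ, hZW ▸ hj, hCa, hZW ▸ hCeq, htop.symm⟩

/-- Case `|Φ(H)| = p`, `H` nonabelian, `p` odd or two. -/
theorem d3_nonabelian [Finite H] (hH : IsPGroup p H) (hcard : Nat.card H = p ^ 4)
    (hphi : Nat.card (frattini H) = p) {A : Subgroup (MulAut H)} (hA : Good p A)
    {a b : H} (hab : ¬ Commute a b) :
    (Odd p ∧ ∃ (E : Type) (_ : Group E) (_ : Finite E), Cfsg.IsExtraspecial p E ∧ Nat.card E = p ^ 3 ∧
        (∀ x : E, x ^ p = 1) ∧ Nonempty (H ≃* E × Multiplicative (ZMod p))) ∨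
      (p = 2 ∧ Nonempty (H ≃* QuaternionGroup 2 × Multiplicative (ZMod 2))) ∨
      (¬ IsMulCommutative H ∧ (∀ x : H, x ^ (p ^ 2) = 1) ∧ IsCyclic (Subgroup.center H) ∧
        Nat.card (Subgroup.center H) = p ^ 2) := by
  classical
  obtain ⟨hpow, hco⟩ := frattini_mem hH
  obtain ⟨hFZ, hZc, -, hCeq, htop⟩ := d3_pair hH hcard hphi hab
  have hFp : ∀ w ∈ frattini H, w ^ p = 1 := fun w hw => by
    have := congrArg Subtype.val (pow_card_eq_one' (x := (⟨w, hw⟩ : frattini H)))
    rwa [hphi] at this
  by_cases hcyc : IsCyclic (Subgroup.center H)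
  · refine Or.inr (Or.inr ⟨fun h => hab (h.is_comm.comm a b), fun x => ?_, hcyc, hZc⟩)
    rw [pow_two, pow_mul]; exact hFp _ (hpow x)
  have hZp : ∀ w ∈ Subgroup.center H, w ^ p = 1 := fun w hw => by
    by_contra hw1
    refine hcyc (isCyclic_of_orderOf_eq_card (⟨w, hw⟩ : Subgroup.center H) ?_)
    rw [Subgroup.orderOf_mk, hZc]
    exact orderOf_eq_prime_pow (n := 1) (by rwa [pow_one])
      (by rw [show p ^ (1 + 1) = p * p by ring, pow_mul]; exact hFp _ (hpow w))
  obtain ⟨z, hz, hzF⟩ : ∃ z ∈ Subgroup.center H, z ∉ frattini H := by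
    by_contra h
    push Not at h
    have h' := Subgroup.card_le_of_le (show Subgroup.center H ≤ frattini H from h)
    rw [hZc, hphi] at h'
    nlinarith [hp.out.two_le]
  obtain ⟨-, hZeq⟩ := eq_sup_zpowers hFZ (by rw [hZc, hphi, pow_two]) hz hzF
  have hgen : frattini H ⊔ Subgroup.zpowers z ⊔ Subgroup.zpowers a ⊔ Subgroup.zpowers b = ⊤ := by
    rw [← hZeq, ← hCeq, htop]
  have hcentral : ∀ x y : H, ∀ g, Commute ⁅x, y⁆ g := fun x y g =>
    (Subgroup.mem_center_iff.mp (hFZ (hco x y)) g).symm
  have hyx : ∀ x y : H, y * x = ⁅y, x⁆ * (x * y) := fun x y => by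
    rw [commutatorElement_def]; group
  have hcentA : ∀ (α : MulAut H), ∀ x ∈ Subgroup.center H, α x ∈ Subgroup.center H := by
    intro α x hx
    rw [Subgroup.mem_center_iff] at hx ⊢
    intro g
    obtain ⟨g', rfl⟩ := α.surjective g
    rw [← map_mul, hx, map_mul]
  have hzw : ∀ g, Commute g z := fun g => Subgroup.mem_center_iff.mp hz g
  rcases hp.out.eq_two_or_odd' with hp2 | hodd
  · subst hp2
    set c := ⁅b, a⁆ with hc
    have hc1 : c ≠ 1 := fun h => hab (commutatorElement_eq_one_iff_commute.mp h).symm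
    have hFc : ∀ w ∈ frattini H, w = 1 ∨ w = c := by
      intro w hw
      have hF : frattini H = Subgroup.zpowers c := by
        refine (Subgroup.eq_of_le_of_card_ge (Subgroup.zpowers_le.mpr (hco b a)) ?_).symm
        rw [hphi, Nat.card_zpowers, orderOf_eq_prime (hFp _ (hco b a)) hc1]
      rw [hF] at hw
      obtain ⟨i, rfl⟩ := hw
      rcases Int.even_or_odd i with ⟨j, rfl⟩ | ⟨j, rfl⟩
      · left
        show c ^ (j + j) = 1
        rw [zpow_add, ← (Commute.refl c).mul_zpow, ← pow_two, hFp _ (hco b a), one_zpow]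
      · right
        show c ^ (2 * j + 1) = c
        rw [zpow_add_one, zpow_mul, zpow_two, ← pow_two, hFp _ (hco b a), one_zpow, one_mul]
    have hsq : ∀ u v : H, ¬ Commute u v → (u * v) ^ 2 = c * (u ^ 2 * v ^ 2) := fun u v huv => by
      rw [mul_pow_class_two (hcentral v u) (hyx u v) 2, Nat.choose_self, pow_one,
        (hFc _ (hco v u)).resolve_left (fun h => huv (commutatorElement_eq_one_iff_commute.mp h).symm)]
    have hcc : c * c = 1 := by rw [← pow_two]; exact hFp _ (hco b a)
    -- a noncommuting pair with one square trivial gives an invariant chain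
    have hpair : ∀ u v : H, ¬ Commute u v → u ^ 2 = c → v ^ 2 = 1 → False := by
      intro u v huv hu hv
      obtain ⟨-, -, hCu, hCueq, hutop⟩ := d3_pair hH hcard hphi huv
      have hFC : frattini H ≤ Subgroup.centralizer ({u} : Set H) := fun w hw =>
        Subgroup.mem_centralizer_singleton_iff.mpr (Subgroup.mem_center_iff.mp (hFZ hw) u).symm
      have hCn : (Subgroup.centralizer ({u} : Set H)).Normal := ⟨fun n hn g => by
        have h := mul_mem (hFC (hco g n)) hn
        simpa [commutatorElement_def, mul_assoc] using h⟩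
      have hsqz : ∀ n ∈ Subgroup.center H, ∀ g : H, (n * g) ^ 2 = g ^ 2 := fun n hn g => by
        rw [Commute.mul_pow (show Commute n g from (Subgroup.mem_center_iff.mp hn g).symm), hZp n hn, one_mul]
      have huu : u * u ∈ Subgroup.center H := by rw [← pow_two]; exact hFZ (hpow u)
      have hmem : ∀ x : H, x ^ 2 = c → x ∈ Subgroup.centralizer ({u} : Set H) := by
        intro x hx
        rcases mem_sup_zpowers_two (Subgroup.centralizer ({u} : Set H))
            (by rw [← pow_two, hv]; exact one_mem _) (hutop.ge (Subgroup.mem_top x)) with h | ⟨n, hn, rfl⟩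
        · exact h
        · exfalso
          rw [hCueq] at hn
          rcases mem_sup_zpowers_two (Subgroup.center H) huu hn with h | ⟨m, hm, rfl⟩
          · rw [hsqz n h, hv] at hx
            exact hc1 hx.symm
          · rw [mul_assoc, hsqz m hm, hsq u v huv, hu, hv, mul_one, hcc] at hx
            exact hc1 hx.symm
      refine no_chain hH hA hFZ (M := Subgroup.centralizer ({u} : Set H))
        (fun w hw => Subgroup.mem_centralizer_singleton_iff.mpr (Subgroup.mem_center_iff.mp hw u).symm)
        (fun α _ => hcentA α) ?_ ?_ ?_ ?_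
      · intro α _ x hx
        have hle : Subgroup.center H ⊔ Subgroup.zpowers u ≤
            (Subgroup.centralizer ({u} : Set H)).comap α.toMonoidHom := by
          refine sup_le (fun w hw => ?_) (Subgroup.zpowers_le.mpr ?_)
          · exact Subgroup.mem_centralizer_singleton_iff.mpr
              (Subgroup.mem_center_iff.mp (hcentA α w hw) u).symm
          · refine hmem _ ?_
            show (α u) ^ 2 = c
            rw [← map_pow, hu]
            exact (hFc _ (map_mem_frattini α (hco b a))).resolve_left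
              (fun h => hc1 (α.injective (h.trans (map_one α).symm)))
        exact hle (hCueq ▸ hx)
      · rw [hZc, hphi, pow_two]
      · rw [hCu, hZc]; norm_num
      · rw [hcard, hCu]; norm_num
    have h2 : a ^ 2 = c ∧ b ^ 2 = c := by
      by_contra hne
      rcases hFc _ (hpow a) with ha | ha <;> rcases hFc _ (hpow b) with hb | hb
      · refine hpair (a * b) b (fun h => hab ?_) ?_ hb
        · have h1 : a * b * b = b * (a * b) := h.eq
          exact mul_right_cancel (h1.trans (mul_assoc b a b).symm)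
        · rw [hsq a b hab, ha, hb, mul_one, mul_one]
      · exact hpair b a (fun h => hab h.symm) hb ha
      · exact hpair a b hab ha hb
      · exact hne ⟨ha, hb⟩
    refine Or.inr (Or.inl ⟨rfl, ?_⟩)
    have ha4 : a ^ (2 * 2) = 1 := by rw [pow_mul, h2.1, pow_two, hcc]
    have hba : b * a⁻¹ = a * b := by
      have h3 : a⁻¹ = a * c := by
        rw [inv_eq_iff_mul_eq_one, ← mul_assoc, ← pow_two, h2.1, hcc]
      have h4 : b * a = c * (a * b) := hyx a b
      rw [h3, ← mul_assoc, h4, (hcentral b a (a * b)).eq, mul_assoc, hcc, mul_one]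
    let fa := zhom (2 * 2) a ha4
    have hfa : ∀ i : ZMod (2 * 2), fa (Multiplicative.ofAdd i) * b =
        b * fa (Multiplicative.ofAdd (-i)) := by
      intro i
      obtain ⟨j, rfl⟩ := ZMod.intCast_surjective i
      rw [← Int.cast_neg, zhom_cast, zhom_cast, ← inv_zpow']
      exact ((show SemiconjBy b a⁻¹ a from hba).zpow_right j).eq.symm
    have hfmul : ∀ i j : ZMod (2 * 2), fa (Multiplicative.ofAdd i) * fa (Multiplicative.ofAdd j) =
        fa (Multiplicative.ofAdd (i + j)) := fun i j => (map_mul fa _ _).symm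
    let f : QuaternionGroup 2 →* H :=
      { toFun := fun q => match q with
          | .a i => fa (Multiplicative.ofAdd i)
          | .xa i => b * fa (Multiplicative.ofAdd i)
        map_one' := map_one fa
        map_mul' := by
          rintro (i | i) (j | j)
          · rw [QuaternionGroup.a_mul_a]
            exact (hfmul i j).symm
          · rw [QuaternionGroup.a_mul_xa]
            show b * _ = _ * (b * _)
            rw [← mul_assoc, hfa, mul_assoc, hfmul, neg_add_eq_sub]
          · rw [QuaternionGroup.xa_mul_a]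
            show b * _ = b * _ * _
            rw [mul_assoc, hfmul]
          · rw [QuaternionGroup.xa_mul_xa]
            show _ = b * _ * (b * _)
            have hbb : b * b = fa (Multiplicative.ofAdd ((2 : ℕ) : ZMod (2 * 2))) := by
              rw [show ((2 : ℕ) : ZMod (2 * 2)) = ((2 : ℤ) : ZMod (2 * 2)) by norm_cast, zhom_cast,
                ← pow_two, h2.2, ← h2.1]
              norm_cast
            rw [mul_assoc b (fa (Multiplicative.ofAdd i)), ← mul_assoc (fa (Multiplicative.ofAdd i)) b,
              hfa, ← mul_assoc, ← mul_assoc, hbb, hfmul, hfmul]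
            congr 2
            ring }
    have hz2 : z ^ 2 = 1 := hZp z hz
    let fz := zhom 2 z hz2
    let g := f.noncommCoprod fz (fun q i => commute_zhom 2 z hz2 (hzw _) i)
    have haR : a ∈ g.range := ⟨(.a 1, 1), by
      rw [MonoidHom.noncommCoprod_apply, map_one, mul_one]
      show fa (Multiplicative.ofAdd (1 : ZMod (2 * 2))) = a
      rw [← Int.cast_one, zhom_cast, zpow_one]⟩
    have hbR : b ∈ g.range := ⟨(.xa 0, 1), by
      rw [MonoidHom.noncommCoprod_apply, map_one, mul_one]
      show b * fa (Multiplicative.ofAdd (0 : ZMod (2 * 2))) = b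
      rw [ofAdd_zero, map_one, mul_one]⟩
    have hzR : z ∈ g.range := by
      obtain ⟨i, hi⟩ := zhom_range 2 z hz2
      exact ⟨(1, i), by rw [MonoidHom.noncommCoprod_apply, map_one, one_mul]; exact hi⟩
    have hsurj : g.range = ⊤ := by
      refine frattini_nongenerating (top_le_iff.mp ?_)
      rw [← hgen]
      exact sup_le (sup_le (sup_le le_sup_right (Subgroup.zpowers_le.mpr (Subgroup.mem_sup_left hzR)))
        (Subgroup.zpowers_le.mpr (Subgroup.mem_sup_left haR)))
        (Subgroup.zpowers_le.mpr (Subgroup.mem_sup_left hbR))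
    have hbij : Function.Bijective g := by
      rw [Nat.bijective_iff_surjective_and_card]
      refine ⟨MonoidHom.range_eq_top.mp hsurj, ?_⟩
      simp [Nat.card_prod, Nat.card_congr Multiplicative.toAdd, Nat.card_zmod, hcard,
        Nat.card_eq_fintype_card (α := QuaternionGroup 2), QuaternionGroup.card]
    exact ⟨(MulEquiv.ofBijective g hbij).symm⟩
  · have hch : p ∣ p.choose 2 := hp.out.dvd_choose_self two_ne_zero (by
      rcases hodd with ⟨m, hm⟩; have := hp.out.two_le; omega)
    let P : H →* H :=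
      { toFun := fun x => x ^ p
        map_one' := one_pow p
        map_mul' := fun x y => by
          obtain ⟨d, hd⟩ := hch
          rw [mul_pow_class_two (hcentral y x) (hyx x y) p, hd, pow_mul, hFp _ (hco y x), one_pow,
            one_mul] }
    by_cases hexp : ∀ x : H, x ^ p = 1
    · left
      refine ⟨hodd, ?_⟩
      set E := Subgroup.closure ({a, b} : Set H) with hE
      have haF : a ∉ frattini H := fun h => hab (Subgroup.mem_center_iff.mp (hFZ h) b).symm
      have hT1 := card_sup_zpowers (frattini H) haF (hpow a)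
      have hbT : b ∉ frattini H ⊔ Subgroup.zpowers a := fun h => by
        have hle : frattini H ⊔ Subgroup.zpowers a ≤ Subgroup.centralizer {a} :=
          sup_le (fun w hw => Subgroup.mem_centralizer_singleton_iff.mpr
            (Subgroup.mem_center_iff.mp (hFZ hw) a).symm)
            (Subgroup.zpowers_le.mpr (Subgroup.mem_centralizer_singleton_iff.mpr rfl))
        exact hab (Subgroup.mem_centralizer_singleton_iff.mp (hle h)).symm
      have : (frattini H ⊔ Subgroup.zpowers a).Normal := ⟨fun n hn g => by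
        have h := mul_mem (Subgroup.mem_sup_left (T := Subgroup.zpowers a) (hco g n)) hn
        simpa [commutatorElement_def, mul_assoc] using h⟩
      have hT2 := card_sup_zpowers _ hbT (Subgroup.mem_sup_left (hpow b))
      rw [hT1, hphi] at hT2
      have hEle : E ≤ frattini H ⊔ Subgroup.zpowers a ⊔ Subgroup.zpowers b := by
        rw [hE, Subgroup.closure_le]
        rintro x (rfl | rfl)
        · exact Subgroup.mem_sup_left (Subgroup.mem_sup_right (Subgroup.mem_zpowers _))
        · exact Subgroup.mem_sup_right (Subgroup.mem_zpowers _)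
      have hE3le : Nat.card E ≤ p ^ 3 :=
        (Subgroup.card_le_of_le hEle).trans (by rw [hT2]; exact le_of_eq (by ring))
      let fz := zhom p z (hexp z)
      let g := E.subtype.noncommCoprod fz (fun e i => commute_zhom p z (hexp z) (hzw _) i)
      have haR : a ∈ g.range := ⟨(⟨a, Subgroup.subset_closure (Or.inl rfl)⟩, 1), by
        rw [MonoidHom.noncommCoprod_apply, map_one, mul_one]; rfl⟩
      have hbR : b ∈ g.range := ⟨(⟨b, Subgroup.subset_closure (Or.inr rfl)⟩, 1), by
        rw [MonoidHom.noncommCoprod_apply, map_one, mul_one]; rfl⟩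
      have hzR : z ∈ g.range := by
        obtain ⟨i, hi⟩ := zhom_range p z (hexp z)
        exact ⟨(1, i), by rw [MonoidHom.noncommCoprod_apply, map_one, one_mul]; exact hi⟩
      have hsurj : g.range = ⊤ := by
        refine frattini_nongenerating (top_le_iff.mp ?_)
        rw [← hgen]
        exact sup_le (sup_le (sup_le le_sup_right (Subgroup.zpowers_le.mpr (Subgroup.mem_sup_left hzR)))
          (Subgroup.zpowers_le.mpr (Subgroup.mem_sup_left haR)))
          (Subgroup.zpowers_le.mpr (Subgroup.mem_sup_left hbR))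
      have : NeZero p := ⟨hp.out.ne_zero⟩
      have hsur := MonoidHom.range_eq_top.mp hsurj
      have hE3 : Nat.card E = p ^ 3 := by
        refine le_antisymm hE3le ?_
        have h := Nat.card_le_card_of_surjective g hsur
        rw [hcard, Nat.card_prod, Nat.card_congr Multiplicative.toAdd, Nat.card_zmod,
          pow_succ p 3] at h
        exact Nat.le_of_mul_le_mul_right h hp.out.pos
      have hbij : Function.Bijective g := by
        rw [Nat.bijective_iff_surjective_and_card]
        refine ⟨hsur, ?_⟩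
        simp only [Nat.card_prod, Nat.card_congr Multiplicative.toAdd, Nat.card_zmod, hE3, hcard]
        ring
      let eqv : E ≃ Carrier (Nat.card E) := Finite.equivFin E
      let : Group (Carrier (Nat.card E)) := eqv.symm.group
      let e : Carrier (Nat.card E) ≃* E := eqv.symm.mulEquiv
      have : Finite (Carrier (Nat.card E)) := Finite.of_equiv _ eqv
      have hC3 : Nat.card (Carrier (Nat.card E)) = p ^ 3 := by rw [← Nat.card_congr eqv, hE3]
      refine ⟨Carrier (Nat.card E), inferInstance, inferInstance, ?_, ?_, ?_, ?_⟩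
      · refine extraspecial_of_card_cube (a := e.symm ⟨a, Subgroup.subset_closure (Or.inl rfl)⟩)
          (b := e.symm ⟨b, Subgroup.subset_closure (Or.inr rfl)⟩) hC3 ?_
        intro h
        apply hab
        have h2 := congrArg (fun t : E => (t : H)) (congrArg e h.eq)
        simp only [map_mul, MulEquiv.apply_symm_apply, Subgroup.coe_mul] at h2
        exact h2
      · exact hC3
      · intro x
        apply e.injective
        rw [map_pow, map_one]
        exact Subtype.ext (hexp _)
      · exact ⟨(MulEquiv.ofBijective g hbij).symm.trans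
          (MulEquiv.prodCongr e.symm (MulEquiv.refl _))⟩
    · exfalso
      push Not at hexp
      obtain ⟨x, hx⟩ := hexp
      have hker : Nat.card P.ker = p ^ 3 := by
        have hd : P.ker.index ∣ p := by
          rw [Subgroup.index_ker, ← hphi]
          exact Subgroup.card_dvd_of_le (by rintro _ ⟨y, rfl⟩; exact hpow y)
        have hi : P.ker.index = p := ((Nat.dvd_prime hp.out).mp hd).resolve_left
          (fun h => hx ((Subgroup.index_eq_one.mp h).ge (Subgroup.mem_top x)))
        have h := Subgroup.card_mul_index P.ker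
        rw [hi, hcard, pow_succ p 3] at h
        exact Nat.eq_of_mul_eq_mul_right hp.out.pos h
      refine no_chain hH hA hFZ (M := P.ker) hZp (fun α _ => hcentA α) ?_ ?_ ?_ ?_
      · intro α _ y hy
        show α y ^ p = 1
        rw [← map_pow, show y ^ p = 1 from hy, map_one]
      · rw [hZc, hphi, pow_two]
      · rw [hker, hZc]; exact dvd_of_eq (by ring)
      · rw [hcard, hker]; exact dvd_of_eq (by ring)

/-- Let F be a saturated fusion system over a finite p-group S and H an essential subgroup of order p⁴. Then H is isomorphic to one of: C_p⁴ or C_{p²} × C_p × C_p (any p); C_{p²} × C_{p²} with p ∈ {2, 3}; p^{1+2}_+ × C_p with p odd (the direct product of an extraspecial group of order p³ and exponent p with a group of order p); Q₈ × C₂ (p = 2); or the non-abelian group of order p⁴ of exponent p² whose centre is cyclic of order p² (the central product of an extraspecial group of order p³ with a cyclic group of order p²; for p = 2 this is D₈ ∘ C₄). -/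
theorem result {Ω : Type u} [Group Ω] {S : Subgroup Ω} [Finite S] (p : ℕ) [Fact p.Prime] (hS : IsPGroup p S)
    (F : Cfsg.FusionSystem S) (hF : F.IsSaturated p) (H : Subgroup Ω) (hH : F.IsEssential p H) (hcard : Nat.card H = p ^ 4) :
    Cfsg.IsElementaryAbelian p H ∨
      Nonempty (↥H ≃* Multiplicative (ZMod (p ^ 2) × ZMod p × ZMod p)) ∨
      ((p = 2 ∨ p = 3) ∧ Nonempty (↥H ≃* Multiplicative (ZMod (p ^ 2) × ZMod (p ^ 2)))) ∨
      (Odd p ∧ ∃ (E : Type) (_ : Group E) (_ : Finite E), Cfsg.IsExtraspecial p E ∧ Nat.card E = p ^ 3 ∧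
        (∀ x : E, x ^ p = 1) ∧ Nonempty (↥H ≃* E × Multiplicative (ZMod p))) ∨
      (p = 2 ∧ Nonempty (↥H ≃* QuaternionGroup 2 × Multiplicative (ZMod 2))) ∨
      (¬ IsMulCommutative ↥H ∧ (∀ x ∈ H, x ^ (p ^ 2) = 1) ∧ IsCyclic ↥(Subgroup.center ↥H) ∧
        Nat.card (Subgroup.center ↥H) = p ^ 2) := by
  obtain ⟨hcen, -, hn, E, hE⟩ := hH
  have hHS : H ≤ S := hcen.1
  have : Finite H := CfsgLib.Fus.finite_of_le hHS
  have hHp : IsPGroup p H := hS.to_le hHS
  have : Finite (MulAut H) := CfsgLib.Fus.finite_mulAut H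
  have hA : Good p (F.autGroup H) := good_of_strongly hE
  obtain ⟨k, hk⟩ := IsPGroup.iff_card.mp (hHp.to_subgroup (frattini H))
  obtain ⟨hpow, hco⟩ := frattini_mem hHp
  have hne : frattini (↥H) ≠ ⊤ := fun h => by
    have hb : (⊥ : Subgroup H) = ⊤ := frattini_nongenerating (by rw [bot_sup_eq, h])
    have hc1 : Nat.card (⊥ : Subgroup H) = Nat.card H := by rw [hb, Subgroup.card_top]
    rw [Subgroup.card_bot, hcard] at hc1
    exact (Nat.one_lt_pow (by norm_num) (Fact.out (p := p.Prime)).one_lt).ne hc1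
  have hk4 : k < 4 := by
    have h := lt_of_le_of_ne (Subgroup.card_le_card_group (frattini ↥H))
      (fun e => hne (Subgroup.eq_top_of_card_eq _ e))
    rw [hk, hcard] at h
    exact (Nat.pow_lt_pow_iff_right (Fact.out (p := p.Prime)).one_lt).mp h
  rcases (by omega : k = 0 ∨ k = 1 ∨ k = 2 ∨ k = 3) with rfl | rfl | rfl | rfl
  · left
    rw [pow_zero, Subgroup.card_eq_one] at hk
    refine ⟨⟨⟨fun x y => ?_⟩⟩, fun x hx => ?_⟩
    · have h := hco x y
      rw [hk, Subgroup.mem_bot, commutatorElement_eq_one_iff_commute] at h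
      exact h
    · have h := hpow ⟨x, hx⟩
      rw [hk, Subgroup.mem_bot] at h
      exact congrArg Subtype.val h
  · rw [pow_one] at hk
    by_cases hab : IsMulCommutative H
    · exact Or.inr (Or.inl (d3_abelian hHp hcard hk hab))
    · obtain ⟨a, b, h⟩ : ∃ a b : H, ¬ Commute a b := by
        by_contra h
        push Not at h
        exact hab ⟨⟨fun a b => (h a b).eq⟩⟩
      rcases d3_nonabelian hHp hcard hk hA h with h' | h' | ⟨h1, h2, h3⟩
      · exact Or.inr (Or.inr (Or.inr (Or.inl h')))
      · exact Or.inr (Or.inr (Or.inr (Or.inr (Or.inl h'))))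
      · exact Or.inr (Or.inr (Or.inr (Or.inr (Or.inr
          ⟨h1, fun x hx => congrArg Subtype.val (h2 ⟨x, hx⟩), h3⟩))))
  · by_cases hab : IsMulCommutative H
    · exact Or.inr (Or.inr (Or.inl (d2_abelian hHp hcard hk hA hab)))
    · exact (d2_nonabelian hHp hcard hk hA hab).elim
  · exfalso
    refine no_chain hHp hA (le_refl _) (le_refl _) (fun α _ x hx => map_mem_frattini α hx)
      (fun α _ x hx => map_mem_frattini α hx) (Dvd.intro_left p rfl) (Dvd.intro_left p rfl) ?_
    rw [hk, hcard]; exact dvd_of_eq (by ring)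

end Cfsg.Agent.S5188
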