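import Cfsg.Statements.S5191
import Cfsg.Agent.Eq.Def_Solvable

set_option autoImplicit false
open Cfsg

namespace Cfsg.Agent.S5191

/-- Fusion in a finite group G and in its quotient by O_{p'}(G) agree. Let S be a Sylow p-subgroup of G, N = O_{p'}(G) and P ≤ S. If an element of G/N conjugates the image of P into the image of S, then some element g of G conjugates P into S and induces the same map on P modulo N. (Together with the injectivity of S → G/N this says that g ↦ gN induces an isomorphism of the fusion system of G on S with that of G/N on SN/N.) -/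
theorem result {G : Type*} [Group G] [Finite G] {p : ℕ} [Fact p.Prime]
    [hN : (Cfsg.pPrimeCore p G).Normal] (S : Sylow p G) (P : Subgroup G) (hP : P ≤ (S : Subgroup G))
    (γ : G ⧸ Cfsg.pPrimeCore p G)
    (hγ : ∀ x ∈ P, γ * QuotientGroup.mk x * γ⁻¹ ∈ ((S : Subgroup G).map (QuotientGroup.mk' (Cfsg.pPrimeCore p G)))) :
    ∃ g : G, ∀ x ∈ P, g * x * g⁻¹ ∈ S ∧
      (QuotientGroup.mk (g * x * g⁻¹) : G ⧸ Cfsg.pPrimeCore p G) = γ * QuotientGroup.mk x * γ⁻¹ := by
  obtain ⟨g₀, rfl⟩ := QuotientGroup.mk_surjective γ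
  set N := Cfsg.pPrimeCore p G with hNdef
  have hmem : ∀ x ∈ P, g₀ * x * g₀⁻¹ ∈ (S : Subgroup G) ⊔ N := by
    intro x hx
    have h1 : g₀ * x * g₀⁻¹ ∈ ((S : Subgroup G).map (QuotientGroup.mk' N)).comap (QuotientGroup.mk' N) := by
      rw [Subgroup.mem_comap, map_mul, map_mul, map_inv]
      exact hγ x hx
    rwa [Subgroup.comap_map_eq, QuotientGroup.ker_mk'] at h1
  set P' := P.map (MulAut.conj g₀).toMonoidHom with hP'
  have hP'le : P' ≤ (S : Subgroup G) ⊔ N := by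
    rintro _ ⟨x, hx, rfl⟩
    simpa using hmem x hx
  have hPp : IsPGroup p P' := (S.2.to_le hP).map _
  set K := (S : Subgroup G) ⊔ N with hK
  obtain ⟨Q, hQ⟩ := (hPp.comap_of_injective K.subtype K.subtype_injective).exists_le_sylow
  obtain ⟨k, hk⟩ := MulAction.exists_smul_eq K Q (S.subtype le_sup_left)
  obtain ⟨t, ht, n, hn, htn⟩ := Subgroup.mem_sup_of_normal_right.mp (show (k : G) ∈ (S : Subgroup G) ⊔ N from k.2)
  refine ⟨n * g₀, fun x hx => ?_⟩
  have hn1 : (QuotientGroup.mk n : G ⧸ N) = 1 := (QuotientGroup.eq_one_iff n).mpr hn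
  refine ⟨?_, ?_⟩
  rotate_left
  · rw [QuotientGroup.mk_mul, QuotientGroup.mk_mul, QuotientGroup.mk_inv, QuotientGroup.mk_mul, hn1, one_mul]
  have hy : (⟨g₀ * x * g₀⁻¹, hmem x hx⟩ : K) ∈ (Q : Subgroup K) := hQ ⟨x, hx, by simp⟩
  have hc : k * ⟨g₀ * x * g₀⁻¹, hmem x hx⟩ * k⁻¹ ∈ (S.subtype (le_sup_left : (S : Subgroup G) ≤ K) : Subgroup K) := by
    rw [← hk]
    exact Subgroup.smul_mem_pointwise_smul _ (MulAut.conj k) _ hy
  have hc' : (k : G) * (g₀ * x * g₀⁻¹) * (k : G)⁻¹ ∈ (S : Subgroup G) := hc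
  have h2 := (S : Subgroup G).mul_mem ((S : Subgroup G).mul_mem ((S : Subgroup G).inv_mem ht) hc') ht
  have he : t⁻¹ * ((k : G) * (g₀ * x * g₀⁻¹) * (k : G)⁻¹) * t = n * g₀ * x * (n * g₀)⁻¹ := by
    rw [← htn]; group
  rw [← he]
  exact h2

end Cfsg.Agent.S5191
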