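import Cfsg.Statements.S5192
import Cfsg.Agent.Fus.Biset.Transfer
import Cfsg.Agent.Fus.Focal

set_option autoImplicit false
open Cfsg

namespace Cfsg.Agent.S5192

theorem z2_mul : Multiplicative.ofAdd (1 : ZMod 2) * Multiplicative.ofAdd (1 : ZMod 2) = 1 := by decide

theorem z2_ne : Multiplicative.ofAdd (1 : ZMod 2) ≠ 1 := by decide

theorem z2_all : ∀ y : Multiplicative (ZMod 2), y ≠ 1 → y = Multiplicative.ofAdd 1 := by decide

theorem z2_pow_odd {n : ℕ} (hn : n % 2 = 1) : (Multiplicative.ofAdd (1 : ZMod 2)) ^ n ≠ 1 := by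
  rw [← Nat.div_add_mod n 2, hn, pow_add, pow_mul, pow_two, z2_mul, one_pow, one_mul, pow_one]
  exact z2_ne

/-- A Thompson-type transfer for saturated fusion systems. Let F be a saturated fusion system on a finite 2-group S, T a subgroup of S of index 2, and i an involution of S such that every fully normalized F-conjugate of i lies in S but outside T. Then i does not lie in the hyperfocal subgroup of F (the Sylow group of the 2-residual subsystem). -/
theorem result {Ω : Type*} [Group Ω] [Finite Ω] {S : Subgroup Ω}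
    (hS : IsPGroup 2 ↥S) (F : Cfsg.FusionSystem S) (hF : F.IsSaturated 2)
    (T : Subgroup Ω) (hTS : T ≤ S) (hT : T.relIndex S = 2)
    (i : Ω) (hi : i ∈ S) (hi2 : orderOf i = 2)
    (h : ∀ j : Ω, F.IsConjElt i j → F.IsFullyNormalized (Subgroup.zpowers j) → j ∉ T) :
    i ∉ F.hyperfocalSubgroup 2 := by
  classical
  haveI : Fact (Nat.Prime 2) := ⟨Nat.prime_two⟩
  obtain ⟨X, _, _, m, hX, hst, hcard, hm, -⟩ := CfsgLib.Fus.Biset.exists_characteristic hS hF
  -- the character with kernel `T`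
  have hidx : (T.subgroupOf S).index = 2 := hT
  haveI hN : (T.subgroupOf S).Normal := Subgroup.normal_of_index_eq_two hidx
  let lam : S →* Multiplicative (ZMod 2) := MonoidHom.mk'
    (fun s => if s ∈ T.subgroupOf S then 1 else Multiplicative.ofAdd 1) fun a b => by
      have hab : a * b ∈ T.subgroupOf S ↔ (a ∈ T.subgroupOf S ↔ b ∈ T.subgroupOf S) :=
        Subgroup.mul_mem_iff_of_index_two hidx
      by_cases ha : a ∈ T.subgroupOf S <;> by_cases hb : b ∈ T.subgroupOf S <;> simp [ha, hb, hab, z2_mul]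
  have hlam : ∀ s : S, lam s ≠ 1 ↔ (s : Ω) ∉ T := fun s => by
    show (if s ∈ T.subgroupOf S then (1 : Multiplicative (ZMod 2)) else Multiplicative.ofAdd 1) ≠ 1 ↔ _
    by_cases hs : s ∈ T.subgroupOf S
    · simp only [if_pos hs, ne_eq, not_true_eq_false, false_iff, not_not]
      exact hs
    · simp only [if_neg hs]
      exact ⟨fun _ => hs, fun _ => z2_ne⟩
  -- a left equivariant function
  let H : Subgroup (S × S) := (⊤ : Subgroup S).prod ⊥
  obtain ⟨f, hf'⟩ := CfsgLib.Fus.Biset.exists_equivariant (X := X)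
    (lam.comp ((MonoidHom.fst S S).comp H.subtype)) (fun x g hg => by
      have h2 : (g : S × S).2 = 1 := Subgroup.mem_bot.1 (Subgroup.mem_prod.1 g.2).2
      have h3 : ((g : S × S).1, (1 : S)) • x = x := by
        rw [show (((g : S × S).1, (1 : S)) : S × S) = (g : S × S) from Prod.ext rfl h2.symm]
        exact hg
      show lam (g : S × S).1 = 1
      rw [CfsgLib.Fus.Biset.left_free hX h3, map_one])
  have hf : ∀ (u : S) (x : X), f ((u, (1 : S)) • x) = lam u * f x := fun u x =>
    hf' ⟨(u, 1), Subgroup.mem_prod.2 ⟨Subgroup.mem_top u, one_mem _⟩⟩ x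
  let τ := CfsgLib.Fus.Biset.transfer lam f hf
  intro hihyp
  -- pass to a fully normalized conjugate
  have hzi : Subgroup.zpowers i ≤ S := Subgroup.zpowers_le.2 hi
  obtain ⟨Q, ⟨φ, hφ, hr⟩, hQ⟩ := CfsgLib.Fus.exists_fullyNormalized F hzi
  let k : S := ⟨φ ⟨i, Subgroup.mem_zpowers i⟩, CfsgLib.Fus.hom_mem F hφ _⟩
  have hkQ : Subgroup.zpowers (k : Ω) = Q := by
    rw [← hr]
    ext y
    constructor
    · rintro ⟨n, rfl⟩
      exact ⟨⟨i, Subgroup.mem_zpowers i⟩ ^ n, map_zpow φ _ n⟩
    · rintro ⟨⟨_, n, rfl⟩, rfl⟩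
      exact ⟨n, (map_zpow φ ⟨i, Subgroup.mem_zpowers i⟩ n).symm⟩
  have hk2 : orderOf (k : Ω) = 2 := by
    show orderOf (φ ⟨i, Subgroup.mem_zpowers i⟩) = 2
    rw [orderOf_injective φ (F.injective_of_mem hφ), ← Subgroup.orderOf_coe]
    exact hi2
  have hτi : τ k = 1 := by
    rw [show k = ⟨φ ⟨i, Subgroup.mem_zpowers i⟩, CfsgLib.Fus.hom_mem F hφ _⟩ from rfl,
      CfsgLib.Fus.Biset.transfer_map hX hst lam f hf hφ]
    have hker : F.focalSubgroup ≤ τ.ker.map S.subtype := by
      refine (Subgroup.closure_le _).2 ?_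
      rintro _ ⟨P, ψ, x, hψ, rfl⟩
      refine ⟨⟨x, CfsgLib.Fus.hom_le F hψ x.2⟩⁻¹ * ⟨ψ x, CfsgLib.Fus.hom_mem F hψ x⟩, ?_, rfl⟩
      show τ _ = 1
      rw [map_mul, map_inv, inv_mul_eq_one]
      exact (CfsgLib.Fus.Biset.transfer_map hX hst lam f hf hψ x).symm
    obtain ⟨s, hs, hsi⟩ := hker (CfsgLib.Fus.hyperfocalSubgroup_le_focal F hihyp)
    have : s = ⟨i, hi⟩ := Subtype.ext hsi
    exact this ▸ hs
  -- parity of the value at `k`
  let O := Quotient (CfsgLib.Fus.Biset.leftSetoid S X)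
  haveI : Fintype O := Fintype.ofFinite _
  let sh : S →* Equiv.Perm O := MonoidHom.mk' (fun v => CfsgLib.Fus.Biset.tShift (X := X) v) fun v w => by
    refine Equiv.ext fun o => ?_
    induction o using Quotient.inductionOn with
    | _ x =>
      show Quotient.mk _ (((1 : S), v * w) • x) = Quotient.mk _ (((1 : S), v) • ((1 : S), w) • x)
      rw [← mul_smul]
      congr 2
      ext <;> simp
  let a : O → Multiplicative (ZMod 2) := CfsgLib.Fus.Biset.tDelta lam f hf k
  let N : Subgroup S := (Cfsg.FusionSystem.normalizerIn S Q).subgroupOf S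
  have hcomm : ∀ v ∈ N, v * k = k * v := by
    intro v hv
    have hkq : (k : Ω) ∈ Q := hkQ ▸ Subgroup.mem_zpowers _
    have h1 : (v : Ω) * k * (v : Ω)⁻¹ ∈ Subgroup.zpowers (k : Ω) := by
      rw [hkQ]
      exact (Subgroup.mem_normalizer_iff.1 hv.2 _).1 hkq
    have hsq : (k : Ω) ^ 2 = 1 := hk2 ▸ pow_orderOf_eq_one _
    obtain ⟨n, hn⟩ := h1
    have hne : (v : Ω) * k * (v : Ω)⁻¹ ≠ 1 := fun h => by
      rw [conj_eq_one_iff] at h
      rw [h, orderOf_one] at hk2
      exact absurd hk2 (by decide)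
    apply Subtype.ext
    show (v : Ω) * k = k * v
    have h2 : (k : Ω) ^ n = k := by
      rcases Int.emod_two_eq_zero_or_one n with h0 | h0
      · exfalso
        apply hne
        rw [← hn]
        show (k : Ω) ^ n = 1
        rw [← zpow_mod_orderOf, hk2]
        show (k : Ω) ^ (n % (2 : ℤ)) = 1
        rw [h0, zpow_zero]
      · rw [← zpow_mod_orderOf, hk2]
        show (k : Ω) ^ (n % (2 : ℤ)) = k
        rw [h0, zpow_one]
    exact mul_inv_eq_iff_eq_mul.1 (hn.symm.trans h2)
  have hkN : k ∈ N := CfsgLib.Fus.le_normalizerIn hQ.1 (hkQ ▸ Subgroup.mem_zpowers (k : Ω))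
  letI actN : MulAction N O := MulAction.compHom O (sh.comp N.subtype)
  have hkfix : ∀ o : O, (∀ v : N, v • o = o) → sh k o = o := fun o ho => ho ⟨k, hkN⟩
  have hval : ∀ o : O, (∀ v : N, v • o = o) → a o ≠ 1 := by
    intro o
    induction o using Quotient.inductionOn with
    | _ x =>
      intro ho
      obtain ⟨P, ψ, hψ, hdiag⟩ := hX x
      have hu : ∀ v : N, ∃ u : S, (u, (v : S)) • x = x := fun v => by
        obtain ⟨u, hu⟩ := Quotient.exact (ho v)
        refine ⟨u, ?_⟩
        rw [show ((u, (v : S)) : S × S) = (u, 1) * (1, (v : S)) by ext <;> simp, mul_smul]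
        exact hu
      have hvP : ∀ v : N, ((v : S) : Ω) ∈ P := fun v => by
        obtain ⟨u, hu'⟩ := hu v
        exact (hdiag ▸ (MulAction.mem_stabilizer_iff.2 hu') : (u, (v : S)) ∈ CfsgLib.Fus.Biset.diag (S := S) ψ).1
      obtain ⟨u, hu'⟩ := hu ⟨k, hkN⟩
      have huj : (u : Ω) = ψ ⟨(k : Ω), hvP ⟨k, hkN⟩⟩ :=
        (hdiag ▸ (MulAction.mem_stabilizer_iff.2 hu') : (u, k) ∈ CfsgLib.Fus.Biset.diag (S := S) ψ).2
      -- `u` is a fully normalized conjugate
      have hQP : Subgroup.zpowers (k : Ω) ≤ P := Subgroup.zpowers_le.2 (hvP ⟨k, hkN⟩)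
      have hconj : F.IsConjElt i u := by
        have hm : ∀ y, φ y ∈ P := fun y => hQP (hkQ.symm ▸ hr.le ⟨y, rfl⟩)
        refine ⟨_, F.comp_mem hφ hψ hm, ?_⟩
        rw [huj]
        rfl
      have hQj : F.IsConj Q (Subgroup.zpowers (u : Ω)) := by
        refine ⟨_, CfsgLib.Fus.restrict_mem F hψ (hkQ ▸ hQP), ?_⟩
        subst hkQ
        ext y
        constructor
        · rintro ⟨⟨_, n, rfl⟩, rfl⟩
          refine ⟨n, ?_⟩
          rw [huj]
          exact ((map_zpow ψ ⟨(k : Ω), hvP ⟨k, hkN⟩⟩ n).symm).trans (congrArg ψ (Subtype.ext rfl))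
        · rintro ⟨n, rfl⟩
          refine ⟨⟨(k : Ω) ^ n, n, rfl⟩, ?_⟩
          rw [huj]
          exact (congrArg ψ (Subtype.ext rfl)).trans (map_zpow ψ ⟨(k : Ω), hvP ⟨k, hkN⟩⟩ n)
      have hfn : F.IsFullyNormalized (Subgroup.zpowers (u : Ω)) := by
        refine ⟨Subgroup.zpowers_le.2 u.2, fun R hR => le_trans (hQ.2 R (CfsgLib.Fus.isConj_trans hQj hR)) ?_⟩
        let g : Cfsg.FusionSystem.normalizerIn S Q → Cfsg.FusionSystem.normalizerIn S (Subgroup.zpowers (u : Ω)) :=
          fun v => ⟨ψ ⟨(v : Ω), hvP ⟨⟨v, v.2.1⟩, v.2⟩⟩, CfsgLib.Fus.hom_mem F hψ _, by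
            have hc := congrArg (fun z : S => (z : Ω)) (hcomm ⟨v, v.2.1⟩ v.2)
            have hc' : (⟨(v : Ω), hvP ⟨⟨v, v.2.1⟩, v.2⟩⟩ : P) * ⟨(k : Ω), hvP ⟨k, hkN⟩⟩ =
                ⟨(k : Ω), hvP ⟨k, hkN⟩⟩ * ⟨(v : Ω), hvP ⟨⟨v, v.2.1⟩, v.2⟩⟩ := Subtype.ext hc
            have hc2 := congrArg ψ hc'
            rw [map_mul, map_mul, ← huj] at hc2
            refine Subgroup.centralizer_le_normalizer _ (Subgroup.mem_centralizer_iff.2 ?_)
            rintro _ ⟨n, rfl⟩
            exact ((show Commute (ψ ⟨(v : Ω), hvP ⟨⟨v, v.2.1⟩, v.2⟩⟩) (u : Ω) from hc2).zpow_right n).eq.symm⟩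
        haveI : Finite (Cfsg.FusionSystem.normalizerIn S (Subgroup.zpowers (u : Ω))) :=
          CfsgLib.Fus.finite_of_le (CfsgLib.Fus.normalizerIn_le _)
        refine Nat.card_le_card_of_injective g fun v w hvw => ?_
        exact Subtype.ext (congrArg (fun z : P => (z : Ω))
          (F.injective_of_mem hψ (congrArg (fun z : Cfsg.FusionSystem.normalizerIn S (Subgroup.zpowers (u : Ω)) => (z : Ω)) hvw)))
      have hl : lam u ≠ 1 := (hlam u).2 (h u hconj hfn)
      have hx : ((1 : S), k) • x = (u⁻¹, (1 : S)) • x := by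
        rw [show ((u⁻¹, (1 : S)) : S × S) = ((u, (1 : S)) : S × S)⁻¹ by ext <;> simp, eq_inv_smul_iff, ← mul_smul,
          show ((u, (1 : S)) : S × S) * ((1 : S), k) = (u, k) by ext <;> simp]
        exact hu'
      show f (((1 : S), k) • x) / f x ≠ 1
      rw [hx, hf, mul_div_cancel_right, map_inv, inv_ne_one]
      exact hl
  -- pairs off the fixed points
  have htwo := z2_all
  let A : Finset O := Finset.univ.filter (fun o => sh k o = o ∧ a o ≠ 1)
  have hprod : τ k = (Multiplicative.ofAdd (1 : ZMod 2)) ^ A.card := by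
    show CfsgLib.Fus.Biset.transfer lam f hf k = _
    rw [CfsgLib.Fus.Biset.transfer_apply, ← Finset.prod_filter_mul_prod_filter_not Finset.univ (fun o => sh k o = o)]
    have hpair : ∏ o ∈ Finset.univ.filter (fun o => ¬ sh k o = o), a o = 1 := by
      have hkk : k * k = 1 := by
        refine Subtype.ext ?_
        show (k : Ω) * k = 1
        rw [← pow_two, ← hk2, pow_orderOf_eq_one]
      refine Finset.prod_involution (fun o _ => sh k o) (fun o _ => ?_) (fun o ho _ => (Finset.mem_filter.1 ho).2)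
        (fun o ho => Finset.mem_filter.2 ⟨Finset.mem_univ _, fun he => (Finset.mem_filter.1 ho).2 ((sh k).injective he)⟩)
        (fun o _ => by
          show (sh k * sh k) o = o
          rw [← map_mul, hkk, map_one]
          rfl)
      induction o using Quotient.inductionOn with
      | _ x =>
        show f (((1 : S), k) • x) / f x * (f (((1 : S), k) • ((1 : S), k) • x) / f (((1 : S), k) • x)) = 1
        rw [mul_comm, div_mul_div_cancel, ← mul_smul,
          show (((1 : S), k) : S × S) * ((1 : S), k) = 1 by ext <;> simp [hkk], one_smul, div_self']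
    rw [show (∏ o ∈ Finset.univ.filter (fun o => ¬ sh k o = o), CfsgLib.Fus.Biset.tDelta lam f hf k o) = 1 from hpair,
      mul_one, ← Finset.prod_filter_mul_prod_filter_not (Finset.univ.filter (fun o => sh k o = o)) (fun o => a o ≠ 1),
      Finset.filter_filter, Finset.filter_filter,
      Finset.prod_eq_one (s := Finset.univ.filter (fun o => sh k o = o ∧ ¬ a o ≠ 1))
        (fun o ho => not_not.1 (Finset.mem_filter.1 ho).2.2), mul_one]
    exact Finset.prod_eq_pow_card fun o ho => htwo _ (Finset.mem_filter.1 ho).2.2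
  -- count modulo two
  have hinv : ∀ (v : N) (o : O), (sh k o = o ∧ a o ≠ 1) → sh k (v • o) = v • o ∧ a (v • o) ≠ 1 := by
    rintro v o ⟨ho, hao⟩
    have hc := hcomm v v.2
    refine ⟨?_, ?_⟩
    · show (sh k * sh v) o = sh v o
      rw [← map_mul, ← hc, map_mul]
      show sh v (sh k o) = _
      rw [ho]
    · induction o using Quotient.inductionOn with
      | _ x =>
        obtain ⟨w, hw⟩ := Quotient.exact ho
        show f (((1 : S), k) • ((1 : S), (v : S)) • x) / f (((1 : S), (v : S)) • x) ≠ 1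
        have e : ((1 : S), k) • ((1 : S), (v : S)) • x = ((1 : S), (v : S)) • ((1 : S), k) • x := by
          rw [← mul_smul, ← mul_smul]
          congr 1
          exact Prod.ext rfl hc.symm
        have e2 : ((1 : S), k) • x = (w⁻¹, (1 : S)) • x := by
          conv_rhs => rw [← hw, ← mul_smul]
          rw [show ((w⁻¹, (1 : S)) : S × S) * (w, 1) = 1 by ext <;> simp, one_smul]
          rfl
        have hao' : f (((1 : S), k) • x) / f x ≠ 1 := hao
        rw [e, e2, CfsgLib.Fus.Biset.left_right_comm, hf, mul_div_cancel_right]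
        rwa [e2, hf, mul_div_cancel_right] at hao'
  letI actA : MulAction N {o : O // sh k o = o ∧ a o ≠ 1} :=
    { smul := fun v o => ⟨v • o.1, hinv v o.1 o.2⟩
      one_smul := fun o => Subtype.ext (one_smul N o.1)
      mul_smul := fun v w o => Subtype.ext (mul_smul v w o.1) }
  have hNp : IsPGroup 2 N := hS.to_subgroup N
  have h1 := hNp.card_modEq_card_fixedPoints {o : O // sh k o = o ∧ a o ≠ 1}
  have h2 := hNp.card_modEq_card_fixedPoints O
  have h3 : Nat.card (MulAction.fixedPoints N {o : O // sh k o = o ∧ a o ≠ 1}) = Nat.card (MulAction.fixedPoints N O) :=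
    Nat.card_congr ⟨fun o => ⟨o.1.1, fun v => congrArg Subtype.val (o.2 v)⟩,
      fun o => ⟨⟨o.1, hkfix o.1 o.2, hval o.1 o.2⟩, fun v => Subtype.ext (o.2 v)⟩, fun _ => rfl, fun _ => rfl⟩
  have hm' : Nat.card O = m := by
    have := CfsgLib.Fus.Biset.card_quotient_left (B := S) hX
    rw [hcard] at this
    exact (Nat.eq_of_mul_eq_mul_left Nat.card_pos this).symm
  have hA : Nat.card {o : O // sh k o = o ∧ a o ≠ 1} = A.card := by
    rw [Nat.card_eq_fintype_card, Fintype.card_subtype]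
  rw [hA, h3] at h1
  rw [hm'] at h2
  have hodd : A.card % 2 = 1 := by
    have := h1.trans h2.symm
    unfold Nat.ModEq at this
    omega
  rw [hτi] at hprod
  exact z2_pow_odd hodd hprod.symm

end Cfsg.Agent.S5192
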