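import Cfsg.Statements.S5193
import Cfsg.Agent.FusGenerate.GlaubermanCenter

set_option autoImplicit false
open Cfsg

namespace Cfsg.Agent.S5193

/-- Glauberman's Theorem for fusion systems. Let F be a saturated fusion system over a finite p-group S, let J(S) be the subgroup generated by the abelian subgroups of S of largest order, and let N be the normalizer fusion system of J(S) in F (a fusion system over N_S(J(S)) = S). Then every p-th power of an element of Z(S) that lies in the centre of N lies in the centre of F; and if p is odd, or if the symmetric group of degree 4 is not involved in any model of the normalizer system of a fully normalized F-centric subgroup (F is S₄-free), then the centre of N equals the centre of F. -/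
theorem result {Ω : Type*} [Group Ω] {S : Subgroup Ω} [Finite S] (p : ℕ) [Fact p.Prime] (hS : IsPGroup p S) (F : Cfsg.FusionSystem S) (hF : F.IsSaturated p) (N : Cfsg.FusionSystem (Cfsg.FusionSystem.normalizerIn S (Cfsg.thompsonSubgroupAOf S))) (hN : F.IsNormalizerSystem (Cfsg.thompsonSubgroupAOf S) N) : Subgroup.closure ((fun z : Ω => z ^ p) '' ((S ⊓ Subgroup.centralizer (S : Set Ω) : Subgroup Ω) : Set Ω)) ⊓ N.center ≤ F.center ∧ (p ≠ 2 ∨ F.IsSectionFree p (Equiv.Perm (Fin 4)) → N.center = F.center) := by
  refine ⟨fun x hx => ?_, fun hcase => le_antisymm (fun x hx => ?_)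
    (CfsgLib.FusGenerate.center_le_center_normalizer hS hF hN)⟩
  · obtain ⟨hx1, hx2⟩ := hx
    obtain ⟨z, hz, rfl⟩ : ∃ z ∈ S ⊓ Subgroup.centralizer (S : Set Ω), x = z ^ p := by
      refine Subgroup.closure_induction
        (p := fun y _ => ∃ z ∈ S ⊓ Subgroup.centralizer (S : Set Ω), y = z ^ p)
        ?_ ⟨1, one_mem _, (one_pow p).symm⟩ ?_ ?_ hx1
      · rintro _ ⟨z, hz, rfl⟩
        exact ⟨z, hz, rfl⟩
      · rintro _ _ _ _ ⟨a, ha, rfl⟩ ⟨b, hb, rfl⟩
        exact ⟨a * b, mul_mem ha hb, (Commute.mul_pow (hb.2 a ha.1) p).symm⟩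
      · rintro _ _ ⟨a, ha, rfl⟩
        exact ⟨a⁻¹, inv_mem ha, (inv_pow a p).symm⟩
    exact (le_sSup (CfsgLib.FusGenerate.isCentral_zpowers_thompson hS hF hN hz (Or.inr rfl) hx2) :
      Subgroup.zpowers (z ^ p) ≤ F.center) (Subgroup.mem_zpowers _)
  · exact (le_sSup (CfsgLib.FusGenerate.isCentral_zpowers_thompson hS hF hN
      (CfsgLib.FusGenerate.center_normalizer_le hN hx) (Or.inl ⟨rfl, hcase⟩) hx) :
      Subgroup.zpowers x ≤ F.center) (Subgroup.mem_zpowers _)

end Cfsg.Agent.S5193
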