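import Cfsg.Statements.S5200
import Cfsg.Agent.Fus.OddVanish.Main
import Cfsg.Agent.Fus.NormalCentralizer.Closed

set_option autoImplicit false
open Cfsg

namespace Cfsg.Agent.S5200

/-- Let F be a saturated fusion system over a finite p-group S and E a normal subsystem of F over T whose centralizer in S lies in T: every subgroup Y of C_S(T) such that E is contained in the centralizer fusion system of Y in F satisfies Y ≤ T. Then T·C_S(T)/T is abelian (the commutator subgroup of T·C_S(T) lies in T), and if p is odd then C_S(T) ≤ T. -/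
theorem result {Ω : Type*} [Group Ω] {S : Subgroup Ω} [Finite S] (p : ℕ) [Fact p.Prime] (hS : IsPGroup p S) (F : Cfsg.FusionSystem S) (hF : F.IsSaturated p) {T : Subgroup Ω} (E : Cfsg.FusionSystem T) (hE : E.IsNormalIn F p) (hCE : ∀ Y : Subgroup Ω, Y ≤ Cfsg.FusionSystem.centralizerIn S T → (∀ C : Cfsg.FusionSystem (Cfsg.FusionSystem.centralizerIn S Y), F.IsCentralizerSystem Y C → E.IsSubsystemOf C) → Y ≤ T) : ⁅T ⊔ Cfsg.FusionSystem.centralizerIn S T, T ⊔ Cfsg.FusionSystem.centralizerIn S T⁆ ≤ T ∧ (p ≠ 2 → Cfsg.FusionSystem.centralizerIn S T ≤ T) := by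
  open CfsgLib.Fus CfsgLib.NormalCent in
  have hTS := le_S hE
  open CfsgLib.Fus CfsgLib.NormalCent in
  have hcT : cSub F E p ≤ T :=
    hCE _ cSub_le fun C hC P => (hC P).symm ▸ hom_subset_centralizerHom hS hE P
  open Cfsg.FusionSystem CfsgLib.Fus in
  have hconj : ∀ r ∈ centralizerIn S T, ∀ y ∈ centralizerIn S T, y⁻¹ * (r * y * r⁻¹) ∈ T := by
    intro r hr y hy
    refine hcT (CfsgLib.NormalCent.displacement_mem_cSub hS hE (P := centralizerIn S T)
      (φ := (MulAut.conj r).toMonoidHom.comp (centralizerIn S T).subtype) ⟨?_, le_rfl, fun w => ?_,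
        (MulAut.conj r).toMonoidHom.comp (centralizerIn S T ⊔ T).subtype, ?_, fun w => rfl,
        fun w => ?_⟩ ⟨y, hy⟩)
    · exact F.conj_mem (centralizerIn_le T) hr.1
    · exact (centralizerIn S T).mul_mem ((centralizerIn S T).mul_mem hr w.2)
        ((centralizerIn S T).inv_mem hr)
    · exact F.conj_mem (sup_le (centralizerIn_le T) hTS) hr.1
    · show r * (w : Ω) * r⁻¹ = w
      rw [← hr.2 w w.2, mul_inv_cancel_right]
  refine ⟨?_, fun hp x hx => ?_⟩
  · set C := Cfsg.FusionSystem.centralizerIn S T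
    have hcomm : ∀ t ∈ T, ∀ r ∈ C, t * r = r * t := fun t ht r hr => hr.2 t ht
    let H : Subgroup Ω :=
      { carrier := {a | ∃ t ∈ T, ∃ r ∈ C, a = t * r}
        one_mem' := ⟨1, T.one_mem, 1, C.one_mem, (mul_one 1).symm⟩
        mul_mem' := by
          rintro _ _ ⟨t, ht, r, hr, rfl⟩ ⟨u, hu, w, hw, rfl⟩
          refine ⟨t * u, T.mul_mem ht hu, r * w, C.mul_mem hr hw, ?_⟩
          rw [mul_assoc, ← mul_assoc r, ← hcomm u hu r hr]
          group
        inv_mem' := by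
          rintro _ ⟨t, ht, r, hr, rfl⟩
          refine ⟨t⁻¹, T.inv_mem ht, r⁻¹, C.inv_mem hr, ?_⟩
          rw [hcomm t⁻¹ (T.inv_mem ht) r⁻¹ (C.inv_mem hr)]
          group }
    have hH : T ⊔ C ≤ H := sup_le (fun t ht => ⟨t, ht, 1, C.one_mem, (mul_one t).symm⟩)
      (fun r hr => ⟨1, T.one_mem, r, hr, (one_mul r).symm⟩)
    rw [Subgroup.commutator_le]
    intro a ha b hb
    obtain ⟨t, ht, r, hr, rfl⟩ := hH ha
    obtain ⟨u, hu, w, hw, rfl⟩ := hH hb
    have h1 : r * w * r⁻¹ * w⁻¹ ∈ T := by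
      convert CfsgLib.NormalCent.conj_mem_T hE hw.1 (hconj r hr w hw) using 1
      group
    show t * r * (u * w) * (t * r)⁻¹ * (u * w)⁻¹ ∈ T
    have e : t * r * (u * w) * (t * r)⁻¹ * (u * w)⁻¹ =
        t * u * (r * w * r⁻¹ * w⁻¹) * t⁻¹ * u⁻¹ := by
      calc t * r * (u * w) * (t * r)⁻¹ * (u * w)⁻¹
          = t * (r * u) * (w * r⁻¹) * (t⁻¹ * w⁻¹) * u⁻¹ := by group
        _ = t * (u * r) * (w * r⁻¹) * (w⁻¹ * t⁻¹) * u⁻¹ := by
          rw [hcomm u hu r hr, hcomm t⁻¹ (T.inv_mem ht) w⁻¹ (C.inv_mem hw)]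
        _ = _ := by group
    rw [e]
    exact T.mul_mem (T.mul_mem (T.mul_mem (T.mul_mem ht hu) h1) (T.inv_mem ht)) (T.inv_mem hu)
  · obtain ⟨z, hz, hxz⟩ := CfsgLib.OddVanish.exists_mul_mem_cSub hS hE hp hx
    have h1 := T.mul_mem (hcT hxz) (T.inv_mem hz)
    rwa [mul_inv_cancel_right] at h1

end Cfsg.Agent.S5200
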