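import Cfsg.Statements.S5220
import Cfsg.Agent.FusGenerate.AgemoThompson

set_option autoImplicit false
open Cfsg

namespace Cfsg.Agent.S5220

/-- Let F be a saturated fusion system over a nontrivial finite p-group S, let J(S) be the subgroup generated by the abelian subgroups of S of largest order, and let V be the subgroup generated by the p-th powers of the elements of Z(S). Then F is generated by the centralizer fusion system of V and the normalizer fusion system of J(S): every fusion system over S containing the maps of both contains every map of F. -/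
theorem result {Ω : Type*} [Group Ω] {S : Subgroup Ω} [Finite S] (p : ℕ) [Fact p.Prime] (hS : IsPGroup p S) (F : Cfsg.FusionSystem S) (hF : F.IsSaturated p) (hS1 : S ≠ ⊥) (C : Cfsg.FusionSystem (Cfsg.FusionSystem.centralizerIn S (Cfsg.powerClosure p 1 (S ⊓ Subgroup.centralizer (S : Set Ω))))) (hC : F.IsCentralizerSystem (Cfsg.powerClosure p 1 (S ⊓ Subgroup.centralizer (S : Set Ω))) C) (N : Cfsg.FusionSystem (Cfsg.FusionSystem.normalizerIn S (Cfsg.thompsonSubgroupAOf S))) (hN : F.IsNormalizerSystem (Cfsg.thompsonSubgroupAOf S) N) (E : Cfsg.FusionSystem S) (hCE : C.IsSubsystemOf E) (hNE : N.IsSubsystemOf E) : F.IsSubsystemOf E := by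
  intro P φ hφ
  have hVS : CfsgLib.FusGenerate.agemoCenter p S ≤ S ⊓ Subgroup.centralizer (S : Set Ω) :=
    CfsgLib.FusGenerate.agemoCenter_le
  have hSC : S ≤ Cfsg.FusionSystem.centralizerIn S (CfsgLib.FusGenerate.agemoCenter p S) :=
    fun g hg => ⟨hg, fun x hx => ((hVS hx).2 g hg).symm⟩
  have hSN : S ≤ Cfsg.FusionSystem.normalizerIn S (Cfsg.thompsonSubgroupAOf S) :=
    fun g hg => ⟨hg, CfsgLib.FusGenerate.le_normalizer_abJ' S (Subgroup.le_normalizer hg)⟩
  refine CfsgLib.FusGenerate.hom_mem hS hF ⟨?_, ?_⟩ hφ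
  · intro P φ hφ hVP hfix
    refine hCE P ?_
    rw [hC P]
    exact ⟨hφ, (CfsgLib.Fus.hom_le F hφ).trans hSC, fun x => hSC (CfsgLib.Fus.hom_mem F hφ x),
      φ.comp (Subgroup.inclusion (sup_le le_rfl hVP)), CfsgLib.Fus.restrict_mem F hφ _,
      fun x => rfl, fun x => hfix _ x.2⟩
  · intro P φ hφ hJP hmap
    refine hNE P ?_
    rw [hN P]
    refine ⟨hφ, (CfsgLib.Fus.hom_le F hφ).trans hSN, fun x => hSN (CfsgLib.Fus.hom_mem F hφ x),
      φ.comp (Subgroup.inclusion (sup_le le_rfl hJP)), CfsgLib.Fus.restrict_mem F hφ _,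
      fun x => rfl, Eq.trans ?_ hmap⟩
    ext z
    constructor
    · rintro ⟨x, hx, rfl⟩
      exact ⟨_, hx, rfl⟩
    · rintro ⟨x, hx, rfl⟩
      exact ⟨⟨x, Subgroup.mem_sup_left x.2⟩, hx, rfl⟩

end Cfsg.Agent.S5220
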