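import Cfsg.Statements.S5236
import Cfsg.Agent.Eq.Def_PLocal
import Cfsg.Agent.FusAut.Basic
import Cfsg.Agent.Coprime.FixOrderP
import Mathlib.GroupTheory.Nilpotent

set_option autoImplicit false
open Cfsg

namespace Cfsg.Agent.S5236

open CfsgLib.Fus CfsgLib.FusAut CfsgLib.Fusion.Alperin Cfsg.FusionSystem
open scoped commutatorElement

variable {Ω : Type*} [Group Ω] {S : Subgroup Ω}

/-- A characteristic subgroup of a normal subgroup is strongly closed. -/
theorem stronglyClosed_of_char [Finite S] {F : Cfsg.FusionSystem S} {P : Subgroup Ω}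
    (hn : F.IsNormal P) (C : Subgroup P) [C.Characteristic] : F.StronglyClosed (C.map P.subtype) := by
  refine ⟨(Subgroup.map_subtype_le C).trans hn.1, fun R hR φ hφ x => ?_⟩
  have : Finite P := finite_of_le hn.1
  obtain ⟨ψ, hψ, hψe, hψQ⟩ := hn.2 _ φ hφ
  have hval : ∀ y : P, ψ (Subgroup.inclusion le_sup_right y) ∈ P := fun y => hψQ.le ⟨_, y.2, rfl⟩
  let f : P →* P := (ψ.comp (Subgroup.inclusion le_sup_right)).codRestrict P hval
  have hf : Function.Injective f := fun a b hab =>
    Subgroup.inclusion_injective _ (F.injective_of_mem hψ (congrArg Subtype.val hab))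
  let e : P ≃* P := MulEquiv.ofBijective f ⟨hf, Finite.surjective_of_injective hf⟩
  obtain ⟨y, hy, hyx⟩ := hR x.2
  have he : e y ∈ C := by
    rw [← Subgroup.characteristic_iff_map_eq.mp ‹C.Characteristic› e]
    exact ⟨y, hy, rfl⟩
  refine ⟨e y, he, ?_⟩
  show ψ (Subgroup.inclusion le_sup_right y) = φ x
  rw [← hψe]
  exact congrArg ψ (Subtype.ext hyx)

/-- The series `Ω₁(P), [Ω₁(P), P], …` inside `P`. -/
def ser (p : ℕ) (P : Subgroup Ω) : ℕ → Subgroup P
  | 0 => (Cfsg.omegaOne p P).subgroupOf P
  | j + 1 => ⁅ser p P j, (⊤ : Subgroup P)⁆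

theorem omega_le (p : ℕ) (P : Subgroup Ω) : Cfsg.omegaOne p P ≤ P := by
  rw [Cfsg.omegaOne, Subgroup.closure_le]
  exact fun x hx => hx.1

theorem ser_char (p : ℕ) (P : Subgroup Ω) : ∀ j, (ser p P j).Characteristic := by
  intro j
  induction j with
  | zero =>
    refine Subgroup.characteristic_iff_map_le.mpr fun e => ?_
    have heq : (Cfsg.omegaOne p P).subgroupOf P = Subgroup.closure {x : P | x ^ p = 1} := by
      apply Subgroup.map_injective P.subtype_injective
      rw [Subgroup.map_subgroupOf_eq_of_le (omega_le p P), MonoidHom.map_closure, Cfsg.omegaOne]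
      congr 1
      ext x
      exact ⟨fun h => ⟨⟨x, h.1⟩, Subtype.ext h.2, rfl⟩,
        fun ⟨y, hy, hyx⟩ => hyx ▸ ⟨y.2, congrArg Subtype.val hy⟩⟩
    show ((Cfsg.omegaOne p P).subgroupOf P).map e.toMonoidHom ≤ (Cfsg.omegaOne p P).subgroupOf P
    rw [heq, MonoidHom.map_closure, Subgroup.closure_le]
    rintro _ ⟨x, hx, rfl⟩
    refine Subgroup.subset_closure ?_
    show (e x) ^ p = 1
    rw [← map_pow, show x ^ p = 1 from hx, map_one]
  | succ j ih => exact Subgroup.commutator_characteristic _ _


/-- Let p be an odd prime, F a saturated fusion system over a finite p-group S and P a subgroup of S strongly closed in F. Then P is normal in F if and only if Ω₁(P) (the subgroup generated by the elements of order p of P) has a chain of subgroups 1 = Q₀ ≤ Q₁ ≤ ⋯ ≤ Qₙ = Ω₁(P), each strongly closed in F, with [Qᵢ₊₁, P] ≤ Qᵢ for all i. -/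
theorem result {Ω : Type*} [Group Ω] {S : Subgroup Ω} [Finite S] (p : ℕ) [Fact p.Prime] (hS : IsPGroup p S) (F : Cfsg.FusionSystem S) (hF : F.IsSaturated p) (hp : p ≠ 2) (P : Subgroup Ω) (hP : F.StronglyClosed P) : F.IsNormal P ↔ ∃ (n : ℕ) (Q : Fin (n + 1) → Subgroup Ω), Q 0 = ⊥ ∧ Q (Fin.last n) = Cfsg.omegaOne p P ∧ Monotone Q ∧ (∀ i : Fin (n + 1), F.StronglyClosed (Q i)) ∧ ∀ i : Fin n, ⁅Q i.succ, P⁆ ≤ Q i.castSucc := by
  have : Finite P := finite_of_le hP.1
  constructor
  · intro hn
    have hnil : Group.IsNilpotent P := (hS.to_le hP.1).isNilpotent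
    obtain ⟨n, hn'⟩ := Subgroup.nilpotent_iff_lowerCentralSeries.mp hnil
    have hle : ∀ j, ser p P j ≤ (⊤ : Subgroup P).lowerCentralSeries j := by
      intro j
      induction j with
      | zero => exact le_top
      | succ j ih => exact Subgroup.commutator_mono ih le_rfl
    have hanti : Antitone (ser p P) := antitone_nat_of_succ_le fun j => by
      have := ser_char p P j
      exact Subgroup.commutator_le_left _ _
    refine ⟨n, fun i => (ser p P (n - i.val)).map P.subtype, ?_, ?_, ?_, ?_, ?_⟩
    · simp only [Fin.val_zero, Nat.sub_zero]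
      rw [eq_bot_iff.mpr ((hle n).trans hn'.le), Subgroup.map_bot]
    · simp only [Fin.val_last, Nat.sub_self]
      exact Subgroup.map_subgroupOf_eq_of_le (omega_le p P)
    · exact fun i j hij => Subgroup.map_mono (hanti (Nat.sub_le_sub_left hij n))
    · intro i
      have := ser_char p P (n - i.val)
      exact stronglyClosed_of_char hn _
    · intro i
      simp only [Fin.val_succ, Fin.val_castSucc]
      rw [show n - i.val = n - (i.val + 1) + 1 by omega, ser, Subgroup.map_commutator,
        ← MonoidHom.range_eq_map, Subgroup.range_subtype]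
  · rintro ⟨n, Q, h0, hlast, hmono, hsc, hcen⟩
    refine isNormal_of_stronglyClosed hS hF hP fun R hR => ?_
    have hnorm := le_normalizer_of_stronglyClosed hP
    refine le_of_normalizing_mem hS hP.1 hR.centric.1 (hR.centric.1.trans hnorm) fun g hg hgR => ?_
    refine mem_of_mem_pCore_of_radical hR.centric hR.radical ⟨hP.1 hg, hgR⟩ fun hm => ?_
    have hRfin : Finite R := finite_of_le hR.centric.1
    have : Finite (MulAut R) := finite_mulAut R
    have hinv : ∀ (C : Subgroup Ω), F.StronglyClosed C → ∀ a ∈ F.autGroup R, ∀ x : R,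
        (x : Ω) ∈ C → ((a x : R) : Ω) ∈ C := fun C hC a ha x hx =>
      map_mem_of_stronglyClosed hC ((mem_autGroup_iff F hR.centric.1).1 ha) hx
    let K : Subgroup (F.autGroup R) :=
      { carrier := {a | (∀ x : R, ((x⁻¹ * (a : MulAut R) x : R) : Ω) ∈ P) ∧ ∀ (i : Fin n) (x : R),
          (x : Ω) ∈ Q i.succ → ((x⁻¹ * (a : MulAut R) x : R) : Ω) ∈ Q i.castSucc}
        one_mem' := ⟨fun x => by simp, fun i x _ => by simp⟩
        mul_mem' := fun {a b} ha hb => by
          have e : ∀ x, x⁻¹ * (a : MulAut R) ((b : MulAut R) x) = (x⁻¹ * (b : MulAut R) x) *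
              (((b : MulAut R) x)⁻¹ * (a : MulAut R) ((b : MulAut R) x)) := fun x => by group
          refine ⟨fun x => ?_, fun i x hx => ?_⟩
          · show ((x⁻¹ * (a : MulAut R) ((b : MulAut R) x) : R) : Ω) ∈ P
            rw [e, Subgroup.coe_mul]
            exact P.mul_mem (hb.1 x) (ha.1 _)
          · show ((x⁻¹ * (a : MulAut R) ((b : MulAut R) x) : R) : Ω) ∈ Q i.castSucc
            rw [e, Subgroup.coe_mul]
            exact mul_mem (hb.2 i x hx) (ha.2 i _ (hinv _ (hsc _) b b.2 x hx))
        inv_mem' := fun {a} ha => by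
          have e : ∀ x, x⁻¹ * (a : MulAut R)⁻¹ x =
              (((a : MulAut R)⁻¹ x)⁻¹ * (a : MulAut R) ((a : MulAut R)⁻¹ x))⁻¹ := fun x => by
            rw [MulAut.inv_apply, MulEquiv.apply_symm_apply]; group
          refine ⟨fun x => ?_, fun i x hx => ?_⟩
          · show ((x⁻¹ * (a : MulAut R)⁻¹ x : R) : Ω) ∈ P
            rw [e, Subgroup.coe_inv]
            exact P.inv_mem (ha.1 _)
          · show ((x⁻¹ * (a : MulAut R)⁻¹ x : R) : Ω) ∈ Q i.castSucc
            rw [e, Subgroup.coe_inv]
            exact inv_mem (ha.2 i _ (hinv _ (hsc _) _ (inv_mem a.2) x hx)) }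
    have hKn : K.Normal := ⟨fun b hb a => by
      have e : ∀ x, x⁻¹ * ((a * b * a⁻¹ : F.autGroup R) : MulAut R) x = (a : MulAut R)
          (((a : MulAut R)⁻¹ x)⁻¹ * (b : MulAut R) ((a : MulAut R)⁻¹ x)) := fun x => by
        rw [map_mul, map_inv, MulAut.inv_apply, MulEquiv.apply_symm_apply]
        rfl
      refine ⟨fun x => ?_, fun i x hx => ?_⟩
      · rw [e]
        exact hinv P hP a a.2 _ (hb.1 _)
      · rw [e]
        exact hinv _ (hsc _) a a.2 _ (hb.2 i _ (hinv _ (hsc _) _ (inv_mem a.2) x hx))⟩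
    have hKp : IsPGroup p K := by
      refine isPGroup_of_prime_order ?_
      rintro ⟨⟨a, haA⟩, haK⟩ q hq hqp hpow
      have := Fact.mk hq
      have hRp : IsPGroup p R := hS.to_le hR.centric.1
      have ha1 : a ^ q ^ 1 = 1 := by
        rw [pow_one]
        exact congrArg (fun b : K => ((b : F.autGroup R) : MulAut R)) hpow
      have step : ∀ N : Subgroup Ω, F.StronglyClosed N →
          (∀ d : R, (d : Ω) ∈ N → a d = d) → ∀ x : R, ((x⁻¹ * a x : R) : Ω) ∈ N → a x = x := by
        intro N hN hfix x hx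
        obtain ⟨y, hy, hay⟩ := exists_fixed_in_coset hRp hqp ha1 (N.subgroupOf R)
          (fun z hz => hinv N hN a haA z hz) hx
        have e : x = y * (x⁻¹ * y)⁻¹ := by group
        rw [e, map_mul, map_inv, hay, hfix (x⁻¹ * y) hy]
      have hQfix : ∀ i : Fin (n + 1), ∀ d : R, (d : Ω) ∈ Q i → a d = d := by
        intro i
        induction i using Fin.induction with
        | zero =>
          intro d hd
          rw [h0, Subgroup.mem_bot] at hd
          rw [show d = 1 from Subtype.ext hd, map_one]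
        | succ i ih => exact fun d hd => step _ (hsc _) ih d (haK.2 i d hd)
      let L : R →* Equiv.Perm R := MulAction.toPermHom R R
      let a' : Equiv.Perm R := a.toEquiv
      have hconj : ∀ x : R, a' * L x * a'⁻¹ = L (a x) := fun x => Equiv.ext fun y => by
        show a (x * a.symm y) = a x * y
        rw [map_mul, MulEquiv.apply_symm_apply]
      have ha'pow : ∀ m : ℕ, ∀ y, (a' ^ m) y = (a ^ m) y := by
        intro m
        induction m with
        | zero => intro y; rfl
        | succ m ih => intro y; rw [pow_succ', pow_succ', Equiv.Perm.mul_apply, ih]; rfl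
      have hcop : (orderOf a').Coprime p := coprime_orderOf_of_primePow Fact.out hq hqp (n := 1)
        (Equiv.ext fun y => by rw [ha'pow, ha1]; rfl)
      have hN : a' ∈ Subgroup.normalizer (((P.subgroupOf R).map L : Subgroup _) : Set (Equiv.Perm R)) := by
        refine Subgroup.mem_normalizer_fintype ?_
        rintro _ ⟨x, hx, rfl⟩
        exact ⟨a x, hinv P hP a haA x hx, (hconj x).symm⟩
      have hfix : ∀ w ∈ (P.subgroupOf R).map L, w ^ p = 1 → a' * w = w * a' := by
        rintro _ ⟨x, hx, rfl⟩ hxp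
        have hxp' : x ^ p = 1 := by
          have h1 : (L (x ^ p) : Equiv.Perm R) 1 = (1 : Equiv.Perm R) 1 := by rw [map_pow, hxp]
          simpa [L] using h1
        have hxa : a x = x := hQfix (Fin.last n) x (by
          rw [hlast, Cfsg.omegaOne]
          exact Subgroup.subset_closure ⟨hx, congrArg Subtype.val hxp'⟩)
        have h2 := hconj x
        rw [hxa] at h2
        calc a' * L x = a' * L x * a'⁻¹ * a' := by group
          _ = L x * a' := by rw [h2]
      have hPfix : ∀ d : R, (d : Ω) ∈ P → a d = d := fun d hd => by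
        have h := CfsgLib.Coprime.fixes_of_fixes_order_p hp a' hcop _
          ((hRp.to_subgroup _).map L) hN hfix (L d) ⟨d, hd, rfl⟩
        have h' := congrArg (fun f : Equiv.Perm R => f 1) h
        simp only [Equiv.Perm.mul_apply] at h'
        show a d = d
        have e1 : L d 1 = d := mul_one d
        have e2 : a' 1 = 1 := map_one a
        rw [e1, e2, e1] at h'
        exact h'
      exact Subtype.ext (Subtype.ext (MulEquiv.ext fun x => step P hP hPfix x (haK.1 x)))
    refine CfsgLib.CharP.le_pCore hKn hKp ⟨fun x => ?_, fun i x hx => ?_⟩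
    · show (x : Ω)⁻¹ * (g * (x : Ω) * g⁻¹) ∈ P
      have hxS : (x : Ω) ∈ S := hR.centric.1 x.2
      have e : (x : Ω)⁻¹ * (g * (x : Ω) * g⁻¹) = ((x : Ω)⁻¹ * g * x) * g⁻¹ := by group
      rw [e]
      exact P.mul_mem ((Subgroup.mem_normalizer_iff''.1 (hnorm hxS) g).1 hg) (P.inv_mem hg)
    · show (x : Ω)⁻¹ * (g * (x : Ω) * g⁻¹) ∈ Q i.castSucc
      have h2 := hcen i (Subgroup.commutator_mem_commutator ((Q i.succ).inv_mem hx) hg)
      rw [commutatorElement_def, inv_inv] at h2
      rw [← mul_assoc, ← mul_assoc]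
      exact h2

end Cfsg.Agent.S5236
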