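import Cfsg.Statements.S5246
import Cfsg.Agent.Eq.Def_LocalEven
import Cfsg.Agent.Fus.Basic

set_option autoImplicit false
open Cfsg

namespace Cfsg.Agent.S5246

open Cfsg.FusionSystem CfsgLib.Fus

theorem pull {A B : Type*} [Group A] [Group B] [Finite B] {p : ℕ} [Fact p.Prime] (f : A →* B)
    (hf : Function.Injective f) {a : A} (h : f a ∈ Cfsg.pCore p B) : a ∈ Cfsg.pCore p A := by
  have hpg : IsPGroup p (Cfsg.pCore p B) :=
    Sylow.sSup_of_normal _ (fun _ h => h.2) (fun _ h => h.1)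
  have hn : (Cfsg.pCore p B).Normal := by
    refine ⟨fun n hn g => ?_⟩
    have hle : Cfsg.pCore p B ≤ (Cfsg.pCore p B).comap (MulAut.conj g).toMonoidHom :=
      sSup_le fun N hN x hx => (le_sSup hN : N ≤ Cfsg.pCore p B) (hN.1.conj_mem x hx g)
    exact hle hn
  exact (le_sSup ⟨hn.comap f, hpg.comap_of_injective f hf⟩ :
    (Cfsg.pCore p B).comap f ≤ Cfsg.pCore p A) h

variable {Ω : Type*} [Group Ω]

theorem quad_iff {Q : Subgroup Ω} {g : Ω} (χ : MulAut Q)
    (hχ : ∀ x : Q, ((χ x : Q) : Ω) = g * (x : Ω) * g⁻¹) :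
    ⁅⁅Q, Subgroup.zpowers g⁆, Subgroup.zpowers g⁆ = ⊥ ↔
      ∀ a : Q, (χ a⁻¹) * a * (χ a⁻¹) * (χ (χ a)) = 1 := by
  have key : ∀ a : Q, (χ a⁻¹) * a * (χ a⁻¹) * (χ (χ a)) = 1 ↔
      Commute g ((a : Ω)⁻¹ * g * (a : Ω) * g⁻¹) := by
    intro a
    have h1 : χ (a⁻¹ * χ a) = a⁻¹ * χ a ↔ Commute g ((a : Ω)⁻¹ * g * (a : Ω) * g⁻¹) := by
      rw [Subtype.ext_iff, hχ, Subgroup.coe_mul, Subgroup.coe_inv, hχ]
      simp only [mul_assoc]
      exact ⟨fun h => by
        have h2 := congrArg (· * g) h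
        simpa [commute_iff_eq, mul_assoc] using h2, fun h => by
        have h2 := congrArg (· * g⁻¹) h.eq
        simpa [mul_assoc] using h2⟩
    refine Iff.trans ⟨fun h => ?_, fun h => ?_⟩ h1
    · rw [map_inv, mul_eq_one_iff_inv_eq] at h
      rw [map_mul, map_inv, ← h]
      group
    · rw [map_mul, map_inv] at h
      have h2 : χ (χ a) = χ a * (a⁻¹ * χ a) := by rw [← h, mul_inv_cancel_left]
      rw [h2, map_inv]
      group
  rw [Subgroup.commutator_eq_bot_iff_le_centralizer, Subgroup.commutator_le]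
  constructor
  · intro h a
    rw [key]
    have h2 := h _ (inv_mem a.2) g (Subgroup.mem_zpowers g) g (Subgroup.mem_zpowers g)
    rw [commutatorElement_def, inv_inv] at h2
    exact h2
  · intro h a ha k hk
    obtain ⟨i, rfl⟩ := Subgroup.mem_zpowers_iff.mp hk
    have main : ∀ (i : ℤ), ∀ b ∈ Q, Commute g (b⁻¹ * g ^ i * b * (g ^ i)⁻¹) := by
      have hb : ∀ b ∈ Q, Commute g (b⁻¹ * g * b * g⁻¹) := fun b hb => (key ⟨b, hb⟩).mp (h _)
      intro i
      induction i with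
      | zero => intro b _; simp
      | succ i ih =>
        intro b hbQ
        have e : b⁻¹ * g ^ ((i : ℤ) + 1) * b * (g ^ ((i : ℤ) + 1))⁻¹ =
            (b⁻¹ * g * b * g⁻¹) * (g * (b⁻¹ * g ^ (i : ℤ) * b * (g ^ (i : ℤ))⁻¹) * g⁻¹) := by
          group
        rw [e]
        exact (hb b hbQ).mul_right
          (((Commute.refl g).mul_right (ih b hbQ)).mul_right (Commute.refl g).inv_right)
      | pred i ih =>
        intro b hbQ
        have e : b⁻¹ * g ^ (-(i : ℤ) - 1) * b * (g ^ (-(i : ℤ) - 1))⁻¹ =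
            g⁻¹ * ((b⁻¹ * g * b * g⁻¹)⁻¹ * (b⁻¹ * g ^ (-(i : ℤ)) * b * (g ^ (-(i : ℤ)))⁻¹)) * g := by
          group
        rw [e]
        exact ((Commute.refl g).inv_right.mul_right
          ((hb b hbQ).inv_right.mul_right (ih b hbQ))).mul_right (Commute.refl g)
    intro y hy
    obtain ⟨j, rfl⟩ := Subgroup.mem_zpowers_iff.mp hy
    have h2 := (main i a⁻¹ (inv_mem ha)).zpow_left j
    rw [commutatorElement_def]
    rw [inv_inv] at h2
    exact h2

theorem mem_autGroup_group_iff {S Q : Subgroup Ω} (hQ : Q ≤ S) {α : MulAut Q} :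
    α ∈ (Cfsg.groupFusionSystem S).autGroup Q ↔
      ∃ g : Ω, ∀ x : Q, ((α x : Q) : Ω) = g * (x : Ω) * g⁻¹ := by
  rw [mem_autGroup_iff _ hQ]
  exact ⟨fun h => h.2.2, fun h => ⟨hQ, fun x => hQ (α x).2, h⟩⟩

theorem exists_fn {S : Subgroup Ω} [Finite Ω] (F : Cfsg.FusionSystem S) {Q : Subgroup Ω}
    (hQ : Q ≤ S) : ∃ Q', F.IsConj Q Q' ∧ F.IsFullyNormalized Q' := by
  obtain ⟨Q', hc, hmax⟩ := Set.exists_max_image {Q' | F.IsConj Q Q'}
    (fun Q' => Nat.card (normalizerIn S Q')) (Set.toFinite _) ⟨Q, isConj_refl F hQ⟩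
  exact ⟨Q', hc, isConj_le_right hc, fun R hR => hmax R (isConj_trans hc hR)⟩

/-- Let p be an odd prime, G a finite group and P a Sylow p-subgroup. Call a fusion system F p-stable when, for every fully normalized subgroup Q and every χ ∈ Aut_F(Q) acting quadratically on Q (that is, χ fixes a⁻¹χ(a) for every a ∈ Q; equivalently χ(a⁻¹)·a·χ(a⁻¹)·χ(χ(a)) = 1), χ lies in O_p(Aut_F(Q)). Then G is p-stable in the normalizer form (for every p-subgroup Q and x ∈ N_G(Q) with [Q, x, x] = 1, the image of x lies in O_p(N_G(Q)/C_G(Q))) if and only if the fusion system of G on P is p-stable. -/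
theorem result {Ω : Type*} [Group Ω] [Finite Ω] {p : ℕ} [Fact p.Prime] (hp : p ≠ 2) (P : Sylow p Ω) : Cfsg.IsNormalizerPStable p Ω ↔ (∀ Q : Subgroup Ω, (Cfsg.groupFusionSystem (P : Subgroup Ω)).IsFullyNormalized Q → ∀ χ : MulAut ↥Q, χ ∈ (Cfsg.groupFusionSystem (P : Subgroup Ω)).autGroup Q → (∀ a : ↥Q, (χ a⁻¹) * a * (χ a⁻¹) * (χ (χ a)) = 1) → χ ∈ ((Cfsg.pCore p ↥((Cfsg.groupFusionSystem (P : Subgroup Ω)).autGroup Q)).map ((Cfsg.groupFusionSystem (P : Subgroup Ω)).autGroup Q).subtype : Subgroup (MulAut ↥Q))) := by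
  have autFin : ∀ Q : Subgroup Ω, Finite (MulAut Q) := fun Q => finite_mulAut Q
  constructor
  · intro hst Q hQ χ hχ hq
    have := autFin Q
    obtain ⟨g, hg⟩ := (mem_autGroup_group_iff hQ.1).mp hχ
    have hgN := mem_normalizer_of_aut hg
    have h1 := hst Q (P.2.to_le hQ.1) g hgN ((quad_iff χ hg).mpr hq)
    set e := QuotientGroup.quotientKerEquivRange Q.normalizerMonoidHom with he
    have hle : (Cfsg.groupFusionSystem (P : Subgroup Ω)).autGroup Q ≤
        Q.normalizerMonoidHom.range := by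
      intro α hα
      obtain ⟨k, hk⟩ := (mem_autGroup_group_iff hQ.1).mp hα
      exact ⟨⟨k, mem_normalizer_of_aut hk⟩, MulEquiv.ext fun x => Subtype.ext (hk x).symm⟩
    let qc : ↥(Subgroup.normalizer (Q : Set Ω)) ⧸ Q.normalizerMonoidHom.ker ≃*
        ↥(Subgroup.normalizer (Q : Set Ω)) ⧸
          (Subgroup.centralizer (Q : Set Ω)).subgroupOf (Subgroup.normalizer (Q : Set Ω)) :=
      QuotientGroup.quotientMulEquivOfEq Q.normalizerMonoidHom_ker
    let f : ↥((Cfsg.groupFusionSystem (P : Subgroup Ω)).autGroup Q) →* _ :=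
      (qc.toMonoidHom.comp e.symm.toMonoidHom).comp (Subgroup.inclusion hle)
    have hf : Function.Injective f :=
      (qc.injective.comp e.symm.injective).comp (Subgroup.inclusion_injective hle)
    refine ⟨⟨χ, hχ⟩, pull f hf ?_, rfl⟩
    convert h1 using 1
    show qc (e.symm (Subgroup.inclusion hle ⟨χ, hχ⟩)) = _
    have : Subgroup.inclusion hle ⟨χ, hχ⟩ = e (QuotientGroup.mk ⟨g, hgN⟩) :=
      Subtype.ext (MulEquiv.ext fun x => Subtype.ext (hg x))
    rw [this, MulEquiv.symm_apply_apply]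
    rfl
  · intro hst Q hQ g hg hquad
    obtain ⟨T, hT⟩ := hQ.exists_le_sylow
    obtain ⟨c, hc⟩ := MulAction.exists_smul_eq Ω T P
    set Q₁ := Q.map (MulAut.conj c).toMonoidHom with hQ₁
    have hQ₁P : Q₁ ≤ (P : Subgroup Ω) := by
      rintro _ ⟨x, hx, rfl⟩
      rw [← hc]
      exact Subgroup.smul_mem_pointwise_smul _ (MulAut.conj c) _ (hT hx)
    obtain ⟨Q₂, hconj, hfn⟩ := exists_fn (Cfsg.groupFusionSystem (P : Subgroup Ω)) hQ₁P
    obtain ⟨φ, ⟨-, -, b, hb⟩, hr⟩ := hconj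
    have := autFin Q₂
    let ι : Q →* Ω := (MulAut.conj (b * c)).toMonoidHom.comp Q.subtype
    have hι : ι.range = Q₂ := by
      rw [← hr]
      ext y
      constructor
      · rintro ⟨x, rfl⟩
        refine ⟨⟨c * x * c⁻¹, x, x.2, rfl⟩, ?_⟩
        rw [hb]
        show b * (c * (x : Ω) * c⁻¹) * b⁻¹ = b * c * (x : Ω) * (b * c)⁻¹
        group
      · rintro ⟨⟨_, x, hx, rfl⟩, rfl⟩
        refine ⟨⟨x, hx⟩, ?_⟩
        rw [hb]
        show b * c * x * (b * c)⁻¹ = b * (c * x * c⁻¹) * b⁻¹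
        group
    let E : Q ≃* Q₂ := (MonoidHom.ofInjective (f := ι)
      ((MulAut.conj (b * c)).injective.comp Q.subtype_injective)).trans
      (MulEquiv.subgroupCongr hι)
    have hE : ∀ x : Q, ((E x : Q₂) : Ω) = b * c * (x : Ω) * (b * c)⁻¹ := fun x => rfl
    let ψ := (MulAut.congr E).toMonoidHom.comp Q.normalizerMonoidHom
    have hψ : ∀ (k : ↥(Subgroup.normalizer (Q : Set Ω))) (y : Q₂), ((ψ k y : Q₂) : Ω) =
        (b * c * (k : Ω) * (b * c)⁻¹) * (y : Ω) * (b * c * (k : Ω) * (b * c)⁻¹)⁻¹ := by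
      intro k y
      obtain ⟨x, rfl⟩ := E.surjective y
      show ((E (Q.normalizerMonoidHom k (E.symm (E x))) : Q₂) : Ω) = _
      rw [E.symm_apply_apply, hE, hE]
      show b * c * ((k : Ω) * (x : Ω) * (k : Ω)⁻¹) * (b * c)⁻¹ = _
      group
    have hmem : ∀ k, ψ k ∈ (Cfsg.groupFusionSystem (P : Subgroup Ω)).autGroup Q₂ :=
      fun k => (mem_autGroup_group_iff hfn.1).mpr ⟨_, hψ k⟩
    let f₀ := ψ.codRestrict _ hmem
    have hker : f₀.ker =
        (Subgroup.centralizer (Q : Set Ω)).subgroupOf (Subgroup.normalizer (Q : Set Ω)) := by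
      rw [← Q.normalizerMonoidHom_ker]
      ext k
      simp [f₀, ψ, MonoidHom.mem_ker, Subtype.ext_iff]
    have hq : ∀ a : Q₂, ψ ⟨g, hg⟩ a⁻¹ * a * ψ ⟨g, hg⟩ a⁻¹ * ψ ⟨g, hg⟩ (ψ ⟨g, hg⟩ a) = 1 := by
      intro a
      obtain ⟨x, rfl⟩ := E.surjective a
      have h1 := congrArg E ((quad_iff (Q.normalizerMonoidHom ⟨g, hg⟩) (fun _ => rfl)).mp hquad x)
      simpa [ψ, map_mul, map_inv, map_one] using h1
    obtain ⟨d, hd, hdx⟩ := hst Q₂ hfn (ψ ⟨g, hg⟩) (hmem _) hq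
    have hd' : d = f₀ ⟨g, hg⟩ := Subtype.ext hdx
    let f := (QuotientGroup.kerLift f₀).comp
      (QuotientGroup.quotientMulEquivOfEq hker).symm.toMonoidHom
    have hf : Function.Injective f :=
      (QuotientGroup.kerLift_injective f₀).comp (MulEquiv.injective _)
    exact pull f hf (hd' ▸ hd)

end Cfsg.Agent.S5246
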