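import Cfsg.Statements.S5249
import Cfsg.Agent.QdSection.Stability
import Cfsg.Agent.Fus.PStable.Fusion
import Cfsg.Agent.Fusion.Alperin.Solvable

/-!
A `Qd(p)`-free group has, by Glauberman's stability theorem, a nontrivial abelian strongly closed subgroup `U`
normal in the fusion system, which is then the system of `N_G(U)`; induction through `N_G(U)/U`.
-/

set_option autoImplicit false
open Cfsg Cfsg.FusionSystem
open scoped commutatorElement

namespace Cfsg.Agent.S5249

universe u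

/-- A series of strongly closed subgroups with abelian factors in the fusion system of a `Qd(p)`-free group. -/
theorem exists_series {p : ℕ} [Fact p.Prime] (hp : p ≠ 2) : ∀ (m : ℕ) (G : Type u) [Group G] [Finite G],
    Nat.card G ≤ m → ¬ Cfsg.Involves ↥(Cfsg.qd p) G → ∀ P : Sylow p G,
    ∃ (n : ℕ) (T : Fin (n + 1) → Subgroup G), T 0 = ⊥ ∧ T (Fin.last n) = (P : Subgroup G) ∧
      (∀ i, (Cfsg.groupFusionSystem (P : Subgroup G)).StronglyClosed (T i)) ∧
      ∀ i : Fin n, ⁅T i.succ, T i.succ⁆ ≤ T (Fin.castSucc i) := by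
  intro m
  induction m with
  | zero =>
    intro G _ _ hG
    exact absurd hG (by have := Nat.card_pos (α := G); omega)
  | succ m ih =>
    intro G _ _ hG hqd P
    set F := Cfsg.groupFusionSystem (P : Subgroup G) with hFdef
    have hbot : F.StronglyClosed ⊥ :=
      CfsgLib.Fusion.Alperin.stronglyClosed_of_isNormal (CfsgLib.Fusion.Alperin.isNormal_bot F)
    by_cases hP : (P : Subgroup G) = ⊥
    · exact ⟨0, fun _ => ⊥, rfl, hP.symm, fun _ => hbot, fun i => i.elim0⟩
    have hF : F.IsSaturated p := CfsgLib.Fus.isSaturated_group P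
    have hD : F.IsNormal (CfsgLib.Fus.PStab.dStar (P : Subgroup G)) := CfsgLib.Fus.PStab.isNormal_dStar
      (CfsgLib.Fus.PStab.allStable_of_isNormalizerPStable
        (CfsgLib.QdSection.isNormalizerPStable_of_qdFree hp hqd)) P
    have hcore : F.core ≠ ⊥ := fun h => CfsgLib.Fus.PStab.dStar_ne_bot P.isPGroup' hP
      (le_bot_iff.1 (h ▸ CfsgLib.Fusion.Alperin.le_core hD))
    obtain ⟨U, hU1, hU, hUab⟩ :=
      CfsgLib.Fusion.Alperin.exists_stronglyClosed_comm_of_core P.isPGroup' hcore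
    have hUN := CfsgLib.Fusion.Alperin.isNormal_of_stronglyClosed_comm P.isPGroup' hF hU hUab
    set N := Subgroup.normalizer (U : Set G) with hN
    have hPN : (P : Subgroup G) ≤ N := CfsgLib.Fusion.Alperin.le_normalizer_of_stronglyClosed hU
    -- every map comes from the normalizer
    have hctrl : ∀ {Q : Subgroup G} {φ : Q →* G}, φ ∈ F.Hom Q →
        ∃ g ∈ N, ∀ x : Q, φ x = g * (x : G) * g⁻¹ := by
      intro Q φ hφ
      obtain ⟨ψ, hψ, hψe, hψU⟩ := hUN.2 Q φ hφ
      obtain ⟨-, -, g, hg⟩ := hψ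
      refine ⟨g, ?_, fun x => by rw [← hψe, hg]; rfl⟩
      have hmap : U.map (MulAut.conj g).toMonoidHom = U := by
        refine le_antisymm ?_ fun y hy => ?_
        · rintro _ ⟨u, hu, rfl⟩
          have h : ψ ⟨u, (le_sup_right : U ≤ Q ⊔ U) hu⟩ ∈ U :=
            hψU.le ⟨⟨u, (le_sup_right : U ≤ Q ⊔ U) hu⟩, hu, rfl⟩
          rwa [hg] at h
        · obtain ⟨v, hv, hvy⟩ := hψU.ge hy
          exact ⟨v, hv, (hg v).symm.trans hvy⟩
      exact Subgroup.mem_normalizer_iff.2 fun x => by
        constructor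
        · intro hx
          exact hmap.le ⟨x, hx, rfl⟩
        · intro hx
          obtain ⟨y, hy, hyx⟩ := hmap.ge hx
          have : y = x := (MulAut.conj g).injective hyx
          exact this ▸ hy
    set UN := U.subgroupOf N with hUNdef
    have hn : UN.Normal := Subgroup.normal_in_normalizer
    let π : N →* N ⧸ UN := QuotientGroup.mk' UN
    have hπ : Function.Surjective π := QuotientGroup.mk'_surjective UN
    let PN : Sylow p N := P.subtype hPN
    let Pb : Sylow p (N ⧸ UN) := PN.mapSurjective hπ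
    have hUP : U ≤ (P : Subgroup G) := hU.1
    have hUNle : U ≤ N := hUP.trans hPN
    have hqd' : ¬ Cfsg.Involves ↥(Cfsg.qd p) (N ⧸ UN) := fun h => hqd
      (CfsgLib.QdSection.involves_of_injective N.subtype N.subtype_injective
        (CfsgLib.QdSection.involves_of_surjective π hπ h))
    have hlt : Nat.card (N ⧸ UN) < Nat.card G := by
      refine lt_of_lt_of_le ?_ (Subgroup.card_le_card_group N)
      rw [← UN.card_mul_index, ← Subgroup.index_eq_card]
      have : 1 < Nat.card UN := by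
        rw [Nat.card_congr (Subgroup.subgroupOfEquivOfLe hUNle).toEquiv]
        exact (Finite.one_lt_card_iff_nontrivial).2 ((Subgroup.nontrivial_iff_ne_bot U).2 hU1)
      exact lt_mul_of_one_lt_left (Nat.pos_of_ne_zero Subgroup.index_ne_zero_of_finite) this
    obtain ⟨n, Tb, hT0, hTn, hTsc, hTc⟩ := ih (N ⧸ UN) (by omega) hqd' Pb
    let T : Fin (n + 1) → Subgroup G := fun i =>
      ((Tb i).comap π ⊓ (P : Subgroup G).subgroupOf N).map N.subtype
    have hT : ∀ i, F.StronglyClosed (T i) := by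
      intro i
      refine ⟨?_, fun R hR φ hφ x => ?_⟩
      · rintro _ ⟨y, hy, rfl⟩
        exact hy.2
      · obtain ⟨g, hg, hgx⟩ := hctrl hφ
        obtain ⟨y, ⟨hy1, hy2⟩, hyx⟩ := hR x.2
        have hφP : φ x ∈ (P : Subgroup G) := (F.le_of_mem hφ).2 x
        have hz : φ x = ((⟨g, hg⟩ * y * (⟨g, hg⟩ : N)⁻¹ : N) : G) := by
          rw [hgx, ← hyx]; rfl
        refine ⟨⟨g, hg⟩ * y * (⟨g, hg⟩ : N)⁻¹, ⟨?_, ?_⟩, hz.symm⟩
        · show π (⟨g, hg⟩ * y * (⟨g, hg⟩ : N)⁻¹) ∈ Tb i
          have hcl := (hTsc i).2 (Subgroup.zpowers (π y)) (Subgroup.zpowers_le.2 hy1)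
            (Cfsg.conjHom (Subgroup.zpowers (π y)) (π ⟨g, hg⟩)) ?_ ⟨π y, Subgroup.mem_zpowers _⟩
          · rw [map_mul, map_mul, map_inv]
            exact hcl
          · refine ⟨Subgroup.zpowers_le.2 ((hTsc i).1 hy1), fun w => ?_, π ⟨g, hg⟩, fun w => rfl⟩
            obtain ⟨w, hw⟩ := w
            refine (Subgroup.zpowers_le.2 ?_ : Subgroup.zpowers (π y) ≤
              (Pb : Subgroup (N ⧸ UN)).comap (MulAut.conj (π ⟨g, hg⟩)).toMonoidHom) hw
            show π ⟨g, hg⟩ * π y * (π ⟨g, hg⟩)⁻¹ ∈ (Pb : Subgroup (N ⧸ UN))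
            rw [← map_inv, ← map_mul, ← map_mul]
            exact ⟨_, Subgroup.mem_subgroupOf.2 (by rw [← hz]; exact hφP), rfl⟩
        · exact Subgroup.mem_subgroupOf.2 (by rw [← hz]; exact hφP)
    have hcomm : ∀ i : Fin n, ⁅T i.succ, T i.succ⁆ ≤ T (Fin.castSucc i) := by
      intro i
      refine Subgroup.commutator_le.2 ?_
      rintro _ ⟨a, ⟨ha1, ha2⟩, rfl⟩ _ ⟨b, ⟨hb1, hb2⟩, rfl⟩
      refine ⟨⁅a, b⁆, ⟨?_, ?_⟩, map_commutatorElement N.subtype a b⟩
      · show π ⁅a, b⁆ ∈ Tb (Fin.castSucc i)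
        rw [map_commutatorElement]
        exact hTc i (Subgroup.commutator_mem_commutator ha1 hb1)
      · exact ((P : Subgroup G).subgroupOf N).mul_mem (((P : Subgroup G).subgroupOf N).mul_mem
          (((P : Subgroup G).subgroupOf N).mul_mem ha2 hb2) (inv_mem ha2)) (inv_mem hb2)
    have hT0U : T 0 ≤ U := by
      rintro _ ⟨y, ⟨hy1, -⟩, rfl⟩
      rw [hT0] at hy1
      exact Subgroup.mem_subgroupOf.1 ((QuotientGroup.eq_one_iff y).1 (Subgroup.mem_bot.1 hy1))
    refine ⟨n + 1, Fin.cons ⊥ T, rfl, ?_, ?_, ?_⟩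
    · rw [show Fin.last (n + 1) = (Fin.last n).succ from rfl, Fin.cons_succ]
      refine le_antisymm (hT _).1 fun x hx => ?_
      refine ⟨⟨x, hPN hx⟩, ⟨?_, hx⟩, rfl⟩
      show π ⟨x, hPN hx⟩ ∈ Tb (Fin.last n)
      rw [hTn]
      exact ⟨⟨x, hPN hx⟩, hx, rfl⟩
    · intro i
      refine Fin.cases ?_ (fun j => ?_) i
      · exact hbot
      · rw [Fin.cons_succ]
        exact hT j
    · intro i
      refine Fin.cases ?_ (fun j => ?_) i
      · simp only [Fin.cons_succ, Fin.castSucc_zero, Fin.cons_zero]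
        refine Subgroup.commutator_le.2 fun a ha b hb => Subgroup.mem_bot.2 ?_
        exact commutatorElement_eq_one_iff_mul_comm.2 (hUab a (hT0U ha) b (hT0U hb))
      · rw [← Fin.succ_castSucc, Fin.cons_succ, Fin.cons_succ]
        exact hcomm j

/-- Let p be an odd prime, G a finite group in which Qd(p) (the natural semidirect product of an elementary abelian group of order p² by SL₂(p)) is not involved, and P a Sylow p-subgroup of G. Then the fusion system of G on P is a solvable fusion system. -/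
theorem result {G : Type*} [Group G] [Finite G] {p : ℕ} [Fact p.Prime] (hp : p ≠ 2) (hqd : ¬ Cfsg.Involves ↥(Cfsg.qd p) G) (P : Sylow p G) : (Cfsg.groupFusionSystem (P : Subgroup G)).IsSolvableSystem := by
  obtain ⟨n, T, h0, hn, hsc, hcomm⟩ := exists_series hp (Nat.card G) G le_rfl hqd P
  exact CfsgLib.Fusion.Alperin.isSolvableSystem_of_series P.isPGroup' (CfsgLib.Fus.isSaturated_group P)
    T h0 hn hsc hcomm

end Cfsg.Agent.S5249
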