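import Cfsg.Statements.S5269
import Cfsg.Agent.RegUnip.EssentialMaximal
import Cfsg.Agent.Fus.EssentialCube
import Cfsg.Agent.S5270

set_option autoImplicit false
open Cfsg

namespace Cfsg.Agent.S5269

open scoped commutatorElement
open CfsgLib.PGroup.MaxClass CfsgLib.RegUnip

/-- Let p ≥ 5 be a prime, S a finite p-group of maximal class of order p^n with n ≥ 4, F a saturated fusion system over S, and E an F-essential subgroup that is normal in S. Then E has index p in S; moreover E is the two-step centralizer Γ₁ = C_S([S,S]/γ₄(S)) or E = C_S(Z₂(S)), unless S has order p^4 and E is extraspecial of order p³ and exponent p. -/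
theorem result {Ω : Type*} [Group Ω] {S : Subgroup Ω} [Finite S] (p : ℕ) [Fact p.Prime] (hS : IsPGroup p ↥S) (n : ℕ) (hn : Nat.card S = p ^ n) (h4 : 4 ≤ n) (hmax : Subgroup.lowerCentralSeries S (n - 2) ≠ ⊥) (F : Cfsg.FusionSystem S) (hF : F.IsSaturated p) (hp : 5 ≤ p) (Γ₁ : Subgroup Ω) (hΓ₁ : ∀ x : Ω, x ∈ Γ₁ ↔ x ∈ S ∧ ∀ y ∈ Subgroup.lowerCentralSeries S 1, x * y * x⁻¹ * y⁻¹ ∈ Subgroup.lowerCentralSeries S 3) (E : Subgroup Ω) (hE : F.IsEssential p E) (hEn : (E.subgroupOf S).Normal) : (E.subgroupOf S).index = p ∧ (E = Γ₁ ∨ E = (S ⊓ Subgroup.centralizer (((Subgroup.upperCentralSeries ↥S 2).map S.subtype) : Set Ω)) ∨ (n = 4 ∧ Nat.card ↥E = p ^ 3 ∧ Cfsg.IsExtraspecial p ↥E ∧ Monoid.exponent ↥E = p)) := by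
  have hpp : p.Prime := Fact.out
  have hl : Subgroup.lowerCentralSeries (⊤ : Subgroup S) (n - 2) ≠ ⊥ := by
    intro h
    apply hmax
    rw [← Subgroup.top_subtype_lowerCentralSeries S (n - 2), h, Subgroup.map_bot]
  have h := isMaxCl_of_ne_bot hn h4 hl
  haveI : Finite E := CfsgLib.Fus.finite_of_le hE.1.1
  haveI : Finite (MulAut E) := CfsgLib.Fus.finite_mulAut E
  obtain ⟨i, hi⟩ := h.isPGroup.index (E.subgroupOf S)
  obtain rfl : i = 1 := by
    rcases (show i = 0 ∨ i = 1 ∨ 2 ≤ i by omega) with h0 | h1 | h2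
    · exfalso
      subst h0
      have hSE : E = S := le_antisymm hE.1.1 fun g hg => by
        have h1 := Subgroup.index_eq_one.1 (hi.trans (pow_zero p))
        exact Subgroup.mem_subgroupOf.1 (h1.ge (Subgroup.mem_top (⟨g, hg⟩ : S)))
      subst hSE
      obtain ⟨hnor, M, hM⟩ := hE.2.2
      obtain ⟨-, R, hR⟩ := (CfsgLib.Fus.fullyNormalized_props hS hF hE.2.1).1
      haveI := hnor
      have h2 := R.not_dvd_index
      rw [hR, ← CfsgLib.Fus.inn_eq_autInducedBy_self, Subgroup.index_eq_card] at h2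
      exact h2 hM.1
    · exact h1
    · exfalso
      haveI := hEn
      obtain ⟨hin, he⟩ := normal_eq_gam h (E.subgroupOf S) h2 hi
      exact false_of_essential_gam hp hS hF h hE h2 hin he
  rw [pow_one] at hi
  refine ⟨hi, ?_⟩
  have hext : ∀ {K : Subgroup Ω}, K ≤ S → K.subgroupOf S = E.subgroupOf S → E = K := fun {K} hK hKE =>
    le_antisymm (fun g hg => Subgroup.mem_subgroupOf.1
        (hKE.ge (Subgroup.mem_subgroupOf.2 hg : (⟨g, hE.1.1 hg⟩ : S) ∈ E.subgroupOf S)))
      fun g hg => Subgroup.mem_subgroupOf.1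
        (hKE.le (Subgroup.mem_subgroupOf.2 hg : (⟨g, hK hg⟩ : S) ∈ K.subgroupOf S))
  have hlcs : ∀ (k : ℕ) (y : S), (y : Ω) ∈ Subgroup.lowerCentralSeries S k ↔
      y ∈ Subgroup.lowerCentralSeries (⊤ : Subgroup S) k := fun k y => by
    rw [← Subgroup.top_subtype_lowerCentralSeries S k]
    exact Subgroup.mem_map_iff_mem S.subtype_injective
  have hG1 : Γ₁.subgroupOf S = twoStep S 2 := by
    ext g
    rw [Subgroup.mem_subgroupOf, hΓ₁, mem_twoStep]
    refine ⟨fun hg y hy => ?_, fun hg => ⟨g.2, fun y hy => ?_⟩⟩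
    · exact (hlcs 3 ⁅g, y⁆).1 (hg.2 y ((hlcs 1 y).2 hy))
    · have hyS : y ∈ S := Subgroup.lowerCentralSeries_le_self S 1 hy
      exact (hlcs 3 ⁅g, (⟨y, hyS⟩ : S)⁆).2 (hg ⟨y, hyS⟩ ((hlcs 1 ⟨y, hyS⟩).1 hy))
  obtain ⟨-, hZ2, -, -⟩ := Cfsg.Agent.S5270.maxClass_facts (G := S) hn h4 hl
  have hZ2eq : Subgroup.upperCentralSeries S 2 = gam S (n - 2) := by
    refine (normal_eq_gam h _ (show 2 ≤ n - 2 by omega) ?_).2
    have h1 := (Subgroup.upperCentralSeries S 2).card_mul_index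
    rw [hZ2, hn, show p ^ n = p ^ 2 * p ^ (n - 2) by rw [← pow_add, Nat.add_sub_cancel' (by omega)]] at h1
    exact Nat.eq_of_mul_eq_mul_left (pow_pos hpp.pos 2) h1
  have hC : (S ⊓ Subgroup.centralizer (((Subgroup.upperCentralSeries ↥S 2).map S.subtype) : Set Ω)).subgroupOf S =
      twoStep S (n - 2) := by
    ext g
    rw [Subgroup.mem_subgroupOf, hZ2eq, Subgroup.mem_inf, Subgroup.mem_centralizer_iff, mem_twoStep,
      show n - 2 + 2 = n by omega, h.gam_eq_bot le_rfl]
    simp only [Subgroup.mem_bot, commutatorElement_eq_one_iff_mul_comm, g.2, true_and]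
    refine ⟨fun hg y hy => (Subtype.ext (hg _ ⟨y, hy, rfl⟩)).symm, ?_⟩
    rintro hg _ ⟨y, hy, rfl⟩
    exact (congrArg Subtype.val (hg y hy)).symm
  by_cases hA : E.subgroupOf S = twoStep S 2
  · refine Or.inl (hext (fun g hg => ((hΓ₁ g).1 hg).1) (hG1.trans hA.symm))
  by_cases hB : E.subgroupOf S = twoStep S (n - 2)
  · exact Or.inr (Or.inl (hext inf_le_left (hC.trans hB.symm)))
  refine Or.inr (Or.inr ?_)
  obtain ⟨e, heE, he2, hel⟩ : ∃ e ∈ E.subgroupOf S, e ∉ twoStep S 2 ∧ e ∉ twoStep S (n - 2) := by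
    have hne : ∀ {M : Subgroup S}, M.index = p → E.subgroupOf S ≠ M →
        ∃ a ∈ E.subgroupOf S, a ∉ M := by
      intro M hM hne
      by_contra hall
      push Not at hall
      exact hne (Subgroup.eq_of_le_of_card_ge hall (le_of_eq (Nat.eq_of_mul_eq_mul_right hpp.pos (by
        have h1 := (E.subgroupOf S).card_mul_index
        have h2 := M.card_mul_index
        rw [hi] at h1; rw [hM] at h2
        rw [h1, h2]))))
    obtain ⟨a, ha, ha'⟩ := hne (h.index_twoStep le_rfl (by omega)) hA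
    obtain ⟨b, hb, hb'⟩ := hne (h.index_twoStep (by omega) (by omega)) hB
    by_cases ha2 : a ∈ twoStep S (n - 2)
    · by_cases hb2 : b ∈ twoStep S 2
      · exact ⟨a * b, mul_mem ha hb, fun hm => ha' ((Subgroup.mul_mem_cancel_right _ hb2).1 hm),
          fun hm => hb' ((Subgroup.mul_mem_cancel_left _ ha2).1 hm)⟩
      · exact ⟨b, hb, hb2, hb'⟩
    · exact ⟨a, ha, ha', ha2⟩
  have hgood := h.good_of_notMem he2 hel
  have heE' : (e : Ω) ∈ E := Subgroup.mem_subgroupOf.1 heE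
  rcases Nat.lt_or_ge n 5 with hn5 | hn5
  · obtain rfl : n = 4 := by omega
    have hcard : Nat.card E = p ^ 3 := by
      have h1 := (E.subgroupOf S).card_mul_index
      rw [hi, Nat.card_congr (Subgroup.subgroupOfEquivOfLe hE.1.1).toEquiv, hn, pow_succ p 3] at h1
      exact Nat.eq_of_mul_eq_mul_right hpp.pos h1
    rcases CfsgLib.Fus.EssentialCube.classify hS hE hcard with ⟨hcomm, -⟩ | ⟨-, hes, hexp⟩ | ⟨hp2, -⟩
    · exfalso
      obtain ⟨a, ha, ha'⟩ := h.exists_notMem_succ le_rfl (show 2 < 4 by omega)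
      have haE : (a : Ω) ∈ E := by
        have hle : gam S 2 ≤ E.subgroupOf S := by
          rw [← h.frattini_eq]
          exact frattini_le_coatom (CfsgLib.PGroup.isCoatom_of_index_eq hi)
        exact Subgroup.mem_subgroupOf.1 (hle ha)
      refine h.comm_notMem hgood le_rfl (by omega) ha ha' ?_
      have h1 : a * e = e * a := Subtype.ext (congrArg (fun z : E => (z : Ω)) (hcomm ⟨a, haE⟩ ⟨e, heE'⟩))
      rw [commutatorElement_eq_one_iff_mul_comm.2 h1]
      exact one_mem _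
    · refine ⟨rfl, hcard, hes, ?_⟩
      rcases (Nat.dvd_prime hpp).1 (Monoid.exponent_dvd_of_forall_pow_eq_one hexp) with h1 | h1
      · rw [Monoid.exp_eq_one_iff] at h1
        rw [Nat.card_eq_one_iff_unique.2 ⟨h1, inferInstance⟩] at hcard
        exact absurd hcard (Nat.one_lt_pow three_ne_zero hpp.one_lt).ne
      · exact h1
    · omega
  · exact (false_of_good_essential hS h hn5 hE hi hgood heE').elim

end Cfsg.Agent.S5269
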