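import Cfsg.Statements.S5275
import Cfsg.Agent.FusMinimal.Relative

set_option autoImplicit false
open Cfsg

namespace Cfsg.Agent.S5275

/-- A Glauberman–Thompson nilpotency criterion for fusion systems relative to a strongly closed subgroup. Let p be an odd prime, F a saturated fusion system over a finite p-group S, and D a subgroup of S that is strongly closed in F. Let Z(J(D)) be the centre of the subgroup of D generated by the abelian subgroups of D of largest order. Then F is the inner fusion system of S if and only if the normalizer fusion system of Z(J(D)) in F is the inner fusion system of N_S(Z(J(D))) = S. -/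
theorem result {Ω : Type*} [Group Ω] {S : Subgroup Ω} [Finite S] (p : ℕ) [Fact p.Prime] (hS : IsPGroup p ↥S) (F : Cfsg.FusionSystem S) (hF : F.IsSaturated p) (hp : p ≠ 2) (D : Subgroup Ω) (hD : F.StronglyClosed D) : (∀ P : Subgroup Ω, F.Hom P = (Cfsg.innerFusionSystem S).Hom P) ↔ ∀ N : Cfsg.FusionSystem (Cfsg.FusionSystem.normalizerIn S (Cfsg.centerThompsonAOf D)), F.IsNormalizerSystem (Cfsg.centerThompsonAOf D) N → ∀ P : Subgroup Ω, N.Hom P = (Cfsg.innerFusionSystem (Cfsg.FusionSystem.normalizerIn S (Cfsg.centerThompsonAOf D))).Hom P := by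
  have hD1 : Finite D := CfsgLib.Fus.finite_of_le hD.1
  have hV : Cfsg.centerThompsonAOf D ≤ S := by
    rw [CfsgLib.FusMinimal.centerThompsonAOf_eq (p := p)]
    exact ((CfsgLib.FusMinimal.zjFunctor p).obj_le D).trans hD.1
  constructor
  · intro h N hN
    haveI : Finite (Cfsg.FusionSystem.normalizerIn S (Cfsg.centerThompsonAOf D)) :=
      CfsgLib.Fus.finite_of_le inf_le_left
    refine CfsgLib.FusMinimal.eq_inner_of_autsP (p := p) (S := Cfsg.FusionSystem.normalizerIn S (Cfsg.centerThompsonAOf D)) (hS.to_le inf_le_left) ?_ ?_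
    · exact CfsgLib.FusModel.isSaturated_normalizer hS hF (CfsgLib.FusMinimal.isFullyNormalized_of_le_normalizer F hV (by
        rw [CfsgLib.FusMinimal.centerThompsonAOf_eq (p := p)]
        exact (CfsgLib.Fusion.Alperin.le_normalizer_of_stronglyClosed hD).trans
          ((CfsgLib.FusMinimal.zjFunctor p).normalizer_le (hS.to_le hD.1)))) hN
    · exact CfsgLib.FusMinimal.autsP_mono inf_le_left (fun P φ hφ => ((hN P).le hφ).1)
        (CfsgLib.FusMinimal.autsP_of_eq_inner hS h)
  · intro h
    refine CfsgLib.FusMinimal.eq_inner_of_autsP hS hF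
      (CfsgLib.FusMinimal.glauberman_thompson_stronglyClosed hp hS hF hD ?_)
    have h1 : CfsgLib.FusMinimal.AutsArePGroups p
        (CfsgLib.Fus.normalizerSystem F (Cfsg.centerThompsonAOf D) hV) :=
      CfsgLib.FusMinimal.autsP_of_eq_inner (hS.to_le inf_le_left) (h _ fun _ => rfl)
    revert h1 hV
    rw [CfsgLib.FusMinimal.centerThompsonAOf_eq (p := p)]
    exact fun _ h => h

end Cfsg.Agent.S5275
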