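import Cfsg.Statements.S5278
import Cfsg.Agent.TorusClosure.Fusion

set_option autoImplicit false
open Cfsg

namespace Cfsg.Agent.S5278

/-- Let p be an odd prime, F a saturated fusion system over a finite p-group S, and T a subgroup of Z(S) such that the normalizer fusion system of J(S) in F is contained in the normalizer fusion system of T, J(S) being the subgroup generated by the abelian subgroups of S of largest order. Then either T is weakly closed in F, or Aut_F(T) has a nontrivial cyclic subgroup X of order prime to p that permutes transitively the non-identity elements of the commutator [T, X] (the subgroup of T generated by the elements ψ(t)·t⁻¹ with ψ in X and t in T). -/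
theorem result {Ω : Type*} [Group Ω] {S : Subgroup Ω} [Finite S] (p : ℕ) [Fact p.Prime] (hS : IsPGroup p ↥S) (F : Cfsg.FusionSystem S) (hF : F.IsSaturated p) (hp : p ≠ 2) (T : Subgroup Ω) (hT : T ≤ S ⊓ Subgroup.centralizer (S : Set Ω)) (hJT : ∀ NJ : Cfsg.FusionSystem (Cfsg.FusionSystem.normalizerIn S (Cfsg.thompsonSubgroupAOf S)), F.IsNormalizerSystem (Cfsg.thompsonSubgroupAOf S) NJ → ∀ NT : Cfsg.FusionSystem (Cfsg.FusionSystem.normalizerIn S T), F.IsNormalizerSystem T NT → NJ.IsSubsystemOf NT) : F.WeaklyClosed T ∨ ∃ X : Subgroup (MulAut ↥T), X ≤ F.autGroup T ∧ X ≠ ⊥ ∧ IsCyclic ↥X ∧ (Nat.card ↥X).Coprime p ∧ ∀ a b : ↥T, a ∈ Subgroup.closure {y : ↥T | ∃ ψ ∈ X, ∃ t : ↥T, y = ψ t * t⁻¹} → b ∈ Subgroup.closure {y : ↥T | ∃ ψ ∈ X, ∃ t : ↥T, y = ψ t * t⁻¹} → a ≠ 1 → b ≠ 1 → ∃ ψ ∈ X, ψ a = b := by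
  have hTS : T ≤ S := hT.trans inf_le_left
  have hJS : thompsonSubgroupAOf S ≤ S := CfsgLib.WeakClosureJ.abJ_le S
  have hTc : ∀ t ∈ T, ∀ s ∈ S, s * t = t * s := fun t ht =>
    Subgroup.mem_centralizer_iff.1 (hT ht).2
  refine CfsgLib.TorusClosure.weaklyClosed_or_torus hp hS hF hT fun β hβ hβr y hy => ?_
  have hJN : thompsonSubgroupAOf S ≤
      Cfsg.FusionSystem.normalizerIn S (thompsonSubgroupAOf S) :=
    CfsgLib.Fus.le_normalizerIn hJS
  have hβN : β ∈ (CfsgLib.Fus.normalizerSystem F (thompsonSubgroupAOf S) hJS).Hom (thompsonSubgroupAOf S) := by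
    refine ⟨hβ, hJN, fun z => hJN (hβr.le ⟨z, rfl⟩), β.comp (Subgroup.inclusion (sup_le le_rfl le_rfl)),
      CfsgLib.Fus.restrict_mem F hβ _, fun z => rfl, ?_⟩
    refine Eq.trans ?_ hβr
    ext z
    constructor
    · rintro ⟨t, -, rfl⟩
      exact ⟨_, rfl⟩
    · rintro ⟨t, rfl⟩
      exact ⟨⟨t, Subgroup.mem_sup_left t.2⟩, t.2, rfl⟩
  obtain ⟨-, -, -, ψ, -, hψe, hψT⟩ :=
    hJT (CfsgLib.Fus.normalizerSystem F (thompsonSubgroupAOf S) hJS) (fun _ => rfl)
      (CfsgLib.Fus.normalizerSystem F T hTS) (fun _ => rfl) _ hβN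
  rw [← hψe y]
  exact hψT.le ⟨_, hy, rfl⟩

end Cfsg.Agent.S5278
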