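import Cfsg.Statements.S5281
import Cfsg.Agent.S5246
import Cfsg.Agent.Fus.Mor
import Cfsg.Agent.Fus.Centric
import Cfsg.Agent.Fus.KNormalizer
import Cfsg.Agent.Fus.LocalSystems
import Cfsg.Agent.Fus.Saturation
import Cfsg.Agent.Fus.PStable.GroupStable

set_option autoImplicit false
open Cfsg

namespace Cfsg.Agent.S5281

open Cfsg.FusionSystem CfsgLib.Fus

section
variable {Ω : Type*} [Group Ω] {S : Subgroup Ω}

/-- Stability at one subgroup. -/
def StabAt (F : Cfsg.FusionSystem S) (p : ℕ) (P : Subgroup Ω) : Prop :=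
  ∀ χ : MulAut P, χ ∈ F.autGroup P → (∀ a : P, (χ a⁻¹) * a * (χ a⁻¹) * (χ (χ a)) = 1) →
    χ ∈ ((Cfsg.pCore p (F.autGroup P)).map (F.autGroup P).subtype : Subgroup (MulAut P))

variable {p : ℕ} [Fact p.Prime] {T : Subgroup Ω} {E : Cfsg.FusionSystem T} {F : Cfsg.FusionSystem S}

theorem stabAt_mono {P : Subgroup Ω} [Finite P] (hle : E.autGroup P ≤ F.autGroup P) (h : StabAt F p P) :
    StabAt E p P := by
  haveI := finite_mulAut P
  intro χ hχ hq
  obtain ⟨y, hy, hye⟩ := h χ (hle hχ) hq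
  refine ⟨⟨χ, hχ⟩, Cfsg.Agent.S5246.pull (Subgroup.inclusion hle) (Subgroup.inclusion_injective hle) ?_, rfl⟩
  have e : Subgroup.inclusion hle ⟨χ, hχ⟩ = y := Subtype.ext hye.symm
  rw [e]
  exact hy

theorem stabAt_conj {P Q : Subgroup Ω} [Finite Q] (hc : F.IsConj P Q) (h : StabAt F p Q) :
    StabAt F p P := by
  haveI := finite_mulAut Q
  obtain ⟨φ, hφ, hr⟩ := hc
  set e := isoOf hφ hr
  intro χ hχ hq
  have hmem : ∀ α ∈ F.autGroup P, MulAut.congr e α ∈ F.autGroup Q := fun α hα => by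
    rw [← autGroup_map_congr hφ hr]
    exact Subgroup.mem_map_of_mem _ hα
  obtain ⟨y, hy, hye⟩ := h (MulAut.congr e χ) (hmem χ hχ) (fun a => by
    have h1 := congrArg e (hq (e.symm a))
    rw [map_one] at h1
    rw [← h1]
    simp [MulAut.congr, ← map_inv])
  let f : F.autGroup P →* F.autGroup Q :=
    ((MulAut.congr e).toMonoidHom.comp (F.autGroup P).subtype).codRestrict _ fun α => hmem α α.2
  have hf : Function.Injective f := fun a b hab =>
    Subtype.ext ((MulAut.congr e).injective (congrArg Subtype.val hab))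
  refine ⟨⟨χ, hχ⟩, Cfsg.Agent.S5246.pull f hf ?_, rfl⟩
  have e1 : f ⟨χ, hχ⟩ = y := Subtype.ext hye.symm
  rw [e1]
  exact hy

/-- Every automorphism of `Q` extends to one of `R`. -/
def Ext (F : Cfsg.FusionSystem S) (Q R : Subgroup Ω) : Prop :=
  F.IsCentric R ∧ Q ≤ R ∧ ∀ f : Ω → Ω, Mor F Q f → f '' (Q : Set Ω) = Q →
    ∃ τ, Mor F R τ ∧ τ '' (R : Set Ω) = R ∧ ∀ x ∈ Q, τ x = f x

theorem image_eq [Finite S] {R : Subgroup Ω} {τ : Ω → Ω} (h : Mor F R τ) (hin : ∀ x ∈ R, τ x ∈ R) :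
    τ '' (R : Set Ω) = R := by
  haveI := finite_of_le h.le
  refine Set.eq_of_subset_of_ncard_le (by rintro _ ⟨x, hx, rfl⟩; exact hin x hx) ?_ (Set.toFinite _)
  rw [h.injOn.ncard_image]

theorem exists_ext_start [Finite S] (hS : IsPGroup p S) (hF : F.IsSaturated p) {Q : Subgroup Ω}
    (hQ : F.IsFullyNormalized Q) : ∃ R, Ext F Q R := by
  obtain ⟨hFA, hrec⟩ := fullyNormalized_props hS hF hQ
  have hfc := fullyCentralized_of_fullyNormalized hS hF hQ
  set C := Cfsg.FusionSystem.centralizerIn S Q with hC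
  have hR : Q ⊔ C ≤ S := sup_le hQ.1 (centralizerIn_le Q)
  refine ⟨Q ⊔ C, ⟨hR, ?_⟩, le_sup_left, ?_⟩
  · rintro T ⟨φ, hφ, rfl⟩
    intro y hy
    set φ₀ := φ.comp (Subgroup.inclusion (le_sup_left : Q ≤ Q ⊔ C))
    have hφ₀ : φ₀ ∈ F.Hom Q := restrict_mem F hφ le_sup_left
    have hy' : y ∈ Cfsg.FusionSystem.centralizerIn S φ₀.range := by
      refine ⟨hy.1, fun z hz => hy.2 z ?_⟩
      obtain ⟨x, rfl⟩ := hz
      exact ⟨_, rfl⟩
    haveI : Finite (Cfsg.FusionSystem.centralizerIn S φ₀.range) := finite_of_le (centralizerIn_le _)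
    obtain ⟨g, -, hg⟩ := exists_preimage_of_card (F.injective_of_mem hφ) (le_sup_right : C ≤ Q ⊔ C)
      (fun g hg => map_mem_centralizerIn rfl hφ le_sup_left (fun _ => rfl) hg.2)
      (hfc.2 _ ⟨φ₀, hφ₀, rfl⟩) hy'
    exact ⟨g, hg⟩
  · intro f hf himg
    obtain ⟨a, ha⟩ := exists_aut_of_mor hf himg
    have hL : Q ⊔ C ≤ Cfsg.FusionSystem.normalizerIn S Q :=
      sup_le (le_normalizerIn hQ.1) (centralizerIn_le_normalizerIn Q)
    obtain ⟨φ, hφ, hφe⟩ := hf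
    have hrange : φ.range = Q := SetLike.coe_injective (by
      conv_rhs => rw [← himg]
      ext y
      constructor
      · rintro ⟨x, rfl⟩; exact ⟨x, x.2, (hφe x).symm⟩
      · rintro ⟨x, hx, rfl⟩; exact ⟨⟨x, hx⟩, hφe _⟩)
    obtain ⟨ψ, hψ, hψe⟩ := CfsgLib.Fus.exists_ext hrec hφ hrange le_sup_left
      (sup_le (le_extender F hφ) centralizerIn_le_extender)
    obtain ⟨τ, hτ, hτe⟩ := exists_mor hψ
    have hτQ : ∀ x ∈ Q, τ x = f x := fun x hx => by
      rw [← hφe ⟨x, hx⟩, ← hψe ⟨x, hx⟩]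
      exact hτe (Subgroup.inclusion le_sup_left ⟨x, hx⟩)
    refine ⟨τ, hτ, image_eq hτ fun z hz => ?_, hτQ⟩
    have hle : Q ⊔ C ≤ ((Q ⊔ C).comap ψ).map (Q ⊔ C).subtype := by
      refine sup_le (fun x hx => ?_) fun c hc => ?_
      · refine ⟨⟨x, le_sup_left (b := C) hx⟩, ?_, rfl⟩
        show ψ _ ∈ Q ⊔ C
        exact le_sup_left (b := C) (hrange.le ⟨⟨x, hx⟩, (hψe ⟨x, hx⟩).symm⟩)
      · refine ⟨⟨c, le_sup_right (a := Q) hc⟩, ?_, rfl⟩
        show ψ _ ∈ Q ⊔ C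
        exact le_sup_right (a := Q) (map_mem_centralizerIn hrange hψ le_sup_left hψe hc.2)
    obtain ⟨w, hw, hwz⟩ := hle hz
    rw [← hwz]
    show τ (w : Ω) ∈ Q ⊔ C
    rw [show τ (w : Ω) = ψ w from hτe w]
    exact hw

theorem exists_radical [Finite S] (hS : IsPGroup p S) (hF : F.IsSaturated p) :
    ∀ (d : ℕ) (Q R : Subgroup Ω), Nat.card S - Nat.card R = d → Ext F Q R →
      ∃ Q' R', F.IsConj Q Q' ∧ F.IsFullyNormalized R' ∧ F.IsRadical p R' ∧ Ext F Q' R' := by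
  intro d
  induction d using Nat.strongRecOn with
  | ind d ih =>
  intro Q R hd ⟨hRc, hQR, hext⟩
  -- move to a fully normalized conjugate
  obtain ⟨R', hc, hR'⟩ := exists_fullyNormalized F hRc.1
  obtain ⟨σ, hσ, hσR⟩ := exists_mor_of_isConj hc
  obtain ⟨ρ, hρ, hρσ, hσρ, hρR⟩ := hσ.exists_inv hσR
  obtain ⟨Q', hQ', -⟩ := hσ.exists_img hQR
  have hQQ' : F.IsConj Q Q' := (hσ.restrict hQR).isConj hQ'
  have hQ'R : Q' ≤ R' := fun y hy => by
    obtain ⟨x, hx, rfl⟩ := (hQ'.symm ▸ hy : y ∈ σ '' (Q : Set Ω))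
    exact (hσR ▸ ⟨x, hQR hx, rfl⟩ : σ x ∈ (R' : Set Ω))
  have hσin : ∀ x ∈ R, σ x ∈ R' := fun x hx => (hσR ▸ ⟨x, hx, rfl⟩ : σ x ∈ (R' : Set Ω))
  have hρin : ∀ y ∈ R', ρ y ∈ R := fun y hy => (hρR ▸ ⟨y, hy, rfl⟩ : ρ y ∈ (R : Set Ω))
  have hρQ : ∀ y ∈ Q', ρ y ∈ Q := fun y hy => by
    obtain ⟨x, hx, rfl⟩ := (hQ'.symm ▸ hy : y ∈ σ '' (Q : Set Ω))
    rwa [hρσ x (hQR hx)]
  have hσQ : ∀ x ∈ Q, σ x ∈ Q' := fun x hx => (hQ' ▸ ⟨x, hx, rfl⟩ : σ x ∈ (Q' : Set Ω))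
  have hExt' : Ext F Q' R' := by
    refine ⟨isCentric_of_isConj hRc hc, hQ'R, fun f hf himg => ?_⟩
    have hfin : ∀ y ∈ Q', f y ∈ Q' := fun y hy => (himg ▸ ⟨y, hy, rfl⟩ : f y ∈ (Q' : Set Ω))
    have hg : Mor F Q (ρ ∘ f ∘ σ) :=
      ((hσ.restrict hQR).comp hf fun x hx => hσQ x hx).comp (hρ.restrict hQ'R) fun x hx => hfin _ (hσQ x hx)
    obtain ⟨τ, hτ, hτR, hτe⟩ := hext _ hg (image_eq hg fun x hx => hρQ _ (hfin _ (hσQ x hx)))
    have hτin : ∀ x ∈ R, τ x ∈ R := fun x hx => (hτR ▸ ⟨x, hx, rfl⟩ : τ x ∈ (R : Set Ω))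
    have h1 : Mor F R' (σ ∘ τ ∘ ρ) :=
      (hρ.comp hτ hρin).comp hσ fun y hy => hτin _ (hρin y hy)
    refine ⟨_, h1, image_eq h1 fun y hy => hσin _ (hτin _ (hρin y hy)), fun y hy => ?_⟩
    show σ (τ (ρ y)) = f y
    rw [hτe _ (hρQ y hy)]
    show σ (ρ (f (σ (ρ y)))) = f y
    rw [hσρ y (hQ'R hy), hσρ _ (hQ'R (hfin y hy))]
  by_cases hrad : F.IsRadical p R'
  · exact ⟨Q', R', hQQ', hR', hrad, hExt'⟩
  -- otherwise enlarge
  haveI := finite_of_le hR'.1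
  haveI := finite_mulAut R'
  haveI : (Cfsg.pCore p (F.autGroup R')).Normal := pCore_normal p _
  set O := (Cfsg.pCore p (F.autGroup R')).map (F.autGroup R').subtype with hO
  obtain ⟨-, P₀, hP₀⟩ := (fullyNormalized_props hS hF hR').1
  have hOS : O ≤ Cfsg.autInducedBy S R' := by
    rintro _ ⟨o, ho, rfl⟩
    have h1 : o ∈ (P₀ : Subgroup (F.autGroup R')) :=
      (CfsgLib.LocalP.isPGroup_pCore : IsPGroup p (Cfsg.pCore p (F.autGroup R'))).le_sylow_of_normal P₀ ho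
    rw [hP₀] at h1
    exact h1
  set L := kNormalizer S R' O with hL
  have hRL : R' ≤ L := fun g hg => by
    refine mem_kNormalizer_of_conjAut (hR'.1 hg) (hgN := Subgroup.le_normalizer hg) ?_
    have hgI : conjAut (Subgroup.le_normalizer hg) ∈ Cfsg.Inn R' := by
      rw [inn_eq_autInducedBy_self]
      exact conjAut_mem_autInducedBy _ hg
    have hIn : ((Cfsg.Inn R').subgroupOf (F.autGroup R')).Normal := by
      refine ⟨fun α hα β => ?_⟩
      rw [Subgroup.mem_subgroupOf] at hα ⊢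
      obtain ⟨r, hr⟩ := hα
      refine ⟨(β : MulAut R') r, MulEquiv.ext fun x => ?_⟩
      show MulAut.conj ((β : MulAut R') r) x = (β : MulAut R') ((α : MulAut R') ((β : MulAut R')⁻¹ x))
      rw [← hr, MulAut.conj_apply, MulAut.conj_apply, map_mul, map_mul, map_inv, MulAut.apply_inv_self]
    have hInp : IsPGroup p ((Cfsg.Inn R').subgroupOf (F.autGroup R')) := by
      have : IsPGroup p (Cfsg.Inn R') := by
        rw [inn_eq_autInducedBy_self]; exact isPGroup_autInducedBy (hS.to_le hR'.1) R'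
      exact this.comap_subtype
    exact ⟨⟨_, inn_le_autGroup F hR'.1 hgI⟩, CfsgLib.LocalP.le_pCore hIn hInp hgI, rfl⟩
  have hLlt : R' < L := by
    refine lt_of_le_of_ne hRL fun he => hrad ⟨hR'.1, le_antisymm (fun α hα => ?_) fun α hα => ?_⟩
    · obtain ⟨g, hg, hgα⟩ := mem_autInducedBy_iff.1 (hOS hα)
      have hgN := mem_normalizer_of_aut hgα
      have hgL : g ∈ L := mem_kNormalizer_of_conjAut hg (hgN := hgN) (by
        rwa [show conjAut hgN = α from MulEquiv.ext fun x => Subtype.ext (hgα x).symm])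
      rw [← he] at hgL
      rw [inn_eq_autInducedBy_self]
      exact mem_autInducedBy_iff.2 ⟨g, hgL, hgα⟩
    · rw [inn_eq_autInducedBy_self] at hα
      obtain ⟨g, hg, hgα⟩ := mem_autInducedBy_iff.1 hα
      have hgN := mem_normalizer_of_aut hgα
      have h1 := conjAut_mem_of_mem_kNormalizer (hRL hg) hgN
      rw [show α = conjAut hgN from MulEquiv.ext fun x => Subtype.ext (hgα x)]
      exact h1
  have hExtL : Ext F Q' L := by
    refine ⟨isCentric_of_le hExt'.1 hRL (kNormalizer_le _), hExt'.2.1.trans hRL, fun f hf himg => ?_⟩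
    obtain ⟨τ, hτ, hτR, hτe⟩ := hExt'.2.2 f hf himg
    obtain ⟨a, ha⟩ := exists_aut_of_mor hτ hτR
    have hact : ∀ l ∈ L, ∃ t ∈ L, ∀ x ∈ R', τ (l * x * l⁻¹) = t * τ x * t⁻¹ := by
      intro l hl
      have hlN := kNormalizer_le_normalizer _ hl
      have hlO : conjAut hlN ∈ O := conjAut_mem_of_mem_kNormalizer hl hlN
      obtain ⟨o, ho, hoe⟩ := hlO
      have h1 : ((a * o * a⁻¹ : F.autGroup R') : MulAut R') ∈ O :=
        ⟨_, Subgroup.Normal.conj_mem inferInstance o ho a, rfl⟩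
      obtain ⟨t, ht, hta⟩ := mem_autInducedBy_iff.1 (hOS h1)
      have htN := mem_normalizer_of_aut hta
      refine ⟨t, mem_kNormalizer_of_conjAut ht (hgN := htN) (by
        rw [show conjAut htN = ((a * o * a⁻¹ : F.autGroup R') : MulAut R') from
          MulEquiv.ext fun x => Subtype.ext (hta x).symm]
        exact h1), fun x hx => ?_⟩
      have h2 := hta ((a : MulAut R') ⟨x, hx⟩)
      have e1 : ((a * o * a⁻¹ : F.autGroup R') : MulAut R') ((a : MulAut R') ⟨x, hx⟩) =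
          (a : MulAut R') (conjAut hlN ⟨x, hx⟩) := by
        rw [← hoe]
        show (a : MulAut R') ((o : MulAut R') ((a : MulAut R')⁻¹ ((a : MulAut R') ⟨x, hx⟩))) = _
        rw [MulAut.inv_apply_self]
        rfl
      rw [e1, ha, ha] at h2
      exact h2
    obtain ⟨τ', hτ', hτ'e⟩ := hτ.exists_ext hτR (fullyNormalized_props hS hF hR').2 hRL
      (le_inf (kNormalizer_le _) (kNormalizer_le_normalizer _))
      fun l hl => (hact l hl).imp fun t ht => ⟨kNormalizer_le _ ht.1, ht.2⟩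
    have hτin : ∀ x ∈ R', τ x ∈ R' := fun x hx => (hτR ▸ ⟨x, hx, rfl⟩ : τ x ∈ (R' : Set Ω))
    refine ⟨τ', hτ', image_eq hτ' fun l hl => ?_, fun x hx => by rw [hτ'e x (hExt'.2.1 hx), hτe x hx]⟩
    obtain ⟨t, htL, ht⟩ := hact l hl
    have hact' : ∀ y ∈ R', τ' l * y * (τ' l)⁻¹ = t * y * t⁻¹ := by
      intro y hy
      obtain ⟨x, hx, rfl⟩ := (hτR.symm ▸ hy : y ∈ τ '' (R' : Set Ω))
      rw [← ht x hx, ← hτ'e x hx, ← hτ'.map_conj hl (hRL hx), hτ'e]
      exact conj_mem_of_normalizer (kNormalizer_le_normalizer _ hl) hx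
    have hC : t⁻¹ * τ' l ∈ Cfsg.FusionSystem.centralizerIn S R' := by
      refine ⟨S.mul_mem (S.inv_mem (kNormalizer_le _ htL)) (hτ'.mem hl), fun y hy => ?_⟩
      have h1 := hact' y hy
      calc y * (t⁻¹ * τ' l) = t⁻¹ * (t * y * t⁻¹) * τ' l := by group
        _ = t⁻¹ * (τ' l * y * (τ' l)⁻¹) * τ' l := by rw [h1]
        _ = t⁻¹ * τ' l * y := by group
    have := L.mul_mem htL (hRL (centralizerIn_le_of_centric hExt'.1 hC))
    rwa [mul_inv_cancel_left] at this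
  have hlt : Nat.card R < Nat.card L := by
    rw [isConj_card hc]
    haveI := finite_of_le (kNormalizer_le (S := S) O : L ≤ S)
    exact Set.ncard_lt_ncard (SetLike.coe_strictMono hLlt) (Set.toFinite _)
  have hLS : Nat.card L ≤ Nat.card S := Subgroup.card_le_of_le (kNormalizer_le _)
  obtain ⟨Q'', R'', h1, h2⟩ := ih _ (by omega) Q' L rfl hExtL
  exact ⟨Q'', R'', isConj_trans hQQ' h1, h2⟩

end


/-- Let p be an odd prime and F a saturated fusion system over a finite p-group S. Call a fusion system E (over any subgroup) p-stable when, for every fully E-normalized subgroup Q and every χ in Aut_E(Q) with χ(a⁻¹)·a·χ(a⁻¹)·χ(χ(a)) = 1 for all a in Q (χ acts quadratically), χ lies in O_p(Aut_E(Q)). Then F is p-stable if and only if the normalizer fusion system of R in F is p-stable for every fully F-normalized, F-centric, F-radical subgroup R of S. -/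
theorem result {Ω : Type*} [Group Ω] {S : Subgroup Ω} [Finite S] (p : ℕ) [Fact p.Prime] (hS : IsPGroup p ↥S) (F : Cfsg.FusionSystem S) (hF : F.IsSaturated p) (hp : p ≠ 2) : (∀ Q : Subgroup Ω, F.IsFullyNormalized Q → ∀ χ : MulAut ↥Q, χ ∈ F.autGroup Q → (∀ a : ↥Q, (χ a⁻¹) * a * (χ a⁻¹) * (χ (χ a)) = 1) → χ ∈ ((Cfsg.pCore p ↥(F.autGroup Q)).map (F.autGroup Q).subtype : Subgroup (MulAut ↥Q))) ↔ ∀ R : Subgroup Ω, F.IsFullyNormalized R → F.IsCentric R → F.IsRadical p R → ∀ N : Cfsg.FusionSystem (Cfsg.FusionSystem.normalizerIn S R), F.IsNormalizerSystem R N → (∀ Q : Subgroup Ω, N.IsFullyNormalized Q → ∀ χ : MulAut ↥Q, χ ∈ N.autGroup Q → (∀ a : ↥Q, (χ a⁻¹) * a * (χ a⁻¹) * (χ (χ a)) = 1) → χ ∈ ((Cfsg.pCore p ↥(N.autGroup Q)).map (N.autGroup Q).subtype : Subgroup (MulAut ↥Q))) := by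
  constructor
  · intro h R hR _ _ N hN Q hQ
    haveI := finite_of_le (hQ.1.trans (normalizerIn_le R))
    obtain ⟨Q', hc, hQ'⟩ := exists_fullyNormalized F (hQ.1.trans (normalizerIn_le R))
    haveI := finite_of_le hQ'.1
    refine stabAt_mono ?_ (stabAt_conj hc (h Q' hQ'))
    exact autGroup_mono (fun P φ hφ => ((hN P).le hφ).1) Q
  · intro h Q hQ
    obtain ⟨R₀, hR₀⟩ := exists_ext_start hS hF hQ
    obtain ⟨Q₁, R, hc, hR, hrad, hRc, hQ₁R, hext⟩ := exists_radical hS hF _ Q R₀ rfl hR₀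
    let N := normalizerSystem F R hR.1
    have hN : F.IsNormalizerSystem R N := fun P => rfl
    have hQ₁N : Q₁ ≤ Cfsg.FusionSystem.normalizerIn S R := hQ₁R.trans (le_normalizerIn hR.1)
    haveI : Finite (Cfsg.FusionSystem.normalizerIn S R) := finite_of_le (normalizerIn_le R)
    obtain ⟨Q₂, hc₂, hQ₂⟩ := exists_fullyNormalized N hQ₁N
    haveI := finite_of_le hQ₂.1
    haveI := finite_of_le hQ₁N
    refine stabAt_conj hc (stabAt_mono ?_ (stabAt_conj hc₂ (h R hR hRc hrad N hN Q₂ hQ₂)))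
    intro α hα
    obtain ⟨f, hf, hfe, himg⟩ := exists_mor_of_aut (hQ₁R.trans hR.1) ⟨α, hα⟩
    obtain ⟨τ, hτ, hτR, hτe⟩ := hext f hf himg
    obtain ⟨ψ, hψ, hψe⟩ := hτ
    have hsup : Q₁ ⊔ R ≤ R := sup_le hQ₁R le_rfl
    refine mem_autGroup_of_mem N ⟨(mem_autGroup_iff F (hQ₁R.trans hR.1)).1 hα, hQ₁N, fun x => hQ₁N (α x).2,
      _, restrict_mem F hψ hsup, fun x => ?_, ?_⟩
    · show ψ (Subgroup.inclusion hsup (Subgroup.inclusion le_sup_left x)) = ((α x : Q₁) : Ω)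
      rw [hψe]
      exact (hτe _ x.2).trans (hfe x)
    · refine le_antisymm ?_ fun y hy => ?_
      · rintro _ ⟨x, hx, rfl⟩
        exact (hψe _).symm ▸ (hτR ▸ ⟨(x : Ω), hx, rfl⟩ : τ x ∈ (R : Set Ω))
      · obtain ⟨x, hx, rfl⟩ := (hτR.symm ▸ hy : y ∈ τ '' (R : Set Ω))
        exact ⟨⟨x, (le_sup_right : R ≤ Q₁ ⊔ R) hx⟩, hx, hψe _⟩

end Cfsg.Agent.S5281
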