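import Cfsg.Statements.S5297
import Cfsg.Agent.Fusion.Alperin.SmallTop
import Cfsg.Agent.S5124

set_option autoImplicit false
universe u
open Cfsg

namespace Cfsg.Agent.S5297

open CfsgLib CfsgLib.Fus CfsgLib.Fusion.Alperin Cfsg.FusionSystem

/-- Let F be a saturated fusion system over a finite p-group S. If every map of F between cyclic subgroups of the hyperfocal subgroup of F of order p or 4 is a map of the normalizer system of S (it extends to a map of F defined on all of S), then S is normal in F. -/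
theorem result {Ω : Type u} [Group Ω] {S : Subgroup Ω} [Finite S] (p : ℕ) [Fact p.Prime] (hS : IsPGroup p S)
    (F : Cfsg.FusionSystem S) (hF : F.IsSaturated p)
    (h : ∀ A B : Subgroup Ω, A ≤ (F.hyperfocalSubgroup p) → B ≤ (F.hyperfocalSubgroup p) → IsCyclic ↥A → (Nat.card ↥A = p ∨ Nat.card ↥A = 4) → IsCyclic ↥B → (Nat.card ↥B = p ∨ Nat.card ↥B = 4) →
      F.homSet A B ⊆ F.normalizerHom S A) :
    F.IsNormal S := by
  have hH := Cfsg.Agent.S5124.result p hS F hF
  obtain ⟨q, hq⟩ := exists_small_exponent (p := p)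
  obtain ⟨n, L, hL0, hLn, hL, hLc, -⟩ := exists_central_series (p := p) hS
  refine isNormal_top_of_small hS hF hH (fun R hR a ha hord x => inv_mul_mem_hyperfocal F hR ha hord x)
    hq n L hL0 ((hyperfocalSubgroup_le_S F).trans hLn.ge) ?_ (fun i _ g hg x _ _ hx => hLc i g hg x hx)
  intro R hR i a ha x hxH hx hxL
  by_cases hx1 : (x : Ω) = 1
  · have : x = 1 := Subtype.ext hx1
    rw [this, map_one]
    exact one_mem _
  set A := Subgroup.zpowers (x : Ω)
  have hAR : A ≤ R := Subgroup.zpowers_le.2 x.2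
  set φ := (R.subtype.comp a.toMonoidHom).comp (Subgroup.inclusion hAR)
  set B := Subgroup.zpowers ((a x : R) : Ω)
  have hφ : φ ∈ F.homSet A B := by
    refine ⟨restrict_mem F ((mem_autGroup_iff F hR).1 ha) hAR, ?_⟩
    rintro ⟨y, hy⟩
    obtain ⟨k, rfl⟩ := hy
    refine ⟨k, ?_⟩
    show ((a x : R) : Ω) ^ k = ((a ⟨(x : Ω) ^ k, _⟩ : R) : Ω)
    rw [← SubgroupClass.coe_zpow, ← map_zpow]
    exact congrArg (fun z : R => ((a z : R) : Ω)) (Subtype.ext rfl)
  have hy : ((a x : R) : Ω) ^ q = 1 := by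
    rw [← SubmonoidClass.coe_pow, ← map_pow, show x ^ q = 1 from Subtype.ext hx, map_one]
    rfl
  have hy1 : ((a x : R) : Ω) ≠ 1 := fun hh => hx1 (by
    have h1 : a x = 1 := Subtype.ext hh
    rw [(MulEquiv.map_eq_one_iff a).1 h1]; rfl)
  have hxA : (x : Ω) ∈ A := Subgroup.mem_zpowers _
  obtain ⟨-, -, -, ψ, hψ, hψe, hψS⟩ := h A B (Subgroup.zpowers_le.2 hxH)
    (Subgroup.zpowers_le.2 (map_mem_of_stronglyClosed hH ((mem_autGroup_iff F hR).1 ha) hxH))
    inferInstance (card_zpowers_small hq hx hx1) inferInstance (card_zpowers_small hq hy hy1) hφ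
  have hψ' := restrict_mem F hψ (le_sup_right : S ≤ A ⊔ S)
  have hr : (ψ.comp (Subgroup.inclusion (le_sup_right : S ≤ A ⊔ S))).range = S := by
    refine le_antisymm (range_le F hψ') fun y hy => ?_
    obtain ⟨z, hz, rfl⟩ := hψS.ge hy
    exact ⟨⟨z, hz⟩, rfl⟩
  rw [hL] at hxL ⊢
  obtain ⟨z, hz, hzx⟩ := hxL
  have hc := Subgroup.characteristic_iff_map_eq.1
    (inferInstance : (Subgroup.upperCentralSeries S i).Characteristic) (isoOf hψ' hr)
  refine ⟨isoOf hψ' hr z, hc.le ⟨z, hz, rfl⟩, ?_⟩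
  refine Eq.trans ?_ (hψe ⟨(x : Ω), hxA⟩)
  show ψ (Subgroup.inclusion (le_sup_right : S ≤ A ⊔ S) z) = _
  exact congrArg ψ (Subtype.ext hzx)

end Cfsg.Agent.S5297
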