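import Cfsg.Statements.S5298
import Cfsg.Agent.Fusion.Alperin.SmallTop
import Cfsg.Agent.S5124

set_option autoImplicit false
universe u
open Cfsg

namespace Cfsg.Agent.S5298

open CfsgLib CfsgLib.Fus CfsgLib.Fusion.Alperin Cfsg.FusionSystem

/-- Let F be a saturated fusion system over a finite p-group S. If every map of F between cyclic subgroups of the hyperfocal subgroup of F of order p or 4 is conjugation by an element of S, then F is the inner fusion system of S. -/
theorem result {Ω : Type u} [Group Ω] {S : Subgroup Ω} [Finite S] (p : ℕ) [Fact p.Prime] (hS : IsPGroup p S)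
    (F : Cfsg.FusionSystem S) (hF : F.IsSaturated p)
    (h : ∀ A B : Subgroup Ω, A ≤ (F.hyperfocalSubgroup p) → B ≤ (F.hyperfocalSubgroup p) → IsCyclic ↥A → (Nat.card ↥A = p ∨ Nat.card ↥A = 4) → IsCyclic ↥B → (Nat.card ↥B = p ∨ Nat.card ↥B = 4) →
      F.homSet A B ⊆ (Cfsg.innerFusionSystem S).Hom A) :
    ∀ P : Subgroup Ω, F.Hom P = (Cfsg.innerFusionSystem S).Hom P := by
  have hH := Cfsg.Agent.S5124.result p hS F hF
  obtain ⟨q, hq⟩ := exists_small_exponent (p := p)
  obtain ⟨n, L, hL0, hLn, -, hLc, hLn'⟩ := exists_central_series (p := p) hS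
  have hconj : ∀ R ≤ S, ∀ a ∈ F.autGroup R, ∀ x : R, (x : Ω) ∈ F.hyperfocalSubgroup p →
      (x : Ω) ^ q = 1 → ∃ g ∈ S, ((a x : R) : Ω) = g * x * g⁻¹ := by
    intro R hR a ha x hxH hx
    by_cases hx1 : (x : Ω) = 1
    · have : x = 1 := Subtype.ext hx1
      exact ⟨1, S.one_mem, by rw [this, map_one]; simp⟩
    set A := Subgroup.zpowers (x : Ω)
    have hAR : A ≤ R := Subgroup.zpowers_le.2 x.2
    set φ := (R.subtype.comp a.toMonoidHom).comp (Subgroup.inclusion hAR)
    set B := Subgroup.zpowers ((a x : R) : Ω)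
    have hφ : φ ∈ F.homSet A B := by
      refine ⟨restrict_mem F ((mem_autGroup_iff F hR).1 ha) hAR, ?_⟩
      rintro ⟨y, hy⟩
      obtain ⟨k, rfl⟩ := hy
      refine ⟨k, ?_⟩
      show ((a x : R) : Ω) ^ k = ((a ⟨(x : Ω) ^ k, _⟩ : R) : Ω)
      rw [← SubgroupClass.coe_zpow, ← map_zpow]
      exact congrArg (fun z : R => ((a z : R) : Ω)) (Subtype.ext rfl)
    have hy : ((a x : R) : Ω) ^ q = 1 := by
      rw [← SubmonoidClass.coe_pow, ← map_pow, show x ^ q = 1 from Subtype.ext hx, map_one]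
      rfl
    have hy1 : ((a x : R) : Ω) ≠ 1 := fun hh => hx1 (by
      have h1 : a x = 1 := Subtype.ext hh
      rw [(MulEquiv.map_eq_one_iff a).1 h1]; rfl)
    obtain ⟨-, g, hg, hge⟩ := h A B (Subgroup.zpowers_le.2 hxH)
      (Subgroup.zpowers_le.2 (map_mem_of_stronglyClosed hH ((mem_autGroup_iff F hR).1 ha) hxH))
      inferInstance (card_zpowers_small hq hx hx1) inferInstance (card_zpowers_small hq hy hy1) hφ
    exact ⟨g, hg, hge ⟨(x : Ω), Subgroup.mem_zpowers _⟩⟩
  have hLH : F.hyperfocalSubgroup p ≤ L n := (hyperfocalSubgroup_le_S F).trans hLn.ge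
  have hinv : ∀ R ≤ S, ∀ i, ∀ a ∈ F.autGroup R, ∀ x : R, (x : Ω) ∈ F.hyperfocalSubgroup p →
      (x : Ω) ^ q = 1 → (x : Ω) ∈ L i → ((a x : R) : Ω) ∈ L i := by
    intro R hR i a ha x hxH hx hxL
    obtain ⟨g, hg, hge⟩ := hconj R hR a ha x hxH hx
    rw [hge]
    exact hLn' i g hg _ hxL
  have hn : F.IsNormal S := isNormal_top_of_small hS hF hH
    (fun R hR a ha hord x => inv_mul_mem_hyperfocal F hR ha hord x)
    hq n L hL0 hLH hinv (fun i _ g hg x _ _ hx => hLc i g hg x hx)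
  refine eq_inner_of_isNormal_top hS hF hn ?_
  -- `Aut_F(S)` is a `p`-group, so it is its Sylow subgroup `Aut_S(S)`
  have hp : Cfsg.pCore p (F.autGroup S) = ⊤ := by
    refine eq_top_iff.2 fun a _ => mem_pCore_of_small hS le_rfl hH
      (fun b hb hord x => inv_mul_mem_hyperfocal F le_rfl hb hord x) hq n L hL0 hLH (hinv S le_rfl) ?_
    intro i _ x hxH hx hxL
    obtain ⟨g, hg, hge⟩ := hconj S le_rfl a a.2 x hxH hx
    rw [hge]
    exact hLc i g hg _ hxL
  intro a ha
  exact (inn_le_pCore_le hS (fullyNormalized_props hS hF (isFullyNormalized_top F)).1).2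
    ⟨⟨a, ha⟩, hp ▸ Subgroup.mem_top _, rfl⟩

end Cfsg.Agent.S5298
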