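import Cfsg.Statements.S5299

set_option autoImplicit false
universe u
open Cfsg
open scoped Pointwise

namespace Cfsg.Agent.S5299

/-- A quotient of a subgroup is a section. -/
theorem involves_of_hom {G : Type*} [Group G] {Q : Type*} [Group Q] (K : Subgroup G) (f : K →* Q)
    (hf : Function.Surjective f) : Cfsg.Involves Q G := by
  have h : (f.ker.map K.subtype).subgroupOf K = f.ker :=
    Subgroup.comap_map_eq_self_of_injective K.subtype_injective _
  have hn : ((f.ker.map K.subtype).subgroupOf K).Normal := by rw [h]; infer_instance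
  exact ⟨K, f.ker.map K.subtype, hn,
    ⟨(QuotientGroup.quotientMulEquivOfEq h).trans (QuotientGroup.quotientKerEquivOfSurjective f hf)⟩⟩

/-- A Sylow subgroup of a finite group involves every involved `p`-group. -/
theorem exists_hom_of_sylow {G : Type*} [Group G] [Finite G] {Q : Type*} [Group Q] {p : ℕ}
    [Fact p.Prime] (hQ : IsPGroup p Q) (f : G →* Q) (hf : Function.Surjective f) (P : Sylow p G) :
    Function.Surjective (f.comp (P : Subgroup G).subtype) := by
  have : Finite Q := Finite.of_surjective f hf
  set P' : Sylow p Q := P.mapSurjective hf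
  have htop : (P' : Subgroup Q) = ⊤ := by
    exact (P'.3 (IsPGroup.to_subgroup hQ ⊤) le_top).symm
  intro q
  have hq : q ∈ (P' : Subgroup Q) := by rw [htop]; trivial
  obtain ⟨a, ha, rfl⟩ := hq
  exact ⟨⟨a, ha⟩, rfl⟩

/-- Let F be a saturated fusion system over a finite p-group S, H a finite group and Q a p-subgroup of H. If Q is not involved in S (no section of S is isomorphic to Q), then F is H-free: H is involved in no model of the normalizer system of a fully normalized centric subgroup. -/
theorem result {Ω : Type u} [Group Ω] {S : Subgroup Ω} [Finite S] (p : ℕ) [Fact p.Prime] (hS : IsPGroup p S)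
    (F : Cfsg.FusionSystem S) (hF : F.IsSaturated p) (H : Type*) [Group H] [Finite H] (Q : Subgroup H) (hQ : IsPGroup p Q)
    (hfree : ¬ Cfsg.Involves (↥Q) (↥S)) : F.IsSectionFree p H := by
  intro R _ _ N _ L _ ι hmodel hinv
  obtain ⟨hL, ⟨hι, -⟩, ⟨T, hT⟩, -⟩ := hmodel
  obtain ⟨K, W, hW, ⟨e⟩⟩ := hinv
  set f : K →* H := e.toMonoidHom.comp (QuotientGroup.mk' (W.subgroupOf K))
  have hf : Function.Surjective f := e.surjective.comp (QuotientGroup.mk'_surjective _)
  set K1 : Subgroup K := Q.comap f
  set f1 : K1 →* Q := f.subgroupComap Q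
  have hf1 : Function.Surjective f1 := f.subgroupComap_surjective_of_surjective Q hf
  obtain ⟨P⟩ : Nonempty (Sylow p K1) := inferInstance
  set j : (P : Subgroup K1) →* L := K.subtype.comp (K1.subtype.comp (P : Subgroup K1).subtype)
  obtain ⟨P', hP'⟩ := ((P.isPGroup'.map (K.subtype.comp K1.subtype))).exists_le_sylow
  obtain ⟨d, hd⟩ := MulAction.exists_smul_eq L P' T
  have hj : ∀ a, (MulAut.conj d).toMonoidHom (j a) ∈ (T : Subgroup L) := by
    intro a
    have h1 : j a ∈ (P' : Subgroup L) := hP' ⟨(a : K1), a.2, rfl⟩
    rw [← hd, Sylow.coe_subgroup_smul]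
    exact Subgroup.smul_mem_pointwise_smul _ (MulAut.conj d) (P' : Subgroup L) h1
  set k : (P : Subgroup K1) →* L := (MulAut.conj d).toMonoidHom.comp j
  have hkinj : Function.Injective k :=
    (MulAut.conj d).injective.comp (Subtype.val_injective.comp (Subtype.val_injective.comp Subtype.val_injective))
  let e1 := MonoidHom.ofInjective hι
  let m : (P : Subgroup K1) →* ↥S :=
    ((Subgroup.inclusion inf_le_left).comp e1.symm.toMonoidHom).comp
      (k.codRestrict ι.range (fun a => hT ▸ hj a))
  have hminj : Function.Injective m :=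
    ((Subgroup.inclusion_injective inf_le_left).comp e1.symm.injective).comp
      (fun a b h => hkinj (congrArg Subtype.val h))
  apply hfree
  refine involves_of_hom m.range ((f1.comp (P : Subgroup K1).subtype).comp (MonoidHom.ofInjective hminj).symm.toMonoidHom) ?_
  exact (exists_hom_of_sylow hQ f1 hf1 P).comp (MonoidHom.ofInjective hminj).symm.surjective

end Cfsg.Agent.S5299
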