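import Cfsg.Statements.S5518
import Cfsg.Agent.ThreeTransp.M24G2Three61

set_option autoImplicit false
open Cfsg CfsgLib.ThreeTransp CfsgLib.ThreeTransp.Fixed43 CfsgLib.ThreeTransp.Thirteen24

namespace Cfsg.Agent.S5518

/-- Let G be a finite group with trivial centre generated by a conjugation-invariant set D of 3-transpositions on which it acts primitively, such that for some d in D the subgroup generated by the members of D other than d commuting with d has central largest normal 2- and 3-subgroups, and suppose G with D is of type M(24). Then any two subgroups of order 13 are conjugate; and there are members a, b, c, d of D generating the direct product T of two symmetric groups of degree 3 (a, d non-commuting; b, c non-commuting; b and c commuting with a and d) whose centralizer K is isomorphic to the Chevalley group G₂(3), such that for every subgroup B of K of order 13: the normalizer of B lies in the normalizer of K, the normalizer F of B in K is a Frobenius group of order 78 with kernel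 B (order 78, centralizer of B in it equal to B), and the subgroup generated by F and T has index 2 in the normalizer of B. -/
theorem result {G : Type*} [Group G] [Finite G] {D : Set G} (hD : Cfsg.IsThreeTranspositionGroup D) (hprim : Cfsg.IsPrimitiveUnderConj D) (d₀ : G) (hd₀ : d₀ ∈ D) (h3 : Cfsg.pCore 3 ↥(Subgroup.closure {y : G | y ∈ D ∧ y ≠ d₀ ∧ Commute d₀ y}) ≤ Subgroup.center ↥(Subgroup.closure {y : G | y ∈ D ∧ y ≠ d₀ ∧ Commute d₀ y})) (h2 : Cfsg.pCore 2 ↥(Subgroup.closure {y : G | y ∈ D ∧ y ≠ d₀ ∧ Commute d₀ y}) ≤ Subgroup.center ↥(Subgroup.closure {y : G | y ∈ D ∧ y ≠ d₀ ∧ Commute d₀ y})) (h24 : Cfsg.IsOfTypeM24 G D) : (∀ X Y : Subgroup G, Nat.card X = 13 → Nat.card Y = 13 → ∃ g : G, X.map (MulAut.conj g).toMonoidHom = Y) ∧ ∃ (a b c d : G) (T K : Subgroup G), (∀ x ∈ [a, b, c, d], x ∈ D) ∧ ¬ Commute a d ∧ ¬ Commute b c ∧ Commute a b ∧ Commute a c ∧ Commute d b ∧ Commute d c ∧ T = Subgroup.closure ({a, b, c, d} : Set G) ∧ K = Subgroup.centralizer (T : Set G) ∧ Nonempty (↥K ≃* ↥(Cfsg.Lie.chevG2.group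 (ZMod 3))) ∧ ∀ B : Subgroup G, B ≤ K → Nat.card B = 13 → Subgroup.normalizer ((B : Subgroup G) : Set G) ≤ Subgroup.normalizer ((K : Subgroup G) : Set G) ∧ Nat.card ↥(K ⊓ Subgroup.normalizer ((B : Subgroup G) : Set G)) = 78 ∧ K ⊓ Subgroup.centralizer ((B : Subgroup G) : Set G) = B ∧ (((K ⊓ Subgroup.normalizer ((B : Subgroup G) : Set G)) ⊔ T).subgroupOf (Subgroup.normalizer ((B : Subgroup G) : Set G))).index = 2 := by
  haveI : Fact (Nat.Prime 13) := ⟨by norm_num⟩
  refine ⟨fun X Y hX hY => conj_of_card_prime (thirteen_sq24 hD hprim h24) hX hY, ?_⟩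
  obtain ⟨x, hx⟩ := exists_prime_orderOf_dvd_card' (G := G) 13 (by
    rw [m24_card_group hD hprim h24]; norm_num)
  have hX : Nat.card ↥(Subgroup.zpowers x) = 13 := by rw [Nat.card_zpowers, hx]
  obtain ⟨a, b, c, d, ha, hb, hc, hd, had, hbc, hab, hac, hdb, hdc⟩ :=
    exists_config hD hprim h24 hX
  refine ⟨a, b, c, d, Subgroup.closure ({a, b, c, d} : Set G),
    Subgroup.centralizer ((Subgroup.closure ({a, b, c, d} : Set G) : Subgroup G) : Set G), ?_, had,
    hbc, hab, hac, hdb, hdc, rfl, rfl,
    centralizer_g2 hD hprim h24 hX ha hb hc hd had hbc hab hac hdb hdc, ?_⟩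
  · simp only [List.mem_cons, List.not_mem_nil, or_false]
    rintro z (rfl | rfl | rfl | rfl)
    exacts [ha.1, hb.1, hc.1, hd.1]
  intro B hB hB13
  have hfix : ∀ z ∈ ({a, b, c, d} : Set G), z ∈ D → z ∈ Fixed43.fixedIn D B := fun z hz hzD =>
    Fixed43.mem_fixedIn.2 ⟨hzD, fun g hg =>
      (Subgroup.mem_centralizer_iff.1 (hB hg) z (Subgroup.subset_closure hz)).symm⟩
  have ha' := hfix a (Or.inl rfl) ha.1
  have hb' := hfix b (Or.inr (Or.inl rfl)) hb.1
  have hc' := hfix c (Or.inr (Or.inr (Or.inl rfl))) hc.1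
  have hd' := hfix d (Or.inr (Or.inr (Or.inr rfl))) hd.1
  obtain ⟨h78, hidx⟩ :=
    normalizer_inf hD hprim h24 hB13 ha' hb' hc' hd' had hbc hab hac hdb hdc rfl hB
  exact ⟨normalizer_le_normalizer_centralizer hD hprim h24 hB13 ha' hb' hc' hd' had hbc hab hac
      hdb hdc, h78,
    centralizer_inf hD hprim h24 hB13 ha' hb' hc' hd' had hbc hab hac hdb hdc rfl hB, hidx⟩

end Cfsg.Agent.S5518
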