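import Cfsg.Statements.S5726
-- import your own Cfsg.Agent.* helpers here

set_option autoImplicit false
open Cfsg

namespace Cfsg.Agent.S5726

open MulAction

/-- orbit sizes of a Sylow subgroup are divisible by every power of p dividing the transitive degree -/
theorem pow_dvd_sylow_orbit {G Ω : Type*} [Group G] [Finite G] [MulAction G Ω] [Finite Ω]
    (htr : IsPretransitive G Ω) {p j : ℕ} [Fact p.Prime] (hj : p ^ j ∣ Nat.card Ω) (P : Sylow p G) (ω : Ω) :
    p ^ j ∣ Nat.card (orbit (P : Subgroup G) ω) := by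
  have h1 : (stabilizer (P : Subgroup G) ω).index = Nat.card (orbit (P : Subgroup G) ω) := by
    rw [index_stabilizer, Nat.card_coe_set_eq]
  have h2 : (stabilizer G ω).index = Nat.card Ω := index_stabilizer_of_transitive G ω
  have h3 : (stabilizer (P : Subgroup G) ω) = (stabilizer G ω).subgroupOf (P : Subgroup G) := by
    ext x; simp [Subgroup.mem_subgroupOf, Subgroup.smul_def]
  have h4 : (stabilizer G ω).index ∣ (stabilizer G ω ⊓ (P : Subgroup G)).index :=
    Subgroup.index_dvd_of_le inf_le_left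
  have h5 : (stabilizer G ω ⊓ (P : Subgroup G)).index
      = (stabilizer G ω).relIndex (P : Subgroup G) * (P : Subgroup G).index := by
    rw [← Subgroup.inf_relIndex_right, Subgroup.relIndex_mul_index inf_le_right]
  rw [h2, h5] at h4
  have hco : Nat.Coprime (p ^ j) (P : Subgroup G).index := by
    apply Nat.Coprime.pow_left
    exact (Fact.out : p.Prime).coprime_iff_not_dvd.mpr (Sylow.not_dvd_index P)
  have h6 := hco.dvd_of_dvd_mul_right (hj.trans h4)
  rw [← h1, h3]
  exact h6

/-- a transitive p-subgroup gives a derangement of order p -/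
theorem exists_of_transitive_pgroup {G Ω : Type*} [Group G] [Finite G] [MulAction G Ω] [FaithfulSMul G Ω]
    [Finite Ω] {p : ℕ} [Fact p.Prime] (P : Subgroup G) (hP : IsPGroup p P) (htr : IsPretransitive P Ω)
    (hn : 2 ≤ Nat.card Ω) : ∃ g : G, orderOf g = p ∧ ∀ ω : Ω, g • ω ≠ ω := by
  have : Nontrivial Ω := Finite.one_lt_card_iff_nontrivial.mp hn
  have : Nontrivial P := by
    obtain ⟨a, b, hab⟩ := exists_pair_ne Ω
    obtain ⟨x, hx⟩ := htr.exists_smul_eq a b
    exact ⟨⟨x, 1, fun h => hab (by rw [← hx, h, one_smul])⟩⟩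
  have := hP.center_nontrivial
  have hc : IsPGroup p (Subgroup.center P) := hP.to_subgroup _
  obtain ⟨m, hm0, hm⟩ := hc.nontrivial_iff_card.mp inferInstance
  obtain ⟨z, hz⟩ := exists_prime_orderOf_dvd_card' (G := Subgroup.center P) p (hm ▸ dvd_pow_self p hm0.ne')
  refine ⟨((z : P) : G), by rw [Subgroup.orderOf_coe, Subgroup.orderOf_coe, hz], fun ω hω => ?_⟩
  have hall : ∀ x : Ω, ((z : P) : G) • x = x := by
    intro x
    obtain ⟨h, rfl⟩ := htr.exists_smul_eq ω x
    have hcom : h * (z : P) = (z : P) * h := (Subgroup.mem_center_iff.mp z.2 h)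
    calc ((z : P) : G) • (h • ω) = (((z : P) * h : P) : G) • ω := by
            rw [Subgroup.coe_mul, mul_smul]; rfl
      _ = ((h * (z : P) : P) : G) • ω := by rw [hcom]
      _ = h • ω := by rw [Subgroup.coe_mul, mul_smul, hω]; rfl
  have : ((z : P) : G) = 1 := FaithfulSMul.eq_of_smul_eq_smul (α := Ω) (fun x => by rw [hall, one_smul])
  have : orderOf ((z : P) : G) = 1 := by rw [this, orderOf_one]
  rw [Subgroup.orderOf_coe, Subgroup.orderOf_coe, hz] at this
  exact (Fact.out : p.Prime).one_lt.ne' this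


/-- If a finite group acts faithfully and transitively on a set with p^k elements, p a prime and k ≥ 1, then some element of order p fixes no point. -/
theorem result {G Ω : Type*} [Group G] [Finite G] [MulAction G Ω] [FaithfulSMul G Ω] [Fintype Ω] (htr : MulAction.IsPretransitive G Ω)
    (p k : ℕ) (hp : p.Prime) (hk : 1 ≤ k) (hΩ : Fintype.card Ω = p ^ k) :
    ∃ g : G, orderOf g = p ∧ ∀ ω : Ω, g • ω ≠ ω := by
  have := Fact.mk hp
  have hn : Nat.card Ω = p ^ k := by rw [Nat.card_eq_fintype_card, hΩ]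
  obtain ⟨P⟩ : Nonempty (Sylow p G) := inferInstance
  refine exists_of_transitive_pgroup (P : Subgroup G) P.2 ?_ ?_
  · refine ⟨fun a b => ?_⟩
    have h1 := pow_dvd_sylow_orbit htr (dvd_of_eq hn.symm) P a
    have h2 : orbit (P : Subgroup G) a = Set.univ := by
      apply Set.eq_of_subset_of_ncard_le (Set.subset_univ _) ?_ (Set.toFinite _)
      rw [Set.ncard_univ, hn, ← Nat.card_coe_set_eq]
      have : Nonempty (orbit (P : Subgroup G) a) := ⟨⟨a, mem_orbit_self a⟩⟩
      exact Nat.le_of_dvd Nat.card_pos h1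
    exact mem_orbit_iff.mp (h2 ▸ Set.mem_univ b)
  · rw [hn]; exact le_trans hp.two_le (Nat.le_self_pow (by omega) p)

end Cfsg.Agent.S5726
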