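import Cfsg.Statements.S5727
import Cfsg.Agent.S5726

set_option autoImplicit false
open Cfsg

namespace Cfsg.Agent.S5727

/-- If a finite group acts faithfully and transitively on a set with m·p elements, where p is a prime and 1 ≤ m ≤ p, then some element of order p fixes no point. -/
theorem result {G Ω : Type*} [Group G] [Finite G] [MulAction G Ω] [FaithfulSMul G Ω] [Fintype Ω] (htr : MulAction.IsPretransitive G Ω)
    (p m : ℕ) (hp : p.Prime) (hm : 1 ≤ m) (hmp : m ≤ p) (hΩ : Fintype.card Ω = m * p) :
    ∃ g : G, orderOf g = p ∧ ∀ ω : Ω, g • ω ≠ ω := by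
  classical
  have := Fact.mk hp
  have := Fintype.ofFinite G
  have hn : Nat.card Ω = m * p := by rw [Nat.card_eq_fintype_card, hΩ]
  obtain ⟨P⟩ : Nonempty (Sylow p G) := inferInstance
  have hn2 : 2 ≤ Nat.card Ω := by rw [hn]; nlinarith [hp.two_le]
  by_cases htP : MulAction.IsPretransitive (P : Subgroup G) Ω
  · exact S5726.exists_of_transitive_pgroup (P : Subgroup G) P.2 htP hn2
  have hdvd : ∀ ω : Ω, p ∣ Nat.card (MulAction.orbit (P : Subgroup G) ω) := fun ω => by
    have := S5726.pow_dvd_sylow_orbit (j := 1) htr (by rw [hn, pow_one]; exact dvd_mul_left p m) P ω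
    rwa [pow_one] at this
  have hsize : ∀ ω : Ω, Nat.card (MulAction.orbit (P : Subgroup G) ω) = p := by
    intro ω
    obtain ⟨a, ha⟩ := P.2.card_orbit ω
    have h1 : a ≠ 0 := by
      rintro rfl
      have := hdvd ω; rw [ha, pow_zero] at this; exact hp.one_lt.ne' (Nat.dvd_one.mp this)
    have h2 : Nat.card (MulAction.orbit (P : Subgroup G) ω) < Nat.card Ω := by
      by_contra hle
      have hu : MulAction.orbit (P : Subgroup G) ω = Set.univ := by
        apply Set.eq_of_subset_of_ncard_le (Set.subset_univ _) ?_ (Set.toFinite _)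
        rw [Set.ncard_univ, ← Nat.card_coe_set_eq]; omega
      apply htP
      refine ⟨fun x y => ?_⟩
      have hx : x ∈ MulAction.orbit (P : Subgroup G) ω := hu ▸ Set.mem_univ x
      have hy : y ∈ MulAction.orbit (P : Subgroup G) ω := hu ▸ Set.mem_univ y
      rw [← MulAction.orbit_eq_iff.mpr hx] at hy
      exact MulAction.mem_orbit_iff.mp hy
    rw [ha, hn] at h2
    have h3 : p ^ a < p ^ 2 := lt_of_lt_of_le h2 (by rw [sq]; exact Nat.mul_le_mul_right p hmp)
    have h4 : a < 2 := (Nat.pow_lt_pow_iff_right hp.one_lt).mp h3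
    rw [ha, show a = 1 by omega, pow_one]
  have hnormal : ∀ ω : Ω, (MulAction.stabilizer (P : Subgroup G) ω).Normal ∧
      (MulAction.stabilizer (P : Subgroup G) ω).index = p := by
    intro ω
    have hi : (MulAction.stabilizer (P : Subgroup G) ω).index = p := by
      rw [MulAction.index_stabilizer, ← Nat.card_coe_set_eq, hsize]
    refine ⟨?_, hi⟩
    apply Subgroup.normal_of_index_eq_minFac_card
    obtain ⟨e, he⟩ := IsPGroup.iff_card.mp P.2
    have he0 : e ≠ 0 := by
      rintro rfl
      have h := Subgroup.index_dvd_card (MulAction.stabilizer (P : Subgroup G) ω)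
      rw [he, hi, pow_zero] at h; exact hp.one_lt.ne' (Nat.dvd_one.mp h)
    rw [hi, he, hp.pow_minFac he0]
  -- some element of P fixes nothing
  have hex : ∃ g : (P : Subgroup G), ∀ ω : Ω, g • ω ≠ ω := by
    by_contra hno
    push_neg at hno
    have hb := MulAction.sum_card_fixedBy_eq_card_orbits_mul_card_group (P : Subgroup G) Ω
    have hge : ∀ g : (P : Subgroup G), p ≤ Fintype.card (MulAction.fixedBy Ω g) := by
      intro g
      obtain ⟨ω, hω⟩ := hno g
      rw [← Nat.card_eq_fintype_card]
      refine le_trans (le_of_eq (hsize ω).symm) ?_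
      apply Nat.card_mono (Set.toFinite _)
      rintro x ⟨h, rfl⟩
      have hg : h⁻¹ * g * h ∈ MulAction.stabilizer (P : Subgroup G) ω := by
        have := (hnormal ω).1.conj_mem g hω h⁻¹
        rwa [inv_inv] at this
      show g • h • ω = h • ω
      have h5 : (h⁻¹ * g * h) • ω = ω := hg
      calc g • h • ω = h • ((h⁻¹ * g * h) • ω) := by simp [← mul_smul, mul_assoc]
        _ = h • ω := by rw [h5]
    have hlt : ∀ g : (P : Subgroup G), g = 1 → p < Fintype.card (MulAction.fixedBy Ω g) ∨ m = 1 := by
      intro g hg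
      by_cases hm1 : m = 1
      · exact Or.inr hm1
      left
      rw [← Nat.card_eq_fintype_card, hg, show MulAction.fixedBy Ω (1 : (P : Subgroup G)) = Set.univ by
        ext; simp, Nat.card_coe_set_eq, Set.ncard_univ, hn]
      have : 2 ≤ m := by omega
      nlinarith [hp.two_le]
    set r := Fintype.card (MulAction.orbitRel.Quotient (P : Subgroup G) Ω)
    have hr : r * p = m * p := by
      have h6 := Nat.card_congr (MulAction.selfEquivSigmaOrbits (P : Subgroup G) Ω)
      rw [Nat.card_sigma, hn] at h6
      rw [h6, Finset.sum_congr rfl (fun x _ => hsize _), Finset.sum_const, smul_eq_mul, Finset.card_univ]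
    have hr' : r = m := Nat.eq_of_mul_eq_mul_right hp.pos hr
    rcases hlt 1 rfl with h7 | hm1
    · have : p * Fintype.card (P : Subgroup G) < r * Fintype.card (P : Subgroup G) := by
        calc p * Fintype.card (P : Subgroup G) = ∑ _g : (P : Subgroup G), p := by
              rw [Finset.sum_const, smul_eq_mul, Finset.card_univ, mul_comm]
          _ < _ := Finset.sum_lt_sum (fun g _ => hge g) ⟨1, Finset.mem_univ _, h7⟩
          _ = _ := hb
      have := Nat.lt_of_mul_lt_mul_right this
      omega
    · apply htP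
      refine ⟨fun x y => ?_⟩
      have hu : MulAction.orbit (P : Subgroup G) x = Set.univ := by
        apply Set.eq_of_subset_of_ncard_le (Set.subset_univ _) ?_ (Set.toFinite _)
        rw [Set.ncard_univ, ← Nat.card_coe_set_eq, hsize, hn, hm1, one_mul]
      exact MulAction.mem_orbit_iff.mp (hu ▸ Set.mem_univ y)
  obtain ⟨g, hg⟩ := hex
  have hpow : g ^ p = 1 := by
    have h8 : ∀ ω : Ω, (g ^ p) • ω = ω := fun ω => by
      have := (hnormal ω).1
      have h9 := Subgroup.pow_index_mem (MulAction.stabilizer (P : Subgroup G) ω) g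
      rwa [(hnormal ω).2] at h9
    apply Subtype.ext
    exact FaithfulSMul.eq_of_smul_eq_smul (α := Ω) (fun x => (h8 x).trans (one_smul G x).symm)
  have hne : g ≠ 1 := by
    rintro rfl
    have : Nonempty Ω := (Nat.card_pos_iff.mp (by omega : 0 < Nat.card Ω)).1
    exact hg (Classical.arbitrary Ω) (one_smul _ _)
  refine ⟨(g : G), ?_, fun ω => hg ω⟩
  rw [Subgroup.orderOf_coe]
  exact orderOf_eq_prime hpow hne

end Cfsg.Agent.S5727
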