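import Cfsg.Statements.S5728
import Cfsg.Agent.Eq.Def_Perm

set_option autoImplicit false
open Cfsg

namespace Cfsg.Agent.S5728

/-- An elusive transitive action. Let p = 2^s − 1 be a prime and let F be the field with p² elements. Inside the group of affine maps x ↦ a·x + b of F (a ≠ 0), consider the subgroup of maps with both coefficients in the prime field. Then every element of prime order of the affine group is conjugate, within the affine group, to an element of that subgroup; equivalently, in the transitive action of the affine group on the cosets of that subgroup (of degree p(p + 1)) every element of prime order fixes a point. -/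
theorem result (p s : ℕ) [Fact p.Prime] (hs : p = 2 ^ s - 1)
    (g : Equiv.Perm (GaloisField p 2)) (hg : g ∈ Cfsg.affineGroup (GaloisField p 2)) (hord : (orderOf g).Prime) :
    ∃ x ∈ Cfsg.affineGroup (GaloisField p 2), ∃ a b : ZMod p, a ≠ 0 ∧
      ∀ y : GaloisField p 2, (x * g * x⁻¹) y = algebraMap (ZMod p) (GaloisField p 2) a * y + algebraMap (ZMod p) (GaloisField p 2) b := by
  classical
  have : Fintype (GaloisField p 2) := Fintype.ofFinite (GaloisField p 2)
  have hp : p.Prime := Fact.out
  obtain ⟨u, b, hgx⟩ := hg
  let ι := algebraMap (ZMod p) (GaloisField p 2)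
  by_cases hu : (u : (GaloisField p 2)) = 1
  · -- a translation
    have hb : b ≠ 0 := by
      rintro rfl
      have : g = 1 := Equiv.ext fun x => by rw [hgx]; simp [hu]
      rw [this, orderOf_one] at hord
      exact Nat.not_prime_one hord
    let x : Equiv.Perm (GaloisField p 2) :=
      { toFun := fun y => b⁻¹ * y
        invFun := fun y => b * y
        left_inv := fun y => by field_simp
        right_inv := fun y => by field_simp }
    refine ⟨x, ⟨(Units.mk0 b hb)⁻¹, 0, fun y => by simp [x]⟩, 1, 1, one_ne_zero, fun y => ?_⟩
    simp only [Equiv.Perm.coe_mul, Function.comp_apply, map_one, one_mul]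
    show b⁻¹ * g (b * y) = y + 1
    rw [hgx, hu]
    field_simp
  · -- a fixed point exists
    have hu1 : (u : (GaloisField p 2)) - 1 ≠ 0 := sub_ne_zero.mpr hu
    set c : (GaloisField p 2) := b / ((u : (GaloisField p 2)) - 1) with hc
    let x : Equiv.Perm (GaloisField p 2) := Equiv.addRight c
    have hrat : ∀ y, (x * g * x⁻¹) y = (u : (GaloisField p 2)) * y := by
      intro y
      show g ((Equiv.addRight c).symm y) + c = (u : (GaloisField p 2)) * y
      rw [hgx, Equiv.addRight_symm, Equiv.coe_addRight]
      rw [hc]; field_simp; ring
    -- the multiplier lies in the prime field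
    obtain ⟨r, hr⟩ : ∃ r, orderOf g = r := ⟨_, rfl⟩
    rw [hr] at hord
    have hupow : (u : (GaloisField p 2)) ^ r = 1 := by
      have h1 : ∀ (k : ℕ) (y : (GaloisField p 2)), ((x * g * x⁻¹) ^ k) y = (u : (GaloisField p 2)) ^ k * y := by
        intro k
        induction k with
        | zero => intro y; simp
        | succ k ih =>
          intro y
          rw [pow_succ', Equiv.Perm.mul_apply, ih, hrat, pow_succ', mul_assoc]
      have h2 := h1 r 1
      rw [conj_pow, ← hr, pow_orderOf_eq_one, mul_one, mul_inv_cancel, Equiv.Perm.one_apply, mul_one,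
        hr] at h2
      exact h2.symm
    have hou : orderOf (u : (GaloisField p 2)) = r := by
      have := Fact.mk hord
      exact orderOf_eq_prime hupow hu
    have hcard : Fintype.card (GaloisField p 2) = p ^ 2 := by
      rw [← Nat.card_eq_fintype_card]; exact GaloisField.card p 2 (by norm_num)
    have hdvd : r ∣ (p - 1) * (p + 1) := by
      rw [← hou]
      apply orderOf_dvd_of_pow_eq_one
      have := FiniteField.pow_card_sub_one_eq_one (u : (GaloisField p 2)) (Units.ne_zero u)
      rw [hcard] at this
      rwa [show (p - 1) * (p + 1) = p ^ 2 - 1 by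
        rw [mul_comm, ← Nat.sq_sub_sq, one_pow]]
    have hrp : r ∣ p - 1 := by
      rcases (Nat.Prime.dvd_mul hord).mp hdvd with h | h
      · exact h
      · have h1 : r ∣ 2 ^ s := by
          have : 1 ≤ 2 ^ s := Nat.one_le_two_pow
          rwa [show p + 1 = 2 ^ s by omega] at h
        have hr2 : r = 2 := (Nat.prime_dvd_prime_iff_eq hord Nat.prime_two).mp (hord.dvd_of_dvd_pow h1)
        subst hr2
        have : 2 ≤ 2 ^ s := by have := hp.two_le; omega
        have h2 : Even (2 ^ s) := by
          rcases s with _ | s
          · simp at this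
          · exact ⟨2 ^ s, by ring⟩
        obtain ⟨e, he⟩ := h2
        exact ⟨e - 1, by omega⟩
    have hupp : (u : (GaloisField p 2)) ^ p = u := by
      obtain ⟨e, he⟩ := hrp
      have : p = r * e + 1 := by have := hp.one_le; omega
      calc (u : (GaloisField p 2)) ^ p = (u : (GaloisField p 2)) ^ (r * e + 1) := by rw [← this]
        _ = u := by rw [pow_succ, pow_mul, hupow, one_pow, one_mul]
    obtain ⟨a, ha⟩ : ∃ a : ZMod p, ι a = (u : (GaloisField p 2)) := by
      have hmem : (u : (GaloisField p 2)) ∈ (Polynomial.X ^ p - Polynomial.X : Polynomial (GaloisField p 2)).roots.toFinset := by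
        rw [Multiset.mem_toFinset, Polynomial.mem_roots']
        exact ⟨FiniteField.X_pow_card_sub_X_ne_zero (GaloisField p 2) hp.one_lt, by simp [hupp]⟩
      have hsub : Finset.univ.image ι ⊆ (Polynomial.X ^ p - Polynomial.X : Polynomial (GaloisField p 2)).roots.toFinset := by
        intro z hz
        obtain ⟨a, -, rfl⟩ := Finset.mem_image.mp hz
        rw [Multiset.mem_toFinset, Polynomial.mem_roots']
        refine ⟨FiniteField.X_pow_card_sub_X_ne_zero (GaloisField p 2) hp.one_lt, ?_⟩
        simp [← map_pow, ZMod.pow_card]
      have heq := Finset.eq_of_subset_of_card_le hsub (by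
        rw [Finset.card_image_of_injective _ ι.injective, Finset.card_univ, ZMod.card]
        refine le_trans (Multiset.toFinset_card_le _) (le_trans (Polynomial.card_roots' _) ?_)
        rw [FiniteField.X_pow_card_sub_X_natDegree_eq (GaloisField p 2) hp.one_lt])
      rw [← heq] at hmem
      obtain ⟨a, -, ha⟩ := Finset.mem_image.mp hmem
      exact ⟨a, ha⟩
    refine ⟨x, ⟨1, c, fun y => by simp [x]⟩, a, 0, ?_, fun y => ?_⟩
    · intro h0
      rw [h0, map_zero] at ha
      exact Units.ne_zero u ha.symm
    · rw [hrat, map_zero, add_zero]
      exact congrArg (· * y) ha.symm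

end Cfsg.Agent.S5728
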