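import Cfsg.Statements.S5743
import Cfsg.Agent.E6TwoF4.Separate

set_option autoImplicit false
open Cfsg CfsgLib.E6TwoF4

namespace Cfsg.Agent.S5743

/-- The simple group ²E₆(2) (the twisted group of type E₆ over the field with 4 elements) contains at least three pairwise non-conjugate subgroups isomorphic to the Chevalley group F₄(2). -/
theorem result {K : Type*} [Field K] [Fintype K] (hK : Fintype.card K = 4) :
    ∃ H : Fin 3 → Subgroup (Cfsg.Lie.twistedE6 K 2),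
      (∀ i, Nonempty ((H i) ≃* Cfsg.Lie.chevF4.group (ZMod 2))) ∧
      (∀ i j, i ≠ j → ∀ g : (Cfsg.Lie.twistedE6 K 2), (H i).map (MulAut.conj g).toMonoidHom ≠ H j) := by
  classical
  haveI : CharP K 2 := charP_of_card_eq_prime_pow (p := 2) (f := 2) (by simpa using hK)
  have hcu : Fintype.card Kˣ = 3 := by rw [Fintype.card_units, hK]
  haveI : Nontrivial Kˣ := Fintype.one_lt_card_iff_nontrivial.mp (by omega)
  obtain ⟨w, hw⟩ := exists_ne (1 : Kˣ)
  set G := Cfsg.Lie.twistedE6 K 2 with hG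
  let R : Fin 3 → Subgroup (GL Cfsg.Lie.chevE6.Idx K) := fun i =>
    (psi K).range.map (MulAut.conj (dd K w (i.val : ℤ))).toMonoidHom
  have hR : ∀ i, R i ≤ G := by
    rintro i _ ⟨y, hy, rfl⟩
    exact dd_twisted K w _ (range_le K (g_twisted K) hy)
  refine ⟨fun i => (R i).subgroupOf G, fun i => ⟨((Subgroup.subgroupOfEquivOfLe (hR i)).trans
    (Subgroup.equivMapOfInjective _ _ (MulAut.conj _).injective).symm).trans
    (MonoidHom.ofInjective (psi_injective K)).symm⟩, ?_⟩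
  intro i j hij g he
  refine hij ?_
  set di := dd K w (i.val : ℤ) with hdi
  set dj := dd K w (j.val : ℤ) with hdj
  have hh : dd K w (-(j.val : ℤ)) * (g : GL Cfsg.Lie.chevE6.Idx K) * (dd K w (-(j.val : ℤ)))⁻¹ ∈
      Cfsg.Lie.chevE6.group K :=
    dd_mem_conj K w _ (twisted_le K g.2)
  have hd := key K w hK hw hh ((i.val : ℤ) - j.val) (fun y hy => by
    have h1 : di * y * di⁻¹ ∈ R i := ⟨y, hy, rfl⟩
    have h2 : g * (⟨_, hR i h1⟩ : G) * g⁻¹ ∈ (R j).subgroupOf G := by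
      show _ ∈ (fun k => (R k).subgroupOf G) j
      rw [← he]
      exact ⟨⟨_, hR i h1⟩, h1, rfl⟩
    obtain ⟨z, hz, hze⟩ := h2
    change dj * z * dj⁻¹ = (g : GL Cfsg.Lie.chevE6.Idx K) * (di * y * di⁻¹) *
      (g : GL Cfsg.Lie.chevE6.Idx K)⁻¹ at hze
    have e1 : dd K w ((i.val : ℤ) - j.val) = dj⁻¹ * di := by
      rw [hdj, hdi, dd_inv, dd_add, neg_add_eq_sub]
    rw [e1, ← dd_inv, ← hdj, inv_inv]
    suffices h3 : dj⁻¹ * (g : GL Cfsg.Lie.chevE6.Idx K) * dj * (dj⁻¹ * di) * y *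
        (dj⁻¹ * (g : GL Cfsg.Lie.chevE6.Idx K) * dj * (dj⁻¹ * di))⁻¹ = z by
      rw [h3]; exact hz
    calc _ = dj⁻¹ * ((g : GL Cfsg.Lie.chevE6.Idx K) * (di * y * di⁻¹) *
          (g : GL Cfsg.Lie.chevE6.Idx K)⁻¹) * dj := by group
      _ = dj⁻¹ * (dj * z * dj⁻¹) * dj := by rw [hze]
      _ = z := by group)
  have := i.isLt
  have := j.isLt
  exact Fin.ext (by omega)

end Cfsg.Agent.S5743
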