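import Cfsg.Statements.S5748
import Cfsg.Agent.CAGroups.SimpleAbelianCentralizers
import Cfsg.Agent.S0182
import Cfsg.Agent.SL2.Elements
import Mathlib

set_option autoImplicit false
open Cfsg

namespace Cfsg.Agent.S5748

/-- A finite non-abelian simple group in which commuting is a transitive relation on the non-identity elements (equivalently, every non-identity element has abelian centraliser) is isomorphic to PSL₂ over a field with 2^f elements for some f ≥ 2; conversely these groups have that property. -/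
theorem result {G : Type*} [Group G] [Finite G] [IsSimpleGroup G] (hG : ¬ IsMulCommutative G) :
    (∀ a b c : G, a ≠ 1 → b ≠ 1 → c ≠ 1 → Commute a b → Commute b c → Commute a c) ↔
    ∃ (F : Type) (_ : Field F) (_ : Fintype F) (f : ℕ), 2 ≤ f ∧ Fintype.card F = 2 ^ f ∧ Nonempty (G ≃* Matrix.ProjectiveSpecialLinearGroup (Fin 2) F) := by
  constructor
  · intro htrans
    have hCA : ∀ x : G, x ≠ 1 → ∀ a ∈ Subgroup.centralizer ({x} : Set G),
        ∀ b ∈ Subgroup.centralizer ({x} : Set G), a * b = b * a := by
      intro x hx a ha b hb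
      by_cases ha1 : a = 1
      · simp [ha1]
      by_cases hb1 : b = 1
      · simp [hb1]
      exact htrans a x b ha1 hx hb1 (Subgroup.mem_centralizer_singleton_iff.mp ha)
        (Commute.symm (Subgroup.mem_centralizer_singleton_iff.mp hb))
    have heven : Even (Nat.card G) := by
      by_contra hodd
      rw [Nat.not_even_iff_odd] at hodd
      haveI := Cfsg.Agent.S0182.result hodd hCA
      exact hG ⟨⟨IsSimpleGroup.comm_iff_isSolvable.mpr inferInstance⟩⟩
    obtain ⟨F, iF, iF', f, hc, hf2, hf, ⟨e⟩⟩ := CfsgLib.CAGroups.simple_mulEquiv_sl2 hG heven fun t ht =>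
      ⟨⟨fun a b => Subtype.ext (hCA t (fun h1 => by simp [h1] at ht) a a.2 b b.2)⟩⟩
    haveI := hc
    exact ⟨F, iF, iF', f, hf2, hf, ⟨e.trans (CfsgLib.CAGroups.mulEquivPslOfSl2 F)⟩⟩
  · rintro ⟨F, iF, iF', f, hf2, hf, ⟨e⟩⟩ a b c ha hb hc hab hbc
    haveI : Fact (Nat.Prime 2) := ⟨Nat.prime_two⟩
    haveI : CharP F 2 := charP_of_card_eq_prime_pow hf
    let e' := e.trans (CfsgLib.CAGroups.mulEquivPslOfSl2 F).symm
    have hb' : e' b ∉ Subgroup.center (Matrix.SpecialLinearGroup (Fin 2) F) := by
      rw [CfsgLib.SL2.center_eq_bot, Subgroup.mem_bot]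
      exact fun h => hb (e'.injective (h.trans (map_one e').symm))
    haveI := CfsgLib.SL2.centralizer_isMulCommutative hb'
    have hac : Commute (e' a) (e' c) := congrArg Subtype.val (mul_comm'
      (⟨e' a, Subgroup.mem_centralizer_singleton_iff.mpr (hab.map e').eq⟩ : Subgroup.centralizer ({e' b} : Set _))
      ⟨e' c, Subgroup.mem_centralizer_singleton_iff.mpr (hbc.map e').eq.symm⟩)
    exact Commute.of_map e'.injective hac

end Cfsg.Agent.S5748
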