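import Cfsg.Statements.S5823
import Cfsg.Agent.Aschbacher.SympBinaryCases
import Cfsg.Agent.Aschbacher.PlusFour
import Cfsg.Agent.Classical.SympFormStd

set_option autoImplicit false
open Cfsg

namespace Cfsg.Agent.S5823

/-- Every maximal subgroup of Sp_8(q) is of one of the listed geometric types or lies in the residual class. Let F be a finite field with q elements, f the standard alternating form on F^8 (coordinates Fin 4 ⊕ Fin 4), and H a maximal subgroup of Sp_8(F) (inside GL_8(F)). Then H is the intersection with Sp_8(F) of one of: the stabiliser of a non-zero totally isotropic subspace; the stabiliser of a non-degenerate 2-space; for q ≥ 3, the stabiliser of a decomposition into four mutually orthogonal non-degenerate 2-spaces; of a decomposition into two orthogonal non-degenerate 4-spaces; for q odd, of a decomposition into two totally isotropic 4-spaces; the normaliser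 of a degree-2 subfield K, self-adjoint with f(k v, v) = 0; for q odd, the normaliser of a degree-2 subfield closed under adjoints but not self-adjoint; for q odd, the stabiliser of a tensor decomposition of f into an alternating form on F^2 and a minus-type symmetric form on F^4; a subfield group (|F| = |F₀|^r, r prime) whose F₀-structure carries a non-zero multiple of f; for q = p an odd prime, the normaliser of an absolutely irreducible extraspecial group 2_-^(1+6) of exponent 4 inside the similarity group of f; for q odd, q ≥ 5, the stabiliser of a tensor decomposition of f as a third tensor power of an alternating form on F^2; for q even, the similarity group of a non-degenerate quadratic form polarising to f — or else H lies in the residual class of the symplectic case. -/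
theorem result {F : Type*} [Field F] [Fintype F] (H : Subgroup (Matrix.GeneralLinearGroup (Fin 4 ⊕ Fin 4) F)) (hH : Cfsg.Geo.IsMaximalIn (Cfsg.spGL 4 F) H) :
    (∃ W : Submodule F (Fin 4 ⊕ Fin 4 → F), W ≠ ⊥ ∧ Cfsg.Geo.IsTotallySingularFor (Cfsg.sympForm 4 F) W ∧ H = Cfsg.Geo.subspaceStabilizer W ⊓ Cfsg.spGL 4 F) ∨
    (∃ W : Submodule F (Fin 4 ⊕ Fin 4 → F), W ≠ ⊥ ∧ Cfsg.Geo.IsNondegenerateOn (Cfsg.sympForm 4 F) W ∧ Module.finrank F W < 4 ∧ H = Cfsg.Geo.subspaceStabilizer W ⊓ Cfsg.spGL 4 F) ∨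
    (3 ≤ Fintype.card F ∧ ∃ D : Fin 4 → Submodule F (Fin 4 ⊕ Fin 4 → F), Cfsg.Geo.IsNondegenerateMDecomposition (Cfsg.sympForm 4 F) 2 D ∧ H = Cfsg.Geo.decompositionStabilizer D ⊓ Cfsg.spGL 4 F) ∨
    (∃ D : Fin 2 → Submodule F (Fin 4 ⊕ Fin 4 → F), Cfsg.Geo.IsNondegenerateMDecomposition (Cfsg.sympForm 4 F) 4 D ∧ H = Cfsg.Geo.decompositionStabilizer D ⊓ Cfsg.spGL 4 F) ∨
    (Odd (Fintype.card F) ∧ ∃ D : Fin 2 → Submodule F (Fin 4 ⊕ Fin 4 → F), Cfsg.Geo.IsMDecomposition 4 D ∧ (∀ i, Cfsg.Geo.IsTotallySingularFor (Cfsg.sympForm 4 F) (D i)) ∧ H = Cfsg.Geo.decompositionStabilizer D ⊓ Cfsg.spGL 4 F) ∨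
    (∃ K : Subalgebra F (Matrix (Fin 4 ⊕ Fin 4) (Fin 4 ⊕ Fin 4) F), Cfsg.Geo.IsFieldSubalgebra 2 K ∧ Cfsg.Geo.IsSelfAdjointFor (Cfsg.sympForm 4 F) K ∧ (∀ k ∈ K, ∀ v : (Fin 4 ⊕ Fin 4 → F), (Cfsg.sympForm 4 F) (Matrix.mulVec k v) v = 0) ∧ H = Cfsg.Geo.subalgebraNormalizer K ⊓ Cfsg.spGL 4 F) ∨
    (Odd (Fintype.card F) ∧ ∃ K : Subalgebra F (Matrix (Fin 4 ⊕ Fin 4) (Fin 4 ⊕ Fin 4) F), Cfsg.Geo.IsFieldSubalgebra 2 K ∧ Cfsg.Geo.IsAdjointClosedFor (Cfsg.sympForm 4 F) K ∧ ¬ Cfsg.Geo.IsSelfAdjointFor (Cfsg.sympForm 4 F) K ∧ H = Cfsg.Geo.subalgebraNormalizer K ⊓ Cfsg.spGL 4 F) ∨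
    (Odd (Fintype.card F) ∧ ∃ (e : (Fin 4 ⊕ Fin 4) ≃ Fin 2 × Fin 4) (P : Matrix.GeneralLinearGroup (Fin 4 ⊕ Fin 4) F) (f₁ : (Fin 2 → F) → (Fin 2 → F) → F) (f₂ : (Fin 4 → F) → (Fin 4 → F) → F), Cfsg.Geo.IsSymplecticForm f₁ ∧ Cfsg.Geo.IsSymmetricForm f₂ ∧ ¬ Cfsg.Geo.IsPlusTypeOn (fun v : Fin 4 → F => f₂ v v) ⊤ ∧ Cfsg.Geo.IsTensorFormStructure id (Cfsg.sympForm 4 F) f₁ f₂ e P ∧ H = Cfsg.Geo.tensorProductSubgroup 2 4 e P ⊓ Cfsg.spGL 4 F) ∨
    (∃ (F₀ : Subfield F) (r : ℕ) (P : Matrix.GeneralLinearGroup (Fin 4 ⊕ Fin 4) F) (ζ : F), r.Prime ∧ Fintype.card F = Nat.card F₀ ^ r ∧ ζ ≠ 0 ∧ Cfsg.Geo.IsFormRationalStructure (Cfsg.sympForm 4 F) F₀ ζ P ∧ H = Cfsg.Geo.subfieldSubgroup F₀ P ⊓ Cfsg.spGL 4 F) ∨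
    (∃ (p : ℕ) (R : Subgroup (Matrix.GeneralLinearGroup (Fin 4 ⊕ Fin 4) F)), p.Prime ∧ Odd p ∧ Fintype.card F = p ∧ Cfsg.Geo.IsSymplecticTypeGroup 2 R ∧ Cfsg.Geo.ActsAbsolutelyIrreducibly (Cfsg.Geo.matrixSet R) ∧ R ≤ Cfsg.Geo.similarityGroup (Cfsg.sympForm 4 F) ∧ Nat.card R = 128 ∧ Nat.card (Subgroup.center R) = 2 ∧ Cfsg.Geo.IsOfMinusType 3 R ∧ H = Cfsg.Geo.subgroupNormalizer R ⊓ Cfsg.spGL 4 F) ∨
    (Odd (Fintype.card F) ∧ 5 ≤ Fintype.card F ∧ ∃ (e : (Fin 4 ⊕ Fin 4) ≃ (Fin 3 → Fin 2)) (P : Matrix.GeneralLinearGroup (Fin 4 ⊕ Fin 4) F) (f₁ : (Fin 2 → F) → (Fin 2 → F) → F), Cfsg.Geo.IsSymplecticForm f₁ ∧ Cfsg.Geo.IsTensorPowerFormStructure id (Cfsg.sympForm 4 F) f₁ e P ∧ H = Cfsg.Geo.tensorWreathSubgroup 2 3 e P ⊓ Cfsg.spGL 4 F) ∨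
    (¬ Odd (Fintype.card F) ∧ ∃ Q : (Fin 4 ⊕ Fin 4 → F) → F, Cfsg.Geo.IsNondegenerateQuadraticForm Q ∧ (∀ u v : (Fin 4 ⊕ Fin 4 → F), QuadraticMap.polar Q u v = (Cfsg.sympForm 4 F) u v) ∧ H = Cfsg.Geo.quadSimilarityGroup Q ⊓ Cfsg.spGL 4 F) ∨
    Cfsg.Geo.InSymplecticResidualClass H := by
  classical
  have hf := CfsgLib.SympFormStd.isSymplecticForm 4 F
  have hT : ∀ v c, CfsgLib.AltFormTransv.sympT hf v c ∈ Cfsg.spGL 4 F := CfsgLib.SympFormStd.sympT_mem_spGL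
  have hIf : ∀ g ∈ Cfsg.spGL 4 F, ∀ u v, Cfsg.sympForm 4 F ((g : Matrix _ _ F).mulVec u)
      ((g : Matrix _ _ F).mulVec v) = Cfsg.sympForm 4 F u v :=
    fun g hg => CfsgLib.SympFormStd.mem_spGL.1 hg
  suffices hb : (CfsgLib.Aschbacher.Symp.Outcome (Cfsg.sympForm 4 F) (Cfsg.spGL 4 F) H 4) ∨
      CfsgLib.Aschbacher.Symp.ExtraOutcome (Cfsg.sympForm 4 F) (Cfsg.spGL 4 F) H 3 ∨
      ∃ (e : (Fin 4 ⊕ Fin 4) ≃ (Fin 3 → Fin 2)) (P : Matrix.GeneralLinearGroup (Fin 4 ⊕ Fin 4) F) (c : F),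
        c ≠ 0 ∧ H ≤ Cfsg.Geo.tensorWreathSubgroup 2 3 e P ∧
        CfsgLib.Aschbacher.Forms.powGram (Cfsg.sympForm 4 F) e P =
          c • CfsgLib.Aschbacher.kroneckerPow (fun _ => CfsgLib.Aschbacher.detForm) by
    rcases hb with
      (⟨W, h⟩ | ⟨W, h⟩ | ⟨t, k, D, htk, ht, hk, hk2, hD, h⟩ | ⟨ho, D, h⟩ | ⟨r, K, hr, hrm, hK, h⟩ |
        ⟨ho, K, h⟩ | ⟨ho, a, b, e, P, f₁, f₂, ha, hae, hb3, -, hab, hf₁, hf₂, hs, h⟩ |
        ⟨F₀, r, P, ζ, h⟩ | h | h) | he | ⟨e, P, c, hc, hle, hΓ⟩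
    · exact Or.inl ⟨W, h⟩
    · exact Or.inr <| Or.inl ⟨W, h⟩
    · obtain ⟨k, rfl⟩ := hk
      have : 1 ≤ k := Nat.pos_of_ne_zero fun h0 => by subst h0; simp at htk
      have : t ≤ 4 := by nlinarith
      interval_cases t <;> first | omega | skip
      · obtain rfl : k = 2 := by omega
        exact Or.inr <| Or.inr <| Or.inr <| Or.inl ⟨D, hD, h⟩
      · obtain rfl : k = 1 := by omega
        exact Or.inr <| Or.inr <| Or.inl ⟨hk2 rfl, D, hD, h⟩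
    · exact Or.inr <| Or.inr <| Or.inr <| Or.inr <| Or.inl ⟨ho, D, h⟩
    · obtain rfl : r = 2 := (Nat.prime_dvd_prime_iff_eq hr Nat.prime_two).1
        (hr.dvd_of_dvd_pow (show r ∣ 2 ^ 2 by simpa using hrm))
      exact Or.inr <| Or.inr <| Or.inr <| Or.inr <| Or.inr <| Or.inl ⟨K, hK, h⟩
    · exact Or.inr <| Or.inr <| Or.inr <| Or.inr <| Or.inr <| Or.inr <| Or.inl ⟨ho, K, h⟩
    · obtain ⟨a', rfl⟩ := hae
      have : a' ≤ 1 := by nlinarith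
      obtain rfl : a' = 1 := by omega
      obtain rfl : b = 4 := by omega
      by_cases hplus : Cfsg.Geo.IsPlusTypeOn (fun v : Fin 4 → F => f₂ v v) ⊤
      · obtain ⟨e', P', c, hc, hΓ, hin⟩ := CfsgLib.Aschbacher.PlusFour.plus_four hf
          (CfsgLib.Aschbacher.two_ne_zero_of_odd_card ho) hf₁ hf₂ hplus hs
        have hle : H ≤ Cfsg.Geo.tensorWreathSubgroup 2 3 e' P' := fun g hg => by
          refine hin g ?_ (hIf g (hH.1.le hg))
          rw [h] at hg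
          exact hg.1
        rcases CfsgLib.Aschbacher.Symp.binary_cases hf hIf hT (le_refl 3) hH hle hc hΓ with
          h | (⟨p, R, h⟩ | ⟨F₀, r, P, ζ, h⟩) | ⟨ho, h5, f₁, hf₁, hs, h⟩
        · exact Or.inr <| Or.inr <| Or.inr <| Or.inr <| Or.inr <| Or.inr <| Or.inr <| Or.inr <| Or.inr <| Or.inr <| Or.inr <| Or.inl h
        · exact Or.inr <| Or.inr <| Or.inr <| Or.inr <| Or.inr <| Or.inr <| Or.inr <| Or.inr <| Or.inr <| Or.inl ⟨p, R, by simpa using h⟩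
        · exact Or.inr <| Or.inr <| Or.inr <| Or.inr <| Or.inr <| Or.inr <| Or.inr <| Or.inr <| Or.inl ⟨F₀, r, P, ζ, h⟩
        · exact Or.inr <| Or.inr <| Or.inr <| Or.inr <| Or.inr <| Or.inr <| Or.inr <| Or.inr <| Or.inr <| Or.inr <| Or.inl ⟨ho, h5, e', P', f₁, hf₁, hs, h⟩
      · exact Or.inr <| Or.inr <| Or.inr <| Or.inr <| Or.inr <| Or.inr <| Or.inr <| Or.inl ⟨ho, e, P, f₁, f₂, hf₁, hf₂, hplus, hs, h⟩
    · exact Or.inr <| Or.inr <| Or.inr <| Or.inr <| Or.inr <| Or.inr <| Or.inr <| Or.inr <| Or.inl ⟨F₀, r, P, ζ, h⟩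
    · exact Or.inr <| Or.inr <| Or.inr <| Or.inr <| Or.inr <| Or.inr <| Or.inr <| Or.inr <| Or.inr <| Or.inr <| Or.inr <| Or.inl h
    · exact Or.inr <| Or.inr <| Or.inr <| Or.inr <| Or.inr <| Or.inr <| Or.inr <| Or.inr <| Or.inr <| Or.inr <| Or.inr <| Or.inr <| h
    · rcases he with ⟨p, R, h⟩ | ⟨F₀, r, P, ζ, h⟩
      · exact Or.inr <| Or.inr <| Or.inr <| Or.inr <| Or.inr <| Or.inr <| Or.inr <| Or.inr <| Or.inr <| Or.inl ⟨p, R, by simpa using h⟩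
      · exact Or.inr <| Or.inr <| Or.inr <| Or.inr <| Or.inr <| Or.inr <| Or.inr <| Or.inr <| Or.inl ⟨F₀, r, P, ζ, h⟩
    · rcases CfsgLib.Aschbacher.Symp.binary_cases hf hIf hT (le_refl 3) hH hle hc hΓ with h | (⟨p, R, h⟩ | ⟨F₀, r, P', ζ, h⟩) | ⟨ho, h5, f₁, hf₁, hs, h⟩
      · exact Or.inr <| Or.inr <| Or.inr <| Or.inr <| Or.inr <| Or.inr <| Or.inr <| Or.inr <| Or.inr <| Or.inr <| Or.inr <| Or.inl h
      · exact Or.inr <| Or.inr <| Or.inr <| Or.inr <| Or.inr <| Or.inr <| Or.inr <| Or.inr <| Or.inr <| Or.inl ⟨p, R, by simpa using h⟩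
      · exact Or.inr <| Or.inr <| Or.inr <| Or.inr <| Or.inr <| Or.inr <| Or.inr <| Or.inr <| Or.inl ⟨F₀, r, P', ζ, h⟩
      · exact Or.inr <| Or.inr <| Or.inr <| Or.inr <| Or.inr <| Or.inr <| Or.inr <| Or.inr <| Or.inr <| Or.inr <| Or.inl ⟨ho, h5, e, P, f₁, hf₁, hs, h⟩
  rcases CfsgLib.Aschbacher.Symp.symp_maximal hf hIf hT (m := 4) (by norm_num) (by simp) hH with
    h | ⟨N, r, hN⟩ | ⟨d, S, hS⟩
  · exact Or.inl h
  · refine Or.inr (Or.inl (CfsgLib.Aschbacher.Symp.extra_cases hf hT (k := 3) (by simp) (by simp) hH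
      ⟨hf, fun g hg => hIf g (hH.1.le (hN.le hg)), hN.absIrred, fun x hx y hy => hN.comm y hy x hx,
        by simp⟩ hN.normal))
  · refine Or.inr (Or.inr ?_)
    obtain ⟨e, P, hle⟩ := hS.exists_le_tensorWreath
    have h1 := hS.two_le
    have h2 := hS.two_le_card
    have h8 := hS.card_eq
    simp only [Fintype.card_sum, Fintype.card_fin, Nat.reduceAdd] at h8
    have hd8 : d ≤ 8 := h8 ▸ Nat.le_self_pow (by omega) d
    have hs3 : S.card ≤ 3 := by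
      by_contra! hlt
      have h16 : 2 ^ 4 ≤ d ^ S.card := (Nat.pow_le_pow_left h1 4).trans (Nat.pow_le_pow_right (by omega) hlt)
      omega
    generalize hs : S.card = s at *
    interval_cases s <;> interval_cases d <;> first | omega | skip
    have hD : Cfsg.Geo.ActsAbsolutelyIrreducibly (Cfsg.Geo.matrixSet (⁅H, H⁆ : Subgroup _)) := by
      refine CfsgLib.Aschbacher.absIrred_of_adjoin_eq_top (eq_top_iff.2 ?_)
      rw [← hS.sup_eq_top]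
      refine iSup₂_le fun A hA => ?_
      obtain ⟨E, hE, hEA⟩ := hS.generated A hA
      rw [← hEA]
      exact Algebra.adjoin_mono (Set.image_mono hE)
    obtain ⟨c, hc, hΓ⟩ := CfsgLib.Aschbacher.Symp.powGram_eq_det hf hle
      (fun g hg => hIf g (hH.1.le hg)) hD
    exact ⟨e, P, c, hc, hle, hΓ⟩

end Cfsg.Agent.S5823
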