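import Cfsg.Statements.S5825
import Cfsg.Agent.OrthEight96.SmallFive
import Cfsg.Agent.OrthEight96.Halves
import Cfsg.Agent.OrthEight96.Types
import Cfsg.Agent.OrthEight96.NonsingularLine
import Cfsg.Agent.OrthEight96.RatSpread
import Cfsg.Agent.OrthGeo.Parabolic
import Cfsg.Agent.OrthGeo.RatSpread
import Cfsg.Agent.C3Max.OrthMatrix
-- import your own Cfsg.Agent.* helpers here

set_option autoImplicit false
open Cfsg

namespace Cfsg.Agent.S5825

/-- Maximal subgroups of Ω_8^-(q) of geometric type (any q). Let F be a finite field with q elements, Q a non-degenerate quadratic form on F^8 (non-degenerate polar form) of minus type (Witt index 3: no totally singular 4-space), and Ω = Ω_8^-(q) the commutator subgroup of the isometry group of Q, inside GL_8(F). Each of the following, intersected with Ω, is a maximal subgroup of Ω: (1) the stabiliser of any non-zero subspace on which Q vanishes identically (totally singular 1-, 2- and 3-spaces); (2) for q odd, the stabiliser of any proper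 subspace of odd dimension (1, 3, 5 or 7) on which the polar form of Q is non-degenerate; (3) the stabiliser of any non-degenerate 2-space of minus type (containing no non-zero singular vector); (4) for q ≥ 4, the stabiliser of any non-degenerate 2-space of plus type (containing a non-zero singular vector); (5) the stabiliser of any non-degenerate 4-space (its orthogonal complement is then a non-degenerate 4-space of the opposite type); (6) for q even, the stabiliser of the 1-space spanned by any non-singular vector v (Q(v) ≠ 0); (7) for q odd, the normaliser of any degree-2 subfield K of the matrix algebra whose elements are self-adjoint for the polar form of Q (Q is then the trace of a quadratic form over K); (8) every subfield group for a subfield F₀ of odd prime index r in F whose F₀-structure carries a non-zero scalar multiple of Q. -/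
theorem result {F : Type*} [Field F] [Fintype F] (Q : (Fin 8 → F) → F) (hQ : Cfsg.Geo.IsNondegenerateQuadraticForm Q) (hminus : ¬ Cfsg.Geo.IsPlusTypeOn Q ⊤) :
    (∀ W : Submodule F (Fin 8 → F), W ≠ ⊥ → Cfsg.Geo.IsTotallySingularQuad Q W → Cfsg.Geo.IsMaximalIn (Cfsg.Geo.omegaGL Q) (Cfsg.Geo.subspaceStabilizer W ⊓ Cfsg.Geo.omegaGL Q)) ∧
    (Odd (Fintype.card F) → ∀ W : Submodule F (Fin 8 → F), W ≠ ⊥ → W ≠ ⊤ → Odd (Module.finrank F W) → Cfsg.Geo.IsNondegenerateOn (QuadraticMap.polar Q) W → Cfsg.Geo.IsMaximalIn (Cfsg.Geo.omegaGL Q) (Cfsg.Geo.subspaceStabilizer W ⊓ Cfsg.Geo.omegaGL Q)) ∧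
    (∀ W : Submodule F (Fin 8 → F), Module.finrank F W = 2 → Cfsg.Geo.IsNondegenerateOn (QuadraticMap.polar Q) W → ¬ Cfsg.Geo.IsPlusTypeOn Q W → Cfsg.Geo.IsMaximalIn (Cfsg.Geo.omegaGL Q) (Cfsg.Geo.subspaceStabilizer W ⊓ Cfsg.Geo.omegaGL Q)) ∧
    (4 ≤ Fintype.card F → ∀ W : Submodule F (Fin 8 → F), Module.finrank F W = 2 → Cfsg.Geo.IsNondegenerateOn (QuadraticMap.polar Q) W → Cfsg.Geo.IsPlusTypeOn Q W → Cfsg.Geo.IsMaximalIn (Cfsg.Geo.omegaGL Q) (Cfsg.Geo.subspaceStabilizer W ⊓ Cfsg.Geo.omegaGL Q)) ∧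
    (∀ W : Submodule F (Fin 8 → F), Module.finrank F W = 4 → Cfsg.Geo.IsNondegenerateOn (QuadraticMap.polar Q) W → Cfsg.Geo.IsMaximalIn (Cfsg.Geo.omegaGL Q) (Cfsg.Geo.subspaceStabilizer W ⊓ Cfsg.Geo.omegaGL Q)) ∧
    (¬ Odd (Fintype.card F) → ∀ v : (Fin 8 → F), Q v ≠ 0 → Cfsg.Geo.IsMaximalIn (Cfsg.Geo.omegaGL Q) (Cfsg.Geo.subspaceStabilizer (Submodule.span F {v}) ⊓ Cfsg.Geo.omegaGL Q)) ∧
    (Odd (Fintype.card F) → ∀ K : Subalgebra F (Matrix (Fin 8) (Fin 8) F), Cfsg.Geo.IsFieldSubalgebra 2 K → Cfsg.Geo.IsSelfAdjointFor (QuadraticMap.polar Q) K → Cfsg.Geo.IsMaximalIn (Cfsg.Geo.omegaGL Q) (Cfsg.Geo.subalgebraNormalizer K ⊓ Cfsg.Geo.omegaGL Q)) ∧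
    (∀ (F₀ : Subfield F) (r : ℕ) (P : Matrix.GeneralLinearGroup (Fin 8) F) (ζ : F), r.Prime → Odd r → Fintype.card F = Nat.card F₀ ^ r → ζ ≠ 0 → Cfsg.Geo.IsQuadFormRationalStructure (fun v : Fin 8 → F => ζ * Q v) F₀ P → Cfsg.Geo.IsMaximalIn (Cfsg.Geo.omegaGL Q) (Cfsg.Geo.subfieldSubgroup F₀ P ⊓ Cfsg.Geo.omegaGL Q)) := by
  classical
  have hcard : Fintype.card (Fin 8) = 8 := Fintype.card_fin 8
  have hrad := fun {W : Submodule F (Fin 8 → F)} (h : Cfsg.Geo.IsNondegenerateOn (QuadraticMap.polar Q) W) =>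
    CfsgLib.OrthGeo.radical_free_of_nondegenerateOn hQ h
  have hsum := fun W : Submodule F (Fin 8 → F) => (CfsgLib.OrthGeo.finrank_perp_add hQ W).trans hcard
  have hperp : ∀ {W : Submodule F (Fin 8 → F)}, (∀ x ∈ W, x ∈ CfsgLib.OrthGeo.perp hQ W → x = 0) →
      ∀ x ∈ CfsgLib.OrthGeo.perp hQ W, x ∈ CfsgLib.OrthGeo.perp hQ (CfsgLib.OrthGeo.perp hQ W) → x = 0 :=
    fun h x hx hx' => h x (by rwa [CfsgLib.OrthGeo.perp_perp hQ] at hx') hx
  -- subspaces smaller than their perp
  have small : ∀ W : Submodule F (Fin 8 → F), (∀ x ∈ W, x ∈ CfsgLib.OrthGeo.perp hQ W → x = 0) → W ≠ ⊥ →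
      Module.finrank F W ≤ 3 →
      (Module.finrank F W = 2 → (∀ x ∈ W, Q x = 0 → x = 0) ∨ 4 ≤ Nat.card F) →
      Cfsg.Geo.IsMaximalIn (Cfsg.Geo.omegaGL Q) (Cfsg.Geo.subspaceStabilizer W ⊓ Cfsg.Geo.omegaGL Q) :=
    fun W hW h0 h3 hex => CfsgLib.OrthEight96.nondeg_small_five_isMaximal hQ hW h0
      (by have := hsum W; omega) (by have := hsum W; omega) hex
  refine ⟨fun W hW0 hW => ?_, fun hodd W hW0 hW1 hWo hW => ?_, fun W hd hW hWm => ?_, fun hq W hd hW hWp => ?_,
    fun W hd hW => ?_, fun hev v hv => ?_, fun hodd K hK hsa => ?_, fun F₀ r P ζ hr hro hc hζ hP => ?_⟩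
  · -- totally singular subspaces
    refine CfsgLib.OrthGeo.parabolic_isMaximal hQ (by omega) W hW0 hW (fun u huP hu huW h => hminus ?_)
    refine ⟨W ⊔ Submodule.span F {u}, le_top, fun z hz => ?_, ?_⟩
    · obtain ⟨a, ha, b, hb, rfl⟩ := Submodule.mem_sup.1 hz
      obtain ⟨c, rfl⟩ := Submodule.mem_span_singleton.1 hb
      rw [CfsgLib.OrthGeo.q_add hQ, CfsgLib.OrthGeo.q_smul hQ, hW a ha, hu, map_smul, smul_eq_mul, huP a ha]
      ring
    · have hu0 : u ≠ 0 := fun h => huW (h ▸ W.zero_mem)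
      have h1 := Submodule.finrank_sup_add_finrank_inf_eq W (Submodule.span F {u})
      have h2 : W ⊓ Submodule.span F {u} = ⊥ := (Submodule.eq_bot_iff _).2 fun z hz => by
        obtain ⟨c, rfl⟩ := Submodule.mem_span_singleton.1 hz.2
        by_cases hc : c = 0
        · rw [hc, zero_smul]
        · exact absurd ((Submodule.smul_mem_iff _ hc).1 hz.1) huW
      rw [h2, finrank_bot, finrank_span_singleton hu0] at h1
      rw [finrank_top, Module.finrank_fintype_fun_eq_card]
      omega
  · -- odd dimension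
    obtain ⟨k, hk⟩ := hWo
    have hlt : Module.finrank F W < 8 := by
      have h := Submodule.finrank_lt hW1
      rwa [Module.finrank_fintype_fun_eq_card, hcard] at h
    by_cases h3 : Module.finrank F W ≤ 3
    · exact small W (hrad hW) hW0 h3 (fun h => by omega)
    · rw [← CfsgLib.OrthGeo.stab_perp_inf_omega hQ W]
      have := hsum W
      exact small _ (hperp (hrad hW)) (fun h => by rw [h, finrank_bot] at this; omega) (by omega) (fun h => by omega)
  · -- planes of minus type
    exact small W (hrad hW) (fun h => by rw [h, finrank_bot] at hd; omega) (by omega)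
      (fun _ => Or.inl ((CfsgLib.OrthGeo.plane_aniso_or_plusType hQ hd).resolve_right hWm))
  · -- planes of plus type
    exact small W (hrad hW) (fun h => by rw [h, finrank_bot] at hd; omega) (by omega)
      (fun _ => Or.inr (by rwa [Nat.card_eq_fintype_card]))
  · -- four-spaces
    have := hsum W
    rcases CfsgLib.OrthEight96.halves_types hQ hminus hcard (hrad hW) hd with
      ⟨hl, L, hLV, hL, hLd⟩ | ⟨hl, L, hLW, hL, hLd⟩
    · exact CfsgLib.OrthEight96.halves_four_isMaximal hQ (hrad hW) hd (by omega) hl hLV hL hLd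
    · rw [← CfsgLib.OrthGeo.stab_perp_inf_omega hQ W]
      exact CfsgLib.OrthEight96.halves_four_isMaximal hQ (hperp (hrad hW)) (by omega)
        (by rw [CfsgLib.OrthGeo.perp_perp hQ]; exact hd) hl (L := L)
        (by rw [CfsgLib.OrthGeo.perp_perp hQ]; exact hLW) hL hLd
  · -- non-singular lines
    have h2 : (2 : F) = 0 := by
      by_contra h2
      refine hev (Nat.odd_iff.2 (FiniteField.odd_card_of_char_ne_two fun hch => h2 ?_))
      haveI : CharP F 2 := ringChar.of_eq hch
      exact CharTwo.two_eq_zero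
    exact CfsgLib.OrthEight96.nonsingular_line_eight_isMaximal hQ h2 (by omega) hv
  · -- extension field of degree two
    have h2 : (2 : F) ≠ 0 := fun h2 => by
      haveI : CharP F 2 := (CharP.charP_iff_prime_eq_zero Nat.prime_two).2 (by exact_mod_cast h2)
      have h := FiniteField.even_card_of_char_two (ringChar.eq F 2)
      have := Nat.odd_iff.1 hodd
      omega
    exact CfsgLib.C3Max.orth_normalizer_maximal_of hQ h2 Nat.prime_two (by omega) (Or.inl (by omega))
      (fun h => by omega) (fun _ => Or.inr ⟨hcard, hminus⟩) hK hsa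
  · -- subfield groups
    have h := CfsgLib.OrthEight96.qSubfield_isMaximal (F₀ := F₀) (P := P) (Q := fun v => ζ * Q v)
      ⟨CfsgLib.OrthGeo.nondeg_scale hζ hQ, fun v hv => by
        have h := hP _ hv
        rwa [CfsgLib.OrthGeo.mulVec_inv_cancel] at h⟩ (by omega) hr hc
    simpa only [CfsgLib.OrthGeo.SubO, CfsgLib.OrthGeo.omegaGL_scale hζ] using h

end Cfsg.Agent.S5825
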