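import Cfsg.Statements.S5834
import Cfsg.Agent.OrthMono17.Final
import Cfsg.Agent.OrthGeo.QuadOdd
import Cfsg.Agent.OrthGeo.Parabolic
import Cfsg.Agent.OrthGeo.DecompOvergroup
import Cfsg.Agent.OrthEight96.SmallFive
import Cfsg.Agent.OrthGeo.NondegAny
import Cfsg.Agent.OrthRat17.RatSpread
import Cfsg.Agent.C3Max.OrthMatrix
import Cfsg.Agent.OTensorSq17.Instance

set_option autoImplicit false
open Cfsg

namespace Cfsg.Agent.S5834

/-- Maximal subgroups of Ω_9(q) of geometric type, q odd. Let F be a finite field of odd order q, Q the standard quadratic form x₀² + Σ x_i y_i on F^9 (coordinates Unit ⊕ (Fin 4 ⊕ Fin 4)), and Ω = Ω_9(q) the commutator subgroup of its isometry group, inside GL_9(F). Each of the following, intersected with Ω, is a maximal subgroup of Ω: (1) the stabiliser of any non-zero subspace on which Q vanishes identically (totally singular 1- to 4-spaces); (2) the stabiliser of any non-zero even-dimensional subspace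 W (dimension 2, 4, 6 or 8) on which the polar form of Q is non-degenerate (equivalently of its odd-dimensional orthogonal complement), except when q = 3 and W is a 2-space containing a non-zero singular vector (a plus-type plane); (3) for q = p prime, the stabiliser of any decomposition of F^9 into nine pairwise orthogonal, pairwise Q-isometric non-degenerate 1-spaces; (4) for q ≥ 5, the stabiliser of any decomposition of F^9 into three pairwise orthogonal, pairwise Q-isometric non-degenerate 3-spaces; (5) the normaliser of any degree-3 subfield K of the matrix algebra whose elements are self-adjoint for the polar form of Q (Q is then the trace of a quadratic form over K); (6) every subfield group for a subfield F₀ with |F| = |F₀|^r, r prime, whose F₀-structure carries Q; (7) for q ≥ 5, the stabiliser of any decomposition of the polar form of Q as the tensor square of a non-degenerate symmetric bilinear form on F^3 up to a scalar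 (tensor-wreath subgroup). -/
theorem result {F : Type*} [Field F] [Fintype F] (hodd : Odd (Fintype.card F)) :
    (∀ W : Submodule F (Unit ⊕ (Fin 4 ⊕ Fin 4) → F), W ≠ ⊥ → Cfsg.Geo.IsTotallySingularQuad (Cfsg.quadFormOdd 4 F) W → Cfsg.Geo.IsMaximalIn (Cfsg.Geo.omegaGL (Cfsg.quadFormOdd 4 F)) (Cfsg.Geo.subspaceStabilizer W ⊓ Cfsg.Geo.omegaGL (Cfsg.quadFormOdd 4 F))) ∧
    (∀ W : Submodule F (Unit ⊕ (Fin 4 ⊕ Fin 4) → F), W ≠ ⊥ → Even (Module.finrank F W) → Cfsg.Geo.IsNondegenerateOn (QuadraticMap.polar (Cfsg.quadFormOdd 4 F)) W → ¬ (Fintype.card F = 3 ∧ Module.finrank F W = 2 ∧ Cfsg.Geo.IsPlusTypeOn (Cfsg.quadFormOdd 4 F) W) → Cfsg.Geo.IsMaximalIn (Cfsg.Geo.omegaGL (Cfsg.quadFormOdd 4 F)) (Cfsg.Geo.subspaceStabilizer W ⊓ Cfsg.Geo.omegaGL (Cfsg.quadFormOdd 4 F))) ∧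
    ((Fintype.card F).Prime → ∀ D : Fin 9 → Submodule F (Unit ⊕ (Fin 4 ⊕ Fin 4) → F), Cfsg.Geo.IsOrthogonalMDecomposition (Cfsg.quadFormOdd 4 F) 1 D → Cfsg.Geo.IsMaximalIn (Cfsg.Geo.omegaGL (Cfsg.quadFormOdd 4 F)) (Cfsg.Geo.decompositionStabilizer D ⊓ Cfsg.Geo.omegaGL (Cfsg.quadFormOdd 4 F))) ∧
    (5 ≤ Fintype.card F → ∀ D : Fin 3 → Submodule F (Unit ⊕ (Fin 4 ⊕ Fin 4) → F), Cfsg.Geo.IsOrthogonalMDecomposition (Cfsg.quadFormOdd 4 F) 3 D → Cfsg.Geo.IsMaximalIn (Cfsg.Geo.omegaGL (Cfsg.quadFormOdd 4 F)) (Cfsg.Geo.decompositionStabilizer D ⊓ Cfsg.Geo.omegaGL (Cfsg.quadFormOdd 4 F))) ∧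
    (∀ K : Subalgebra F (Matrix (Unit ⊕ (Fin 4 ⊕ Fin 4)) (Unit ⊕ (Fin 4 ⊕ Fin 4)) F), Cfsg.Geo.IsFieldSubalgebra 3 K → Cfsg.Geo.IsSelfAdjointFor (QuadraticMap.polar (Cfsg.quadFormOdd 4 F)) K → Cfsg.Geo.IsMaximalIn (Cfsg.Geo.omegaGL (Cfsg.quadFormOdd 4 F)) (Cfsg.Geo.subalgebraNormalizer K ⊓ Cfsg.Geo.omegaGL (Cfsg.quadFormOdd 4 F))) ∧
    (∀ (F₀ : Subfield F) (r : ℕ) (P : Matrix.GeneralLinearGroup (Unit ⊕ (Fin 4 ⊕ Fin 4)) F), r.Prime → Fintype.card F = Nat.card F₀ ^ r → Cfsg.Geo.IsQuadFormRationalStructure (Cfsg.quadFormOdd 4 F) F₀ P → Cfsg.Geo.IsMaximalIn (Cfsg.Geo.omegaGL (Cfsg.quadFormOdd 4 F)) (Cfsg.Geo.subfieldSubgroup F₀ P ⊓ Cfsg.Geo.omegaGL (Cfsg.quadFormOdd 4 F))) ∧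
    (5 ≤ Fintype.card F → ∀ (e : (Unit ⊕ (Fin 4 ⊕ Fin 4)) ≃ (Fin 2 → Fin 3)) (P : Matrix.GeneralLinearGroup (Unit ⊕ (Fin 4 ⊕ Fin 4)) F) (f₁ : (Fin 3 → F) → (Fin 3 → F) → F), Cfsg.Geo.IsSymmetricForm f₁ → Cfsg.Geo.IsTensorPowerFormStructure id (QuadraticMap.polar (Cfsg.quadFormOdd 4 F)) f₁ e P → Cfsg.Geo.IsMaximalIn (Cfsg.Geo.omegaGL (Cfsg.quadFormOdd 4 F)) (Cfsg.Geo.tensorWreathSubgroup 3 2 e P ⊓ Cfsg.Geo.omegaGL (Cfsg.quadFormOdd 4 F))) := by
  classical
  have h2 : (2 : F) ≠ 0 := fun h => by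
    haveI : CharP F 2 := (CharP.charP_iff_prime_eq_zero Nat.prime_two).2 (by exact_mod_cast h)
    have h' := FiniteField.even_card_of_char_two (ringChar.eq F 2)
    have := Nat.odd_iff.1 hodd
    omega
  set Q := Cfsg.quadFormOdd 4 F with hQdef
  have hQ : Cfsg.Geo.IsNondegenerateQuadraticForm Q :=
    CfsgLib.OrthGeo.isNondegenerateQuadraticForm_quadFormOdd 4 h2
  have hcard : Fintype.card (Unit ⊕ (Fin 4 ⊕ Fin 4)) = 9 := by simp
  refine ⟨fun W hW0 hW => CfsgLib.OrthGeo.parabolic_isMaximal hQ (by omega) W hW0 hW (fun u _ _ _ => by omega),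
    fun W hW0 hWe hWn hex => ?_,
    fun hp D hD => CfsgLib.OrthMono17.frame_isMaximal hQ hp h2 ⟨4, hcard⟩ (by omega) (fun h => by omega) hD,
    fun hq D hD => CfsgLib.OrthGeo.decomp_isMaximal hQ hD (by omega) h2 le_rfl (Or.inl hq)
      (Or.inr ⟨le_rfl, le_rfl⟩),
    fun K hK hsa => CfsgLib.C3Max.orth_normalizer_maximal_of_three hQ h2 Nat.prime_three (by omega)
      (Or.inl (by omega)) (fun _ => le_rfl) (fun h => by omega) hK hsa,
    fun F₀ r P hr hc hP => ?_,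
    fun hq e P f₁ h1 hT => CfsgLib.OTensorSq17.orth_tensor_square_isMaximal hQ hodd hq e P h1 hT⟩
  · have hrad : ∀ x ∈ W, x ∈ CfsgLib.OrthGeo.perp hQ W → x = 0 :=
      CfsgLib.OrthGeo.radical_free_of_nondegenerateOn hQ hWn
    have hrad' : ∀ x ∈ CfsgLib.OrthGeo.perp hQ W,
        x ∈ CfsgLib.OrthGeo.perp hQ (CfsgLib.OrthGeo.perp hQ W) → x = 0 :=
      fun x hx hx' => hrad x (by rwa [CfsgLib.OrthGeo.perp_perp hQ] at hx') hx
    have hsum := (CfsgLib.OrthGeo.finrank_perp_add hQ W).trans hcard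
    have hperp := CfsgLib.OrthGeo.finrank_perp_add hQ (CfsgLib.OrthGeo.perp hQ W)
    obtain ⟨k, hk⟩ := hWe
    by_cases hsmall : Module.finrank F W ≤ 4
    · refine CfsgLib.OrthEight96.nondeg_small_five_isMaximal hQ hrad hW0 (by omega) (by omega) (fun h => ?_)
      by_cases hq : Fintype.card F = 3
      · exact Or.inl ((CfsgLib.OrthGeo.plane_aniso_or_plusType hQ h).resolve_right
          fun hp => hex ⟨hq, h, hp⟩)
      · refine Or.inr ?_
        rw [Nat.card_eq_fintype_card]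
        have := Fintype.one_lt_card (α := F)
        have := Nat.odd_iff.1 hodd
        omega
    · rw [← CfsgLib.OrthGeo.stab_perp_inf_omega hQ W]
      refine CfsgLib.OrthEight96.nondeg_small_five_isMaximal hQ hrad' (fun h => ?_) (by omega) (by omega)
        (fun h => by omega)
      rw [h, finrank_bot] at hsum
      omega
  · exact CfsgLib.OrthRat17.qSubfield_isMaximal (F₀ := F₀) (P := P) (Q := Q)
      ⟨hQ, fun v hv => by
        have h := hP _ hv
        rwa [CfsgLib.OrthGeo.mulVec_inv_cancel] at h⟩ (by omega) hr hc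

end Cfsg.Agent.S5834
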