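import Cfsg.Statements.S5849
import Cfsg.Agent.OrthEight96.SmallFive
import Cfsg.Agent.OrthEight96.NonsingularLine
import Cfsg.Agent.OrthEight96.RatSpread
import Cfsg.Agent.OrthGeo.Parabolic
import Cfsg.Agent.OrthGeo.RatSpread
import Cfsg.Agent.OrthGeo.NondegAny
import Cfsg.Agent.OrthGeo.DecompAll
import Cfsg.Agent.OrthGeo.TenCases
import Cfsg.Agent.C3Max.OrthMatrix
import Cfsg.Agent.OrthFrame90.Base
import Cfsg.Agent.OrthGeo.UnitaryNormalizer

set_option autoImplicit false
open Cfsg

namespace Cfsg.Agent.S5849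

/-- Maximal subgroups of Ω_10^-(q) of geometric type (any q). Let F be a finite field with q elements (characteristic p), Q a non-degenerate quadratic form on F^10 (non-degenerate polar form) of minus type (Witt index 4: no totally singular 5-space), and Ω = Ω_10^-(q) the commutator subgroup of the isometry group of Q, inside GL_10(F). Each of the following, intersected with Ω, is a maximal subgroup of Ω: (1) the stabiliser of any non-zero subspace on which Q vanishes identically (totally singular subspaces, dimensions 1 to 4); (2) for q odd, the stabiliser of any proper subspace of odd dimension other than 5 on which the polar form of Q is non-degenerate; (3) the stabiliser of any non-degenerate 2-space of minus type (containing no non-zero singular vector); (4) for q ≥ 4, the stabiliser of any non-degenerate 2-space of plus type (containing a non-zero singular vector); (5) the stabiliser of any non-degenerate 4-space (either type); (6) for q even, the stabiliser of the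 1-space spanned by any non-singular vector v (Q(v) ≠ 0); (7) for q = p prime with p ≡ 3 mod 4, the stabiliser of any decomposition of F^10 into 10 pairwise orthogonal, pairwise Q-isometric non-degenerate 1-spaces; (8) for q ≠ 3, the stabiliser of any decomposition of F^10 into 5 pairwise orthogonal, pairwise Q-isometric non-degenerate 2-spaces; (9) for q ≡ 3 mod 4, the stabiliser of any decomposition of F^10 into 2 pairwise orthogonal, pairwise Q-isometric non-degenerate 5-spaces; (10) for q ≡ 1 mod 4, the stabiliser of any decomposition of F^10 into two orthogonal non-degenerate 5-spaces that are not Q-isometric; (11) for q odd, the normaliser of any degree-2 subfield K of the matrix algebra whose elements are self-adjoint for the polar form of Q (Q is then the trace of a quadratic form over K); (12) the normaliser of any degree-2 subfield K of the matrix algebra, closed under adjoints for the polar form but not self-adjoint, whose elements act as similarities of Q (so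 F^10 becomes a 5-dimensional space over K with a hermitian form, and the subgroup is of the type of the unitary group GU_5(q)); (13) every subfield group for a subfield F₀ with |F| = |F₀|^r, r an odd prime, whose F₀-structure carries a non-zero scalar multiple of Q. -/
theorem result {F : Type*} [Field F] [Fintype F] (Q : (Fin 10 → F) → F) (hQ : Cfsg.Geo.IsNondegenerateQuadraticForm Q) (hminus : ¬ Cfsg.Geo.IsPlusTypeOn Q ⊤) :
    (∀ W : Submodule F (Fin 10 → F), W ≠ ⊥ → Cfsg.Geo.IsTotallySingularQuad Q W → Cfsg.Geo.IsMaximalIn (Cfsg.Geo.omegaGL Q) (Cfsg.Geo.subspaceStabilizer W ⊓ Cfsg.Geo.omegaGL Q)) ∧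
    (Odd (Fintype.card F) → ∀ W : Submodule F (Fin 10 → F), W ≠ ⊥ → W ≠ ⊤ → Odd (Module.finrank F W) → 2 * Module.finrank F W ≠ 10 → Cfsg.Geo.IsNondegenerateOn (QuadraticMap.polar Q) W → Cfsg.Geo.IsMaximalIn (Cfsg.Geo.omegaGL Q) (Cfsg.Geo.subspaceStabilizer W ⊓ Cfsg.Geo.omegaGL Q)) ∧
    (∀ W : Submodule F (Fin 10 → F), Module.finrank F W = 2 → Cfsg.Geo.IsNondegenerateOn (QuadraticMap.polar Q) W → ¬ Cfsg.Geo.IsPlusTypeOn Q W → Cfsg.Geo.IsMaximalIn (Cfsg.Geo.omegaGL Q) (Cfsg.Geo.subspaceStabilizer W ⊓ Cfsg.Geo.omegaGL Q)) ∧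
    (4 ≤ Fintype.card F → ∀ W : Submodule F (Fin 10 → F), Module.finrank F W = 2 → Cfsg.Geo.IsNondegenerateOn (QuadraticMap.polar Q) W → Cfsg.Geo.IsPlusTypeOn Q W → Cfsg.Geo.IsMaximalIn (Cfsg.Geo.omegaGL Q) (Cfsg.Geo.subspaceStabilizer W ⊓ Cfsg.Geo.omegaGL Q)) ∧
    (∀ W : Submodule F (Fin 10 → F), Module.finrank F W = 4 → Cfsg.Geo.IsNondegenerateOn (QuadraticMap.polar Q) W → Cfsg.Geo.IsMaximalIn (Cfsg.Geo.omegaGL Q) (Cfsg.Geo.subspaceStabilizer W ⊓ Cfsg.Geo.omegaGL Q)) ∧
    (¬ Odd (Fintype.card F) → ∀ v : (Fin 10 → F), Q v ≠ 0 → Cfsg.Geo.IsMaximalIn (Cfsg.Geo.omegaGL Q) (Cfsg.Geo.subspaceStabilizer (Submodule.span F {v}) ⊓ Cfsg.Geo.omegaGL Q)) ∧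
    ((∃ p : ℕ, p.Prime ∧ Fintype.card F = p ∧ (p % 4 = 3)) → ∀ D : Fin 10 → Submodule F (Fin 10 → F), Cfsg.Geo.IsOrthogonalMDecomposition Q 1 D → Cfsg.Geo.IsMaximalIn (Cfsg.Geo.omegaGL Q) (Cfsg.Geo.decompositionStabilizer D ⊓ Cfsg.Geo.omegaGL Q)) ∧
    (Fintype.card F ≠ 3 → ∀ D : Fin 5 → Submodule F (Fin 10 → F), Cfsg.Geo.IsOrthogonalMDecomposition Q 2 D → Cfsg.Geo.IsMaximalIn (Cfsg.Geo.omegaGL Q) (Cfsg.Geo.decompositionStabilizer D ⊓ Cfsg.Geo.omegaGL Q)) ∧
    (Fintype.card F % 4 = 3 → ∀ D : Fin 2 → Submodule F (Fin 10 → F), Cfsg.Geo.IsOrthogonalMDecomposition Q 5 D → Cfsg.Geo.IsMaximalIn (Cfsg.Geo.omegaGL Q) (Cfsg.Geo.decompositionStabilizer D ⊓ Cfsg.Geo.omegaGL Q)) ∧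
    (Fintype.card F % 4 = 1 → ∀ D : Fin 2 → Submodule F (Fin 10 → F), Cfsg.Geo.IsNondegenerateMDecomposition (QuadraticMap.polar Q) 5 D → ¬ Cfsg.Geo.AreIsometricFor Q (D 0) (D 1) → Cfsg.Geo.IsMaximalIn (Cfsg.Geo.omegaGL Q) (Cfsg.Geo.decompositionStabilizer D ⊓ Cfsg.Geo.omegaGL Q)) ∧
    (Odd (Fintype.card F) → ∀ K : Subalgebra F (Matrix (Fin 10) (Fin 10) F), Cfsg.Geo.IsFieldSubalgebra 2 K → Cfsg.Geo.IsSelfAdjointFor (QuadraticMap.polar Q) K → Cfsg.Geo.IsMaximalIn (Cfsg.Geo.omegaGL Q) (Cfsg.Geo.subalgebraNormalizer K ⊓ Cfsg.Geo.omegaGL Q)) ∧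
    (∀ K : Subalgebra F (Matrix (Fin 10) (Fin 10) F), Cfsg.Geo.IsFieldSubalgebra 2 K → Cfsg.Geo.IsAdjointClosedFor (QuadraticMap.polar Q) K → ¬ Cfsg.Geo.IsSelfAdjointFor (QuadraticMap.polar Q) K → (∀ k ∈ K, ∃ c : F, ∀ v : (Fin 10 → F), Q (Matrix.mulVec k v) = c * Q v) → Cfsg.Geo.IsMaximalIn (Cfsg.Geo.omegaGL Q) (Cfsg.Geo.subalgebraNormalizer K ⊓ Cfsg.Geo.omegaGL Q)) ∧
    (∀ (F₀ : Subfield F) (r : ℕ) (P : Matrix.GeneralLinearGroup (Fin 10) F) (ζ : F), r.Prime → Odd r → Fintype.card F = Nat.card F₀ ^ r → ζ ≠ 0 → Cfsg.Geo.IsQuadFormRationalStructure (fun v : Fin 10 → F => ζ * Q v) F₀ P → Cfsg.Geo.IsMaximalIn (Cfsg.Geo.omegaGL Q) (Cfsg.Geo.subfieldSubgroup F₀ P ⊓ Cfsg.Geo.omegaGL Q)) := by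
  classical
  have hcard : Fintype.card (Fin 10) = 10 := Fintype.card_fin 10
  have hn5 : 5 ≤ Fintype.card (Fin 10) := by omega
  have hrad := fun {W : Submodule F (Fin 10 → F)} (h : Cfsg.Geo.IsNondegenerateOn (QuadraticMap.polar Q) W) =>
    CfsgLib.OrthGeo.radical_free_of_nondegenerateOn hQ h
  have hsum := fun W : Submodule F (Fin 10 → F) => (CfsgLib.OrthGeo.finrank_perp_add hQ W).trans hcard
  have hperp : ∀ {W : Submodule F (Fin 10 → F)}, (∀ x ∈ W, x ∈ CfsgLib.OrthGeo.perp hQ W → x = 0) →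
      ∀ x ∈ CfsgLib.OrthGeo.perp hQ W, x ∈ CfsgLib.OrthGeo.perp hQ (CfsgLib.OrthGeo.perp hQ W) → x = 0 :=
    fun h x hx hx' => h x (by rwa [CfsgLib.OrthGeo.perp_perp hQ] at hx') hx
  have h2of : Odd (Fintype.card F) → (2 : F) ≠ 0 := fun hodd h2 => by
    haveI : CharP F 2 := (CharP.charP_iff_prime_eq_zero Nat.prime_two).2 (by exact_mod_cast h2)
    have h := FiniteField.even_card_of_char_two (ringChar.eq F 2)
    have := Nat.odd_iff.1 hodd
    omega
  -- subspaces smaller than their perp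
  have small : ∀ W : Submodule F (Fin 10 → F), (∀ x ∈ W, x ∈ CfsgLib.OrthGeo.perp hQ W → x = 0) → W ≠ ⊥ →
      Module.finrank F W ≤ 4 →
      (Module.finrank F W = 2 → (∀ x ∈ W, Q x = 0 → x = 0) ∨ 4 ≤ Nat.card F) →
      Cfsg.Geo.IsMaximalIn (Cfsg.Geo.omegaGL Q) (Cfsg.Geo.subspaceStabilizer W ⊓ Cfsg.Geo.omegaGL Q) :=
    fun W hW h0 h3 hex => CfsgLib.OrthEight96.nondeg_small_five_isMaximal hQ hW h0
      (by have := hsum W; omega) (by have := hsum W; omega) hex
  refine ⟨fun W hW0 hW => ?_, fun hodd W hW0 hW1 hWo h2n hW => ?_, fun W hd hW hWm => ?_,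
    fun hq W hd hW hWp => ?_, fun W hd hW => ?_, fun hev v hv => ?_, fun hp D hD => ?_, fun hq D hD => ?_,
    fun hq D hD => ?_, fun hq D hD hni => ?_, fun hodd K hK hsa => ?_, fun K hK hac hnsa hsc => ?_,
    fun F₀ r P ζ hr hro hc hζ hP => ?_⟩
  · -- totally singular subspaces
    refine CfsgLib.OrthGeo.parabolic_isMaximal hQ hn5 W hW0 hW (fun u huP hu huW h => hminus ?_)
    refine ⟨W ⊔ Submodule.span F {u}, le_top, fun z hz => ?_, ?_⟩
    · obtain ⟨a, ha, b, hb, rfl⟩ := Submodule.mem_sup.1 hz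
      obtain ⟨c, rfl⟩ := Submodule.mem_span_singleton.1 hb
      rw [CfsgLib.OrthGeo.q_add hQ, CfsgLib.OrthGeo.q_smul hQ, hW a ha, hu, map_smul, smul_eq_mul, huP a ha]
      ring
    · have hu0 : u ≠ 0 := fun h => huW (h ▸ W.zero_mem)
      have h1 := Submodule.finrank_sup_add_finrank_inf_eq W (Submodule.span F {u})
      have h2 : W ⊓ Submodule.span F {u} = ⊥ := (Submodule.eq_bot_iff _).2 fun z hz => by
        obtain ⟨c, rfl⟩ := Submodule.mem_span_singleton.1 hz.2
        by_cases hc : c = 0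
        · rw [hc, zero_smul]
        · exact absurd ((Submodule.smul_mem_iff _ hc).1 hz.1) huW
      rw [h2, finrank_bot, finrank_span_singleton hu0] at h1
      rw [finrank_top, Module.finrank_fintype_fun_eq_card]
      omega
  · -- odd dimension
    obtain ⟨k, hk⟩ := hWo
    have hlt : Module.finrank F W < 10 := by
      have h := Submodule.finrank_lt hW1
      rwa [Module.finrank_fintype_fun_eq_card, hcard] at h
    by_cases h3 : Module.finrank F W ≤ 4
    · exact small W (hrad hW) hW0 h3 (fun h => by omega)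
    · rw [← CfsgLib.OrthGeo.stab_perp_inf_omega hQ W]
      have := hsum W
      exact small _ (hperp (hrad hW)) (fun h => by rw [h, finrank_bot] at this; omega) (by omega) (fun h => by omega)
  · -- planes of minus type
    exact small W (hrad hW) (fun h => by rw [h, finrank_bot] at hd; omega) (by omega)
      (fun _ => Or.inl ((CfsgLib.OrthGeo.plane_aniso_or_plusType hQ hd).resolve_right hWm))
  · -- planes of plus type
    exact small W (hrad hW) (fun h => by rw [h, finrank_bot] at hd; omega) (by omega)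
      (fun _ => Or.inr (by rwa [Nat.card_eq_fintype_card]))
  · -- four-spaces
    exact small W (hrad hW) (fun h => by rw [h, finrank_bot] at hd; omega) (by omega) (fun h => by omega)
  · -- non-singular lines
    have h2 : (2 : F) = 0 := by
      by_contra h2
      refine hev (Nat.odd_iff.2 (FiniteField.odd_card_of_char_ne_two fun hch => h2 ?_))
      haveI : CharP F 2 := ringChar.of_eq hch
      exact CharTwo.two_eq_zero
    exact CfsgLib.OrthEight96.nonsingular_line_eight_isMaximal hQ h2 (by omega) hv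
  · -- frames
    obtain ⟨p, hp1, hp3, hp2⟩ := hp
    exact CfsgLib.OrthFrame90.frame_isMaximal hQ (by omega) (hp3 ▸ hp1) (Nat.odd_iff.2 (by omega)) hD
  · -- five planes
    refine CfsgLib.OrthGeo.two_isMaximal hQ hD hn5 le_rfl fun i => ⟨hD.decomp.decomp.finrank_eq i, ?_⟩
    by_cases h7 : 7 ≤ Fintype.card F
    · exact Or.inl h7
    have hpp : IsPrimePow (Fintype.card F) := FiniteField.isPrimePow_card F
    have h1 := Fintype.one_lt_card (α := F)
    have h6 : Fintype.card F ≠ 6 := fun h => by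
      rw [h, isPrimePow_nat_iff] at hpp
      obtain ⟨p, e, hp, he, hpe⟩ := hpp
      have hple : p ≤ 6 := Nat.le_of_dvd (by norm_num) ⟨p ^ (e - 1), by rw [← hpe, ← pow_succ']; congr 1; omega⟩
      interval_cases p <;> norm_num at hp
      all_goals (rcases e with _ | _ | _ | e <;> simp [pow_succ] at hpe; try omega)
    exact Or.inr ⟨by omega, CfsgLib.OrthGeo.planes_aniso_of_minus hQ hminus hD hcard i⟩
  · -- two isometric five-spaces
    refine CfsgLib.OrthGeo.four_isMaximal hQ hD hn5 (by omega) le_rfl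
      fun i => Or.inr ⟨by rw [hD.decomp.decomp.finrank_eq]; omega, fun h => absurd h (by
        rw [hD.decomp.decomp.finrank_eq]; omega)⟩
  · -- two non-isometric five-spaces
    exact CfsgLib.OrthGeo.nonisometric_halves_five_isMaximal (by omega) le_rfl hQ hD hni
  · -- extension field of degree two
    exact CfsgLib.C3Max.orth_normalizer_maximal_of hQ (h2of hodd) Nat.prime_two (by omega) (Or.inl (by omega))
      (fun h => by omega) (fun _ => Or.inl (by omega)) hK hsa
  · -- unitary type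
    exact CfsgLib.OrthGeo.quadField_normalizer_isMaximal le_rfl Q hQ K hK hac hnsa hsc
  · -- subfield groups
    have h := CfsgLib.OrthEight96.qSubfield_isMaximal (F₀ := F₀) (P := P) (Q := fun v => ζ * Q v)
      ⟨CfsgLib.OrthGeo.nondeg_scale hζ hQ, fun v hv => by
        have h := hP _ hv
        rwa [CfsgLib.OrthGeo.mulVec_inv_cancel] at h⟩ (by omega) hr hc
    simpa only [CfsgLib.OrthGeo.SubO, CfsgLib.OrthGeo.omegaGL_scale hζ] using h

end Cfsg.Agent.S5849
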