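import Cfsg.Statements.S5850
import Cfsg.Agent.Aschbacher.OrthTenMinus
import Cfsg.Agent.Aschbacher.OrthTenRotation
import Cfsg.Agent.OrthGeo.PlusPlane

set_option autoImplicit false
open Cfsg

namespace Cfsg.Agent.S5850

open Matrix CfsgLib.Aschbacher CfsgLib.Aschbacher.OrthEven CfsgLib.Aschbacher.Reduction CfsgLib.Aschbacher.Centre
  CfsgLib.OrthGeo

/-- Every maximal subgroup of Ω_10^-(q) is of one of the listed geometric types or lies in the residual class. Let F be a finite field with q elements (characteristic p), Q a non-degenerate quadratic form on F^10 of minus type (Witt index 4: no totally singular 5-space), Ω the commutator subgroup of its isometry group, and H a maximal subgroup of Ω (inside GL_10(F)). Then H is the intersection with Ω of one of: the stabiliser of a non-zero totally singular subspace; for q odd, the stabiliser of a non-degenerate subspace of odd dimension ≠ 5; the stabiliser of a non-degenerate 2-space of minus type; for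 q ≥ 4, the stabiliser of a non-degenerate 2-space of plus type; the stabiliser of a non-degenerate 4-space; for q even, the stabiliser of the span of a non-singular vector; for q = p prime with p ≡ 3 mod 4, the stabiliser of a decomposition into 10 pairwise orthogonal, pairwise isometric non-degenerate 1-spaces; for q ≠ 3, the stabiliser of a decomposition into 5 pairwise orthogonal, pairwise isometric non-degenerate 2-spaces; for q ≡ 3 mod 4, the stabiliser of a decomposition into 2 pairwise orthogonal, pairwise isometric non-degenerate 5-spaces; for q ≡ 1 mod 4, the stabiliser of a decomposition into two orthogonal, non-isometric non-degenerate 5-spaces; for q odd, the normaliser of a degree-2 subfield of the matrix algebra, self-adjoint for the polar form; the normaliser of a degree-2 subfield K, adjoint-closed but not self-adjoint, acting by similarities of Q; a subfield group (|F| = |F₀|^r, r odd prime) whose F₀-structure carries a non-zero multiple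 of Q — or else H lies in the residual class of the orthogonal case (modulo scalars H is almost simple, with absolutely irreducible perfect socle preimage realisable over no proper subfield and fixing no non-degenerate unitary form). -/
theorem result {F : Type*} [Field F] [Fintype F] (Q : (Fin 10 → F) → F) (hQ : Cfsg.Geo.IsNondegenerateQuadraticForm Q) (hminus : ¬ Cfsg.Geo.IsPlusTypeOn Q ⊤) (H : Subgroup (Matrix.GeneralLinearGroup (Fin 10) F)) (hH : Cfsg.Geo.IsMaximalIn (Cfsg.Geo.omegaGL Q) H) :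
    (∃ W : Submodule F (Fin 10 → F), W ≠ ⊥ ∧ Cfsg.Geo.IsTotallySingularQuad Q W ∧ H = Cfsg.Geo.subspaceStabilizer W ⊓ Cfsg.Geo.omegaGL Q) ∨
    (Odd (Fintype.card F) ∧ ∃ W : Submodule F (Fin 10 → F), W ≠ ⊥ ∧ W ≠ ⊤ ∧ Odd (Module.finrank F W) ∧ 2 * Module.finrank F W ≠ 10 ∧ Cfsg.Geo.IsNondegenerateOn (QuadraticMap.polar Q) W ∧ H = Cfsg.Geo.subspaceStabilizer W ⊓ Cfsg.Geo.omegaGL Q) ∨
    (∃ W : Submodule F (Fin 10 → F), Module.finrank F W = 2 ∧ Cfsg.Geo.IsNondegenerateOn (QuadraticMap.polar Q) W ∧ ¬ Cfsg.Geo.IsPlusTypeOn Q W ∧ H = Cfsg.Geo.subspaceStabilizer W ⊓ Cfsg.Geo.omegaGL Q) ∨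
    (4 ≤ Fintype.card F ∧ ∃ W : Submodule F (Fin 10 → F), Module.finrank F W = 2 ∧ Cfsg.Geo.IsNondegenerateOn (QuadraticMap.polar Q) W ∧ Cfsg.Geo.IsPlusTypeOn Q W ∧ H = Cfsg.Geo.subspaceStabilizer W ⊓ Cfsg.Geo.omegaGL Q) ∨
    (∃ W : Submodule F (Fin 10 → F), Module.finrank F W = 4 ∧ Cfsg.Geo.IsNondegenerateOn (QuadraticMap.polar Q) W ∧ H = Cfsg.Geo.subspaceStabilizer W ⊓ Cfsg.Geo.omegaGL Q) ∨
    (¬ Odd (Fintype.card F) ∧ ∃ v : (Fin 10 → F), Q v ≠ 0 ∧ H = Cfsg.Geo.subspaceStabilizer (Submodule.span F {v}) ⊓ Cfsg.Geo.omegaGL Q) ∨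
    ((∃ p : ℕ, p.Prime ∧ Fintype.card F = p ∧ (p % 4 = 3)) ∧ ∃ D : Fin 10 → Submodule F (Fin 10 → F), Cfsg.Geo.IsOrthogonalMDecomposition Q 1 D ∧ H = Cfsg.Geo.decompositionStabilizer D ⊓ Cfsg.Geo.omegaGL Q) ∨
    (Fintype.card F ≠ 3 ∧ ∃ D : Fin 5 → Submodule F (Fin 10 → F), Cfsg.Geo.IsOrthogonalMDecomposition Q 2 D ∧ H = Cfsg.Geo.decompositionStabilizer D ⊓ Cfsg.Geo.omegaGL Q) ∨
    (Fintype.card F % 4 = 3 ∧ ∃ D : Fin 2 → Submodule F (Fin 10 → F), Cfsg.Geo.IsOrthogonalMDecomposition Q 5 D ∧ H = Cfsg.Geo.decompositionStabilizer D ⊓ Cfsg.Geo.omegaGL Q) ∨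
    (Fintype.card F % 4 = 1 ∧ ∃ D : Fin 2 → Submodule F (Fin 10 → F), Cfsg.Geo.IsNondegenerateMDecomposition (QuadraticMap.polar Q) 5 D ∧ ¬ Cfsg.Geo.AreIsometricFor Q (D 0) (D 1) ∧ H = Cfsg.Geo.decompositionStabilizer D ⊓ Cfsg.Geo.omegaGL Q) ∨
    (Odd (Fintype.card F) ∧ ∃ K : Subalgebra F (Matrix (Fin 10) (Fin 10) F), Cfsg.Geo.IsFieldSubalgebra 2 K ∧ Cfsg.Geo.IsSelfAdjointFor (QuadraticMap.polar Q) K ∧ H = Cfsg.Geo.subalgebraNormalizer K ⊓ Cfsg.Geo.omegaGL Q) ∨
    (∃ K : Subalgebra F (Matrix (Fin 10) (Fin 10) F), Cfsg.Geo.IsFieldSubalgebra 2 K ∧ Cfsg.Geo.IsAdjointClosedFor (QuadraticMap.polar Q) K ∧ ¬ Cfsg.Geo.IsSelfAdjointFor (QuadraticMap.polar Q) K ∧ (∀ k ∈ K, ∃ c : F, ∀ v : (Fin 10 → F), Q (Matrix.mulVec k v) = c * Q v) ∧ H = Cfsg.Geo.subalgebraNormalizer K ⊓ Cfsg.Geo.omegaGL Q) ∨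
    (∃ (F₀ : Subfield F) (r : ℕ) (P : Matrix.GeneralLinearGroup (Fin 10) F) (ζ : F), r.Prime ∧ Odd r ∧ Fintype.card F = Nat.card F₀ ^ r ∧ ζ ≠ 0 ∧ Cfsg.Geo.IsQuadFormRationalStructure (fun v : Fin 10 → F => ζ * Q v) F₀ P ∧ H = Cfsg.Geo.subfieldSubgroup F₀ P ⊓ Cfsg.Geo.omegaGL Q) ∨
    Cfsg.Geo.InOrthogonalResidualClass H := by
  classical
  have hn : 7 ≤ Fintype.card (Fin 10) := by simp
  have h10 : Fintype.card (Fin 10) = 10 := Fintype.card_fin 10
  have hI : H ≤ Cfsg.isometryGroup F Q := hH.1.le.trans omegaGL_le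
  by_cases hirr : Geo.ActsIrreducibly (Geo.matrixSet H)
  swap
  · rcases reducible_three hQ hn hH hirr with ⟨W, hW0, hts, heq⟩ | ⟨W, hW0, hW1, hW, hd, hodd, heq⟩ | h
    · exact Or.inl (⟨W, hW0, hts, heq⟩)
    · rw [h10] at hd
      have h0 : 0 < Module.finrank F W := Nat.pos_of_ne_zero fun h => hW0 (Submodule.finrank_eq_zero.1 h)
      by_cases h5 : Module.finrank F W = 5
      · have ho5 : Odd (Fintype.card F) := hodd (by rw [h5]; decide)
        have hW' := CfsgLib.AschPrime.orth_perp_nondeg hQ hW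
        have hdis : Disjoint W (perp hQ W) := disjoint_iff.2 (CfsgLib.AschPrime.orth_inf_eq_bot_of_nondeg hQ hW)
        have ho : ∀ a ∈ W, ∀ b ∈ perp hQ W, bform hQ a b = 0 := fun a ha b hb => (mem_perp hQ).1 hb a ha
        have ho' : ∀ a ∈ perp hQ W, ∀ b ∈ W, bform hQ a b = 0 := fun a ha b hb =>
          (b_symm hQ _ _).trans (ho b hb a ha)
        have hd' : Module.finrank F (perp hQ W) = 5 := by
          have := finrank_perp_add hQ W; rw [h10] at this; omega
        let D : Fin 2 → Submodule F (Fin 10 → F) := ![W, perp hQ W]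
        have hND : Geo.IsNondegenerateMDecomposition (QuadraticMap.polar Q) 5 D := by
          refine ⟨⟨le_rfl, by norm_num, Fin.forall_fin_two.2 ⟨h5, hd'⟩, ?_, ?_⟩, Fin.forall_fin_two.2 ⟨hW, hW'⟩,
            Fin.forall_fin_two.2 ⟨Fin.forall_fin_two.2 ⟨fun h => absurd rfl h, fun _ => ho⟩,
              Fin.forall_fin_two.2 ⟨fun _ => ho', fun h => absurd rfl h⟩⟩⟩
          · rw [iSupIndep_pair (i := 0) (j := 1) (by decide) (by decide)]
            exact hdis
          · rw [eq_top_iff, ← CfsgLib.AschPrime.orth_sup_eq_top hQ hW]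
            exact sup_le (le_iSup D 0) (le_iSup D 1)
        have hleD : H ≤ Geo.decompositionStabilizer D := by
          intro g hg
          have hg' : g ∈ Geo.subspaceStabilizer W := (heq.le hg).1
          have key : ∀ V : Submodule F (Fin 10 → F), g ∈ Geo.subspaceStabilizer V →
              V.map (Matrix.toLin' (g : Matrix (Fin 10) (Fin 10) F)) = V := fun V hV => by
            refine Submodule.eq_of_le_of_finrank_eq ?_
              (Submodule.equivMapOfInjective _ (CfsgLib.OrthGeo.toLin'_injective g) V).finrank_eq.symm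
            rintro _ ⟨v, hv, rfl⟩
            rw [Matrix.toLin'_apply]
            exact (hV v).1 hv
          exact ⟨1, Fin.forall_fin_two.2 ⟨key W hg', key _ (CfsgLib.AschPrime.stabilizer_perp hQ (hI hg) hg')⟩⟩
        have heq' := eq_inf_of_le hH hleD (not_le_decompositionStabilizer hQ hn hND.decomp)
        by_cases h3 : Fintype.card F % 4 = 3
        · refine Or.inr (Or.inr (Or.inr (Or.inr (Or.inr (Or.inr (Or.inr (Or.inr (Or.inl (⟨h3, D, ⟨hND, Fin.forall_fin_two.2 ⟨Fin.forall_fin_two.2 ⟨⟨LinearEquiv.refl F _, fun _ => rfl⟩, ?_⟩, Fin.forall_fin_two.2 ⟨?_, ⟨LinearEquiv.refl F _, fun _ => rfl⟩⟩⟩⟩, heq'⟩)))))))))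
          · exact OrthTenMinus.five_isometric_minus hQ hminus h10 h3 hW hW' h5 hd' hdis ho
          · exact OrthTenMinus.five_isometric_minus hQ hminus h10 h3 hW' hW hd' h5 hdis.symm ho'
        · have h1 : Fintype.card F % 4 = 1 := by obtain ⟨m, hm⟩ := ho5; omega
          exact Or.inr (Or.inr (Or.inr (Or.inr (Or.inr (Or.inr (Or.inr (Or.inr (Or.inr (Or.inl (⟨h1, D, hND, fun hiso => h3 (OrthTenMinus.five_mod_four_minus hQ hminus h10 ho5 hW h5 hdis ho hiso), heq'⟩))))))))))
      rcases Nat.even_or_odd (Module.finrank F W) with he | ho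
      swap
      · exact Or.inr (Or.inl (⟨hodd ho, W, hW0, hW1, ho, by omega, hW, heq⟩))
      obtain ⟨c, hc⟩ := he
      obtain h2 | h4 : Module.finrank F W = 2 ∨ Module.finrank F W = 4 := by omega
      · by_cases hp : Geo.IsPlusTypeOn Q W
        · by_cases hq : 4 ≤ Fintype.card F
          · exact Or.inr (Or.inr (Or.inr (Or.inl (⟨hq, W, h2, hW, hp, heq⟩))))
          · obtain ⟨K, hK1, hK2⟩ := plus_plane_not_maximal hQ hn (by omega) W h2 hW hp
            exact (not_strictly_between hH heq hK1 hK2).elim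
        · exact Or.inr (Or.inr (Or.inl (⟨W, h2, hW, hp, heq⟩)))
      · exact Or.inr (Or.inr (Or.inr (Or.inr (Or.inl (⟨W, h4, hW, heq⟩)))))
    · exact Or.inr (Or.inr (Or.inr (Or.inr (Or.inr (Or.inl (h))))))
  have hsub : ∀ (F₀ : Subfield F) (r : ℕ) (P : GL (Fin 10) F) (ζ : F), r.Prime →
      Fintype.card F = Nat.card F₀ ^ r → ζ ≠ 0 →
      Geo.IsQuadFormRationalStructure (fun v => ζ * Q v) F₀ P → Odd r := fun F₀ r P ζ hr hcard hζ hrat =>
    hr.eq_two_or_odd'.resolve_left fun h => by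
      subst h
      exact hminus (plus_of_rational hQ (m := 5) (by simp) hcard hζ hrat)
  rcases orth_even_composite hQ hn hH
    (fun r k hr h => by
      rw [h10] at h
      have e2 := (Nat.prime_dvd_prime_iff_eq Nat.prime_two hr).1
        (Nat.prime_two.dvd_of_dvd_pow (h ▸ (by norm_num : 2 ∣ 10)))
      have e5 := (Nat.prime_dvd_prime_iff_eq (by norm_num) hr).1
        (Nat.Prime.dvd_of_dvd_pow (by norm_num) (h ▸ (by norm_num : 5 ∣ 10)))
      omega)
    (fun d k hk h => by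
      rw [h10] at h
      have h4 : d ≤ 3 := by
        by_contra hd
        have := Nat.pow_le_pow_left (show 4 ≤ d by omega) k
        have := Nat.pow_le_pow_right (show 0 < 4 by norm_num) hk
        omega
      have hk4 : d ^ k = 10 := h.symm
      interval_cases d
      · rw [zero_pow (by omega)] at hk4; omega
      · rw [one_pow] at hk4; omega
      · have h' : 5 ∣ 2 ^ k := by rw [hk4]; norm_num
        exact absurd (Nat.Prime.dvd_of_dvd_pow (by norm_num) h') (by norm_num)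
      · have h' : 2 ∣ 3 ^ k := by rw [hk4]; norm_num
        exact absurd (Nat.prime_two.dvd_of_dvd_pow h') (by norm_num)) with
    ⟨W, hW0, hts, heq⟩ | ⟨W, hW0, hW1, -, -, -, heq⟩ | ⟨-, v, hv, heq⟩ | ⟨t, k, D, htk, ht, hodd, hD, heq⟩ |
      ⟨k, D, hD, hk, hts, heq⟩ | ⟨r, K, hr, hrn, hK, hsa, heq⟩ | ⟨K, hK, hKc, hKs, hKq, heq⟩ |
      ⟨a, b, e, P, f₁, f₂, -, -, ⟨x, hx⟩, ⟨y, hy⟩, hab, -⟩ |
      ⟨-, a, b, e, P, f₁, f₂, ha, hb, hab, -⟩ | ⟨F₀, r, P, ζ, hr, hcard, hζ, hrat, heq⟩ | h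
  -- stabilisers of proper subspaces are reducible
  rotate_left 3
  · rw [h10] at htk
    have hle : H ≤ Geo.decompositionStabilizer D := heq.le.trans inf_le_left
    have htk' : t * k = Fintype.card (Fin 10) := by rw [htk, h10]
    have hkd : k ∣ 10 := ⟨t, by rw [← htk, mul_comm]⟩
    have hk5 : k ≤ 5 := by nlinarith
    have hkp : 0 < k := hD.decomp.decomp.pos
    have hframe : FrameClause 10 Q H ∨ SubfieldClause Q H → ((∃ p : ℕ, p.Prime ∧ Fintype.card F = p ∧ (p % 4 = 3)) ∧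
        ∃ D : Fin 10 → Submodule F (Fin 10 → F), Geo.IsOrthogonalMDecomposition Q 1 D ∧
          H = Geo.decompositionStabilizer D ⊓ Geo.omegaGL Q) ∨
        ∃ (F₀ : Subfield F) (r : ℕ) (P : GL (Fin 10) F) (ζ : F), r.Prime ∧ Odd r ∧
          Fintype.card F = Nat.card F₀ ^ r ∧ ζ ≠ 0 ∧ Geo.IsQuadFormRationalStructure (fun v => ζ * Q v) F₀ P ∧
          H = Geo.subfieldSubgroup F₀ P ⊓ Geo.omegaGL Q := by
      rintro (⟨⟨p, hp, hpo, hpc⟩, D', hD', heq'⟩ | ⟨F₀, r, P, ζ, hr, hcard, hζ, hrat, heq'⟩)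
      · exact Or.inl ⟨⟨p, hp, hpc, hpc ▸ OrthTenMinus.lines_nonsquare hQ hminus h10 (hpc ▸ hpo) hD'⟩, D', hD', heq'⟩
      · exact Or.inr ⟨F₀, r, P, ζ, hr, hsub F₀ r P ζ hr hcard hζ hrat, hcard, hζ, hrat, heq'⟩
    interval_cases k <;> first | omega | skip
    · obtain rfl : t = 10 := by omega
      rcases hframe (lines_frame hQ hn hH hD hle htk' rfl (two_ne_zero_of_odd_card (hodd odd_one)) h10) with h | h
      · exact Or.inr (Or.inr (Or.inr (Or.inr (Or.inr (Or.inr (Or.inl (h)))))))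
      · exact Or.inr (Or.inr (Or.inr (Or.inr (Or.inr (Or.inr (Or.inr (Or.inr (Or.inr (Or.inr (Or.inr (Or.inr (Or.inl (h)))))))))))))
    · obtain rfl : t = 5 := by omega
      by_cases hq : Fintype.card F = 3
      · rcases hframe (minus_planes_three hQ hn hH hD hle htk' rfl hq (OrthTenMinus.planes_minus hQ hminus h10 hD) h10)
          with h | h
        · exact Or.inr (Or.inr (Or.inr (Or.inr (Or.inr (Or.inr (Or.inl (h)))))))
        · exact Or.inr (Or.inr (Or.inr (Or.inr (Or.inr (Or.inr (Or.inr (Or.inr (Or.inr (Or.inr (Or.inr (Or.inr (Or.inl (h)))))))))))))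
      · exact Or.inr (Or.inr (Or.inr (Or.inr (Or.inr (Or.inr (Or.inr (Or.inl (⟨hq, D, hD, heq⟩))))))))
    · obtain rfl : t = 2 := by omega
      have h3 := OrthTenMinus.five_mod_four_minus hQ hminus h10 (hodd (by decide)) (hD.decomp.nondegenerate 0)
        (hD.decomp.decomp.finrank_eq 0) (hD.decomp.decomp.indep.pairwiseDisjoint (by decide : (0 : Fin 2) ≠ 1))
        (hD.decomp.orthogonal 0 1 (by decide)) (hD.isometric 0 1)
      exact Or.inr (Or.inr (Or.inr (Or.inr (Or.inr (Or.inr (Or.inr (Or.inr (Or.inl (⟨h3, D, hD, heq⟩)))))))))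
  · exact absurd (plus_of_half (hts 0) (by rw [hD.finrank_eq]; exact hk)) hminus
  · rw [h10] at hrn
    have hr25 : r = 2 ∨ r = 5 := by
      rcases (Nat.Prime.dvd_mul hr).1 (show r ∣ 2 * 5 from hrn) with h | h
      · exact Or.inl ((Nat.prime_dvd_prime_iff_eq hr Nat.prime_two).1 h)
      · exact Or.inr ((Nat.prime_dvd_prime_iff_eq hr (by norm_num)).1 h)
    rcases hr25 with rfl | rfl
    · refine Or.inr (Or.inr (Or.inr (Or.inr (Or.inr (Or.inr (Or.inr (Or.inr (Or.inr (Or.inr (Or.inl (⟨?_, K, hK, hsa, heq⟩)))))))))))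
      by_contra hodd
      have hs := OrthEven.symplectic_polar hQ (Symp.two_eq_zero_of_not_odd hodd)
      have h4 := Forms.two_mul_dvd_finrank hs hK hsa (Forms.alternating_of_selfAdjoint hs hK hsa) ⊤
        (fun w _ hw => by
          obtain ⟨⟨x, hx⟩, ⟨y, hy⟩⟩ := hs.nondegenerate w hw
          exact ⟨⟨x, trivial, hx⟩, ⟨y, trivial, hy⟩⟩) (fun k _ v _ => trivial)
      rw [finrank_top, Module.finrank_fintype_fun_eq_card, h10] at h4
      omega
    · haveI : Nonempty (Fin 10) := ⟨0⟩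
      have hno : ∀ v : Fin 10 → F, v ≠ 0 → ∃ k ∈ K, Q (k *ᵥ v) ≠ 0 := by
        intro v hv0
        by_contra! hv
        let ev : K →ₗ[F] (Fin 10 → F) :=
          { toFun := fun k => (k : Matrix (Fin 10) (Fin 10) F) *ᵥ v
            map_add' := fun k l => Matrix.add_mulVec _ _ _
            map_smul' := fun c k => Matrix.smul_mulVec _ _ _ }
        have hinj : Function.Injective ev := (injective_iff_map_eq_zero ev).2 fun k hk => by
          by_contra hk0
          obtain ⟨y, hy, hky⟩ := hK.inv _ k.2 fun h => hk0 (Subtype.ext h)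
          refine hv0 ?_
          rw [← Matrix.one_mulVec v, ← hky, hK.comm _ k.2 y hy, ← Matrix.mulVec_mulVec,
            show (k : Matrix (Fin 10) (Fin 10) F) *ᵥ v = 0 from hk, Matrix.mulVec_zero]
        refine hminus (plus_of_half (U := LinearMap.range ev) (by rintro _ ⟨k, rfl⟩; exact hv _ k.2) ?_)
        rw [LinearMap.finrank_range_of_inj hinj, hK.finrank_eq, h10]
      obtain ⟨K₂, hK₂, hc₂, hs₂, hq₂, hN⟩ :=
        OrthTenRotation.exists_quadratic_field hQ (r := 5) (by decide) (by simp) hK hsa hno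
      exact Or.inr (Or.inr (Or.inr (Or.inr (Or.inr (Or.inr (Or.inr (Or.inr (Or.inr (Or.inr (Or.inr (Or.inl (⟨K₂, hK₂, hc₂, hs₂, hq₂, eq_inf_of_le hH (fun g hg => hN g (hI hg) (heq.le hg).1) (not_le_subalgebraNormalizer hQ hn hK₂ le_rfl)⟩))))))))))))
  · exact Or.inr (Or.inr (Or.inr (Or.inr (Or.inr (Or.inr (Or.inr (Or.inr (Or.inr (Or.inr (Or.inr (Or.inl (⟨K, hK, hKc, hKs, hKq, heq⟩))))))))))))
  · exfalso
    rw [h10, hx, hy] at hab
    have : (x + x) * (y + y) = 4 * (x * y) := by ring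
    omega
  · exfalso
    rw [h10] at hab
    have h3 : a ≤ 3 := by nlinarith
    have : a = 3 := by omega
    subst this
    omega
  · exact Or.inr (Or.inr (Or.inr (Or.inr (Or.inr (Or.inr (Or.inr (Or.inr (Or.inr (Or.inr (Or.inr (Or.inr (Or.inl (⟨F₀, r, P, ζ, hr, hsub F₀ r P ζ hr hcard hζ hrat, hcard, hζ, hrat, heq⟩)))))))))))))
  · exact Or.inr (Or.inr (Or.inr (Or.inr (Or.inr (Or.inr (Or.inr (Or.inr (Or.inr (Or.inr (Or.inr (Or.inr (Or.inr (h)))))))))))))
  all_goals exfalso
  · have hW1 : W ≠ ⊤ := by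
      intro h
      have h0 : ∀ v, Q v = 0 := fun v => hts v (h ▸ Submodule.mem_top)
      obtain ⟨-, x, hx⟩ := hQ.nondegenerate (Pi.single 0 1) (by simp)
      exact hx (by simp [QuadraticMap.polar, h0])
    exact hW1 (eq_top_of_invariant hirr hW0 fun g hg v hv => ((heq.le hg).1 v).1 hv)
  · exact hW1 (eq_top_of_invariant hirr hW0 fun g hg v hv => ((heq.le hg).1 v).1 hv)
  · have hv0 : v ≠ 0 := fun h => hv (by rw [h, q_zero hQ])
    have := eq_top_of_invariant hirr (W := Submodule.span F {v}) (fun h => hv0 ((Submodule.eq_bot_iff _).1 h v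
      (Submodule.mem_span_singleton_self v))) fun g hg x hx => ((heq.le hg).1 x).1 hx
    have h' := congrArg (fun W : Submodule F (Fin 10 → F) => Module.finrank F W) this
    simp only [finrank_span_singleton hv0, finrank_top, Module.finrank_fintype_fun_eq_card, Fintype.card_fin] at h'
    omega

end Cfsg.Agent.S5850
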