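import Cfsg.Statements.S5870
import Cfsg.Agent.OrthEight96.SmallFive
import Cfsg.Agent.OrthEight96.NonsingularLine
import Cfsg.Agent.OrthEight96.RatSpread
import Cfsg.Agent.OrthGeo.Parabolic
import Cfsg.Agent.OrthGeo.RatSpread
import Cfsg.Agent.OrthGeo.NondegAny
import Cfsg.Agent.OrthGeo.DecompAll
import Cfsg.Agent.OrthGeo.SingularHalves
import Cfsg.Agent.OrthGeo.UnitaryNormalizer
import Cfsg.Agent.FormTensor89.SympTensor
import Cfsg.Agent.C3Max.OrthMatrix
import Cfsg.Agent.OrthFrame90.Base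

set_option autoImplicit false
open Cfsg

namespace Cfsg.Agent.S5870

/-- Maximal subgroups of Ω_12^+(q) of geometric type (any q). Let F be a finite field with q elements (characteristic p), Q a non-degenerate quadratic form on F^12 (non-degenerate polar form) of plus type (Witt index 6: some totally singular 6-space), and Ω = Ω_12^+(q) the commutator subgroup of the isometry group of Q, inside GL_12(F). Each of the following, intersected with Ω, is a maximal subgroup of Ω: (1) the stabiliser of any non-zero subspace on which Q vanishes identically other than those of dimension 5 (totally singular subspaces, dimensions 1, 2, 3, 4 and 6); (2) for q odd, the stabiliser of any subspace of odd dimension on which the polar form of Q is non-degenerate; (3) the stabiliser of any non-degenerate 2-space of minus type (containing no non-zero singular vector); (4) for q ≥ 4, the stabiliser of any non-degenerate 2-space of plus type (containing a non-zero singular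 vector); (5) the stabiliser of any non-degenerate 4-space (either type); (6) for q even, the stabiliser of the 1-space spanned by any non-singular vector v (Q(v) ≠ 0); (7) for q = p an odd prime, the stabiliser of any decomposition of F^12 into 12 pairwise orthogonal, pairwise Q-isometric non-degenerate 1-spaces; (8) for q ≥ 7, the stabiliser of any decomposition of F^12 into 6 pairwise orthogonal, pairwise Q-isometric non-degenerate 2-spaces of plus type; (9) for q ≠ 3, the stabiliser of any decomposition of F^12 into 6 pairwise orthogonal, pairwise Q-isometric non-degenerate 2-spaces of minus type; (10) for q odd with q ≥ 5, the stabiliser of any decomposition of F^12 into 4 pairwise orthogonal, pairwise Q-isometric non-degenerate 3-spaces; (11) for q ≥ 3, the stabiliser of any decomposition of F^12 into 3 pairwise orthogonal, pairwise Q-isometric non-degenerate 4-spaces; (12) the stabiliser of any decomposition of F^12 into 2 pairwise orthogonal, pairwise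 Q-isometric non-degenerate 6-spaces; (13) the stabiliser of any decomposition into two totally singular 6-spaces; (14) for q odd, the normaliser of any degree-2 subfield K of the matrix algebra whose elements are self-adjoint for the polar form of Q (Q is then the trace of a quadratic form over K); (15) for q odd, the normaliser of any degree-3 subfield K of the matrix algebra whose elements are self-adjoint for the polar form of Q (Q is then the trace of a quadratic form over K); (16) the normaliser of any degree-2 subfield K of the matrix algebra, closed under adjoints for the polar form but not self-adjoint, whose elements act as similarities of Q (so F^12 becomes a 6-dimensional space over K with a hermitian form, and the subgroup is of the type of the unitary group GU_6(q)); (17) for q ≥ 3, the stabiliser of any tensor decomposition F^12 = F^2 ⊗ F^6 in which the polar form of Q is (alternating form) ⊗ (alternating form) up to a scalar and Q vanishes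 on all pure tensors; (18) every subfield group for a subfield F₀ with |F| = |F₀|^r, r prime, whose F₀-structure carries a non-zero scalar multiple of Q. -/
theorem result {F : Type*} [Field F] [Fintype F] (Q : (Fin 12 → F) → F) (hQ : Cfsg.Geo.IsNondegenerateQuadraticForm Q) (hplus : Cfsg.Geo.IsPlusTypeOn Q ⊤) :
    (∀ W : Submodule F (Fin 12 → F), W ≠ ⊥ → Cfsg.Geo.IsTotallySingularQuad Q W → Module.finrank F W ≠ 5 → Cfsg.Geo.IsMaximalIn (Cfsg.Geo.omegaGL Q) (Cfsg.Geo.subspaceStabilizer W ⊓ Cfsg.Geo.omegaGL Q)) ∧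
    (Odd (Fintype.card F) → ∀ W : Submodule F (Fin 12 → F), W ≠ ⊥ → W ≠ ⊤ → Odd (Module.finrank F W) → 2 * Module.finrank F W ≠ 12 → Cfsg.Geo.IsNondegenerateOn (QuadraticMap.polar Q) W → Cfsg.Geo.IsMaximalIn (Cfsg.Geo.omegaGL Q) (Cfsg.Geo.subspaceStabilizer W ⊓ Cfsg.Geo.omegaGL Q)) ∧
    (∀ W : Submodule F (Fin 12 → F), Module.finrank F W = 2 → Cfsg.Geo.IsNondegenerateOn (QuadraticMap.polar Q) W → ¬ Cfsg.Geo.IsPlusTypeOn Q W → Cfsg.Geo.IsMaximalIn (Cfsg.Geo.omegaGL Q) (Cfsg.Geo.subspaceStabilizer W ⊓ Cfsg.Geo.omegaGL Q)) ∧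
    (4 ≤ Fintype.card F → ∀ W : Submodule F (Fin 12 → F), Module.finrank F W = 2 → Cfsg.Geo.IsNondegenerateOn (QuadraticMap.polar Q) W → Cfsg.Geo.IsPlusTypeOn Q W → Cfsg.Geo.IsMaximalIn (Cfsg.Geo.omegaGL Q) (Cfsg.Geo.subspaceStabilizer W ⊓ Cfsg.Geo.omegaGL Q)) ∧
    (∀ W : Submodule F (Fin 12 → F), Module.finrank F W = 4 → Cfsg.Geo.IsNondegenerateOn (QuadraticMap.polar Q) W → Cfsg.Geo.IsMaximalIn (Cfsg.Geo.omegaGL Q) (Cfsg.Geo.subspaceStabilizer W ⊓ Cfsg.Geo.omegaGL Q)) ∧
    (¬ Odd (Fintype.card F) → ∀ v : (Fin 12 → F), Q v ≠ 0 → Cfsg.Geo.IsMaximalIn (Cfsg.Geo.omegaGL Q) (Cfsg.Geo.subspaceStabilizer (Submodule.span F {v}) ⊓ Cfsg.Geo.omegaGL Q)) ∧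
    ((∃ p : ℕ, p.Prime ∧ Odd p ∧ Fintype.card F = p) → ∀ D : Fin 12 → Submodule F (Fin 12 → F), Cfsg.Geo.IsOrthogonalMDecomposition Q 1 D → Cfsg.Geo.IsMaximalIn (Cfsg.Geo.omegaGL Q) (Cfsg.Geo.decompositionStabilizer D ⊓ Cfsg.Geo.omegaGL Q)) ∧
    (7 ≤ Fintype.card F → ∀ D : Fin 6 → Submodule F (Fin 12 → F), Cfsg.Geo.IsOrthogonalMDecomposition Q 2 D → (∀ i, Cfsg.Geo.IsPlusTypeOn Q (D i)) → Cfsg.Geo.IsMaximalIn (Cfsg.Geo.omegaGL Q) (Cfsg.Geo.decompositionStabilizer D ⊓ Cfsg.Geo.omegaGL Q)) ∧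
    (Fintype.card F ≠ 3 → ∀ D : Fin 6 → Submodule F (Fin 12 → F), Cfsg.Geo.IsOrthogonalMDecomposition Q 2 D → (∀ i, ¬ Cfsg.Geo.IsPlusTypeOn Q (D i)) → Cfsg.Geo.IsMaximalIn (Cfsg.Geo.omegaGL Q) (Cfsg.Geo.decompositionStabilizer D ⊓ Cfsg.Geo.omegaGL Q)) ∧
    (Odd (Fintype.card F) ∧ 5 ≤ Fintype.card F → ∀ D : Fin 4 → Submodule F (Fin 12 → F), Cfsg.Geo.IsOrthogonalMDecomposition Q 3 D → Cfsg.Geo.IsMaximalIn (Cfsg.Geo.omegaGL Q) (Cfsg.Geo.decompositionStabilizer D ⊓ Cfsg.Geo.omegaGL Q)) ∧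
    (3 ≤ Fintype.card F → ∀ D : Fin 3 → Submodule F (Fin 12 → F), Cfsg.Geo.IsOrthogonalMDecomposition Q 4 D → Cfsg.Geo.IsMaximalIn (Cfsg.Geo.omegaGL Q) (Cfsg.Geo.decompositionStabilizer D ⊓ Cfsg.Geo.omegaGL Q)) ∧
    (∀ D : Fin 2 → Submodule F (Fin 12 → F), Cfsg.Geo.IsOrthogonalMDecomposition Q 6 D → Cfsg.Geo.IsMaximalIn (Cfsg.Geo.omegaGL Q) (Cfsg.Geo.decompositionStabilizer D ⊓ Cfsg.Geo.omegaGL Q)) ∧
    (∀ D : Fin 2 → Submodule F (Fin 12 → F), Cfsg.Geo.IsMDecomposition 6 D → (∀ i, Cfsg.Geo.IsTotallySingularQuad Q (D i)) → Cfsg.Geo.IsMaximalIn (Cfsg.Geo.omegaGL Q) (Cfsg.Geo.decompositionStabilizer D ⊓ Cfsg.Geo.omegaGL Q)) ∧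
    (Odd (Fintype.card F) → ∀ K : Subalgebra F (Matrix (Fin 12) (Fin 12) F), Cfsg.Geo.IsFieldSubalgebra 2 K → Cfsg.Geo.IsSelfAdjointFor (QuadraticMap.polar Q) K → Cfsg.Geo.IsMaximalIn (Cfsg.Geo.omegaGL Q) (Cfsg.Geo.subalgebraNormalizer K ⊓ Cfsg.Geo.omegaGL Q)) ∧
    (Odd (Fintype.card F) → ∀ K : Subalgebra F (Matrix (Fin 12) (Fin 12) F), Cfsg.Geo.IsFieldSubalgebra 3 K → Cfsg.Geo.IsSelfAdjointFor (QuadraticMap.polar Q) K → Cfsg.Geo.IsMaximalIn (Cfsg.Geo.omegaGL Q) (Cfsg.Geo.subalgebraNormalizer K ⊓ Cfsg.Geo.omegaGL Q)) ∧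
    (∀ K : Subalgebra F (Matrix (Fin 12) (Fin 12) F), Cfsg.Geo.IsFieldSubalgebra 2 K → Cfsg.Geo.IsAdjointClosedFor (QuadraticMap.polar Q) K → ¬ Cfsg.Geo.IsSelfAdjointFor (QuadraticMap.polar Q) K → (∀ k ∈ K, ∃ c : F, ∀ v : (Fin 12 → F), Q (Matrix.mulVec k v) = c * Q v) → Cfsg.Geo.IsMaximalIn (Cfsg.Geo.omegaGL Q) (Cfsg.Geo.subalgebraNormalizer K ⊓ Cfsg.Geo.omegaGL Q)) ∧
    (3 ≤ Fintype.card F → ∀ (e : Fin 12 ≃ Fin 2 × Fin 6) (P : Matrix.GeneralLinearGroup (Fin 12) F) (f₁ : (Fin 2 → F) → (Fin 2 → F) → F) (f₂ : (Fin 6 → F) → (Fin 6 → F) → F), Cfsg.Geo.IsSymplecticForm f₁ → Cfsg.Geo.IsSymplecticForm f₂ → Cfsg.Geo.IsTensorFormStructure id (QuadraticMap.polar Q) f₁ f₂ e P → (∀ (x₁ : Fin 2 → F) (x₂ : Fin 6 → F), Q (Matrix.mulVec (P : Matrix (Fin 12) (Fin 12) F) ((fun a : Fin 2 × Fin 6 => x₁ a.1 * x₂ a.2) ∘ e)) = 0) → Cfsg.Geo.IsMaximalIn (Cfsg.Geo.omegaGL Q) (Cfsg.Geo.tensorProductSubgroup 2 6 e P ⊓ Cfsg.Geo.omegaGL Q)) ∧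
    (∀ (F₀ : Subfield F) (r : ℕ) (P : Matrix.GeneralLinearGroup (Fin 12) F) (ζ : F), r.Prime → Fintype.card F = Nat.card F₀ ^ r → ζ ≠ 0 → Cfsg.Geo.IsQuadFormRationalStructure (fun v : Fin 12 → F => ζ * Q v) F₀ P → Cfsg.Geo.IsMaximalIn (Cfsg.Geo.omegaGL Q) (Cfsg.Geo.subfieldSubgroup F₀ P ⊓ Cfsg.Geo.omegaGL Q)) := by
  classical
  have hcard : Fintype.card (Fin 12) = 12 := Fintype.card_fin 12
  have hn5 : 5 ≤ Fintype.card (Fin 12) := by omega
  have hrad := fun {W : Submodule F (Fin 12 → F)} (h : Cfsg.Geo.IsNondegenerateOn (QuadraticMap.polar Q) W) =>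
    CfsgLib.OrthGeo.radical_free_of_nondegenerateOn hQ h
  have hsum := fun W : Submodule F (Fin 12 → F) => (CfsgLib.OrthGeo.finrank_perp_add hQ W).trans hcard
  have hperp : ∀ {W : Submodule F (Fin 12 → F)}, (∀ x ∈ W, x ∈ CfsgLib.OrthGeo.perp hQ W → x = 0) →
      ∀ x ∈ CfsgLib.OrthGeo.perp hQ W, x ∈ CfsgLib.OrthGeo.perp hQ (CfsgLib.OrthGeo.perp hQ W) → x = 0 :=
    fun h x hx hx' => h x (by rwa [CfsgLib.OrthGeo.perp_perp hQ] at hx') hx
  have h2of : Odd (Fintype.card F) → (2 : F) ≠ 0 := fun hodd h2 => by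
    haveI : CharP F 2 := (CharP.charP_iff_prime_eq_zero Nat.prime_two).2 (by exact_mod_cast h2)
    have h := FiniteField.even_card_of_char_two (ringChar.eq F 2)
    have := Nat.odd_iff.1 hodd
    omega
  -- subspaces smaller than their perp
  have small : ∀ W : Submodule F (Fin 12 → F), (∀ x ∈ W, x ∈ CfsgLib.OrthGeo.perp hQ W → x = 0) → W ≠ ⊥ →
      Module.finrank F W ≤ 5 →
      (Module.finrank F W = 2 → (∀ x ∈ W, Q x = 0 → x = 0) ∨ 4 ≤ Nat.card F) →
      Cfsg.Geo.IsMaximalIn (Cfsg.Geo.omegaGL Q) (Cfsg.Geo.subspaceStabilizer W ⊓ Cfsg.Geo.omegaGL Q) :=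
    fun W hW h0 h3 hex => CfsgLib.OrthEight96.nondeg_small_five_isMaximal hQ hW h0
      (by have := hsum W; omega) (by have := hsum W; omega) hex
  refine ⟨fun W hW0 hW h5 => ?_, fun hodd W hW0 hW1 hWo h2n hW => ?_, fun W hd hW hWm => ?_,
    fun hq W hd hW hWp => ?_, fun W hd hW => ?_, fun hev v hv => ?_, fun hp D hD => ?_, fun hq D hD hDp => ?_,
    fun hq D hD hDm => ?_, fun hq D hD => ?_, fun hq D hD => ?_, fun D hD => ?_, fun D hD hts => ?_,
    fun hodd K hK hsa => ?_, fun hodd K hK hsa => ?_, fun K hK hac hnsa hsc => ?_,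
    fun hq e P f₁ f₂ h1 h2 hT hpure => ?_, fun F₀ r P ζ hr hc hζ hP => ?_⟩
  · -- totally singular subspaces
    exact CfsgLib.OrthGeo.parabolic_isMaximal hQ hn5 W hW0 hW (fun u _ _ _ h => h5 (by omega))
  · -- odd dimension
    obtain ⟨k, hk⟩ := hWo
    have hlt : Module.finrank F W < 12 := by
      have h := Submodule.finrank_lt hW1
      rwa [Module.finrank_fintype_fun_eq_card, hcard] at h
    by_cases h3 : Module.finrank F W ≤ 5
    · exact small W (hrad hW) hW0 h3 (fun h => by omega)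
    · rw [← CfsgLib.OrthGeo.stab_perp_inf_omega hQ W]
      have := hsum W
      exact small _ (hperp (hrad hW)) (fun h => by rw [h, finrank_bot] at this; omega) (by omega) (fun h => by omega)
  · -- planes of minus type
    exact small W (hrad hW) (fun h => by rw [h, finrank_bot] at hd; omega) (by omega)
      (fun _ => Or.inl ((CfsgLib.OrthGeo.plane_aniso_or_plusType hQ hd).resolve_right hWm))
  · -- planes of plus type
    exact small W (hrad hW) (fun h => by rw [h, finrank_bot] at hd; omega) (by omega)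
      (fun _ => Or.inr (by rwa [Nat.card_eq_fintype_card]))
  · -- four-spaces
    exact small W (hrad hW) (fun h => by rw [h, finrank_bot] at hd; omega) (by omega) (fun h => by omega)
  · -- non-singular lines
    have h2 : (2 : F) = 0 := by
      by_contra h2
      refine hev (Nat.odd_iff.2 (FiniteField.odd_card_of_char_ne_two fun hch => h2 ?_))
      haveI : CharP F 2 := ringChar.of_eq hch
      exact CharTwo.two_eq_zero
    exact CfsgLib.OrthEight96.nonsingular_line_eight_isMaximal hQ h2 (by omega) hv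
  · -- frames
    obtain ⟨p, hp1, hp2, hp3⟩ := hp
    exact CfsgLib.OrthFrame90.frame_isMaximal hQ (by omega) (hp3 ▸ hp1) (hp3 ▸ hp2) hD
  · -- six planes of plus type
    exact CfsgLib.OrthGeo.two_isMaximal hQ hD hn5 (by omega) fun i => ⟨hD.decomp.decomp.finrank_eq i, Or.inl hq⟩
  · -- six planes of minus type
    refine CfsgLib.OrthGeo.two_isMaximal hQ hD hn5 (by omega) fun i => ⟨hD.decomp.decomp.finrank_eq i, ?_⟩
    by_cases h7 : 7 ≤ Fintype.card F
    · exact Or.inl h7
    have hpp : IsPrimePow (Fintype.card F) := FiniteField.isPrimePow_card F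
    have h1 := Fintype.one_lt_card (α := F)
    have h6 : Fintype.card F ≠ 6 := fun h => by
      rw [h, isPrimePow_nat_iff] at hpp
      obtain ⟨p, e, hp, he, hpe⟩ := hpp
      have hple : p ≤ 6 := Nat.le_of_dvd (by norm_num) ⟨p ^ (e - 1), by rw [← hpe, ← pow_succ']; congr 1; omega⟩
      interval_cases p <;> norm_num at hp
      all_goals (rcases e with _ | _ | _ | e <;> simp [pow_succ] at hpe; try omega)
    exact Or.inr ⟨by omega,
      (CfsgLib.OrthGeo.plane_aniso_or_plusType hQ (hD.decomp.decomp.finrank_eq i)).resolve_right (hDm i)⟩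
  · -- four three-spaces
    exact CfsgLib.OrthGeo.decomp_isMaximal hQ hD hn5 (h2of hq.1) le_rfl (Or.inl hq.2) (Or.inl le_rfl)
  · -- three four-spaces
    refine CfsgLib.OrthGeo.four_isMaximal hQ hD hn5 le_rfl (by omega)
      fun i => Or.inr ⟨by rw [hD.decomp.decomp.finrank_eq], fun _ h2 => absurd h2 (by omega)⟩
  · -- two six-spaces
    refine CfsgLib.OrthGeo.four_isMaximal hQ hD hn5 (by omega) le_rfl
      fun i => Or.inr ⟨by rw [hD.decomp.decomp.finrank_eq]; omega, fun h => absurd h (by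
        rw [hD.decomp.decomp.finrank_eq]; omega)⟩
  · -- two totally singular halves
    have hd := hD.finrank_eq
    have hU : ∀ i, CfsgLib.OrthGeo.IsMaxTS Q (D i) := fun i => ⟨hts i, by rw [hd, Fintype.card_fin]⟩
    have hmap : ∀ (g : Matrix.GeneralLinearGroup (Fin 12) F) (i j : Fin 2),
        (D i).map (Matrix.toLin' (g : Matrix (Fin 12) (Fin 12) F)) = D j ↔
          ∀ x ∈ D i, (g : Matrix (Fin 12) (Fin 12) F).mulVec x ∈ D j := by
      refine fun g i j => ⟨fun h x hx => h ▸ ⟨x, hx, Matrix.toLin'_apply _ x⟩, fun h => ?_⟩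
      refine Submodule.eq_of_le_of_finrank_le ?_ (by
        rw [(Submodule.equivMapOfInjective _ (CfsgLib.OrthGeo.toLin'_injective g) _).finrank_eq.symm, hd, hd])
      rintro _ ⟨x, hx, rfl⟩
      rw [Matrix.toLin'_apply]
      exact h x hx
    refine CfsgLib.OrthGeo.singularHalves_isMaximal hQ (hU 0) (hU 1) ?_ (by rw [hd]; omega) (by rw [hd]; decide) _
      fun g => ?_
    · refine eq_top_iff.2 (hD.iSup_eq_top ▸ iSup_le (Fin.forall_fin_two.2 ⟨le_sup_left, le_sup_right⟩))
    constructor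
    · rintro ⟨⟨σ, hσ⟩, hg⟩
      refine ⟨hg, ?_⟩
      by_cases h : σ 0 = 0
      · have h1 : σ 1 = 1 := by
          have := σ.injective.ne (show (1 : Fin 2) ≠ 0 by decide)
          omega
        exact Or.inl ⟨(hmap g 0 0).1 ((hσ 0).trans (by rw [h])), (hmap g 1 1).1 ((hσ 1).trans (by rw [h1]))⟩
      · have h0 : σ 0 = 1 := by omega
        have h1 : σ 1 = 0 := by
          have := σ.injective.ne (show (1 : Fin 2) ≠ 0 by decide)
          omega
        exact Or.inr ⟨(hmap g 0 1).1 ((hσ 0).trans (by rw [h0])), (hmap g 1 0).1 ((hσ 1).trans (by rw [h1]))⟩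
    · rintro ⟨hg, ⟨h0, h1⟩ | ⟨h0, h1⟩⟩
      · exact ⟨⟨1, Fin.forall_fin_two.2 ⟨(hmap g 0 0).2 h0, (hmap g 1 1).2 h1⟩⟩, hg⟩
      · exact ⟨⟨Equiv.swap 0 1, Fin.forall_fin_two.2
          ⟨by rw [Equiv.swap_apply_left]; exact (hmap g 0 1).2 h0,
           by rw [Equiv.swap_apply_right]; exact (hmap g 1 0).2 h1⟩⟩, hg⟩
  · -- extension field of degree two
    exact CfsgLib.C3Max.orth_normalizer_maximal_of hQ (h2of hodd) Nat.prime_two (by omega) (Or.inl (by omega))
      (fun h => by omega) (fun _ => Or.inl (by omega)) hK hsa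
  · -- extension field of degree three
    exact CfsgLib.C3Max.orth_normalizer_maximal_of hQ (h2of hodd) Nat.prime_three (by omega) (Or.inl (by omega))
      (fun h => by omega) (fun h => by omega) hK hsa
  · -- unitary type
    exact CfsgLib.OrthGeo.quadField_normalizer_isMaximal (by omega) Q hQ K hK hac hnsa hsc
  · -- symplectic tensor products
    exact CfsgLib.FormTensor89.symp_tensor_isMaximal hQ (by omega) (by omega)
      (fun h => by rw [Nat.card_eq_fintype_card] at h; omega) e P h1 h2 hT hpure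
  · -- subfield groups
    have h := CfsgLib.OrthEight96.qSubfield_isMaximal (F₀ := F₀) (P := P) (Q := fun v => ζ * Q v)
      ⟨CfsgLib.OrthGeo.nondeg_scale hζ hQ, fun v hv => by
        have h := hP _ hv
        rwa [CfsgLib.OrthGeo.mulVec_inv_cancel] at h⟩ (by omega) hr hc
    simpa only [CfsgLib.OrthGeo.SubO, CfsgLib.OrthGeo.omegaGL_scale hζ] using h

end Cfsg.Agent.S5870
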