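import Cfsg.Statements.S5871
import Cfsg.Agent.Aschbacher.OrthEvenCases
import Cfsg.Agent.Aschbacher.OrthEvenSmall
import Cfsg.Agent.Aschbacher.OrthEvenPlus
import Cfsg.Agent.Aschbacher.OrthPlusTwelve
import Cfsg.Agent.OrthGeo.PlusPlane
import Cfsg.Agent.OrthGeo.TensorTwoSymp

set_option autoImplicit false
open Cfsg

namespace Cfsg.Agent.S5871

open Matrix CfsgLib.Aschbacher CfsgLib.Aschbacher.OrthEven CfsgLib.Aschbacher.Reduction CfsgLib.Aschbacher.Centre CfsgLib.OrthGeo

/-- Every maximal subgroup of Ω_12^+(q) is of one of the listed geometric types or lies in the residual class. Let F be a finite field with q elements (characteristic p), Q a non-degenerate quadratic form on F^12 of plus type (Witt index 6: some totally singular 6-space), Ω the commutator subgroup of its isometry group, and H a maximal subgroup of Ω (inside GL_12(F)). Then H is the intersection with Ω of one of: the stabiliser of a non-zero totally singular subspace of dimension ≠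 5; for q odd, the stabiliser of a non-degenerate subspace of odd dimension; the stabiliser of a non-degenerate 2-space of minus type; for q ≥ 4, the stabiliser of a non-degenerate 2-space of plus type; the stabiliser of a non-degenerate 4-space; for q even, the stabiliser of the span of a non-singular vector; for q = p an odd prime, the stabiliser of a decomposition into 12 pairwise orthogonal, pairwise isometric non-degenerate 1-spaces; for q ≥ 7, the stabiliser of a decomposition into 6 pairwise orthogonal, pairwise isometric non-degenerate 2-spaces of plus type; for q ≠ 3, the stabiliser of a decomposition into 6 pairwise orthogonal, pairwise isometric non-degenerate 2-spaces of minus type; for q odd with q ≥ 5, the stabiliser of a decomposition into 4 pairwise orthogonal, pairwise isometric non-degenerate 3-spaces; for q ≥ 3, the stabiliser of a decomposition into 3 pairwise orthogonal, pairwise isometric non-degenerate 4-spaces; the stabiliser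 of a decomposition into 2 pairwise orthogonal, pairwise isometric non-degenerate 6-spaces; of a decomposition into two totally singular 6-spaces; the normaliser of a degree-2 subfield of the matrix algebra; the normaliser of a degree-3 subfield of the matrix algebra; the normaliser of a degree-2 subfield K, adjoint-closed but not self-adjoint, acting by similarities of Q; for q ≥ 3, the stabiliser of a tensor decomposition of Q into alternating forms on F^2 and F^6 (Q vanishing on pure tensors); a subfield group (|F| = |F₀|^r, r prime) whose F₀-structure carries a non-zero multiple of Q — or else H lies in the residual class of the orthogonal case (modulo scalars H is almost simple, with absolutely irreducible perfect socle preimage realisable over no proper subfield and fixing no non-degenerate unitary form). -/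
theorem result {F : Type*} [Field F] [Fintype F] (Q : (Fin 12 → F) → F) (hQ : Cfsg.Geo.IsNondegenerateQuadraticForm Q) (hplus : Cfsg.Geo.IsPlusTypeOn Q ⊤) (H : Subgroup (Matrix.GeneralLinearGroup (Fin 12) F)) (hH : Cfsg.Geo.IsMaximalIn (Cfsg.Geo.omegaGL Q) H) :
    (∃ W : Submodule F (Fin 12 → F), W ≠ ⊥ ∧ Cfsg.Geo.IsTotallySingularQuad Q W ∧ Module.finrank F W ≠ 5 ∧ H = Cfsg.Geo.subspaceStabilizer W ⊓ Cfsg.Geo.omegaGL Q) ∨
    (Odd (Fintype.card F) ∧ ∃ W : Submodule F (Fin 12 → F), W ≠ ⊥ ∧ W ≠ ⊤ ∧ Odd (Module.finrank F W) ∧ 2 * Module.finrank F W ≠ 12 ∧ Cfsg.Geo.IsNondegenerateOn (QuadraticMap.polar Q) W ∧ H = Cfsg.Geo.subspaceStabilizer W ⊓ Cfsg.Geo.omegaGL Q) ∨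
    (∃ W : Submodule F (Fin 12 → F), Module.finrank F W = 2 ∧ Cfsg.Geo.IsNondegenerateOn (QuadraticMap.polar Q) W ∧ ¬ Cfsg.Geo.IsPlusTypeOn Q W ∧ H = Cfsg.Geo.subspaceStabilizer W ⊓ Cfsg.Geo.omegaGL Q) ∨
    (4 ≤ Fintype.card F ∧ ∃ W : Submodule F (Fin 12 → F), Module.finrank F W = 2 ∧ Cfsg.Geo.IsNondegenerateOn (QuadraticMap.polar Q) W ∧ Cfsg.Geo.IsPlusTypeOn Q W ∧ H = Cfsg.Geo.subspaceStabilizer W ⊓ Cfsg.Geo.omegaGL Q) ∨
    (∃ W : Submodule F (Fin 12 → F), Module.finrank F W = 4 ∧ Cfsg.Geo.IsNondegenerateOn (QuadraticMap.polar Q) W ∧ H = Cfsg.Geo.subspaceStabilizer W ⊓ Cfsg.Geo.omegaGL Q) ∨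
    (¬ Odd (Fintype.card F) ∧ ∃ v : (Fin 12 → F), Q v ≠ 0 ∧ H = Cfsg.Geo.subspaceStabilizer (Submodule.span F {v}) ⊓ Cfsg.Geo.omegaGL Q) ∨
    ((∃ p : ℕ, p.Prime ∧ Odd p ∧ Fintype.card F = p) ∧ ∃ D : Fin 12 → Submodule F (Fin 12 → F), Cfsg.Geo.IsOrthogonalMDecomposition Q 1 D ∧ H = Cfsg.Geo.decompositionStabilizer D ⊓ Cfsg.Geo.omegaGL Q) ∨
    (7 ≤ Fintype.card F ∧ ∃ D : Fin 6 → Submodule F (Fin 12 → F), Cfsg.Geo.IsOrthogonalMDecomposition Q 2 D ∧ (∀ i, Cfsg.Geo.IsPlusTypeOn Q (D i)) ∧ H = Cfsg.Geo.decompositionStabilizer D ⊓ Cfsg.Geo.omegaGL Q) ∨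
    (Fintype.card F ≠ 3 ∧ ∃ D : Fin 6 → Submodule F (Fin 12 → F), Cfsg.Geo.IsOrthogonalMDecomposition Q 2 D ∧ (∀ i, ¬ Cfsg.Geo.IsPlusTypeOn Q (D i)) ∧ H = Cfsg.Geo.decompositionStabilizer D ⊓ Cfsg.Geo.omegaGL Q) ∨
    (Odd (Fintype.card F) ∧ 5 ≤ Fintype.card F ∧ ∃ D : Fin 4 → Submodule F (Fin 12 → F), Cfsg.Geo.IsOrthogonalMDecomposition Q 3 D ∧ H = Cfsg.Geo.decompositionStabilizer D ⊓ Cfsg.Geo.omegaGL Q) ∨
    (3 ≤ Fintype.card F ∧ ∃ D : Fin 3 → Submodule F (Fin 12 → F), Cfsg.Geo.IsOrthogonalMDecomposition Q 4 D ∧ H = Cfsg.Geo.decompositionStabilizer D ⊓ Cfsg.Geo.omegaGL Q) ∨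
    (∃ D : Fin 2 → Submodule F (Fin 12 → F), Cfsg.Geo.IsOrthogonalMDecomposition Q 6 D ∧ H = Cfsg.Geo.decompositionStabilizer D ⊓ Cfsg.Geo.omegaGL Q) ∨
    (∃ D : Fin 2 → Submodule F (Fin 12 → F), Cfsg.Geo.IsMDecomposition 6 D ∧ (∀ i, Cfsg.Geo.IsTotallySingularQuad Q (D i)) ∧ H = Cfsg.Geo.decompositionStabilizer D ⊓ Cfsg.Geo.omegaGL Q) ∨
    (∃ K : Subalgebra F (Matrix (Fin 12) (Fin 12) F), Cfsg.Geo.IsFieldSubalgebra 2 K ∧ H = Cfsg.Geo.subalgebraNormalizer K ⊓ Cfsg.Geo.omegaGL Q) ∨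
    (∃ K : Subalgebra F (Matrix (Fin 12) (Fin 12) F), Cfsg.Geo.IsFieldSubalgebra 3 K ∧ H = Cfsg.Geo.subalgebraNormalizer K ⊓ Cfsg.Geo.omegaGL Q) ∨
    (∃ K : Subalgebra F (Matrix (Fin 12) (Fin 12) F), Cfsg.Geo.IsFieldSubalgebra 2 K ∧ Cfsg.Geo.IsAdjointClosedFor (QuadraticMap.polar Q) K ∧ ¬ Cfsg.Geo.IsSelfAdjointFor (QuadraticMap.polar Q) K ∧ (∀ k ∈ K, ∃ c : F, ∀ v : (Fin 12 → F), Q (Matrix.mulVec k v) = c * Q v) ∧ H = Cfsg.Geo.subalgebraNormalizer K ⊓ Cfsg.Geo.omegaGL Q) ∨
    (3 ≤ Fintype.card F ∧ ∃ (e : Fin 12 ≃ Fin 2 × Fin 6) (P : Matrix.GeneralLinearGroup (Fin 12) F) (f₁ : (Fin 2 → F) → (Fin 2 → F) → F) (f₂ : (Fin 6 → F) → (Fin 6 → F) → F), Cfsg.Geo.IsSymplecticForm f₁ ∧ Cfsg.Geo.IsSymplecticForm f₂ ∧ Cfsg.Geo.IsTensorFormStructure id (QuadraticMap.polar Q) f₁ f₂ e P ∧ (∀ (x₁ : Fin 2 → F) (x₂ : Fin 6 → F), Q (Matrix.mulVec (P : Matrix (Fin 12) (Fin 12) F) ((fun a : Fin 2 × Fin 6 => x₁ a.1 * x₂ a.2) ∘ e)) = 0) ∧ H = Cfsg.Geo.tensorProductSubgroup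 2 6 e P ⊓ Cfsg.Geo.omegaGL Q) ∨
    (∃ (F₀ : Subfield F) (r : ℕ) (P : Matrix.GeneralLinearGroup (Fin 12) F) (ζ : F), r.Prime ∧ Fintype.card F = Nat.card F₀ ^ r ∧ ζ ≠ 0 ∧ Cfsg.Geo.IsQuadFormRationalStructure (fun v : Fin 12 → F => ζ * Q v) F₀ P ∧ H = Cfsg.Geo.subfieldSubgroup F₀ P ⊓ Cfsg.Geo.omegaGL Q) ∨
    Cfsg.Geo.InOrthogonalResidualClass H := by
  classical
  have hn : 7 ≤ Fintype.card (Fin 12) := by simp
  have hI : H ≤ Cfsg.isometryGroup F Q := hH.1.le.trans omegaGL_le
  by_cases hirr : Geo.ActsIrreducibly (Geo.matrixSet H)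
  swap
  · rcases reducible_three hQ hn hH hirr with ⟨W, hW0, hts, heq⟩ | ⟨W, hW0, hW1, hW, hd, hodd, heq⟩ | h
    · by_cases h5 : Module.finrank F W = 5
      · obtain ⟨U, hU, hle⟩ := exists_maxTS_stable hQ hplus hts (by rw [h5, Fintype.card_fin])
        have hU6 : Module.finrank F U = 6 := by
          have := hU.two_mul
          simp only [Fintype.card_fin] at this
          omega
        refine Or.inl (⟨U, fun h => ?_, hU.singular, by omega, eq_inf_of_le hH (heq.le.trans hle) (not_le_subspace hQ hn (fun h => ?_) fun h => ?_)⟩)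
        all_goals
          rw [h] at hU6
          simp at hU6
      · exact Or.inl (⟨W, hW0, hts, h5, heq⟩)
    · rw [Fintype.card_fin] at hd
      have h0 : 0 < Module.finrank F W := Nat.pos_of_ne_zero fun h => hW0 (Submodule.finrank_eq_zero.1 h)
      rcases Nat.even_or_odd (Module.finrank F W) with he | ho
      swap
      · exact Or.inr (Or.inl (⟨hodd ho, W, hW0, hW1, ho, (fun h => by rw [show Module.finrank F W = 6 by omega] at ho; exact absurd ho (by decide)), hW, heq⟩))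
      obtain ⟨c, hc⟩ := he
      obtain h2 | h4 | h6 : Module.finrank F W = 2 ∨ Module.finrank F W = 4 ∨ Module.finrank F W = 6 := by omega
      · by_cases hp : Geo.IsPlusTypeOn Q W
        · by_cases hq : 4 ≤ Fintype.card F
          · exact Or.inr (Or.inr (Or.inr (Or.inl (⟨hq, W, h2, hW, hp, heq⟩))))
          · obtain ⟨K, hK1, hK2⟩ := plus_plane_not_maximal hQ hn (by omega) W h2 hW hp
            exact (not_strictly_between hH heq hK1 hK2).elim
        · exact Or.inr (Or.inr (Or.inl (⟨W, h2, hW, hp, heq⟩)))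
      · exact Or.inr (Or.inr (Or.inr (Or.inr (Or.inl (⟨W, h4, hW, heq⟩)))))
      · have hp6 : Module.finrank F (perp hQ W) = 6 := by
          have := finrank_perp_add hQ W
          simp only [Fintype.card_fin] at this
          omega
        have hiso := isometric_perp hQ hplus hW ⟨c, hc⟩ (by rw [h6, Fintype.card_fin])
        have hinf : W ⊓ perp hQ W = ⊥ := by
          rw [Submodule.eq_bot_iff]
          rintro x ⟨hx, hx'⟩
          by_contra hx0
          obtain ⟨⟨y, hy, hyx⟩, -⟩ := hW x hx hx0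
          exact hyx ((mem_perp hQ).1 hx' y hy)
        let D : Fin 2 → Submodule F (Fin 12 → F) := ![W, perp hQ W]
        have hD : Geo.IsOrthogonalMDecomposition Q 6 D := by
          refine ⟨⟨⟨le_rfl, by norm_num, Fin.forall_fin_two.2 ⟨h6, hp6⟩, ?_, ?_⟩,
            Fin.forall_fin_two.2 ⟨hW, CfsgLib.AschPrime.orth_perp_nondeg hQ hW⟩,
            Fin.forall_fin_two.2 ⟨Fin.forall_fin_two.2 ⟨fun h => absurd rfl h, fun _ u hu v hv => ?_⟩,
              Fin.forall_fin_two.2 ⟨fun _ u hu v hv => ?_, fun h => absurd rfl h⟩⟩⟩,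
            Fin.forall_fin_two.2 ⟨Fin.forall_fin_two.2 ⟨⟨LinearEquiv.refl F _, fun _ => rfl⟩, hiso⟩,
              Fin.forall_fin_two.2 ⟨?_, ⟨LinearEquiv.refl F _, fun _ => rfl⟩⟩⟩⟩
          · rw [iSupIndep_pair (i := 0) (j := 1) (by decide) (by decide)]
            exact disjoint_iff.2 hinf
          · rw [eq_top_iff, ← CfsgLib.AschPrime.orth_sup_eq_top hQ hW]
            exact sup_le (le_iSup D 0) (le_iSup D 1)
          · exact (mem_perp hQ).1 hv u hu
          · exact (b_symm hQ u v).trans ((mem_perp hQ).1 hu v hv)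
          · show Geo.AreIsometricFor Q (perp hQ W) W
            obtain ⟨φ, hφ⟩ := hiso
            exact ⟨φ.symm, fun w => by rw [← hφ (φ.symm w), LinearEquiv.apply_symm_apply]⟩
        have hle : H ≤ Geo.decompositionStabilizer D := by
          intro g hg
          have hW' : g ∈ Geo.subspaceStabilizer W := (heq.le hg).1
          have key : ∀ V : Submodule F (Fin 12 → F), g ∈ Geo.subspaceStabilizer V →
              V.map (Matrix.toLin' (g : Matrix (Fin 12) (Fin 12) F)) = V := fun V hV => by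
            refine Submodule.eq_of_le_of_finrank_eq ?_
              (Submodule.equivMapOfInjective _ (CfsgLib.OrthGeo.toLin'_injective g) V).finrank_eq.symm
            rintro _ ⟨v, hv, rfl⟩
            rw [Matrix.toLin'_apply]
            exact (hV v).1 hv
          exact ⟨1, Fin.forall_fin_two.2 ⟨key W hW', key _ (CfsgLib.AschPrime.stabilizer_perp hQ (hI hg) hW')⟩⟩
        exact Or.inr (Or.inr (Or.inr (Or.inr (Or.inr (Or.inr (Or.inr (Or.inr (Or.inr (Or.inr (Or.inr (Or.inl (⟨D, hD, eq_inf_of_le hH hle (not_le_decompositionStabilizer hQ hn hD.decomp.decomp)⟩))))))))))))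
    · exact Or.inr (Or.inr (Or.inr (Or.inr (Or.inr (Or.inl (h))))))
  rcases orth_even_composite hQ hn hH
    (fun r k hr h => by
      rw [Fintype.card_fin] at h
      have h2 := (Nat.prime_dvd_prime_iff_eq Nat.prime_two hr).1 (Nat.prime_two.dvd_of_dvd_pow (h ▸ by norm_num : 2 ∣ r ^ k))
      have h3 := (Nat.prime_dvd_prime_iff_eq Nat.prime_three hr).1 (Nat.prime_three.dvd_of_dvd_pow (h ▸ by norm_num : 3 ∣ r ^ k))
      omega)
    (fun d k hk h => by
      rw [Fintype.card_fin] at h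
      have hd : d ≤ 3 := by
        by_contra hd
        have := Nat.pow_le_pow_left (show 4 ≤ d by omega) k
        have := Nat.pow_le_pow_right (show 0 < 4 by norm_num) hk
        omega
      have hk4 : d ^ k = 12 := h.symm
      interval_cases d
      · rw [zero_pow (by omega)] at hk4; omega
      · rw [one_pow] at hk4; omega
      · have h' : 3 ∣ 2 ^ k := by rw [hk4]; norm_num
        exact absurd (Nat.prime_three.dvd_of_dvd_pow h') (by norm_num)
      · have h' : 2 ∣ 3 ^ k := by rw [hk4]; norm_num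
        exact absurd (Nat.prime_two.dvd_of_dvd_pow h') (by norm_num)) with
    ⟨W, hW0, hts, heq⟩ | ⟨W, hW0, hW1, -, -, -, heq⟩ | ⟨-, v, hv, heq⟩ | ⟨t, k, D, htk, ht, hodd, hD, heq⟩ |
      ⟨k, D, hD, hk, hts, heq⟩ | ⟨r, K, hr, hrn, hK, -, heq⟩ | ⟨K, hK, hKc, hKs, hKq, heq⟩ |
      ⟨a, b, e, P, f₁, f₂, ha, hb, hae, hbe, hab, hf₁, hf₂, hT, hpure, heq⟩ |
      ⟨hq, a, b, e, P, f₁, f₂, ha, hb, hab, hf₁, hf₂, hT, heq⟩ | h | h
  -- stabilisers of proper subspaces are reducible
  rotate_left 3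
  · rw [Fintype.card_fin] at htk
    have hle : H ≤ Geo.decompositionStabilizer D := heq.le.trans inf_le_left
    have hcard : Fintype.card (Fin 12) = 12 := Fintype.card_fin 12
    have htk' : t * k = Fintype.card (Fin 12) := by rw [htk, hcard]
    have hkd : k ∣ 12 := ⟨t, by rw [← htk, mul_comm]⟩
    have hk12 : k ≤ 6 := by nlinarith
    have hkp : 0 < k := hD.decomp.decomp.pos
    have hq3 : Odd (Fintype.card F) → Fintype.card F ≠ 3 → 5 ≤ Fintype.card F := fun ⟨m, hm⟩ h => by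
      have := Fintype.one_lt_card (α := F)
      omega
    interval_cases k <;> first | omega | skip
    · obtain rfl : t = 12 := by omega
      rcases lines_frame hQ hn hH hD hle htk' rfl (two_ne_zero_of_odd_card (hodd odd_one)) hcard with h | h
      · exact Or.inr (Or.inr (Or.inr (Or.inr (Or.inr (Or.inr (Or.inl (h)))))))
      · exact Or.inr (Or.inr (Or.inr (Or.inr (Or.inr (Or.inr (Or.inr (Or.inr (Or.inr (Or.inr (Or.inr (Or.inr (Or.inr (Or.inr (Or.inr (Or.inr (Or.inr (Or.inl (h))))))))))))))))))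
    · obtain rfl : t = 6 := by omega
      by_cases hp : Geo.IsPlusTypeOn Q (D 0)
      · have hall : ∀ j, Geo.IsPlusTypeOn Q (D j) := fun j => plus_of_isometric (hD.isometric 0 j) hp
        obtain hq | hq | hq | hq | hq : Fintype.card F ≤ 3 ∨ Fintype.card F = 4 ∨ Fintype.card F = 5 ∨
            Fintype.card F = 6 ∨ 7 ≤ Fintype.card F := by omega
        · exact (plus_planes_false hQ hn hH hD hle htk' hirr rfl hq hall).elim
        · exact Or.inr (Or.inr (Or.inr (Or.inr (Or.inr (Or.inr (Or.inr (Or.inr (Or.inr (Or.inr (Or.inr (Or.inr (Or.inr (Or.inr (Or.inr (Or.inr (Or.inr (Or.inl (plus_planes_four hQ hn hH hD hle htk' rfl hq hall))))))))))))))))))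
        · rcases plus_planes_five hQ hn hH hD hle htk' rfl hq hall hcard with h | h
          · exact Or.inr (Or.inr (Or.inr (Or.inr (Or.inr (Or.inr (Or.inl (h)))))))
          · exact Or.inr (Or.inr (Or.inr (Or.inr (Or.inr (Or.inr (Or.inr (Or.inr (Or.inr (Or.inr (Or.inr (Or.inr (Or.inr (Or.inr (Or.inr (Or.inr (Or.inr (Or.inl (h))))))))))))))))))
        · obtain ⟨p, -, m, hp, hpm⟩ := FiniteField.card' F
          rw [hq] at hpm
          have h2 := (Nat.prime_dvd_prime_iff_eq Nat.prime_two hp).1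
            (Nat.prime_two.dvd_of_dvd_pow (hpm ▸ by norm_num : 2 ∣ p ^ (m : ℕ)))
          have h3 := (Nat.prime_dvd_prime_iff_eq Nat.prime_three hp).1
            (Nat.prime_three.dvd_of_dvd_pow (hpm ▸ by norm_num : 3 ∣ p ^ (m : ℕ)))
          omega
        · exact Or.inr (Or.inr (Or.inr (Or.inr (Or.inr (Or.inr (Or.inr (Or.inl (⟨hq, D, hD, hall, heq⟩))))))))
      · have hall : ∀ j, ¬ Geo.IsPlusTypeOn Q (D j) := fun j h => hp (plus_of_isometric (hD.isometric j 0) h)
        by_cases hq : Fintype.card F = 3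
        · rcases minus_planes_three hQ hn hH hD hle htk' rfl hq hall hcard with h | h
          · exact Or.inr (Or.inr (Or.inr (Or.inr (Or.inr (Or.inr (Or.inl (h)))))))
          · exact Or.inr (Or.inr (Or.inr (Or.inr (Or.inr (Or.inr (Or.inr (Or.inr (Or.inr (Or.inr (Or.inr (Or.inr (Or.inr (Or.inr (Or.inr (Or.inr (Or.inr (Or.inl (h))))))))))))))))))
        · exact Or.inr (Or.inr (Or.inr (Or.inr (Or.inr (Or.inr (Or.inr (Or.inr (Or.inl (⟨hq, D, hD, hall, heq⟩)))))))))
    · obtain rfl : t = 4 := by omega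
      by_cases hq : Fintype.card F = 3
      · rcases three_spaces_three hQ hn hH hD hle htk' rfl hq hcard with h | h
        · exact Or.inr (Or.inr (Or.inr (Or.inr (Or.inr (Or.inr (Or.inl (h)))))))
        · exact Or.inr (Or.inr (Or.inr (Or.inr (Or.inr (Or.inr (Or.inr (Or.inr (Or.inr (Or.inr (Or.inr (Or.inr (Or.inr (Or.inr (Or.inr (Or.inr (Or.inr (Or.inl (h))))))))))))))))))
      · exact Or.inr (Or.inr (Or.inr (Or.inr (Or.inr (Or.inr (Or.inr (Or.inr (Or.inr (Or.inl (⟨hodd (by decide), hq3 (hodd (by decide)) hq, D, hD, heq⟩))))))))))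
    · obtain rfl : t = 3 := by omega
      by_cases hq : 3 ≤ Fintype.card F
      · exact Or.inr (Or.inr (Or.inr (Or.inr (Or.inr (Or.inr (Or.inr (Or.inr (Or.inr (Or.inr (Or.inl (⟨hq, D, hD, heq⟩)))))))))))
      have hq2 : Fintype.card F = 2 := by
        have := Fintype.one_lt_card (α := F)
        omega
      -- two blocks form a plus type space, so the third is plus
      have hp2 : Geo.IsPlusTypeOn Q (D 2) := by
        obtain ⟨U, hU, hts, hUd⟩ := pieceTS_pair hQ hD (by decide) (i := 0) (j := 1) (by decide)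
        have hper : Geo.IsPlusTypeOn Q (perp hQ (D 2)) := by
          refine ⟨U, hU.trans (Finset.sup_le fun i hi x hx => (mem_perp hQ).2 fun y hy =>
            hD.decomp.orthogonal 2 i (fun h => ?_) y hy x hx), hts, ?_⟩
          · subst h; revert hi; decide
          · have := finrank_perp_add hQ (D 2)
            simp only [hD.decomp.decomp.finrank_eq, hcard] at this
            omega
        have := plus_perp hQ hplus (CfsgLib.AschPrime.orth_perp_nondeg hQ (hD.decomp.nondegenerate 2)) hper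
        rwa [perp_perp hQ] at this
      obtain ⟨D', hD', hnp, heq'⟩ := four_spaces_two hQ hn hH hD hle htk' rfl hirr hq2
        fun i => plus_of_isometric (hD.isometric 2 i) hp2
      exact Or.inr (Or.inr (Or.inr (Or.inr (Or.inr (Or.inr (Or.inr (Or.inr (Or.inl (⟨by omega, D', hD', hnp, heq'⟩)))))))))
    · obtain rfl : t = 2 := by omega
      exact Or.inr (Or.inr (Or.inr (Or.inr (Or.inr (Or.inr (Or.inr (Or.inr (Or.inr (Or.inr (Or.inr (Or.inl (⟨D, hD, heq⟩))))))))))))
  · rw [Fintype.card_fin] at hk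
    obtain rfl : k = 6 := by omega
    exact Or.inr (Or.inr (Or.inr (Or.inr (Or.inr (Or.inr (Or.inr (Or.inr (Or.inr (Or.inr (Or.inr (Or.inr (Or.inl (⟨D, hD, hts, heq⟩)))))))))))))
  · rw [Fintype.card_fin] at hrn
    have hr23 : r = 2 ∨ r = 3 := by
      rcases (Nat.Prime.dvd_mul hr).1 (show r ∣ 2 ^ 2 * 3 from hrn) with h | h
      · exact Or.inl ((Nat.prime_dvd_prime_iff_eq hr Nat.prime_two).1 (hr.dvd_of_dvd_pow h))
      · exact Or.inr ((Nat.prime_dvd_prime_iff_eq hr Nat.prime_three).1 h)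
    rcases hr23 with rfl | rfl
    · exact Or.inr (Or.inr (Or.inr (Or.inr (Or.inr (Or.inr (Or.inr (Or.inr (Or.inr (Or.inr (Or.inr (Or.inr (Or.inr (Or.inl (⟨K, hK, heq⟩))))))))))))))
    · exact Or.inr (Or.inr (Or.inr (Or.inr (Or.inr (Or.inr (Or.inr (Or.inr (Or.inr (Or.inr (Or.inr (Or.inr (Or.inr (Or.inr (Or.inl (⟨K, hK, heq⟩)))))))))))))))
  · exact Or.inr (Or.inr (Or.inr (Or.inr (Or.inr (Or.inr (Or.inr (Or.inr (Or.inr (Or.inr (Or.inr (Or.inr (Or.inr (Or.inr (Or.inr (Or.inl (⟨K, hK, hKc, hKs, hKq, heq⟩))))))))))))))))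
  · rw [Fintype.card_fin] at hab
    obtain ⟨e', g₁, g₂, hg₁, hg₂, hT', hpure', heq'⟩ : ∃ (e' : Fin 12 ≃ Fin 2 × Fin 6)
        (g₁ : (Fin 2 → F) → (Fin 2 → F) → F) (g₂ : (Fin 6 → F) → (Fin 6 → F) → F),
        Geo.IsSymplecticForm g₁ ∧ Geo.IsSymplecticForm g₂ ∧
        Geo.IsTensorFormStructure id (QuadraticMap.polar Q) g₁ g₂ e' P ∧
        (∀ (x₁ : Fin 2 → F) (x₂ : Fin 6 → F), Q ((P : Matrix (Fin 12) (Fin 12) F) *ᵥ
          ((fun p : Fin 2 × Fin 6 => x₁ p.1 * x₂ p.2) ∘ e')) = 0) ∧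
        H = Geo.tensorProductSubgroup 2 6 e' P ⊓ Geo.omegaGL Q := by
      obtain ⟨c, hc⟩ := hae
      obtain ⟨d, hd⟩ := hbe
      have hc6 : a = 2 ∨ b = 2 := by
        by_contra! hne
        have := Nat.mul_le_mul (show 4 ≤ a by omega) (show 4 ≤ b by omega)
        omega
      rcases hc6 with rfl | rfl
      · obtain rfl : b = 6 := by omega
        exact ⟨e, f₁, f₂, hf₁, hf₂, hT, hpure, heq⟩
      · obtain rfl : a = 6 := by omega
        refine ⟨_, f₂, f₁, hf₂, hf₁, Forms.isTensorFormStructure_swap hT, fun x₁ x₂ => ?_,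
          heq.trans (congrArg (· ⊓ Geo.omegaGL Q) (le_antisymm (tensorProductSubgroup_comm e P)
            ((tensorProductSubgroup_comm _ P).trans (le_of_eq (by congr 1)))))⟩
        rw [← hpure x₂ x₁]
        congr 2
        funext i
        simp [mul_comm]
    refine Or.inr (Or.inr (Or.inr (Or.inr (Or.inr (Or.inr (Or.inr (Or.inr (Or.inr (Or.inr (Or.inr (Or.inr (Or.inr (Or.inr (Or.inr (Or.inr (Or.inl (⟨?_, e', P, g₁, g₂, hg₁, hg₂, hT', hpure', heq'⟩)))))))))))))))))
    by_contra hq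
    have hq2 : Fintype.card F = 2 := by
      have := Fintype.one_lt_card (α := F)
      omega
    obtain ⟨K, hK1, hK2⟩ := tensor_two_symplectic_not_maximal hq2 hQ (by simp) (by norm_num) e' P g₁ g₂ hg₁ hg₂
      hT' hpure'
    exact not_strictly_between hH heq' hK1 hK2
  · rw [Fintype.card_fin] at hab
    have h2 : (2 : F) ≠ 0 := two_ne_zero_of_odd_card hq
    obtain ⟨e', f, g, hf, hg, hT', hle'⟩ : ∃ (e' : Fin 12 ≃ Fin 3 × Fin 4) (f : (Fin 3 → F) → (Fin 3 → F) → F)
        (g : (Fin 4 → F) → (Fin 4 → F) → F), Geo.IsSymmetricForm f ∧ Geo.IsSymmetricForm g ∧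
        Geo.IsTensorFormStructure id (QuadraticMap.polar Q) f g e' P ∧
        H ≤ Geo.tensorProductSubgroup 3 4 e' P := by
      have ha4 : a ≤ 4 := by nlinarith
      interval_cases a
      · obtain rfl : b = 4 := by omega
        exact ⟨e, f₁, f₂, hf₁, hf₂, hT, heq.le.trans inf_le_left⟩
      · obtain rfl : b = 3 := by omega
        exact ⟨_, f₂, f₁, hf₂, hf₁, Forms.isTensorFormStructure_swap hT,
          (heq.le.trans inf_le_left).trans (tensorProductSubgroup_comm e P)⟩
    obtain ⟨e₂, P₂, g₁, g₂, hg₁, hg₂, hT₂, hpure₂, hle₂⟩ := OrthPlusTwelve.exists_two_six hQ h2 hH.1.le hf hg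
      (OrthPlusTwelve.factor_plus hQ h2 hplus hf hg hT') hT' hle'
    refine Or.inr (Or.inr (Or.inr (Or.inr (Or.inr (Or.inr (Or.inr (Or.inr (Or.inr (Or.inr (Or.inr (Or.inr (Or.inr (Or.inr (Or.inr (Or.inr (Or.inl (⟨?_, e₂, P₂, g₁, g₂, hg₁, hg₂, hT₂, hpure₂, eq_inf_of_le hH hle₂ (not_le_tensorProductSubgroup hQ hn le_rfl (by norm_num) e₂ P₂)⟩)))))))))))))))))
    have := Fintype.one_lt_card (α := F)
    obtain ⟨m, hm⟩ := hq
    omega
  · exact Or.inr (Or.inr (Or.inr (Or.inr (Or.inr (Or.inr (Or.inr (Or.inr (Or.inr (Or.inr (Or.inr (Or.inr (Or.inr (Or.inr (Or.inr (Or.inr (Or.inr (Or.inl (h))))))))))))))))))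
  · exact Or.inr (Or.inr (Or.inr (Or.inr (Or.inr (Or.inr (Or.inr (Or.inr (Or.inr (Or.inr (Or.inr (Or.inr (Or.inr (Or.inr (Or.inr (Or.inr (Or.inr (Or.inr (h))))))))))))))))))
  all_goals exfalso
  · have hW1 : W ≠ ⊤ := by
      intro h
      have h0 : ∀ v, Q v = 0 := fun v => hts v (h ▸ Submodule.mem_top)
      obtain ⟨-, x, hx⟩ := hQ.nondegenerate (Pi.single 0 1) (by simp)
      exact hx (by simp [QuadraticMap.polar, h0])
    exact hW1 (eq_top_of_invariant hirr hW0 fun g hg v hv => ((heq.le hg).1 v).1 hv)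
  · exact hW1 (eq_top_of_invariant hirr hW0 fun g hg v hv => ((heq.le hg).1 v).1 hv)
  · have hv0 : v ≠ 0 := fun h => hv (by rw [h, q_zero hQ])
    have := eq_top_of_invariant hirr (W := Submodule.span F {v}) (fun h => hv0 ((Submodule.eq_bot_iff _).1 h v
      (Submodule.mem_span_singleton_self v))) fun g hg x hx => ((heq.le hg).1 x).1 hx
    have h' := congrArg (fun W : Submodule F (Fin 12 → F) => Module.finrank F W) this
    simp only [finrank_span_singleton hv0, finrank_top, Module.finrank_fintype_fun_eq_card, Fintype.card_fin] at h'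
    omega

end Cfsg.Agent.S5871
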