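import Cfsg.Statements.S5873
import Cfsg.Agent.OrthEight96.SmallFive
import Cfsg.Agent.OrthEight96.NonsingularLine
import Cfsg.Agent.OrthEight96.RatSpread
import Cfsg.Agent.OrthGeo.Parabolic
import Cfsg.Agent.OrthGeo.NondegAny
import Cfsg.Agent.OrthGeo.DecompAll
import Cfsg.Agent.OrthGeo.RatSpread
import Cfsg.Agent.C3Max.OrthMatrix
import Cfsg.Agent.OTensor90.Instance

set_option autoImplicit false
open Cfsg

namespace Cfsg.Agent.S5873

/-- Maximal subgroups of Ω_12^-(q) of geometric type (any q). Let F be a finite field with q elements (characteristic p), Q a non-degenerate quadratic form on F^12 (non-degenerate polar form) of minus type (Witt index 5: no totally singular 6-space), and Ω = Ω_12^-(q) the commutator subgroup of the isometry group of Q, inside GL_12(F). Each of the following, intersected with Ω, is a maximal subgroup of Ω: (1) the stabiliser of any non-zero subspace on which Q vanishes identically (totally singular subspaces, dimensions 1 to 5); (2) for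 q odd, the stabiliser of any subspace of odd dimension on which the polar form of Q is non-degenerate; (3) the stabiliser of any non-degenerate 2-space of minus type (containing no non-zero singular vector); (4) for q ≥ 4, the stabiliser of any non-degenerate 2-space of plus type (containing a non-zero singular vector); (5) the stabiliser of any non-degenerate 4-space (either type); (6) the stabiliser of any non-degenerate 6-space (either type); (7) for q even, the stabiliser of the 1-space spanned by any non-singular vector v (Q(v) ≠ 0); (8) the stabiliser of any decomposition of F^12 into 3 pairwise orthogonal, pairwise Q-isometric non-degenerate 4-spaces of minus type; (9) for q odd, the normaliser of any degree-2 subfield K of the matrix algebra whose elements are self-adjoint for the polar form of Q (Q is then the trace of a quadratic form over K); (10) for q odd, the normaliser of any degree-3 subfield K of the matrix algebra whose elements are self-adjoint for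 the polar form of Q (Q is then the trace of a quadratic form over K); (11) for q odd with q ≥ 5, the stabiliser of any tensor decomposition F^12 = F^3 ⊗ F^4 in which the polar form of Q is the product of non-degenerate symmetric bilinear forms, the second of minus type, up to a scalar; (12) every subfield group for a subfield F₀ with |F| = |F₀|^r, r an odd prime, whose F₀-structure carries a non-zero scalar multiple of Q. -/
theorem result {F : Type*} [Field F] [Fintype F] (Q : (Fin 12 → F) → F) (hQ : Cfsg.Geo.IsNondegenerateQuadraticForm Q) (hminus : ¬ Cfsg.Geo.IsPlusTypeOn Q ⊤) :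
    (∀ W : Submodule F (Fin 12 → F), W ≠ ⊥ → Cfsg.Geo.IsTotallySingularQuad Q W → Cfsg.Geo.IsMaximalIn (Cfsg.Geo.omegaGL Q) (Cfsg.Geo.subspaceStabilizer W ⊓ Cfsg.Geo.omegaGL Q)) ∧
    (Odd (Fintype.card F) → ∀ W : Submodule F (Fin 12 → F), W ≠ ⊥ → W ≠ ⊤ → Odd (Module.finrank F W) → 2 * Module.finrank F W ≠ 12 → Cfsg.Geo.IsNondegenerateOn (QuadraticMap.polar Q) W → Cfsg.Geo.IsMaximalIn (Cfsg.Geo.omegaGL Q) (Cfsg.Geo.subspaceStabilizer W ⊓ Cfsg.Geo.omegaGL Q)) ∧
    (∀ W : Submodule F (Fin 12 → F), Module.finrank F W = 2 → Cfsg.Geo.IsNondegenerateOn (QuadraticMap.polar Q) W → ¬ Cfsg.Geo.IsPlusTypeOn Q W → Cfsg.Geo.IsMaximalIn (Cfsg.Geo.omegaGL Q) (Cfsg.Geo.subspaceStabilizer W ⊓ Cfsg.Geo.omegaGL Q)) ∧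
    (4 ≤ Fintype.card F → ∀ W : Submodule F (Fin 12 → F), Module.finrank F W = 2 → Cfsg.Geo.IsNondegenerateOn (QuadraticMap.polar Q) W → Cfsg.Geo.IsPlusTypeOn Q W → Cfsg.Geo.IsMaximalIn (Cfsg.Geo.omegaGL Q) (Cfsg.Geo.subspaceStabilizer W ⊓ Cfsg.Geo.omegaGL Q)) ∧
    (∀ W : Submodule F (Fin 12 → F), Module.finrank F W = 4 → Cfsg.Geo.IsNondegenerateOn (QuadraticMap.polar Q) W → Cfsg.Geo.IsMaximalIn (Cfsg.Geo.omegaGL Q) (Cfsg.Geo.subspaceStabilizer W ⊓ Cfsg.Geo.omegaGL Q)) ∧
    (∀ W : Submodule F (Fin 12 → F), Module.finrank F W = 6 → Cfsg.Geo.IsNondegenerateOn (QuadraticMap.polar Q) W → Cfsg.Geo.IsMaximalIn (Cfsg.Geo.omegaGL Q) (Cfsg.Geo.subspaceStabilizer W ⊓ Cfsg.Geo.omegaGL Q)) ∧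
    (¬ Odd (Fintype.card F) → ∀ v : (Fin 12 → F), Q v ≠ 0 → Cfsg.Geo.IsMaximalIn (Cfsg.Geo.omegaGL Q) (Cfsg.Geo.subspaceStabilizer (Submodule.span F {v}) ⊓ Cfsg.Geo.omegaGL Q)) ∧
    (∀ D : Fin 3 → Submodule F (Fin 12 → F), Cfsg.Geo.IsOrthogonalMDecomposition Q 4 D → (∀ i, ¬ Cfsg.Geo.IsPlusTypeOn Q (D i)) → Cfsg.Geo.IsMaximalIn (Cfsg.Geo.omegaGL Q) (Cfsg.Geo.decompositionStabilizer D ⊓ Cfsg.Geo.omegaGL Q)) ∧
    (Odd (Fintype.card F) → ∀ K : Subalgebra F (Matrix (Fin 12) (Fin 12) F), Cfsg.Geo.IsFieldSubalgebra 2 K → Cfsg.Geo.IsSelfAdjointFor (QuadraticMap.polar Q) K → Cfsg.Geo.IsMaximalIn (Cfsg.Geo.omegaGL Q) (Cfsg.Geo.subalgebraNormalizer K ⊓ Cfsg.Geo.omegaGL Q)) ∧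
    (Odd (Fintype.card F) → ∀ K : Subalgebra F (Matrix (Fin 12) (Fin 12) F), Cfsg.Geo.IsFieldSubalgebra 3 K → Cfsg.Geo.IsSelfAdjointFor (QuadraticMap.polar Q) K → Cfsg.Geo.IsMaximalIn (Cfsg.Geo.omegaGL Q) (Cfsg.Geo.subalgebraNormalizer K ⊓ Cfsg.Geo.omegaGL Q)) ∧
    (Odd (Fintype.card F) ∧ 5 ≤ Fintype.card F → ∀ (e : Fin 12 ≃ Fin 3 × Fin 4) (P : Matrix.GeneralLinearGroup (Fin 12) F) (f₁ : (Fin 3 → F) → (Fin 3 → F) → F) (f₂ : (Fin 4 → F) → (Fin 4 → F) → F), Cfsg.Geo.IsSymmetricForm f₁ → Cfsg.Geo.IsSymmetricForm f₂ → ¬ Cfsg.Geo.IsPlusTypeOn (fun v : Fin 4 → F => f₂ v v) ⊤ → Cfsg.Geo.IsTensorFormStructure id (QuadraticMap.polar Q) f₁ f₂ e P → Cfsg.Geo.IsMaximalIn (Cfsg.Geo.omegaGL Q) (Cfsg.Geo.tensorProductSubgroup 3 4 e P ⊓ Cfsg.Geo.omegaGL Q)) ∧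
    (∀ (F₀ : Subfield F) (r : ℕ) (P : Matrix.GeneralLinearGroup (Fin 12) F) (ζ : F), r.Prime → Odd r → Fintype.card F = Nat.card F₀ ^ r → ζ ≠ 0 → Cfsg.Geo.IsQuadFormRationalStructure (fun v : Fin 12 → F => ζ * Q v) F₀ P → Cfsg.Geo.IsMaximalIn (Cfsg.Geo.omegaGL Q) (Cfsg.Geo.subfieldSubgroup F₀ P ⊓ Cfsg.Geo.omegaGL Q)) := by
  classical
  have hcard : Fintype.card (Fin 12) = 12 := Fintype.card_fin 12
  have hrad := fun {W : Submodule F (Fin 12 → F)} (h : Cfsg.Geo.IsNondegenerateOn (QuadraticMap.polar Q) W) =>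
    CfsgLib.OrthGeo.radical_free_of_nondegenerateOn hQ h
  have hsum := fun W : Submodule F (Fin 12 → F) => (CfsgLib.OrthGeo.finrank_perp_add hQ W).trans hcard
  have hperp : ∀ {W : Submodule F (Fin 12 → F)}, (∀ x ∈ W, x ∈ CfsgLib.OrthGeo.perp hQ W → x = 0) →
      ∀ x ∈ CfsgLib.OrthGeo.perp hQ W, x ∈ CfsgLib.OrthGeo.perp hQ (CfsgLib.OrthGeo.perp hQ W) → x = 0 :=
    fun h x hx hx' => h x (by rwa [CfsgLib.OrthGeo.perp_perp hQ] at hx') hx
  have h2of : Odd (Fintype.card F) → (2 : F) ≠ 0 := fun hodd h2 => by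
    haveI : CharP F 2 := (CharP.charP_iff_prime_eq_zero Nat.prime_two).2 (by exact_mod_cast h2)
    have h := FiniteField.even_card_of_char_two (ringChar.eq F 2)
    have := Nat.odd_iff.1 hodd
    omega
  -- subspaces smaller than their perp
  have small : ∀ W : Submodule F (Fin 12 → F), (∀ x ∈ W, x ∈ CfsgLib.OrthGeo.perp hQ W → x = 0) → W ≠ ⊥ →
      Module.finrank F W ≤ 5 →
      (Module.finrank F W = 2 → (∀ x ∈ W, Q x = 0 → x = 0) ∨ 4 ≤ Nat.card F) →
      Cfsg.Geo.IsMaximalIn (Cfsg.Geo.omegaGL Q) (Cfsg.Geo.subspaceStabilizer W ⊓ Cfsg.Geo.omegaGL Q) :=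
    fun W hW h0 h3 hex => CfsgLib.OrthEight96.nondeg_small_five_isMaximal hQ hW h0
      (by have := hsum W; omega) (by have := hsum W; omega) hex
  refine ⟨fun W hW0 hW => ?_, fun hodd W hW0 hW1 hWo h2n hW => ?_, fun W hd hW hWm => ?_, fun hq W hd hW hWp => ?_,
    fun W hd hW => ?_, fun W hd hW => ?_, fun hev v hv => ?_, fun D hD hDm => ?_, fun hodd K hK hsa => ?_,
    fun hodd K hK hsa => ?_, fun ho e P f₁ f₂ h1 h2 h2m hT => ?_, fun F₀ r P ζ hr hro hc hζ hP => ?_⟩
  · -- totally singular subspaces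
    refine CfsgLib.OrthGeo.parabolic_isMaximal hQ (by omega) W hW0 hW (fun u huP hu huW h => hminus ?_)
    refine ⟨W ⊔ Submodule.span F {u}, le_top, fun z hz => ?_, ?_⟩
    · obtain ⟨a, ha, b, hb, rfl⟩ := Submodule.mem_sup.1 hz
      obtain ⟨c, rfl⟩ := Submodule.mem_span_singleton.1 hb
      rw [CfsgLib.OrthGeo.q_add hQ, CfsgLib.OrthGeo.q_smul hQ, hW a ha, hu, map_smul, smul_eq_mul, huP a ha]
      ring
    · have hu0 : u ≠ 0 := fun h => huW (h ▸ W.zero_mem)
      have h1 := Submodule.finrank_sup_add_finrank_inf_eq W (Submodule.span F {u})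
      have h2 : W ⊓ Submodule.span F {u} = ⊥ := (Submodule.eq_bot_iff _).2 fun z hz => by
        obtain ⟨c, rfl⟩ := Submodule.mem_span_singleton.1 hz.2
        by_cases hc : c = 0
        · rw [hc, zero_smul]
        · exact absurd ((Submodule.smul_mem_iff _ hc).1 hz.1) huW
      rw [h2, finrank_bot, finrank_span_singleton hu0] at h1
      rw [finrank_top, Module.finrank_fintype_fun_eq_card]
      omega
  · -- odd dimension
    obtain ⟨k, hk⟩ := hWo
    have hlt : Module.finrank F W < 12 := by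
      have h := Submodule.finrank_lt hW1
      rwa [Module.finrank_fintype_fun_eq_card, hcard] at h
    by_cases h3 : Module.finrank F W ≤ 5
    · exact small W (hrad hW) hW0 h3 (fun h => by omega)
    · rw [← CfsgLib.OrthGeo.stab_perp_inf_omega hQ W]
      have := hsum W
      exact small _ (hperp (hrad hW)) (fun h => by rw [h, finrank_bot] at this; omega) (by omega) (fun h => by omega)
  · -- planes of minus type
    exact small W (hrad hW) (fun h => by rw [h, finrank_bot] at hd; omega) (by omega)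
      (fun _ => Or.inl ((CfsgLib.OrthGeo.plane_aniso_or_plusType hQ hd).resolve_right hWm))
  · -- planes of plus type
    exact small W (hrad hW) (fun h => by rw [h, finrank_bot] at hd; omega) (by omega)
      (fun _ => Or.inr (by rwa [Nat.card_eq_fintype_card]))
  · -- four-spaces
    exact small W (hrad hW) (fun h => by rw [h, finrank_bot] at hd; omega) (by omega) (fun h => by omega)
  · -- six-spaces
    have := hsum W
    refine CfsgLib.OrthEight96.nondeg_five_isMaximal hQ (hrad hW) (fun h => by rw [h, finrank_bot] at hd; omega)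
      (by omega) (fun g hg => ?_) (fun h => by omega)
    obtain ⟨x, hx, hxW⟩ := CfsgLib.OrthGeo.no_swap_of_minus hQ hminus (hperp (hrad hW))
      (by rw [CfsgLib.OrthGeo.perp_perp hQ]; omega) ⟨3, by omega⟩ (CfsgLib.OrthGeo.omegaGL_le hg)
    exact ⟨x, hx, by rwa [CfsgLib.OrthGeo.perp_perp hQ] at hxW⟩
  · -- non-singular lines
    have h2 : (2 : F) = 0 := by
      by_contra h2
      refine hev (Nat.odd_iff.2 (FiniteField.odd_card_of_char_ne_two fun hch => h2 ?_))
      haveI : CharP F 2 := ringChar.of_eq hch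
      exact CharTwo.two_eq_zero
    exact CfsgLib.OrthEight96.nonsingular_line_eight_isMaximal hQ h2 (by omega) hv
  · -- decompositions into three four-spaces of minus type
    refine CfsgLib.OrthGeo.four_isMaximal hQ hD (by omega) le_rfl (by omega)
      fun i => Or.inr ⟨by rw [hD.decomp.decomp.finrank_eq], fun _ _ => hDm i⟩
  · -- extension field of degree two
    exact CfsgLib.C3Max.orth_normalizer_maximal_of hQ (h2of hodd) Nat.prime_two (by omega) (Or.inl (by omega))
      (fun h => by omega) (fun _ => Or.inl (by omega)) hK hsa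
  · -- extension field of degree three
    exact CfsgLib.C3Max.orth_normalizer_maximal_of hQ (h2of hodd) Nat.prime_three (by omega) (Or.inl (by omega))
      (fun h => by omega) (fun h => by omega) hK hsa
  · -- tensor products
    exact CfsgLib.OTensor90.orth_three_four_tensor_isMaximal hQ ho.1 ho.2 e P h1 h2 h2m hT
  · -- subfield groups
    have h := CfsgLib.OrthEight96.qSubfield_isMaximal (F₀ := F₀) (P := P) (Q := fun v => ζ * Q v)
      ⟨CfsgLib.OrthGeo.nondeg_scale hζ hQ, fun v hv => by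
        have h := hP _ hv
        rwa [CfsgLib.OrthGeo.mulVec_inv_cancel] at h⟩ (by omega) hr hc
    simpa only [CfsgLib.OrthGeo.SubO, CfsgLib.OrthGeo.omegaGL_scale hζ] using h

end Cfsg.Agent.S5873
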