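import Cfsg.Statements.S5874
import Cfsg.Agent.Aschbacher.OrthEvenCases
import Cfsg.Agent.Aschbacher.OrthEvenSmall
import Cfsg.Agent.Aschbacher.OrthEvenPlus
import Cfsg.Agent.OrthGeo.PlusPlane
import Cfsg.Agent.OrthGeo.TensorThree

set_option autoImplicit false
open Cfsg

namespace Cfsg.Agent.S5874

open CfsgLib.Aschbacher CfsgLib.Aschbacher.OrthEven CfsgLib.OrthGeo

/-- Every maximal subgroup of Ω_12^-(q) is of one of the listed geometric types or lies in the residual class. Let F be a finite field with q elements (characteristic p), Q a non-degenerate quadratic form on F^12 of minus type (Witt index 5: no totally singular 6-space), Ω the commutator subgroup of its isometry group, and H a maximal subgroup of Ω (inside GL_12(F)). Then H is the intersection with Ω of one of: the stabiliser of a non-zero totally singular subspace; for q odd, the stabiliser of a non-degenerate subspace of odd dimension; the stabiliser of a non-degenerate 2-space of minus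 type; for q ≥ 4, the stabiliser of a non-degenerate 2-space of plus type; the stabiliser of a non-degenerate 4-space; the stabiliser of a non-degenerate 6-space; for q even, the stabiliser of the span of a non-singular vector; the stabiliser of a decomposition into 3 pairwise orthogonal, pairwise isometric non-degenerate 4-spaces of minus type; the normaliser of a degree-2 subfield of the matrix algebra; the normaliser of a degree-3 subfield of the matrix algebra; for q odd with q ≥ 5, the stabiliser of a tensor decomposition of the polar form into symmetric forms on F^3 and F^4 (minus type); a subfield group (|F| = |F₀|^r, r odd prime) whose F₀-structure carries a non-zero multiple of Q — or else H lies in the residual class of the orthogonal case (modulo scalars H is almost simple, with absolutely irreducible perfect socle preimage realisable over no proper subfield and fixing no non-degenerate unitary form). -/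
theorem result {F : Type*} [Field F] [Fintype F] (Q : (Fin 12 → F) → F) (hQ : Cfsg.Geo.IsNondegenerateQuadraticForm Q) (hminus : ¬ Cfsg.Geo.IsPlusTypeOn Q ⊤) (H : Subgroup (Matrix.GeneralLinearGroup (Fin 12) F)) (hH : Cfsg.Geo.IsMaximalIn (Cfsg.Geo.omegaGL Q) H) :
    (∃ W : Submodule F (Fin 12 → F), W ≠ ⊥ ∧ Cfsg.Geo.IsTotallySingularQuad Q W ∧ H = Cfsg.Geo.subspaceStabilizer W ⊓ Cfsg.Geo.omegaGL Q) ∨
    (Odd (Fintype.card F) ∧ ∃ W : Submodule F (Fin 12 → F), W ≠ ⊥ ∧ W ≠ ⊤ ∧ Odd (Module.finrank F W) ∧ 2 * Module.finrank F W ≠ 12 ∧ Cfsg.Geo.IsNondegenerateOn (QuadraticMap.polar Q) W ∧ H = Cfsg.Geo.subspaceStabilizer W ⊓ Cfsg.Geo.omegaGL Q) ∨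
    (∃ W : Submodule F (Fin 12 → F), Module.finrank F W = 2 ∧ Cfsg.Geo.IsNondegenerateOn (QuadraticMap.polar Q) W ∧ ¬ Cfsg.Geo.IsPlusTypeOn Q W ∧ H = Cfsg.Geo.subspaceStabilizer W ⊓ Cfsg.Geo.omegaGL Q) ∨
    (4 ≤ Fintype.card F ∧ ∃ W : Submodule F (Fin 12 → F), Module.finrank F W = 2 ∧ Cfsg.Geo.IsNondegenerateOn (QuadraticMap.polar Q) W ∧ Cfsg.Geo.IsPlusTypeOn Q W ∧ H = Cfsg.Geo.subspaceStabilizer W ⊓ Cfsg.Geo.omegaGL Q) ∨
    (∃ W : Submodule F (Fin 12 → F), Module.finrank F W = 4 ∧ Cfsg.Geo.IsNondegenerateOn (QuadraticMap.polar Q) W ∧ H = Cfsg.Geo.subspaceStabilizer W ⊓ Cfsg.Geo.omegaGL Q) ∨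
    (∃ W : Submodule F (Fin 12 → F), Module.finrank F W = 6 ∧ Cfsg.Geo.IsNondegenerateOn (QuadraticMap.polar Q) W ∧ H = Cfsg.Geo.subspaceStabilizer W ⊓ Cfsg.Geo.omegaGL Q) ∨
    (¬ Odd (Fintype.card F) ∧ ∃ v : (Fin 12 → F), Q v ≠ 0 ∧ H = Cfsg.Geo.subspaceStabilizer (Submodule.span F {v}) ⊓ Cfsg.Geo.omegaGL Q) ∨
    (∃ D : Fin 3 → Submodule F (Fin 12 → F), Cfsg.Geo.IsOrthogonalMDecomposition Q 4 D ∧ (∀ i, ¬ Cfsg.Geo.IsPlusTypeOn Q (D i)) ∧ H = Cfsg.Geo.decompositionStabilizer D ⊓ Cfsg.Geo.omegaGL Q) ∨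
    (∃ K : Subalgebra F (Matrix (Fin 12) (Fin 12) F), Cfsg.Geo.IsFieldSubalgebra 2 K ∧ H = Cfsg.Geo.subalgebraNormalizer K ⊓ Cfsg.Geo.omegaGL Q) ∨
    (∃ K : Subalgebra F (Matrix (Fin 12) (Fin 12) F), Cfsg.Geo.IsFieldSubalgebra 3 K ∧ H = Cfsg.Geo.subalgebraNormalizer K ⊓ Cfsg.Geo.omegaGL Q) ∨
    (Odd (Fintype.card F) ∧ 5 ≤ Fintype.card F ∧ ∃ (e : Fin 12 ≃ Fin 3 × Fin 4) (P : Matrix.GeneralLinearGroup (Fin 12) F) (f₁ : (Fin 3 → F) → (Fin 3 → F) → F) (f₂ : (Fin 4 → F) → (Fin 4 → F) → F), Cfsg.Geo.IsSymmetricForm f₁ ∧ Cfsg.Geo.IsSymmetricForm f₂ ∧ ¬ Cfsg.Geo.IsPlusTypeOn (fun v : Fin 4 → F => f₂ v v) ⊤ ∧ Cfsg.Geo.IsTensorFormStructure id (QuadraticMap.polar Q) f₁ f₂ e P ∧ H = Cfsg.Geo.tensorProductSubgroup 3 4 e P ⊓ Cfsg.Geo.omegaGL Q) ∨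
    (∃ (F₀ : Subfield F) (r : ℕ) (P : Matrix.GeneralLinearGroup (Fin 12) F) (ζ : F), r.Prime ∧ Odd r ∧ Fintype.card F = Nat.card F₀ ^ r ∧ ζ ≠ 0 ∧ Cfsg.Geo.IsQuadFormRationalStructure (fun v : Fin 12 → F => ζ * Q v) F₀ P ∧ H = Cfsg.Geo.subfieldSubgroup F₀ P ⊓ Cfsg.Geo.omegaGL Q) ∨
    Cfsg.Geo.InOrthogonalResidualClass H := by
  classical
  have hn : 7 ≤ Fintype.card (Fin 12) := by simp
  rcases orth_even_composite hQ hn hH
    (fun r k hr h => by
      rw [Fintype.card_fin] at h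
      have h2 := (Nat.prime_dvd_prime_iff_eq Nat.prime_two hr).1 (Nat.prime_two.dvd_of_dvd_pow (h ▸ by norm_num : 2 ∣ r ^ k))
      have h3 := (Nat.prime_dvd_prime_iff_eq Nat.prime_three hr).1 (Nat.prime_three.dvd_of_dvd_pow (h ▸ by norm_num : 3 ∣ r ^ k))
      omega)
    (fun d k hk h => by
      rw [Fintype.card_fin] at h
      have hd : d ≤ 3 := by
        by_contra hd
        have := Nat.pow_le_pow_left (show 4 ≤ d by omega) k
        have := Nat.pow_le_pow_right (show 0 < 4 by norm_num) hk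
        omega
      have hk4 : d ^ k = 12 := h.symm
      interval_cases d
      · rw [zero_pow (by omega)] at hk4; omega
      · rw [one_pow] at hk4; omega
      · have h' : 3 ∣ 2 ^ k := by rw [hk4]; norm_num
        exact absurd (Nat.prime_three.dvd_of_dvd_pow h') (by norm_num)
      · have h' : 2 ∣ 3 ^ k := by rw [hk4]; norm_num
        exact absurd (Nat.prime_two.dvd_of_dvd_pow h') (by norm_num)) with
    h | ⟨W, hW0, hW1, hW, hd, hodd, heq⟩ | h | ⟨t, k, D, htk, ht, hodd, hD, heq⟩ | ⟨k, D, hD, hk, hts, heq⟩ |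
      ⟨r, K, hr, hrn, hK, -, heq⟩ | ⟨K, hK, -, -, -, heq⟩ |
      ⟨a, b, e, P, f₁, f₂, ha, hb, hae, hbe, hab, hf₁, hf₂, hT, hpure, heq⟩ |
      ⟨hq, a, b, e, P, f₁, f₂, ha, hb, hab, hf₁, hf₂, hT, heq⟩ | ⟨F₀, r, P, ζ, hr, hcard, hζ, hrat, heq⟩ | h
  · exact Or.inl h
  · rw [Fintype.card_fin] at hd
    have h0 : 0 < Module.finrank F W := Nat.pos_of_ne_zero fun h => hW0 (Submodule.finrank_eq_zero.1 h)
    rcases Nat.even_or_odd (Module.finrank F W) with he | ho
    swap
    · exact Or.inr (Or.inl ⟨hodd ho, W, hW0, hW1, ho, fun h => by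
        rw [show Module.finrank F W = 6 by omega] at ho; exact absurd ho (by decide), hW, heq⟩)
    obtain ⟨c, hc⟩ := he
    obtain h2 | h4 | h6 : Module.finrank F W = 2 ∨ Module.finrank F W = 4 ∨ Module.finrank F W = 6 := by omega
    · by_cases hp : Geo.IsPlusTypeOn Q W
      · by_cases hq : 4 ≤ Fintype.card F
        · exact Or.inr (Or.inr (Or.inr (Or.inl ⟨hq, W, h2, hW, hp, heq⟩)))
        · obtain ⟨K, hK1, hK2⟩ := plus_plane_not_maximal hQ hn (by omega) W h2 hW hp
          exact (not_strictly_between hH heq hK1 hK2).elim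
      · exact Or.inr (Or.inr (Or.inl ⟨W, h2, hW, hp, heq⟩))
    · exact Or.inr (Or.inr (Or.inr (Or.inr (Or.inl ⟨W, h4, hW, heq⟩))))
    · exact Or.inr (Or.inr (Or.inr (Or.inr (Or.inr (Or.inl ⟨W, h6, hW, heq⟩)))))
  · exact Or.inr (Or.inr (Or.inr (Or.inr (Or.inr (Or.inr (Or.inl h))))))
  · rw [Fintype.card_fin] at htk
    have h2 : Odd k → (2 : F) ≠ 0 := fun h => two_ne_zero_of_odd_card (hodd h)
    have hkd : k ∣ 12 := ⟨t, by rw [← htk, mul_comm]⟩
    have hk12 : k ≤ 6 := by nlinarith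
    have hkp : 0 < k := hD.decomp.decomp.pos
    have hplus : ∀ {J : Finset (Fin t)}, PieceTS Q D J 6 → False := fun h =>
      hminus (plus_of_pieceTS h (by rw [Fintype.card_fin]))
    interval_cases k <;> first | omega | skip
    · obtain rfl : t = 12 := by omega
      refine (hplus (pieceTS_union hQ hD (J := _ ∪ _) (a := 4) (b := 2) ?_
        (pieceTS_union hQ hD ?_ (pieceTS_four hQ hD (h2 odd_one) (l := ![0, 1, 2, 3]) (by decide))
          (pieceTS_four hQ hD (h2 odd_one) (l := ![4, 5, 6, 7]) (by decide)))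
        (pieceTS_four hQ hD (h2 odd_one) (l := ![8, 9, 10, 11]) (by decide)))).elim
      all_goals decide
    · obtain rfl : t = 6 := by omega
      refine (hplus (pieceTS_union hQ hD (J := _ ∪ _) (a := 4) (b := 2) ?_
        (pieceTS_union hQ hD ?_ (pieceTS_pair hQ hD even_two (i := 0) (j := 1) (by decide))
          (pieceTS_pair hQ hD even_two (i := 2) (j := 3) (by decide)))
        (pieceTS_pair hQ hD even_two (i := 4) (j := 5) (by decide)))).elim
      all_goals decide
    · obtain rfl : t = 4 := by omega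
      exact (hplus (pieceTS_four hQ hD (h2 (by decide)) (l := id) Function.injective_id)).elim
    · obtain rfl : t = 3 := by omega
      refine Or.inr (Or.inr (Or.inr (Or.inr (Or.inr (Or.inr (Or.inr (Or.inl ⟨D, hD, fun i hp => ?_, heq⟩)))))))
      have hall : ∀ j, Geo.IsPlusTypeOn Q (D j) := fun j => plus_of_isometric (hD.isometric i j) hp
      refine hplus (pieceTS_union hQ hD (J := _ ∪ _) (a := 4) (b := 2) ?_
        (pieceTS_union hQ hD ?_ (pieceTS_single hQ (i := 0) hD (hall _) (d := 2) rfl)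
          (pieceTS_single hQ (i := 1) hD (hall _) (d := 2) rfl)) (pieceTS_single hQ (i := 2) hD (hall _) (d := 2) rfl))
      all_goals decide
    · obtain rfl : t = 2 := by omega
      exact (hplus (pieceTS_pair hQ hD (by decide) (i := 0) (j := 1) (by decide))).elim
  · exact absurd (plus_of_half (hts 0) (by rw [hD.finrank_eq]; exact hk)) hminus
  · rw [Fintype.card_fin] at hrn
    have hr23 : r = 2 ∨ r = 3 := by
      rcases (Nat.Prime.dvd_mul hr).1 (show r ∣ 2 ^ 2 * 3 from hrn) with h | h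
      · exact Or.inl ((Nat.prime_dvd_prime_iff_eq hr Nat.prime_two).1 (hr.dvd_of_dvd_pow h))
      · exact Or.inr ((Nat.prime_dvd_prime_iff_eq hr Nat.prime_three).1 h)
    rcases hr23 with rfl | rfl
    · exact Or.inr (Or.inr (Or.inr (Or.inr (Or.inr (Or.inr (Or.inr (Or.inr (Or.inl ⟨K, hK, heq⟩))))))))
    · exact Or.inr (Or.inr (Or.inr (Or.inr (Or.inr (Or.inr (Or.inr (Or.inr (Or.inr (Or.inl ⟨K, hK, heq⟩)))))))))
  · exact Or.inr (Or.inr (Or.inr (Or.inr (Or.inr (Or.inr (Or.inr (Or.inr (Or.inl ⟨K, hK, heq⟩))))))))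
  · rw [Fintype.card_fin] at hab
    obtain ⟨c, hc⟩ := hae
    obtain ⟨d, hd⟩ := hbe
    have hc6 : a = 2 ∨ b = 2 := by
      by_contra! hne
      have := Nat.mul_le_mul (show 4 ≤ a by omega) (show 4 ≤ b by omega)
      omega
    refine absurd ?_ hminus
    rcases hc6 with h | h
    · exact plus_of_pure_zero hQ h hpure
    · refine plus_of_pure_zero hQ h (e := e.trans (Equiv.prodComm _ _)) (P := P) fun x₁ x₂ => ?_
      rw [← hpure x₂ x₁]
      congr 2
      funext i
      simp [mul_comm]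
  · rw [Fintype.card_fin] at hab
    have h2 : (2 : F) ≠ 0 := two_ne_zero_of_odd_card hq
    obtain ⟨e', f, g, hf, hg, hT', heq'⟩ : ∃ (e' : Fin 12 ≃ Fin 3 × Fin 4) (f : (Fin 3 → F) → (Fin 3 → F) → F)
        (g : (Fin 4 → F) → (Fin 4 → F) → F), Geo.IsSymmetricForm f ∧ Geo.IsSymmetricForm g ∧
        Geo.IsTensorFormStructure id (QuadraticMap.polar Q) f g e' P ∧
        H = Geo.tensorProductSubgroup 3 4 e' P ⊓ Geo.omegaGL Q := by
      have ha4 : a ≤ 4 := by nlinarith
      interval_cases a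
      · obtain rfl : b = 4 := by omega
        exact ⟨e, f₁, f₂, hf₁, hf₂, hT, heq⟩
      · obtain rfl : b = 3 := by omega
        exact ⟨_, f₂, f₁, hf₂, hf₁, Forms.isTensorFormStructure_swap hT,
          heq.trans (congrArg (· ⊓ Geo.omegaGL Q) (le_antisymm (tensorProductSubgroup_comm e P)
            ((tensorProductSubgroup_comm _ P).trans (le_of_eq (by congr 1)))))⟩
    refine Or.inr (Or.inr (Or.inr (Or.inr (Or.inr (Or.inr (Or.inr (Or.inr (Or.inr (Or.inr (Or.inl
      ⟨hq, ?_, e', P, f, g, hf, hg, fun hp => hminus (plus_of_factor hQ h2 hf hg hT' hp), hT', heq'⟩))))))))))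
    by_contra hq5
    have : Fintype.card F = 3 := by
      have := Fintype.one_lt_card (α := F)
      obtain ⟨m, hm⟩ := hq
      omega
    obtain ⟨K, hK1, hK2⟩ := tensor_three_not_maximal this hQ (by norm_num) e' P f g hf hg hT'
    exact not_strictly_between hH heq' hK1 hK2
  · refine Or.inr (Or.inr (Or.inr (Or.inr (Or.inr (Or.inr (Or.inr (Or.inr (Or.inr (Or.inr (Or.inr (Or.inl
      ⟨F₀, r, P, ζ, hr, hr.eq_two_or_odd'.resolve_left fun h => ?_, hcard, hζ, hrat, heq⟩)))))))))))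
    subst h
    exact hminus (plus_of_rational hQ (m := 6) (by simp) hcard hζ hrat)
  · exact Or.inr (Or.inr (Or.inr (Or.inr (Or.inr (Or.inr (Or.inr (Or.inr (Or.inr (Or.inr (Or.inr (Or.inr h)))))))))))

end Cfsg.Agent.S5874
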