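import Mathlib.Analysis.Fourier.FiniteAbelian.PontryaginDuality
import Mathlib.LinearAlgebra.Trace
import Mathlib.NumberTheory.LegendreSymbol.AddCharacter
import Mathlib.LinearAlgebra.Dimension.Finrank
import Mathlib.Analysis.Complex.Basic

/-!
Weight decomposition of a complex space under a finite abelian group of operators.
-/

set_option autoImplicit false

namespace CfsgLib.WeightProj65

variable {M : Type*} [AddCommGroup M] [Fintype M] {V : Type*} [AddCommGroup V] [Module ℂ V]
  (act : AddChar M (Module.End ℂ V))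

omit [Fintype M] in
theorem act_mul (a b : M) : act a * act b = act (a + b) := (act.map_add_eq_mul a b).symm

/-- The weight space of an additive character. -/
def wt (ψ : AddChar M ℂ) : Submodule ℂ V where
  carrier := {v | ∀ b, act b v = ψ b • v}
  zero_mem' := fun b => by simp
  add_mem' := fun {v w} hv hw b => by rw [map_add, hv b, hw b, smul_add]
  smul_mem' := fun c v hv b => by rw [map_smul, hv b, smul_comm]

/-- The projection onto a weight space. -/
noncomputable def proj (ψ : AddChar M ℂ) : Module.End ℂ V :=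
  (Fintype.card M : ℂ)⁻¹ • ∑ b, ψ (-b) • act b

theorem card_ne_zero : (Fintype.card M : ℂ) ≠ 0 := Nat.cast_ne_zero.2 Fintype.card_ne_zero

theorem act_mul_proj (ψ : AddChar M ℂ) (c : M) : act c * proj act ψ = ψ c • proj act ψ := by
  rw [proj, mul_smul_comm, smul_comm (ψ c), Finset.mul_sum]
  congr 1
  rw [Finset.smul_sum]
  refine Fintype.sum_equiv (Equiv.addLeft c) _ _ fun b => ?_
  rw [mul_smul_comm, act_mul, smul_smul, ← AddChar.map_add_eq_mul, Equiv.coe_addLeft]
  congr 2
  rw [neg_add_rev, add_comm (-b), add_neg_cancel_left]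

theorem proj_mem (ψ : AddChar M ℂ) (v : V) : proj act ψ v ∈ wt act ψ := fun b => by
  rw [← Module.End.mul_apply, act_mul_proj]
  rfl

theorem comm_proj {f : Module.End ℂ V} (h : ∀ b, f * act b = act b * f) (ψ : AddChar M ℂ) :
    f * proj act ψ = proj act ψ * f := by
  rw [proj, mul_smul_comm, smul_mul_assoc, Finset.mul_sum, Finset.sum_mul]
  congr 1
  refine Finset.sum_congr rfl fun b _ => ?_
  rw [mul_smul_comm, smul_mul_assoc, h]

theorem proj_comm_act (ψ : AddChar M ℂ) (c : M) :
    proj act ψ * act c = act c * proj act ψ :=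
  (comm_proj act (fun b => by rw [act_mul, act_mul, add_comm]) ψ).symm

theorem proj_apply_mem {ψ : AddChar M ℂ} {v : V} (hv : v ∈ wt act ψ) : proj act ψ v = v := by
  have h : ∀ b, ψ (-b) • act b v = v := fun b => by
    rw [hv b, smul_smul, ← AddChar.map_add_eq_mul, neg_add_cancel, AddChar.map_zero_eq_one, one_smul]
  rw [proj, LinearMap.smul_apply, LinearMap.sum_apply]
  simp only [LinearMap.smul_apply, h]
  rw [Finset.sum_const, Finset.card_univ, ← Nat.cast_smul_eq_nsmul ℂ, smul_smul,
    inv_mul_cancel₀ card_ne_zero, one_smul]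

theorem isProj (ψ : AddChar M ℂ) : LinearMap.IsProj (wt act ψ) (proj act ψ) :=
  ⟨proj_mem act ψ, fun _ => proj_apply_mem act⟩

theorem proj_mul_proj {ψ φ : AddChar M ℂ} (h : ψ ≠ φ) : proj act ψ * proj act φ = 0 := by
  have h0 : ∑ b, φ (-b) * ψ b = 0 := by
    classical
    have h1 := AddChar.sum_eq_ite (φ⁻¹ * ψ)
    rw [if_neg] at h1
    · simpa [AddChar.mul_apply, AddChar.inv_apply] using h1
    · intro hc
      refine h (mul_left_cancel (a := φ⁻¹) ?_)
      rw [inv_mul_cancel]
      exact hc
  conv_lhs => rw [show proj act φ = (Fintype.card M : ℂ)⁻¹ • ∑ b, φ (-b) • act b from rfl]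
  rw [mul_smul_comm, Finset.mul_sum]
  simp only [mul_smul_comm, proj_comm_act, act_mul_proj, smul_smul]
  rw [← Finset.sum_smul, h0, zero_smul, smul_zero]

theorem sum_proj : ∑ ψ : AddChar M ℂ, proj act ψ = 1 := by
  classical
  simp only [proj, ← Finset.smul_sum]
  rw [Finset.sum_comm]
  simp only [← Finset.sum_smul, AddChar.sum_apply_eq_ite, neg_eq_zero, ite_smul, zero_smul]
  rw [Finset.sum_ite_eq', if_pos (Finset.mem_univ _), AddChar.map_zero_eq_one, smul_smul,
    inv_mul_cancel₀ card_ne_zero, one_smul]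

theorem exists_proj_ne_zero {v : V} (hv : v ≠ 0) : ∃ φ : AddChar M ℂ, proj act φ v ≠ 0 := by
  by_contra hcon
  push Not at hcon
  have h := LinearMap.congr_fun (sum_proj act) v
  rw [LinearMap.sum_apply, Finset.sum_eq_zero fun φ _ => hcon φ] at h
  exact hv h.symm

theorem exists_wt {c : M} (hc : act c ≠ 1) : ∃ ψ : AddChar M ℂ, ψ ≠ 1 ∧ wt act ψ ≠ ⊥ := by
  classical
  by_contra hcon
  refine hc ?_
  have h0 : ∀ ψ : AddChar M ℂ, ψ ≠ 1 → proj act ψ = 0 := fun ψ hψ => LinearMap.ext fun v => by
    by_contra h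
    exact hcon ⟨ψ, hψ, fun hb => h ((Submodule.eq_bot_iff _).1 hb _ (proj_mem act ψ v))⟩
  have h1 := sum_proj act
  rw [Fintype.sum_eq_single 1 h0] at h1
  rw [← mul_one (act c), ← h1, act_mul_proj, AddChar.one_apply, one_smul]

omit [Fintype M] in
/-- A family of shifts of a common eigenvector spans many dimensions of a weight space. -/
theorem card_le_finrank_wt [FiniteDimensional ℂ V] {I J : Type*} [Fintype I] [AddCommGroup J]
    [Fintype J] (A : I → Module.End ℂ V) (B : AddChar J (Module.End ℂ V)) (π : I → J → M)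
    (hπadd : ∀ i u u', π i (u + u') = π i u + π i u')
    {ψ : AddChar M ℂ} (hπ : ∀ i i', (∀ u, ψ (π i u) = ψ (π i' u)) → i = i')
    (hAinj : ∀ i v, A i v = 0 → v = 0)
    (hAM : ∀ i c, act c * A i = A i * act c) (hBM : ∀ u c, act c * B u = B u * act c)
    (hBA : ∀ i u, B u * A i = A i * B u * act (π i u))
    (hW : wt act ψ ≠ ⊥) : Fintype.card I ≤ Module.finrank ℂ (wt act ψ) := by
  classical
  obtain ⟨v₀, hv₀, hv0⟩ := Submodule.exists_mem_ne_zero_of_ne_bot hW
  obtain ⟨φ, hφ⟩ := exists_proj_ne_zero B hv0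
  set w := proj B φ v₀
  have hwψ : w ∈ wt act ψ := by
    intro c
    rw [← Module.End.mul_apply, comm_proj B (fun b => hBM b c), Module.End.mul_apply, hv₀ c,
      map_smul]
  have hwφ : w ∈ wt B φ := proj_mem B φ v₀
  let f : I → V := fun i => A i w
  have hf0 : ∀ i, f i ≠ 0 := fun i h => hφ (hAinj i w h)
  have hfψ : ∀ i, f i ∈ wt act ψ := by
    intro i c
    show act c (A i w) = _
    rw [← Module.End.mul_apply, hAM, Module.End.mul_apply, hwψ c, map_smul]
  let χ : I → AddChar J ℂ := fun i =>
    { toFun := fun u => φ u * ψ (π i u)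
      map_zero_eq_one' := by
        have h := hπadd i 0 0
        rw [add_zero, left_eq_add] at h
        rw [h, AddChar.map_zero_eq_one, AddChar.map_zero_eq_one, mul_one]
      map_add_eq_mul' := fun u u' => by
        rw [hπadd, AddChar.map_add_eq_mul, AddChar.map_add_eq_mul, mul_mul_mul_comm] }
  have hfχ : ∀ i, f i ∈ wt B (χ i) := by
    intro i u
    show B u (A i w) = _
    rw [← Module.End.mul_apply, hBA, Module.End.mul_apply, Module.End.mul_apply, hwψ, map_smul,
      map_smul, hwφ, map_smul, smul_smul, mul_comm (ψ _)]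
    rfl
  have hne : ∀ (ξ : AddChar J ℂ) u, ξ u ≠ 0 := by
    intro ξ u h
    have := AddChar.map_add_eq_mul ξ u (-u)
    rw [add_neg_cancel, AddChar.map_zero_eq_one, h, zero_mul] at this
    exact one_ne_zero this
  have hχ : Function.Injective χ := fun i i' h => hπ i i' fun u =>
    mul_left_cancel₀ (hne φ u) (DFunLike.congr_fun h u)
  have hli : LinearIndependent ℂ fun i => (⟨f i, hfψ i⟩ : wt act ψ) := by
    rw [Fintype.linearIndependent_iff]
    intro g hg t
    have h := congrArg (fun v : wt act ψ => proj B (χ t) (v : V)) hg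
    simp only [Submodule.coe_sum, Submodule.coe_smul, map_sum, map_smul, ZeroMemClass.coe_zero,
      map_zero] at h
    rw [Fintype.sum_eq_single t, proj_apply_mem B (hfχ t)] at h
    · exact (smul_eq_zero.1 h).resolve_right (hf0 t)
    · intro t' ht'
      rw [← proj_apply_mem B (hfχ t'), ← Module.End.mul_apply,
        proj_mul_proj B (fun e => ht' (hχ e).symm), LinearMap.zero_apply, smul_zero]
  exact hli.fintype_card_le_finrank

variable [FiniteDimensional ℂ V]

theorem trace_proj (ψ : AddChar M ℂ) :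
    LinearMap.trace ℂ V (proj act ψ) = Module.finrank ℂ (wt act ψ) :=
  (isProj act ψ).trace

theorem sum_finrank : ∑ ψ : AddChar M ℂ, Module.finrank ℂ (wt act ψ) = Module.finrank ℂ V := by
  have h := congrArg (LinearMap.trace ℂ V) (sum_proj act)
  rw [map_sum, LinearMap.trace_one] at h
  simp only [trace_proj] at h
  exact_mod_cast h

theorem trace_act (b : M) :
    LinearMap.trace ℂ V (act b) = ∑ ψ : AddChar M ℂ, ψ b * (Module.finrank ℂ (wt act ψ) : ℂ) := by
  calc LinearMap.trace ℂ V (act b) = LinearMap.trace ℂ V (act b * ∑ ψ, proj act ψ) := by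
        rw [sum_proj, mul_one]
    _ = _ := by
        rw [Finset.mul_sum, map_sum]
        refine Finset.sum_congr rfl fun ψ _ => ?_
        rw [act_mul_proj, map_smul, trace_proj, smul_eq_mul]

/-- An operator with a commutator partner in the weighted part has trace zero there. -/
theorem trace_mul_proj_eq_zero {x y y' : Module.End ℂ V} (hy : y' * y = 1) {c : M}
    {ψ : AddChar M ℂ} (hψ : ψ c ≠ 1)
    (hyc : ∀ b, y * act b = act b * y) (hxy : y * x = x * y * act c) :
    LinearMap.trace ℂ V (x * proj act ψ) = 0 := by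
  have h1 : LinearMap.trace ℂ V (y * x * proj act ψ * y') = LinearMap.trace ℂ V (x * proj act ψ) := by
    rw [LinearMap.trace_mul_comm, ← mul_assoc, ← mul_assoc, hy, one_mul]
  have h2 : y * x * proj act ψ * y' = ψ c • (x * (proj act ψ * (y * y'))) := by
    rw [hxy, mul_assoc (x * y), act_mul_proj, mul_smul_comm, smul_mul_assoc]
    congr 1
    rw [mul_assoc x y, comm_proj act hyc, mul_assoc, mul_assoc]
  have hy2 : y * y' = 1 := mul_eq_one_comm.1 hy
  rw [h2, hy2, mul_one, map_smul, smul_eq_mul] at h1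
  by_contra h
  exact hψ (mul_eq_right₀ h |>.1 h1)

end CfsgLib.WeightProj65
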