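import Cfsg.Agent.SignalizerMethod.Dichotomy89
import Cfsg.Agent.StronglyEmbedded.Basic
import Cfsg.Agent.ThreeInvolutions.NormalFour
import Cfsg.Agent.Transfer.ThompsonTransfer
import Cfsg.Agent.CharP.SylowInNormal

/-!
Groups with solvable involution centralisers in which the centraliser of `Ω₁(Z(S))` normalises `S`:
reduction to local characteristic two. In rank at most two, fusion of a central involution with
another involution of `R = S ∩ O²(G)` forces one class of involutions, and then the normaliser of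
`O(C(z))` contains every involution centraliser.
-/

set_option autoImplicit false

namespace CfsgLib.ZCReduction89

open Cfsg CfsgLib CfsgLib.SignalizerMethod CfsgLib.SignalizerMethod.Dichotomy89

universe u

/-- An element of odd order acting on a `2`-group which fixes a self-centralizing subgroup fixes
the group. -/
theorem commute_of_self_centralizing {G : Type*} [Group G] [Finite G] {T P : Subgroup G}
    (hT : IsPGroup 2 T) (hPT : P ≤ T) {d : G} (hd : Odd (orderOf d))
    (hdT : ∀ t ∈ T, d * t * d⁻¹ ∈ T) (hdP : ∀ p ∈ P, p * d = d * p)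
    (hC : ∀ x ∈ T, (∀ p ∈ P, p * x = x * p) → x ∈ P) : ∀ t ∈ T, t * d = d * t := by
  have : Fact (Nat.Prime 2) := ⟨Nat.prime_two⟩
  by_contra hcon
  push Not at hcon
  obtain ⟨t₀, ht₀, hne⟩ := hcon
  set P' := T ⊓ Subgroup.centralizer ({d} : Set G) with hP'
  have hPP' : P ≤ P' := fun p hp =>
    ⟨hPT hp, Subgroup.mem_centralizer_singleton_iff.mpr (hdP p hp)⟩
  have hlt : P'.subgroupOf T < ⊤ := by
    refine lt_top_iff_ne_top.mpr fun e => hne ?_
    have h := (e ▸ Subgroup.mem_top (⟨t₀, ht₀⟩ : T) : (⟨t₀, ht₀⟩ : T) ∈ P'.subgroupOf T)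
    exact Subgroup.mem_centralizer_singleton_iff.mp h.2
  have := hT.isNilpotent
  obtain ⟨⟨t, htT⟩, htN, htP⟩ :=
    Set.exists_of_ssubset (Group.normalizerCondition_of_isNilpotent _ hlt)
  set x := t⁻¹ * (d * t * d⁻¹) with hx
  have hxT : x ∈ T := mul_mem (inv_mem htT) (hdT t htT)
  have hxP : x ∈ P := by
    refine hC x hxT fun p hp => ?_
    have h1 : t * p * t⁻¹ ∈ P' := by
      exact (Subgroup.mem_normalizer_iff.mp htN ⟨p, hPT hp⟩).mp (hPP' hp)
    have h2 : t * p * t⁻¹ * d = d * (t * p * t⁻¹) := Subgroup.mem_centralizer_singleton_iff.mp h1.2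
    have h3 : p * d = d * p := hdP p hp
    have h4 : d * p * d⁻¹ = p := by rw [← h3]; group
    calc p * x = t⁻¹ * ((t * p * t⁻¹) * d) * t * d⁻¹ := by rw [hx]; group
      _ = t⁻¹ * (d * (t * p * t⁻¹)) * t * d⁻¹ := by rw [h2]
      _ = x * (d * p * d⁻¹) := by rw [hx]; group
      _ = x * p := by rw [h4]
  have hxd : x * d = d * x := hdP x hxP
  have hpow : ∀ n : ℕ, d ^ n * t * (d ^ n)⁻¹ = t * x ^ n := by
    intro n
    induction n with
    | zero => simp
    | succ n ih =>
      calc d ^ (n + 1) * t * (d ^ (n + 1))⁻¹ = d * (d ^ n * t * (d ^ n)⁻¹) * d⁻¹ := by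
            rw [pow_succ']; group
        _ = (d * t * d⁻¹) * (d * x ^ n * d⁻¹) := by rw [ih]; group
        _ = (t * x) * x ^ n := by
            rw [show d * t * d⁻¹ = t * x by rw [hx]; group]
            rw [← ((show Commute x d from hxd).pow_left n).eq]
            group
        _ = t * x ^ (n + 1) := by rw [pow_succ', mul_assoc]
  have h1 := hpow (orderOf d)
  rw [pow_orderOf_eq_one, one_mul, inv_one, mul_one, left_eq_mul] at h1
  obtain ⟨k, hk⟩ := hT ⟨x, hxT⟩
  have h2 : orderOf x ∣ 2 ^ k :=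
    orderOf_dvd_of_pow_eq_one (by simpa using congrArg Subtype.val hk)
  have hx1 : x = 1 := orderOf_eq_one_iff.mp (Nat.eq_one_of_dvd_coprimes
    ((Nat.coprime_two_left.mpr hd).pow_left k) h2 (orderOf_dvd_of_pow_eq_one h1))
  refine htP ⟨htT, Subgroup.mem_centralizer_singleton_iff.mpr ?_⟩
  have h3 : t⁻¹ * (d * t * d⁻¹) = 1 := hx ▸ hx1
  have h4 : d * t * d⁻¹ = t := (inv_mul_eq_one.mp h3).symm
  calc t * d = (d * t * d⁻¹) * d := by rw [h4]
    _ = d * t := by group

/-- In a constrained group an element of odd order centralizing a Sylow subgroup lies in the core. -/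
theorem mem_core_of_centralizes {C : Type*} [Group C] [Finite C] (hC : IsPConstrained 2 C)
    (T : Sylow 2 C) {d : C} (hd : Odd (orderOf d)) (hdT : ∀ t ∈ (T : Subgroup C), t * d = d * t) :
    d ∈ pPrimeCore 2 C := by
  have : Fact (Nat.Prime 2) := ⟨Nat.prime_two⟩
  have hn := Constrained.instNormalPPrimeCore (G := C) 2
  have hR := mem_of_centralizes hC T hdT
  rw [← QuotientGroup.eq_one_iff]
  obtain ⟨k, hk⟩ := (LocalP.isPGroup_pCore (G := C ⧸ pPrimeCore 2 C) (p := 2))
    ⟨(d : C ⧸ pPrimeCore 2 C), hR⟩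
  exact orderOf_eq_one_iff.mp (Nat.eq_one_of_dvd_coprimes
    ((Nat.coprime_two_left.mpr hd).pow_left k)
    (orderOf_dvd_of_pow_eq_one (by simpa using congrArg Subtype.val hk))
    (orderOf_map_dvd (QuotientGroup.mk' (pPrimeCore 2 C)) d))

section Fusion

variable {G : Type u} [Group G] [Finite G] {R : Sylow 2 G} {z : G}

/-- The configuration in rank at most two: a central involution whose centralizer normalizes the
Sylow subgroup and which is not weakly closed. -/
structure Conf (R : Sylow 2 G) (z : G) : Prop where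
  zR : z ∈ (R : Subgroup G)
  zi : IsInv z
  central : ∀ r ∈ (R : Subgroup G), r * z = z * r
  norm : Subgroup.centralizer ({z} : Set G) ≤ Subgroup.normalizer ((R : Subgroup G) : Set G)
  rank : PRankLE 2 2 G
  noIndex : ∀ H : Subgroup G, H.index ≠ 2
  moved : ∃ g : G, g * z * g⁻¹ ∈ (R : Subgroup G) ∧ g * z * g⁻¹ ≠ z
  con : ∀ t : G, IsInv t → IsPConstrained 2 ↥(Subgroup.centralizer ({t} : Set G))

/-- Two-rank at most two: two commuting involutions leave room for their product only. -/
theorem three_commuting (h : PRankLE 2 2 G) {a b c : G} (ha : IsInv a) (hb : IsInv b)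
    (hc : IsInv c) (hab : a * b = b * a) (hac : a * c = c * a) (hbc : b * c = c * b)
    (hne : a ≠ b) : c = a ∨ c = b ∨ c = a * b := by
  obtain ⟨hV, hV4⟩ := pair_elementary ha hb hab hne
  by_contra hcon
  set V := Subgroup.zpowers a ⊔ Subgroup.zpowers b
  have hcV : c ∉ V := fun hc' => by
    rcases mem_fourGroup ha.2 hb.2 hab hc' with e | e | e | e
    · exact hc.1 e
    all_goals exact hcon (by simp [e])
  have hE : IsElementaryAbelian 2 (V ⊔ Subgroup.zpowers c) :=
    Uniqueness.elementary_sup hV (BalanceNineteen.elementary_of_involution hc.2) fun x hx y hy => by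
      obtain ⟨j, rfl⟩ := Subgroup.mem_zpowers_iff.mp hy
      refine ((?_ : Commute x c).zpow_right j).eq
      rcases mem_fourGroup ha.2 hb.2 hab hx with rfl | rfl | rfl | rfl
      · exact Commute.one_left c
      · exact hac
      · exact hbc
      · exact Commute.mul_left hac hbc
  have h1 := BalanceNineteen.two_mul_card_le hE fun h' => hcV (h' (Subgroup.mem_zpowers c))
  have h2 := h _ hE.1 hE.2
  omega

theorem Conf.mem_of_isPGroup (h : Conf R z) {x : G} (hx : x ∈ Subgroup.centralizer ({z} : Set G))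
    {k : ℕ} (hxk : x ^ 2 ^ k = 1) : x ∈ (R : Subgroup G) := by
  have : Fact (Nat.Prime 2) := ⟨Nat.prime_two⟩
  have hQ : IsPGroup 2 (Subgroup.zpowers x) := by
    rintro ⟨y, hy⟩
    obtain ⟨i, rfl⟩ := Subgroup.mem_zpowers_iff.mp hy
    exact ⟨k, Subtype.ext (by
      simp only [SubmonoidClass.coe_pow, OneMemClass.coe_one]
      rw [← zpow_natCast, ← zpow_mul, mul_comm, zpow_mul, zpow_natCast, hxk, one_zpow])⟩
  have he := hQ.inf_normalizer_sylow R
  exact ((Subgroup.mem_inf.mp (he ▸ Subgroup.mem_inf.mpr ⟨Subgroup.mem_zpowers x, h.norm hx⟩ :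
    x ∈ Subgroup.zpowers x ⊓ (R : Subgroup G)))).2

theorem two_pow_of_mem (R : Sylow 2 G) {x : G} (hx : x ∈ (R : Subgroup G)) :
    ∃ k : ℕ, x ^ 2 ^ k = 1 := by
  obtain ⟨k, hk⟩ := R.isPGroup' ⟨x, hx⟩
  exact ⟨k, by simpa using congrArg Subtype.val hk⟩

/-- Involutions of an index two subgroup of `R` conjugate to `z` suffice. -/
theorem Conf.all_of_index_two (h : Conf R z) (M : Subgroup ↥(R : Subgroup G)) (hM : M.index = 2)
    (hinv : ∀ u ∈ M, IsInv (u : G) → ∃ g : G, g * z * g⁻¹ = (u : G)) {t : G}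
    (ht : t ∈ (R : Subgroup G)) (hti : IsInv t) : ∃ g : G, g * z * g⁻¹ = t := by
  have hrel : (M.map (R : Subgroup G).subtype).relIndex (R : Subgroup G) = 2 := by
    rw [Subgroup.relIndex, Subgroup.subgroupOf,
      Subgroup.comap_map_eq_self_of_injective Subtype.val_injective, hM]
  by_cases htM : t ∈ M.map (R : Subgroup G).subtype
  · obtain ⟨u, hu, rfl⟩ := htM
    exact hinv u hu hti
  rcases CfsgLib.Transfer.thompsonTransferLemma R _ (Subgroup.map_subtype_le M) hrel t hti.orderOf
    ht htM with ⟨N, -, hN, -⟩ | ⟨g, u, hu, hgu⟩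
  · exact absurd hN (h.noIndex N)
  · have hgu' : (u : G) = g * t * g⁻¹ := hgu
    obtain ⟨k, hk⟩ := hinv u hu (hgu' ▸ hti.conj g)
    refine ⟨g⁻¹ * k, ?_⟩
    calc g⁻¹ * k * z * (g⁻¹ * k)⁻¹ = g⁻¹ * (k * z * k⁻¹) * g := by group
      _ = t := by rw [hk, hgu']; group

theorem Conf.all_of_central (h : Conf R z) {g : G} (hw : g * z * g⁻¹ ∈ (R : Subgroup G))
    (hne : g * z * g⁻¹ ≠ z) (hwc : ∀ r ∈ (R : Subgroup G), r * (g * z * g⁻¹) = g * z * g⁻¹ * r)
    {t : G} (ht : t ∈ (R : Subgroup G)) (hti : IsInv t) : ∃ k : G, k * z * k⁻¹ = t := by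
  have : Fact (Nat.Prime 2) := ⟨Nat.prime_two⟩
  set w := g * z * g⁻¹ with hwdef
  have hwi : IsInv w := h.zi.conj g
  have hzw : z * w = w * z := (h.central w hw).symm
  rcases three_commuting h.rank h.zi hwi hti hzw (h.central t ht).symm (hwc t ht).symm hne.symm
    with e | e | e
  · exact ⟨1, by simp [e]⟩
  · exact ⟨g, e.symm⟩
  obtain ⟨n, hn, hnz⟩ := Sylow.conj_eq_normalizer_conj_of_mem_centralizer R z g⁻¹
    (Subgroup.mem_centralizer_iff.mpr fun r hr => h.central r hr)
    (Subgroup.mem_centralizer_iff.mpr fun r hr => by rw [inv_inv]; exact hwc r hr)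
  rw [inv_inv, ← hwdef] at hnz
  set m := n⁻¹ with hm
  have hmz : m * z * m⁻¹ = w := by rw [hm, inv_inv, hnz]
  have hmn : m ∈ Subgroup.normalizer ((R : Subgroup G) : Set G) := inv_mem hn
  have hmR : m * w * m⁻¹ ∈ (R : Subgroup G) := (Subgroup.mem_normalizer_iff.mp hmn w).mp hw
  have hcR : ∀ r ∈ (R : Subgroup G), r * (m * w * m⁻¹) = m * w * m⁻¹ * r := fun r hr => by
    have h1 := hwc _ ((Subgroup.mem_normalizer_iff''.mp hmn r).mp hr : _)
    calc r * (m * w * m⁻¹) = m * ((m⁻¹ * r * m) * w) * m⁻¹ := by group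
      _ = m * (w * (m⁻¹ * r * m)) * m⁻¹ := by rw [h1]
      _ = m * w * m⁻¹ * r := by group
  rcases three_commuting h.rank h.zi hwi (hwi.conj m) hzw (h.central _ hmR).symm
      (hwc _ hmR).symm hne.symm with e' | e' | e'
  · exfalso
    -- `m` would induce a transposition
    have hm2 : Commute (m ^ 2) z := by
      refine mul_inv_eq_iff_eq_mul.mp ?_
      calc m ^ 2 * z * (m ^ 2)⁻¹ = m * (m * z * m⁻¹) * m⁻¹ := by rw [pow_two]; group
        _ = z := by rw [hmz, e']
    obtain ⟨a, o, ho, hord⟩ : ∃ a o : ℕ, Odd o ∧ orderOf m = 2 ^ a * o := by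
      obtain ⟨a, o, ho, he⟩ := Nat.exists_eq_two_pow_mul_odd (orderOf_pos m).ne'
      exact ⟨a, o, ho, he⟩
    obtain ⟨i, hi⟩ := ho
    have hmo : (m ^ o) ^ 2 ^ a = 1 := by rw [← pow_mul, mul_comm, ← hord, pow_orderOf_eq_one]
    have hQ : IsPGroup 2 (Subgroup.zpowers (m ^ o)) :=
      IsPGroup.of_card (n := Nat.log 2 (orderOf (m ^ o))) (by
        obtain ⟨j, -, hj⟩ := (Nat.dvd_prime_pow Nat.prime_two).mp (orderOf_dvd_of_pow_eq_one hmo)
        rw [Nat.card_zpowers, hj, Nat.log_pow (by norm_num)])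
    have hmR' : m ^ o ∈ (R : Subgroup G) := by
      have he := hQ.inf_normalizer_sylow R
      exact ((Subgroup.mem_inf.mp (he ▸ Subgroup.mem_inf.mpr
        ⟨Subgroup.mem_zpowers _, pow_mem hmn o⟩ :
          m ^ o ∈ Subgroup.zpowers (m ^ o) ⊓ (R : Subgroup G)))).2
    have hco : Commute (m ^ o) z := h.central _ hmR'
    rw [hi, pow_succ', pow_mul] at hco
    have hmc : Commute m z := by
      have h2 := hco.mul_left (hm2.pow_left i).inv_left
      rwa [mul_inv_cancel_right] at h2
    exact hne (hmz ▸ mul_inv_eq_iff_eq_mul.mpr hmc.eq)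
  · exfalso
    apply hne
    have h1 : m * w * m⁻¹ = m * z * m⁻¹ := by rw [e', hmz]
    exact mul_left_cancel (mul_right_cancel h1)
  · refine ⟨m * m, ?_⟩
    calc m * m * z * (m * m)⁻¹ = m * (m * z * m⁻¹) * m⁻¹ := by group
      _ = t := by rw [hmz, e', e]

theorem Conf.conj_all (h : Conf R z) {t : G} (ht : t ∈ (R : Subgroup G)) (hti : IsInv t) :
    ∃ k : G, k * z * k⁻¹ = t := by
  classical
  have : Fact (Nat.Prime 2) := ⟨Nat.prime_two⟩
  obtain ⟨g, hw, hne⟩ := h.moved
  by_cases hwc : ∀ r ∈ (R : Subgroup G), r * (g * z * g⁻¹) = g * z * g⁻¹ * r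
  · exact h.all_of_central hw hne hwc ht hti
  push Not at hwc
  obtain ⟨r₀, hr₀, hr₀w⟩ := hwc
  set w := g * z * g⁻¹ with hwdef
  have hwi : IsInv w := h.zi.conj g
  have hzw : z * w = w * z := (h.central w hw).symm
  -- the only central involution is `z`
  have honly : ∀ c ∈ (R : Subgroup G), IsInv c →
      (∀ r ∈ (R : Subgroup G), r * c = c * r) → c = z := by
    intro c hc hci hcc
    by_contra hcz
    rcases three_commuting h.rank h.zi hci hwi (h.central c hc).symm hzw
      (hcc w hw).symm (Ne.symm hcz) with e | e | e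
    · exact hne e
    · exact hr₀w (by rw [e]; exact hcc r₀ hr₀)
    · exact hr₀w (by
        rw [e]
        exact ((show Commute r₀ z from h.central r₀ hr₀).mul_right (hcc r₀ hr₀ : Commute r₀ c)).eq)
  set x : ↥(R : Subgroup G) := ⟨w, hw⟩ with hxdef
  have hx : orderOf x = 2 := by rw [← Subgroup.orderOf_coe]; exact hwi.orderOf
  have hxc : x ∉ Subgroup.center ↥(R : Subgroup G) := fun hc =>
    hr₀w (congrArg Subtype.val (Subgroup.mem_center_iff.mp hc ⟨r₀, hr₀⟩))
  set P := Subgroup.centralizer ({x} : Set ↥(R : Subgroup G)) with hPdef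
  have hzP : (⟨z, h.zR⟩ : ↥(R : Subgroup G)) ∈ P :=
    Subgroup.mem_centralizer_singleton_iff.mpr (Subtype.ext hzw)
  have hxP : x ∈ P := Subgroup.mem_centralizer_singleton_iff.mpr rfl
  by_cases hC : 4 < Nat.card P
  · obtain ⟨V, hVn, hV4, hVsq⟩ :=
      ThreeInvolutions.exists_normal_four_of_noncentral R.isPGroup' hx hxc hC
    have hV1 : V ≠ ⊥ := fun h0 => by rw [h0, Subgroup.card_bot] at hV4; omega
    obtain ⟨c, hc, hc1⟩ := (Subgroup.bot_or_exists_ne_one _).resolve_left
      (PGroup.inf_center_ne_bot R.isPGroup' V hV1)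
    have hcz : (c : G) = z := honly c c.2
      ⟨fun e => hc1 (Subtype.ext e), congrArg Subtype.val (hVsq c hc.1)⟩
      fun r hr => congrArg Subtype.val (Subgroup.mem_center_iff.mp hc.2 ⟨r, hr⟩)
    obtain ⟨b, hb, hb1, hbc⟩ : ∃ b ∈ V, b ≠ 1 ∧ b ≠ c := by
      by_contra hno
      push Not at hno
      have h1 : V ≤ Subgroup.zpowers c := fun v hv => by
        by_cases hv1 : v = 1
        · rw [hv1]; exact one_mem _
        · rw [hno v hv hv1]; exact Subgroup.mem_zpowers c
      have h2 := Subgroup.card_le_of_le h1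
      rw [hV4, Nat.card_zpowers,
        orderOf_eq_prime (p := 2) (by rw [pow_two]; exact hVsq c hc.1) hc1] at h2
      omega
    have hbi : IsInv (b : G) := ⟨fun e => hb1 (Subtype.ext e), congrArg Subtype.val (hVsq b hb)⟩
    have hbz : z ≠ (b : G) := fun e => hbc (Subtype.ext (e ▸ hcz).symm)
    have hzb : z * (b : G) = b * z := (h.central b b.2).symm
    -- the conjugates of `b`
    have hconj : ∀ r : ↥(R : Subgroup G), (r : G) * b * (r : G)⁻¹ = b ∨
        (r : G) * b * (r : G)⁻¹ = z * b := by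
      intro r
      have hin : r * b * r⁻¹ ∈ V := hVn.conj_mem b hb r
      have hcm : ∀ v ∈ V, (b : G) * v = v * b := fun v hv => by
        have h1 : (b * v) * (b * v) = 1 := hVsq _ (mul_mem hb hv)
        have h2 : b * v = v * b := by
          calc b * v = (b * v)⁻¹ := (inv_eq_of_mul_eq_one_right h1).symm
            _ = v * b := by rw [mul_inv_rev, inv_eq_of_mul_eq_one_right (hVsq v hv),
              inv_eq_of_mul_eq_one_right (hVsq b hb)]
        exact congrArg Subtype.val h2
      rcases three_commuting h.rank h.zi hbi (hbi.conj r) hzb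
          (h.central _ (r * b * r⁻¹).2).symm (hcm _ hin) hbz with e | e | e
      · exfalso
        apply hbz
        calc z = (r : G)⁻¹ * (z * r) := by rw [← h.central r r.2]; group
          _ = (b : G) := by rw [← e]; group
      · exact Or.inl e
      · exact Or.inr e
    set M := Subgroup.centralizer ({b} : Set ↥(R : Subgroup G)) with hMdef
    have hMmem : ∀ r : ↥(R : Subgroup G), r ∈ M ↔ (r : G) * b * (r : G)⁻¹ = b := fun r => by
      rw [Subgroup.mem_centralizer_singleton_iff, mul_inv_eq_iff_eq_mul, Subtype.ext_iff]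
      rfl
    obtain ⟨a, ha⟩ : ∃ a : ↥(R : Subgroup G), a ∉ M := by
      by_contra hall
      push Not at hall
      refine hbz (honly b b.2 hbi fun r hr => ?_).symm
      exact mul_inv_eq_iff_eq_mul.mp ((hMmem ⟨r, hr⟩).mp (hall _))
    have hMi : M.index = 2 := by
      rw [Subgroup.index_eq_two_iff]
      refine ⟨a, fun r => ?_⟩
      have hab := (hconj a).resolve_left fun e => ha ((hMmem a).mpr e)
      have hrz : (r : G) * z * (r : G)⁻¹ = z := mul_inv_eq_iff_eq_mul.mpr (h.central r r.2)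
      have key : ((r * a : ↥(R : Subgroup G)) : G) * b * ((r * a : ↥(R : Subgroup G)) : G)⁻¹ =
          z * ((r : G) * b * (r : G)⁻¹) := by
        rw [Subgroup.coe_mul]
        calc (r : G) * a * b * ((r : G) * a)⁻¹ = r * ((a : G) * b * (a : G)⁻¹) * (r : G)⁻¹ := by group
          _ = ((r : G) * z * (r : G)⁻¹) * ((r : G) * b * (r : G)⁻¹) := by rw [hab]; group
          _ = _ := by rw [hrz]
      rcases hconj r with e | e
      · refine Or.inr ⟨(hMmem r).mpr e, fun hra => ?_⟩
        have h1 := key.symm.trans ((hMmem _).mp hra)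
        rw [e] at h1
        exact h.zi.1 (mul_eq_right.mp h1)
      · refine Or.inl ⟨(hMmem _).mpr ?_, fun hr => ?_⟩
        · rw [key, e, ← mul_assoc, h.zi.2, one_mul]
        · have h1 := e.symm.trans ((hMmem r).mp hr)
          exact h.zi.1 (mul_eq_right.mp h1)
    have hinvM : ∀ u ∈ M, IsInv (u : G) → (u : G) = z ∨ (u : G) = b ∨ (u : G) = z * b :=
      fun u hu hui => three_commuting h.rank h.zi hbi hui hzb (h.central u u.2).symm
        (mul_inv_eq_iff_eq_mul.mp ((hMmem u).mp hu)).symm hbz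
    -- `b` is conjugate to `z`
    have hbconj : ∃ k : G, k * z * k⁻¹ = b := by
      have of_zb : ∀ k : G, k * z * k⁻¹ = z * b → ∃ k : G, k * z * k⁻¹ = (b : G) := by
        intro k hk
        have hab := (hconj a).resolve_left fun e => ha ((hMmem a).mpr e)
        refine ⟨(a : G) * k, ?_⟩
        calc (a : G) * k * z * ((a : G) * k)⁻¹ = a * (k * z * k⁻¹) * (a : G)⁻¹ := by group
          _ = ((a : G) * z * (a : G)⁻¹) * ((a : G) * b * (a : G)⁻¹) := by rw [hk]; group
          _ = b := by
            rw [hab, mul_inv_eq_iff_eq_mul.mpr (h.central a a.2), ← mul_assoc, h.zi.2, one_mul]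
      by_cases hxM : x ∈ M
      · rcases hinvM x hxM hwi with e | e | e
        · exact absurd e hne
        · exact ⟨g, e⟩
        · exact of_zb g e
      -- a square root of `z` commuting with `w`
      obtain ⟨y, hyP, hy⟩ : ∃ y : ↥(R : Subgroup G), y ∈ P ∧ (y : G) * y = z := by
        obtain ⟨q, hqP, hqM, hq1, hqz⟩ : ∃ q : ↥(R : Subgroup G),
            q ∈ P ∧ q ∈ M ∧ q ≠ 1 ∧ (q : G) ≠ z := by
          by_contra hno
          push Not at hno
          have hle : P ⊓ M ≤ Subgroup.zpowers ⟨z, h.zR⟩ := fun p hp => by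
            by_cases h1 : p = 1
            · rw [h1]; exact one_mem _
            · rw [show p = ⟨z, h.zR⟩ from Subtype.ext (hno p hp.1 hp.2 h1)]
              exact Subgroup.mem_zpowers _
          have hz2 : Nat.card (Subgroup.zpowers (⟨z, h.zR⟩ : ↥(R : Subgroup G))) = 2 := by
            rw [Nat.card_zpowers, ← Subgroup.orderOf_coe]; exact h.zi.orderOf
          have h1 := Subgroup.card_le_of_le hle
          have hMn : M.Normal := Subgroup.normal_of_index_eq_two hMi
          have h2 : M.relIndex P ≤ 2 :=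
            (Nat.le_of_dvd (Nat.pos_of_ne_zero Subgroup.index_ne_zero_of_finite)
              (Subgroup.relIndex_dvd_index_of_normal M P)).trans hMi.le
          have h3 := Subgroup.card_mul_index (M.subgroupOf P)
          have h4 : Nat.card (M.subgroupOf P) = Nat.card ↥(P ⊓ M) := by
            rw [← Subgroup.inf_subgroupOf_left,
              Nat.card_congr (Subgroup.subgroupOfEquivOfLe inf_le_left).toEquiv]
          rw [h4] at h3
          have h5 : Nat.card ↥(P ⊓ M) * (M.subgroupOf P).index ≤ 2 * 2 :=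
            Nat.mul_le_mul (h1.trans hz2.le) h2
          omega
        obtain ⟨k, hk⟩ := two_pow_of_mem R q.2
        -- descend to a square root of `z`
        have hex : ∃ j : ℕ, ((q : G) ^ 2 ^ j) * ((q : G) ^ 2 ^ j) = 1 := ⟨k, by rw [hk, one_mul]⟩
        set j := Nat.find hex with hj
        have hjspec := Nat.find_spec hex
        rw [← hj] at hjspec
        have hwq : (q : G) * w = w * q :=
          congrArg Subtype.val (Subgroup.mem_centralizer_singleton_iff.mp hqP)
        have hpowz : ∀ i : ℕ, IsInv ((q : G) ^ i) → (q : G) ^ i = z := by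
          intro i hi
          have hiM : q ^ i ∈ M := pow_mem hqM i
          have hiP : (q : G) ^ i * w = w * (q : G) ^ i := ((show Commute (q : G) w from hwq).pow_left i).eq
          have hwb : w * b ≠ b * w := fun e => hxM ((hMmem x).mpr (mul_inv_eq_iff_eq_mul.mpr e))
          rcases hinvM (q ^ i) hiM (by simpa using hi) with e | e | e
          · simpa using e
          · exfalso; apply hwb
            rw [show ((q ^ i : ↥(R : Subgroup G)) : G) = (q : G) ^ i by simp] at e
            rw [← e]; exact hiP.symm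
          · exfalso; apply hwb
            rw [show ((q ^ i : ↥(R : Subgroup G)) : G) = (q : G) ^ i by simp] at e
            have hb' : (b : G) = z * (q : G) ^ i := by rw [e, ← mul_assoc, h.zi.2, one_mul]
            rw [hb']
            exact ((show Commute w z from hzw.symm).mul_right hiP.symm).eq
        have hj0 : j ≠ 0 := fun e => by
          rw [e, pow_zero, pow_one] at hjspec
          have hqi : IsInv (q : G) := ⟨fun e' => hq1 (Subtype.ext e'), hjspec⟩
          have h1 := hpowz 1 (by rw [pow_one]; exact hqi)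
          rw [pow_one] at h1
          exact hqz h1
        obtain ⟨i, hi⟩ := Nat.exists_eq_succ_of_ne_zero hj0
        refine ⟨q ^ 2 ^ i, pow_mem hqP _, ?_⟩
        rw [Subgroup.coe_pow, ← pow_add, show 2 ^ i + 2 ^ i = 2 ^ j by rw [hi, pow_succ]; ring]
        refine hpowz _ ⟨fun e => ?_, hjspec⟩
        exact Nat.find_min hex (show i < Nat.find hex by rw [← hj, hi]; omega)
          (by rw [← pow_add, show 2 ^ i + 2 ^ i = 2 ^ j by rw [hi, pow_succ]; ring]; exact e)
      -- it pulls back into `R`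
      have hyw : (y : G) * w = w * y :=
        congrArg Subtype.val (Subgroup.mem_centralizer_singleton_iff.mp hyP)
      obtain ⟨k, hk⟩ := two_pow_of_mem R y.2
      have hyR : g⁻¹ * y * g ∈ (R : Subgroup G) := by
        refine h.mem_of_isPGroup (k := k) (Subgroup.mem_centralizer_singleton_iff.mpr ?_) ?_
        · calc g⁻¹ * y * g * z = g⁻¹ * (y * w) * g := by rw [hwdef]; group
            _ = g⁻¹ * (w * y) * g := by rw [hyw]
            _ = z * (g⁻¹ * y * g) := by rw [hwdef]; group
        · have h1 := conj_pow (i := 2 ^ k) (a := g⁻¹) (b := (y : G))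
          rw [inv_inv, hk] at h1
          simpa using h1
      have hz' : g⁻¹ * z * g = (g⁻¹ * y * g) * (g⁻¹ * y * g) := by rw [← hy]; group
      have hz'M : (⟨g⁻¹ * y * g, hyR⟩ : ↥(R : Subgroup G)) * ⟨g⁻¹ * y * g, hyR⟩ ∈ M :=
        Subgroup.mul_self_mem_of_index_two hMi _
      have hzi' : IsInv (g⁻¹ * z * g) := by simpa using h.zi.conj g⁻¹
      have := hinvM _ hz'M (by show IsInv (_ * _); rw [← hz']; exact hzi')
      rw [show ((⟨g⁻¹ * y * g, hyR⟩ * ⟨g⁻¹ * y * g, hyR⟩ : ↥(R : Subgroup G)) : G) = g⁻¹ * z * g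
        from hz'.symm] at this
      rcases this with e | e | e
      · exfalso; apply hne
        calc w = g * (g⁻¹ * z * g) * g⁻¹ := by rw [e]
          _ = z := by group
      · exact ⟨g⁻¹, by rw [inv_inv]; exact e⟩
      · exact of_zb g⁻¹ (by rw [inv_inv]; exact e)
    refine h.all_of_index_two M hMi (fun u hu hui => ?_) ht hti
    obtain ⟨k, hk⟩ := hbconj
    rcases hinvM u hu hui with e | e | e
    · exact ⟨1, by simp [e]⟩
    · exact ⟨k, e ▸ hk⟩
    · have hab := (hconj a).resolve_left fun e => ha ((hMmem a).mpr e)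
      refine ⟨(a : G) * k, ?_⟩
      rw [e, ← hab, ← hk]
      group
  · -- maximal class
    have hP4 : Nat.card P = 4 := by
      refine le_antisymm (not_lt.mp hC) ?_
      have hE := pair_elementary h.zi hwi hzw hne.symm
      have hle : Subgroup.zpowers z ⊔ Subgroup.zpowers w ≤ P.map (R : Subgroup G).subtype :=
        sup_le (Subgroup.zpowers_le.mpr ⟨_, hzP, rfl⟩) (Subgroup.zpowers_le.mpr ⟨_, hxP, rfl⟩)
      have h1 := Subgroup.card_le_of_le hle
      rw [Subgroup.card_map_of_injective Subtype.val_injective] at h1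
      exact hE.2.trans h1
    have h8 : 8 ≤ Nat.card ↥(R : Subgroup G) := by
      have hPt : P ≠ ⊤ := fun e => hxc (Subgroup.mem_center_iff.mpr fun r =>
        Subgroup.mem_centralizer_singleton_iff.mp (e ▸ Subgroup.mem_top r : r ∈ P))
      have h1 := Subgroup.card_mul_index P
      rw [hP4] at h1
      have h2 : P.index ≠ 1 := fun e => hPt (Subgroup.index_eq_one.mp e)
      have h3 : P.index ≠ 0 := Subgroup.index_ne_zero_of_finite
      omega
    obtain ⟨M, hMi, hMc, hxM⟩ := CfsgLib.SelfCentralizingFour.exists_cyclic_index_two _ _ rfl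
      R.isPGroup' x hx hP4 h8
    refine h.all_of_index_two M hMi (fun u hu hui => ⟨1, ?_⟩) ht hti
    have hMn : M.Normal := Subgroup.normal_of_index_eq_two hMi
    have := hMc
    have hu2 : orderOf (⟨u, hu⟩ : M) = 2 := by
      rw [← Subgroup.orderOf_coe, ← Subgroup.orderOf_coe]; exact hui.orderOf
    have huz : (u : G) = z := honly u u.2 hui fun r hr => by
      have hmem := hMn.conj_mem u hu ⟨r, hr⟩
      have h1 := CfsgLib.SelfCentralizingFour.eq_of_orderOf_two_of_isCyclic (P := M)
        (a := ⟨_, hmem⟩) (b := ⟨u, hu⟩)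
        (by rw [← Subgroup.orderOf_coe, ← Subgroup.orderOf_coe]; exact (hui.conj r).orderOf) hu2
      exact mul_inv_eq_iff_eq_mul.mp (congrArg (fun v : M => ((v : ↥(R : Subgroup G)) : G)) h1)
    simp [huz]

/-- The rank two conclusion. -/
theorem Conf.conclusion (h : Conf R z) (hO : oddCore G = ⊥) :
    (∃ M : Subgroup G, IsStronglyEmbedded M) ∨
      ∀ t : G, IsInv t → centralizerPPrimeCore 2 t = ⊥ := by
  have : Fact (Nat.Prime 2) := ⟨Nat.prime_two⟩
  set D := centralizerPPrimeCore 2 z with hD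
  have hodd : Odd (Nat.card D) := BalanceNineteen.centralizerPPrimeCore_odd z
  have hDC : D ≤ Subgroup.centralizer ({z} : Set G) := CfsgLib.Signalizer.centralizerPPrimeCore_le z
  have hCn : Subgroup.centralizer ({z} : Set G) ≤ Subgroup.normalizer (D : Set G) :=
    (Subgroup.normal_subgroupOf_iff_le_normalizer hDC).mp (by
      rw [hD, centralizerPPrimeCore, Subgroup.subgroupOf,
        Subgroup.comap_map_eq_self_of_injective Subtype.val_injective]
      exact Constrained.instNormalPPrimeCore 2)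
  have hRC : (R : Subgroup G) ≤ Subgroup.centralizer ({z} : Set G) := fun r hr =>
    Subgroup.mem_centralizer_singleton_iff.mpr (h.central r hr)
  have hDR : ∀ r ∈ (R : Subgroup G), ∀ d ∈ D, r * d = d * r := by
    intro r hr d hd
    have h1 : r * d * r⁻¹ * d⁻¹ ∈ D :=
      mul_mem ((Subgroup.mem_normalizer_iff.mp (hCn (hRC hr)) d).mp hd) (inv_mem hd)
    have h2 : r * d * r⁻¹ * d⁻¹ ∈ (R : Subgroup G) := by
      rw [show r * d * r⁻¹ * d⁻¹ = r * (d * r⁻¹ * d⁻¹) by group]
      exact mul_mem hr ((Subgroup.mem_normalizer_iff.mp (h.norm (hDC hd)) _).mp (inv_mem hr))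
    obtain ⟨k, hk⟩ := two_pow_of_mem R h2
    have h3 := orderOf_eq_one_iff.mp (Nat.eq_one_of_dvd_coprimes
      ((Nat.coprime_two_left.mpr hodd).pow_left k) (orderOf_dvd_of_pow_eq_one hk)
      (Subgroup.orderOf_dvd_natCard D h1))
    calc r * d = (r * d * r⁻¹ * d⁻¹) * (d * r) := by group
      _ = d * r := by rw [h3, one_mul]
  set N := Subgroup.normalizer (D : Set G) with hN
  -- every element carrying `z` into `R` normalizes `D`
  have key : ∀ g : G, g * z * g⁻¹ ∈ (R : Subgroup G) → g ∈ N := by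
    intro g hg
    set t := g * z * g⁻¹ with ht
    have hti : IsInv t := h.zi.conj g
    set C := Subgroup.centralizer ({t} : Set G) with hC
    have hgR : (R : Subgroup G).map (MulAut.conj g).toMonoidHom ≤ C := by
      rintro _ ⟨r, hr, rfl⟩
      rw [hC, Subgroup.mem_centralizer_singleton_iff]
      show g * r * g⁻¹ * t = t * (g * r * g⁻¹)
      calc g * r * g⁻¹ * t = g * (r * z) * g⁻¹ := by rw [ht]; group
        _ = g * (z * r) * g⁻¹ := by rw [h.central r hr]
        _ = t * (g * r * g⁻¹) := by rw [ht]; group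
    set T := (R : Subgroup G).map (MulAut.conj g).toMonoidHom with hT
    have hTp : IsPGroup 2 T := R.isPGroup'.map _
    have hDt : ∀ d ∈ D, d * t * d⁻¹ = t := fun d hd =>
      mul_inv_eq_iff_eq_mul.mpr (hDR t hg d hd).symm
    have hDTnorm : ∀ d ∈ D, ∀ x ∈ T, d * x * d⁻¹ ∈ T := by
      rintro d hd _ ⟨r, hr, rfl⟩
      have h1 : g⁻¹ * d * g ∈ Subgroup.centralizer ({z} : Set G) := by
        rw [Subgroup.mem_centralizer_singleton_iff]
        calc g⁻¹ * d * g * z = g⁻¹ * (d * t * d⁻¹) * d * g := by rw [ht]; group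
          _ = g⁻¹ * t * d * g := by rw [hDt d hd]
          _ = z * (g⁻¹ * d * g) := by rw [ht]; group
      refine ⟨g⁻¹ * d * g * r * (g⁻¹ * d * g)⁻¹, (Subgroup.mem_normalizer_iff.mp (h.norm h1) r).mp hr, ?_⟩
      show g * (g⁻¹ * d * g * r * (g⁻¹ * d * g)⁻¹) * g⁻¹ = d * (g * r * g⁻¹) * d⁻¹
      group
    have hzT : z ∈ T := by
      refine ⟨g⁻¹ * z * g, h.mem_of_isPGroup (k := 1)
        (Subgroup.mem_centralizer_singleton_iff.mpr ?_) ?_, by simp [mul_assoc]⟩
      · calc g⁻¹ * z * g * z = g⁻¹ * (z * t) * g := by rw [ht]; group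
          _ = g⁻¹ * (t * z) * g := by rw [h.central t hg]
          _ = z * (g⁻¹ * z * g) := by rw [ht]; group
      · rw [pow_one, pow_two, show g⁻¹ * z * g * (g⁻¹ * z * g) = g⁻¹ * (z * z) * g by group, h.zi.2]
        group
    have hDT : ∀ d ∈ D, ∀ x ∈ T, x * d = d * x := by
      intro d hd
      refine commute_of_self_centralizing hTp (P := T ⊓ Subgroup.centralizer ({z} : Set G))
        inf_le_left (hodd.of_dvd_nat (Subgroup.orderOf_dvd_natCard D hd)) (hDTnorm d hd) ?_ ?_
      · intro p hp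
        obtain ⟨k, hk⟩ := hTp ⟨p, hp.1⟩
        exact hDR p (h.mem_of_isPGroup (k := k) hp.2 (by simpa using congrArg Subtype.val hk)) d hd
      · intro x hx hcx
        exact ⟨hx, Subgroup.mem_centralizer_singleton_iff.mpr
          (hcx z ⟨hzT, Subgroup.mem_centralizer_singleton_iff.mpr rfl⟩).symm⟩
    obtain ⟨T', hT'⟩ : ∃ T' : Sylow 2 C, (T' : Subgroup C) = T.subgroupOf C := by
      have h1 : ((g • R : Sylow 2 G) : Subgroup G) = T := rfl
      exact ⟨(g • R).subtype (h1 ▸ hgR), by rw [Sylow.coe_subtype, h1]⟩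
    have hle : D ≤ centralizerPPrimeCore 2 t := by
      intro d hd
      have hdC : d ∈ C := Subgroup.mem_centralizer_singleton_iff.mpr (hDR t hg d hd).symm
      refine ⟨⟨d, hdC⟩, mem_core_of_centralizes (h.con t hti) T' ?_ fun x hx => ?_, rfl⟩
      · rw [← Subgroup.orderOf_coe]
        exact hodd.of_dvd_nat (Subgroup.orderOf_dvd_natCard D hd)
      · rw [hT'] at hx
        exact Subtype.ext (hDT d hd x hx)
    have heq : D = centralizerPPrimeCore 2 t := Subgroup.eq_of_le_of_card_ge hle (by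
      rw [ht, core_conj, Subgroup.card_map_of_injective (MulAut.conj g).injective])
    rw [ht, core_conj, ← hD] at heq
    rw [hN, Subgroup.mem_normalizer_iff]
    intro x
    constructor
    · intro hx
      rw [heq]; exact ⟨x, hx, rfl⟩
    · intro hx
      rw [heq] at hx
      obtain ⟨y, hy, hyx⟩ := hx
      have : y = x := mul_left_cancel (mul_right_cancel hyx)
      exact this ▸ hy
  have hzC : z ∈ Subgroup.centralizer ({z} : Set G) := Subgroup.mem_centralizer_singleton_iff.mpr rfl
  have hconjN : ∀ t ∈ N, IsInv t → ∃ a ∈ N, a * z * a⁻¹ = t := by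
    intro t ht hti
    obtain ⟨P, hP⟩ : ∃ P : Sylow 2 N, (P : Subgroup N) = (R : Subgroup G).subgroupOf N :=
      ⟨R.subtype (hRC.trans hCn), rfl⟩
    have hp : IsPGroup 2 (Subgroup.zpowers (⟨t, ht⟩ : N)) :=
      BalanceNineteen.isPGroup_zpowers_of_sq (Subtype.ext (by simpa [pow_two] using hti.2))
    obtain ⟨P', hP'⟩ := hp.exists_le_sylow
    obtain ⟨m, hm⟩ := MulAction.exists_smul_eq N P' P
    have hmt : (m : G) * t * (m : G)⁻¹ ∈ (R : Subgroup G) := by
      have h1 : m * ⟨t, ht⟩ * m⁻¹ ∈ ((m • P' : Sylow 2 N) : Subgroup N) :=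
        ⟨_, hP' (Subgroup.mem_zpowers _), rfl⟩
      rw [hm, hP] at h1
      exact h1
    obtain ⟨k, hk⟩ := h.conj_all hmt (hti.conj m)
    refine ⟨(m : G)⁻¹ * k, mul_mem (inv_mem m.2) (key k (hk ▸ hmt)), ?_⟩
    calc (m : G)⁻¹ * k * z * ((m : G)⁻¹ * k)⁻¹ = (m : G)⁻¹ * (k * z * k⁻¹) * m := by group
      _ = t := by rw [hk]; group
  by_cases hNtop : N = ⊤
  · right
    intro t ht
    have hD0 : D = ⊥ := le_bot_iff.mp (hO ▸
      TwoComponents.le_oddCore (Subgroup.normalizer_eq_top_iff.mp (hN ▸ hNtop)) hodd)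
    obtain ⟨a, -, rfl⟩ := hconjN t (hNtop ▸ Subgroup.mem_top t) ht
    rw [core_conj, ← hD, hD0, Subgroup.map_bot]
  · left
    refine ⟨N, CfsgLib.StronglyEmbedded.intro_of_conj_mem hNtop ?_ fun t g ht htN hgt => ?_⟩
    · rw [even_iff_two_dvd, ← h.zi.orderOf]
      exact Subgroup.orderOf_dvd_natCard N (hCn hzC)
    · obtain ⟨a, ha, hat⟩ := hconjN t htN (isInv_of_orderOf ht)
      obtain ⟨a', ha', hat'⟩ := hconjN _ hgt ((isInv_of_orderOf ht).conj g)
      have h1 : a'⁻¹ * g * a ∈ N := hCn (Subgroup.mem_centralizer_singleton_iff.mpr (by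
        calc a'⁻¹ * g * a * z = a'⁻¹ * (g * (a * z * a⁻¹) * g⁻¹) * (g * a) := by group
          _ = a'⁻¹ * (a' * z * a'⁻¹) * (g * a) := by rw [hat, hat']
          _ = z * (a'⁻¹ * g * a) := by group))
      have h2 := mul_mem (mul_mem ha' h1) (inv_mem ha)
      rwa [show a' * (a'⁻¹ * g * a) * a⁻¹ = g by group] at h2

end Fusion

end CfsgLib.ZCReduction89
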